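import Cfsg.Agent.GHN.T345
import Cfsg.Agent.GHM.Fin
import Cfsg.Agent.L4M.Main

/-!
# Simple groups of sectional 2-rank at most four, with the Hall-Janko group up to isomorphism
-/

set_option autoImplicit false

namespace Cfsg.Lib.GHN

open Subgroup Cfsg.Lib.Trans Matrix

universe u

variable {G : Type u} [Group G] [Finite G] [IsSimpleGroup G] {S : Sylow 2 G}

theorem disconnected (h3 : ¬ PRankLE 2 2 G) (S : Sylow 2 G)
    (hS : ¬ IsFourConnected (S : Subgroup G)) : Spor.IsoJ2 G ∨ IsJ3 G := by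
  obtain ⟨z, E, D, h0⟩ := Lib.NConn.exists_nc h3 S hS
  obtain ⟨T, F₁, F₂, V, h⟩ := h0.js
  have hs := Lib.Trans.isSylowIn_top S
  have h2 : ∀ H : Subgroup G, H.Normal → H.index ≠ 2 := fun H hH e => by
    rcases hH.eq_bot_or_eq_top with rfl | rfl
    · have := Subgroup.card_le_card_group (S : Subgroup G)
      rw [h.card, ← Subgroup.index_bot, e] at this
      omega
    · simp at e
  have hw := Lib.Spor.HJ.notIsolated_of_simple h.orderOf_z fun e =>
    h.basic.2.2.2.2.2.2.2.2 (e D E)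
  obtain ⟨a1, ⟨c, hc, a2⟩, -, a3⟩ := h.core hs h2
  obtain ⟨b1, b2⟩ := h.preLX hs h2 (Lib.L34.Jc.Oc_eq_bot ⟨h, hs, a1, hc.1, a2, a3, hw⟩)
  obtain ⟨F, _, _, ω, hF, hω⟩ := Lib.Spor.HJ.exists_F4
  rcases Lib.Spor.HJ.janko b1 h.card_jQ b2 hw with ⟨_, -, e, -⟩ | ⟨-, e⟩
  · exact Or.inl e.iso
  · obtain ⟨f⟩ := e hF hω
    exact Or.inr ⟨inferInstance,
      (Nat.card_congr f.toEquiv).trans (Lib.Spor.HJ.card_J3Q hF hω)⟩

theorem Out.lst (hW : L4T.T1.All.{u}) (hG : ¬ IsMulCommutative G) (h3 : ¬ PRankLE 2 2 G)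
    (h : Out S) : GHM.Lst G ∨ IsJ3 G := by
  rw [or_iff_not_imp_right]
  intro hJ
  rcases h with ⟨m, ⟨E⟩⟩ | ⟨m, ⟨E⟩⟩ | ⟨m, ⟨E⟩⟩ | ⟨m, a, b, t, h⟩ | ⟨T, F₁, F₂, V, f, h⟩ |
    ⟨F₁, F₂, V, h⟩ | ⟨P, h⟩ | h | h
  · rcases GCore.classify_of_fin GCore.wFin2 E with k | k | k
    exacts [.inl k, .inr (.inl k), by unfold GHM.Lst; simp only [k, true_or, or_true]]
  · rcases PCore.simple_of_main PCore.main E with k | k | k
    · exact .inr (.inr (.inl k))
    · exact .inr (.inr (.inr (.inr (.inr (.inr (.inr (.inl ⟨8, by omega, by omega, k⟩)))))))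
    · exact .inr (.inr (.inr (.inr (.inr (.inr (.inr (.inl ⟨9, by omega, by omega, k⟩)))))))
  · rcases hW.simple E with k | k | ⟨F, _, _, q, rfl, a, k⟩ | ⟨F, _, _, q, a, b, k⟩
    · exact .inr (.inr (.inr (.inr (.inr (.inr (.inr (.inl ⟨10, by omega, by omega, k⟩)))))))
    · exact .inr (.inr (.inr (.inr (.inr (.inr (.inr (.inl ⟨11, by omega, by omega, k⟩)))))))
    · exact .inr (.inr (.inr (.inl ⟨F, _, _, Nat.odd_iff.2 (by omega), by omega, k⟩)))
    · exact .inr (.inr (.inr (.inr (.inl ⟨F, _, _, q, a, Nat.odd_iff.2 (by omega), by omega, k⟩))))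
  · have k : GHM.SW (S : Subgroup G) m a b t :=
      ⟨h.ord, h.b2, h.ba, h.t2, h.aa, h.ab, h.bb, h.gen, h.card⟩
    exact .inr (.inr (.inr (.inr (.inr (.inl k.out)))))
  · have k : GHM.MT (S : Subgroup G) T F₁ F₂ V f := ⟨h.tt, h.f2, h.n₁, h.n₂, h.nc, h.sup⟩
    exact k.lst L4M.main
  · exact .inr (.inr (.inr (.inr (.inr (.inr (.inl (GHM.tt_iso hG h)))))))
  · rcases Agent.S1776.result S P h with k | k <;> unfold GHM.Lst <;>
      simp only [k, true_or, or_true]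
  · have k := Agent.S3100.result hG S h
    unfold GHM.Lst
    simp only [k, or_true]
  · have k := (disconnected h3 S h).resolve_right hJ
    unfold GHM.Lst
    simp only [k, true_or, or_true]

/-- Gorenstein-Harada with the groups given up to isomorphism. -/
theorem strong (hW : L4T.T1.All.{u}) (S : Sylow 2 G) (hG : ¬ IsMulCommutative G)
    (h4 : SectionalPRankLE 2 4 G) :
    PRankLE 2 2 G ∨ IsMulCommutative (S : Subgroup G) ∨ GHM.Rk1 G ∨ GHM.Lst G ∨ IsJ3 G :=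
  (GHM.ctx_or hG h4 S).imp_right (Or.imp_right (Or.imp_right fun h =>
    (Ctx.out ⟨h.simple, h.r4, h.m3, h.nsc, h.idx⟩).lst hW hG h.m3))

end Cfsg.Lib.GHN
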