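import Cfsg.Agent.GHN.D16
import Cfsg.Agent.GHB.Invol

/-!
# A group of order 64 with a normal `E₁₆` that is a free module
-/

set_option autoImplicit false

namespace Cfsg.Lib.GHN

open Subgroup Cfsg.Lib.Trans Cfsg.Lib.Gold Cfsg.Lib.Rank2
open scoped commutatorElement

universe u

variable {G : Type u} [Group G]

namespace UT4

open GHB PCore

theorem emb_of [Finite G] {S : Sylow 2 G} {M : Type} [Group M] (φ : M →* G)
    (h1 : Function.Injective φ) (h2 : ∀ x, φ x ∈ (S : Subgroup G))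
    (h3 : Nat.card M = Nat.card (S : Subgroup G)) : Nonempty (SylEmb M G) := by
  have : φ.range = S := eq_of_le_of_card_ge (by rintro _ ⟨x, rfl⟩; exact h2 x)
    (by rw [← h3, Nat.card_congr (MonoidHom.ofInjective h1).toEquiv])
  exact ⟨⟨φ, h1, this ▸ S.not_dvd_index⟩⟩

/-- The ring of the model. -/
abbrev R := ZMod (2 ^ (0 + 2))

/-- The parity of the rotations. -/
def od (x : WM R) : Bool := x.i = 1 || x.i = 3

/-- Half of the even part of a rotation. -/
def hf (o f : Bool) (i : R) : Bool := cond o (cond f (i - 1) (i + 1)) i = 2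

/-- Coordinates. -/
def dec (x : WM R) : Bool × Bool × Bool × Bool × Bool × Bool :=
  (xor (xor x.f (od x)) (hf (od x) x.f x.i), xor (xor x.g (od x)) (hf (od x) x.g x.k),
    hf (od x) x.f x.i, hf (od x) x.g x.k, x.e, od x)

/-- Multiplication in coordinates. -/
def mu : Bool × Bool × Bool × Bool × Bool × Bool → Bool × Bool × Bool × Bool × Bool × Bool →
    Bool × Bool × Bool × Bool × Bool × Bool
  | (a, b, c, d, e, o), (a', b', c', d', e', o') =>
    (xor a (cond e (cond o d' b') (cond o c' a')), xor b (cond e (cond o c' a') (cond o d' b')),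
      xor c (cond e (cond o b' d') (cond o a' c')), xor d (cond e (cond o a' c') (cond o b' d')),
      xor e e', xor o o')

set_option synthInstance.maxSize 2000 in
theorem dec_mul : ∀ (i k : R) (e f g : Bool), (∃ u, i + k = u + u) →
    ∀ (i' k' : R) (e' f' g' : Bool), (∃ u, i' + k' = u + u) →
    dec (⟨i, k, e, f, g⟩ * ⟨i', k', e', f', g'⟩) = mu (dec ⟨i, k, e, f, g⟩) (dec ⟨i', k', e', f', g'⟩) := by
  decide +kernel

set_option synthInstance.maxSize 2000 in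
theorem cen : ∀ (i k : R) (e f g : Bool),
    (⟨0, 0, false, true, false⟩ : WM R) * ⟨i, k, e, f, g⟩ = ⟨i, k, e, f, g⟩ * ⟨0, 0, false, true, false⟩ →
    (⟨0, 0, true, false, false⟩ : WM R) * ⟨i, k, e, f, g⟩ = ⟨i, k, e, f, g⟩ * ⟨0, 0, true, false, false⟩ →
    (⟨1, 1, false, false, false⟩ : WM R) * ⟨i, k, e, f, g⟩ = ⟨i, k, e, f, g⟩ * ⟨1, 1, false, false, false⟩ →
    (⟨i, k, e, f, g⟩ : WM R) = 1 ∨ dec ⟨i, k, e, f, g⟩ = (true, true, true, true, false, false) := by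
  decide +kernel

variable {T W : Subgroup G} {s t u w x z : G}

theorem cond_mem {H : Subgroup G} (h : x ∈ H) (a : Bool) : cond a x 1 ∈ H := by
  cases a
  exacts [one_mem H, h]

theorem cond_mul (h : x * x = 1) (a b : Bool) : cond a x 1 * cond b x 1 = cond (xor a b) x 1 := by
  cases a <;> cases b <;> simp [h]

theorem mul_cond (h : s * x = u * s) (a : Bool) (y : G) :
    s * (cond a x 1 * y) = cond a u 1 * (s * y) := by
  cases a
  · simp
  · simp only [cond_true, ← mul_assoc, h]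

theorem comm_of_sq (h3 : ∀ w ∈ W, w * w = 1) (hx : x ∈ W) (hw : w ∈ W) : x * w = w * x :=
  commutatorElement_eq_one_iff_mul_comm.1 ((EA.bot h3).comm hx hw)

theorem model [Finite G] {S : Sylow 2 G} (h1 : W ≤ S) (h2 : (S : Subgroup G) ≤ Ns W)
    (h3 : ∀ w ∈ W, w * w = 1) (h5 : Nat.card (S : Subgroup G) = 64) (hs : s ∈ (S : Subgroup G))
    (ht : t ∈ (S : Subgroup G)) (s2 : s * s = 1) (t2 : t * t = 1) (st : s * t = t * s) (hw : w ∈ W)
    (hn : ⁅w, s⁆ * t ≠ t * ⁅w, s⁆) : Out S := by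
  have n : ∀ {x y : G}, x ∈ (S : Subgroup G) → y ∈ W → x * y * x⁻¹ ∈ W := fun hx hy =>
    (mem_normalizer_iff.1 (h2 hx) _).1 hy
  have m1 := n hs hw
  have m2 := n ht hw
  have m3 := n hs m2
  have a1 : s * w = s * w * s⁻¹ * s := by group
  have a2 : s * (s * w * s⁻¹) = w * s := by
    rw [← mul_assoc, ← mul_assoc, s2, one_mul, inv_eq_of_mul_eq_one_right s2]
  have a3 : s * (t * w * t⁻¹) = s * (t * w * t⁻¹) * s⁻¹ * s := by group
  have a4 : s * (s * (t * w * t⁻¹) * s⁻¹) = t * w * t⁻¹ * s := by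
    rw [← mul_assoc, ← mul_assoc, s2, one_mul, inv_eq_of_mul_eq_one_right s2]
  have b1 : t * w = t * w * t⁻¹ * t := by group
  have b2 : t * (s * w * s⁻¹) = s * (t * w * t⁻¹) * s⁻¹ * t := by
    calc _ = t * s * w * (t * s)⁻¹ * t := by group
      _ = _ := by rw [← st]; group
  have b3 : t * (t * w * t⁻¹) = w * t := by
    rw [← mul_assoc, ← mul_assoc, t2, one_mul, inv_eq_of_mul_eq_one_right t2]
  have b4 : t * (s * (t * w * t⁻¹) * s⁻¹) = s * w * s⁻¹ * t := by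
    calc _ = t * s * t * w * (t * s * t)⁻¹ * t := by group
      _ = _ := by rw [← st, mul_assoc s, t2, mul_one]
  have e0 : ⁅w, s⁆ = w * (s * w * s⁻¹) := by
    rw [commutatorElement_def, inv_eq_of_mul_eq_one_right (h3 w hw)]; group
  rw [e0] at hn
  clear e0
  generalize s * (t * w * t⁻¹) * s⁻¹ = w3 at *
  generalize t * w * t⁻¹ = w2 at *
  generalize s * w * s⁻¹ = w1 at *
  have hn' : w * (w1 * (w2 * w3)) ≠ 1 := fun e => hn (by
    rw [← mul_assoc t, b1, mul_assoc w2, b2, ← mul_assoc, ← inv_eq_of_mul_eq_one_right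
      (mul_assoc w _ _ ▸ e : w * w1 * (w2 * w3) = 1),
      inv_eq_of_mul_eq_one_right (h3 _ (mul_mem hw m1))])
  let v : Bool → Bool → Bool → Bool → G := fun a b c d =>
    cond a w 1 * cond b w1 1 * cond c w2 1 * cond d w3 1
  have vm : ∀ a b c d a' b' c' d' y, v a b c d * (v a' b' c' d' * y) =
      v (xor a a') (xor b b') (xor c c') (xor d d') * y := fun a b c d a' b' c' d' y => by
    have cc : ∀ {x y : G}, x ∈ W → y ∈ W → Commute x y := comm_of_sq h3
    rw [← mul_assoc, (cc (cond_mem m3 d) (mul_mem (mul_mem (cond_mem hw a') (cond_mem m1 b'))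
        (cond_mem m2 c'))).mul_mul_mul_comm,
      (cc (cond_mem m2 c) (mul_mem (cond_mem hw a') (cond_mem m1 b'))).mul_mul_mul_comm,
      (cc (cond_mem m1 b) (cond_mem hw a')).mul_mul_mul_comm, cond_mul (h3 _ hw),
      cond_mul (h3 _ m1), cond_mul (h3 _ m2), cond_mul (h3 _ m3)]
  have sw : ∀ {x x' : G}, x ∈ W → x' ∈ W → ∀ (a b : Bool) (y : G),
      cond a x 1 * (cond b x' 1 * y) = cond b x' 1 * (cond a x 1 * y) := fun hx hx' a b y => by
    rw [← mul_assoc, comm_of_sq h3 (cond_mem hx a) (cond_mem hx' b), mul_assoc]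
  have sv : ∀ a b c d y, s * (v a b c d * y) = v b a d c * (s * y) := fun a b c d y => by
    simp only [v, mul_assoc, mul_cond a1, mul_cond a2, mul_cond a3, mul_cond a4]
    rw [sw m1 hw, sw m3 m2]
  have tv : ∀ a b c d y, t * (v a b c d * y) = v c d a b * (t * y) := fun a b c d y => by
    simp only [v, mul_assoc, mul_cond b1, mul_cond b2, mul_cond b3, mul_cond b4]
    rw [sw m3 hw, sw m2 hw, sw m3 m1, sw m2 m1]
  have ss : ∀ y, s * (s * y) = y := fun y => by rw [← mul_assoc, s2, one_mul]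
  have tt : ∀ y, t * (t * y) = y := fun y => by rw [← mul_assoc, t2, one_mul]
  have ts : ∀ y, t * (s * y) = s * (t * y) := fun y => by rw [← mul_assoc, ← st, mul_assoc]
  let nf : Bool × Bool × Bool × Bool × Bool × Bool → G := fun p =>
    v p.1 p.2.1 p.2.2.1 p.2.2.2.1 * (cond p.2.2.2.2.1 s 1 * cond p.2.2.2.2.2 t 1)
  have nm : ∀ p q, nf (mu p q) = nf p * nf q := by
    rintro ⟨a, b, c, d, e, o⟩ ⟨a', b', c', d', e', o'⟩
    refine mul_right_cancel (b := (1 : G) * 1) ?_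
    generalize (1 : G) * 1 = y
    cases e <;> cases o <;> cases e' <;> cases o' <;>
      simp only [nf, mu, cond_true, cond_false, Bool.xor_false, Bool.xor_true, Bool.not_true,
        Bool.not_false, mul_assoc, one_mul, vm, sv, tv, ss, tt, ts]
  let φ : SS 0 →* G := MonoidHom.mk' (fun x => nf (dec x.1)) (by
    rintro ⟨⟨i, k, e, f, g⟩, h⟩ ⟨⟨i', k', e', f', g'⟩, h'⟩
    rw [← nm, ← dec_mul i k e f g h i' k' e' f' g' h']; rfl)
  refine Or.inr (Or.inl ⟨0, emb_of φ (φ.ker_eq_bot_iff.1 (by_contra fun hk => ?_)) (fun x => ?_)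
    (by rw [card_SS, h5]; rfl)⟩)
  · obtain ⟨⟨⟨i, k, e, f, g⟩, h⟩, hy, hc, ho⟩ :=
      Solv.PG.exists_mem_center_orderOf_eq (isPGroup_SS 0) φ.ker hk
    rw [mem_center_iff] at hc
    rcases cen i k e f g (congrArg Subtype.val (hc PS.tt)) (congrArg Subtype.val (hc PS.ww))
      (congrArg Subtype.val (hc PS.bb)) with h1 | h1
    · rw [show (⟨_, h⟩ : SS 0) = 1 from Subtype.ext h1, orderOf_one] at ho
      omega
    · change nf (dec _) = 1 at hy
      rw [h1] at hy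
      exact hn' (by simpa [nf, v, mul_assoc] using hy)
  · exact mul_mem (h1 (mul_mem (mul_mem (mul_mem (cond_mem hw _) (cond_mem m1 _)) (cond_mem m2 _))
      (cond_mem m3 _))) (mul_mem (cond_mem hs _) (cond_mem ht _))

/-- The hypotheses. -/
structure Hy (T W : Subgroup G) (z : G) : Prop where
  le : W ≤ T
  nm : T ≤ Ns W
  sq : ∀ w ∈ W, w * w = 1
  cW : Nat.card W = 16
  cT : Nat.card T = 64
  sT : ∀ x ∈ T, x * x ∈ W
  cen : ∀ w ∈ W, w ∈ Cs T → w = 1 ∨ w = z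

/-- Generators modulo `W`. -/
structure Pr (T W : Subgroup G) (s t : G) : Prop where
  sT : s ∈ T
  tT : t ∈ T
  sW : s ∉ W
  tW : t ∉ W
  st : s * t ∉ W

namespace Hy

variable (h : Hy T W z)
include h

theorem n (hs : s ∈ T) (hw : w ∈ W) : s * w * s⁻¹ ∈ W := (mem_normalizer_iff.1 (h.nm hs) _).1 hw

theorem ea : EA W T := ⟨h.le, h.sT, fun _ hx _ hk => h.n hx hk⟩

theorem symm (p : Pr T W s t) : Pr T W t s :=
  ⟨p.tT, p.sT, p.tW, p.sW, fun e => p.st (by simpa [mul_assoc] using h.n p.sT e)⟩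

theorem mul (p : Pr T W s t) (hw : w ∈ W) : Pr T W (w * s) t :=
  ⟨mul_mem (h.le hw) p.sT, p.tT, fun e => p.sW ((mul_mem_cancel_left hw).1 e), p.tW,
    fun e => p.st ((mul_mem_cancel_left hw).1 (mul_assoc w s t ▸ e))⟩

theorem cm (hs : s ∈ T) (hw : w ∈ W) : ⁅w, s⁆ ∈ C1 s ⊓ W := by
  have := mem_Cm_bot.1 ((EA.bot h.sq).comm_mem_Cm (fun _ => h.n hs) (fun b hb =>
    commutatorElement_eq_one_iff_mul_comm.2 (comm_of_sq h.sq (h.sT s hs) hb)) hw)
  exact ⟨mem_centralizer_singleton_iff.2 this.2.symm, this.1⟩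

theorem cm2 (hs : s ∈ T) (ht : t ∈ T) (hw : w ∈ C1 s ⊓ W) : ⁅w, t⁆ ∈ C1 t ⊓ (C1 s ⊓ W) := by
  refine ⟨(h.cm ht hw.2).1, ?_, (h.cm ht hw.2).2⟩
  rw [commutatorElement_def, mul_assoc, mul_assoc, ← mul_assoc t]
  refine mul_mem hw.1 (mem_centralizer_singleton_iff.2 ?_)
  have e1 := mem_centralizer_singleton_iff.1 (inv_mem hw.1)
  have e2 := comm_of_sq h.sq (inv_mem hw.2) (h.ea.comm (inv_mem ht) hs)
  calc _ = t * (w⁻¹ * ⁅t⁻¹, s⁆) * s * t⁻¹ := by rw [commutatorElement_def]; group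
    _ = t * ⁅t⁻¹, s⁆ * (w⁻¹ * s) * t⁻¹ := by rw [e2]; group
    _ = _ := by rw [e1, commutatorElement_def]; group

variable [Finite G]

theorem ex : ∃ s t, Pr T W s t := by
  obtain ⟨s, hs, h1⟩ := exists_not_mem (H := W) (B := T) (by rw [h.cW, h.cT]; norm_num)
  obtain ⟨t, ht, h2⟩ := exists_not_mem (H := W ⊔ zpowers s) (B := T) (by
    rw [card_adj (fun _ => h.n hs) (h.sT s hs) h1, h.cW, h.cT]; norm_num)
  exact ⟨s, t, hs, ht, h1, fun e => h2 (mem_sup_left e), fun e => h2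
    ((mul_mem_cancel_left (mem_sup_right (mem_zpowers s))).1 (mem_sup_left e))⟩

theorem two (p : Pr T W s t) (hw : w ∈ C1 t ⊓ (C1 s ⊓ W)) : w = 1 ∨ w = z := by
  have h1 : W ⊔ zpowers s ≤ T := sup_le h.le (zpowers_le.2 p.sT)
  have h2 : W ⊔ zpowers s ⊔ zpowers t = T := by
    refine eq_of_le_of_card_ge (sup_le h1 (zpowers_le.2 p.tT)) ?_
    rw [card_adj (conj_of_comm le_sup_left fun b hb => h.ea.comm p.tT (h1 hb))
      (mem_sup_left (h.sT t p.tT)), card_adj (fun _ => h.n p.sT) (h.sT s p.sT) p.sW, h.cW, h.cT]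
    rw [mem_adj (fun _ => h.n p.sT) (h.sT s p.sT)]
    rintro (e | e)
    · exact p.tW e
    · exact p.st (by simpa [mul_assoc] using mul_mem (h.sT s p.sT) e)
  refine h.cen w hw.2.2 fun x hx => mem_centralizer_singleton_iff.1 (?_ : x ∈ C1 w)
  refine (h2.ge.trans (sup_le (sup_le (fun y hy => ?_) (zpowers_le.2 ?_)) (zpowers_le.2 ?_))) hx <;>
    rw [mem_centralizer_singleton_iff]
  exacts [comm_of_sq h.sq hy hw.2.2, (mem_centralizer_singleton_iff.1 hw.2.1).symm,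
    (mem_centralizer_singleton_iff.1 hw.1).symm]

theorem c2 (p : Pr T W s t) : Nat.card (C1 t ⊓ (C1 s ⊓ W) : Subgroup G) ≤ 2 :=
  (Set.ncard_le_ncard (t := {1, z}) (fun _ hw => h.two p hw) (Set.toFinite _)).trans
    ((Set.ncard_insert_le _ _).trans (by rw [Set.ncard_singleton]))

theorem onto (p : Pr T W s t) (hu : u ∈ C1 s ⊓ W) : ∃ w ∈ W, ⁅w, s⁆ = u := by
  have h1 := (Solv.PG.card_le_mul_card_centralizer fun _ => h.cm2 p.sT p.tT).trans
    (Nat.mul_le_mul (h.c2 p) (h.c2 p))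
  exact Solv.PG.exists_commutator_eq (fun _ => h.cm p.sT) (h.cW ▸ Nat.mul_le_mul h1 h1) hu

theorem nc (p : Pr T W s t) : ∃ u ∈ C1 s ⊓ W, u * t ≠ t * u := by
  by_contra hn
  push Not at hn
  have h1 := (Subgroup.card_le_of_le (show C1 s ⊓ W ≤ C1 t ⊓ (C1 s ⊓ W) from fun u hu =>
    ⟨mem_centralizer_singleton_iff.2 (hn u hu), hu⟩)).trans (h.c2 p)
  have := (Solv.PG.card_le_mul_card_centralizer fun _ => h.cm p.sT).trans (Nat.mul_le_mul h1 h1)
  rw [h.cW] at this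
  omega

theorem adj (p : Pr T W s t) : ∃ s', Pr T W s' t ∧ s' * s' = 1 := by
  obtain ⟨w, hw, e⟩ := h.onto p (u := s * s)
    ⟨mem_centralizer_singleton_iff.2 (mul_assoc _ _ _), h.sT s p.sT⟩
  refine ⟨w * s, h.mul p hw, ?_⟩
  rw [← h.sq _ (h.sT s p.sT)]
  nth_rewrite 1 [← e]
  rw [commutatorElement_def, inv_eq_of_mul_eq_one_right (h.sq w hw)]
  group

theorem adj2 (p : Pr T W s t) (s2 : s * s = 1) (t2 : t * t = 1) :
    ∃ s', Pr T W s' t ∧ s' * s' = 1 ∧ s' * t = t * s' := by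
  have key : ∀ {s : G}, s * s = 1 → s * t * (s * t) = 1 → s * t = t * s := fun s2 e => by
    rw [← inv_eq_of_mul_eq_one_right e, mul_inv_rev, inv_eq_of_mul_eq_one_right s2,
      inv_eq_of_mul_eq_one_right t2]
  by_cases e : s * t * (s * t) = 1
  · exact ⟨s, p, s2, key s2 e⟩
  have hc := h.sT _ (mul_mem p.sT p.tT)
  have e0 : (s * t * (s * t)) = t * s * (t * s) := by
    rw [← inv_eq_of_mul_eq_one_right (h.sq _ hc), mul_inv_rev, mul_inv_rev,
      inv_eq_of_mul_eq_one_right s2, inv_eq_of_mul_eq_one_right t2]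
  have e1 := (h.two p ⟨mem_centralizer_singleton_iff.2 (by
    nth_rewrite 1 [e0]; simp only [mul_assoc]), mem_centralizer_singleton_iff.2 (by
    nth_rewrite 2 [e0]; simp only [mul_assoc]), hc⟩).resolve_left e
  obtain ⟨u, hu, h1⟩ := h.nc p
  have h2 := h.cm2 p.sT p.tT hu
  have e2 := (h.two p h2).resolve_left fun e => h1 (commutatorElement_eq_one_iff_mul_comm.1 e)
  have h3 := mem_centralizer_singleton_iff.1 hu.1
  have u2 := h.sq u hu.2
  have s2' : u * s * (u * s) = 1 := by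
    rw [mul_assoc, ← mul_assoc s, ← h3, mul_assoc, s2, mul_one, u2]
  refine ⟨u * s, h.mul p hu.2, s2', key s2' ?_⟩
  have h4 := mem_centralizer_singleton_iff.1 h2.2.1
  calc _ = u * s * t * u * s * t := by group
    _ = s * ⁅u, t⁆ * (t * s * t) := by
      rw [h3, commutatorElement_def, inv_eq_of_mul_eq_one_right u2]; group
    _ = ⁅u, t⁆ * (s * t * (s * t)) := by rw [← h4]; group
    _ = 1 := by rw [e2, ← e1, h.sq _ hc]

end Hy

end UT4

theorem out_ut4 [Finite G] {S : Sylow 2 G} {W : Subgroup G} {z : G} (h1 : W ≤ S)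
    (h2 : (S : Subgroup G) ≤ Ns W) (h3 : ∀ w ∈ W, w * w = 1)
    (h4 : Nat.card W = 16) (h5 : Nat.card (S : Subgroup G) = 64)
    (h6 : ∀ x ∈ (S : Subgroup G), x * x ∈ W)
    (h7 : ∀ w ∈ W, w ∈ Cs (S : Subgroup G) → w = 1 ∨ w = z) : Out S := by
  have h : UT4.Hy S W z := ⟨h1, h2, h3, h4, h5, h6, h7⟩
  obtain ⟨s, t, p⟩ := h.ex
  obtain ⟨s, p, s2⟩ := h.adj p
  obtain ⟨t, p, t2⟩ := h.adj (h.symm p)
  obtain ⟨t, p, t2, st⟩ := h.adj2 p t2 s2
  obtain ⟨u, hu, e⟩ := h.nc (h.symm p)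
  obtain ⟨w, hw, rfl⟩ := h.onto (h.symm p) hu
  exact UT4.model h1 h2 h3 h5 p.tT p.sT s2 t2 st.symm hw e

end Cfsg.Lib.GHN
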