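import Cfsg.Agent.GHN.A5E0
import Cfsg.Agent.GHN.UT4

/-!
# An essential `E₁₆` with automiser containing a normal `A₅`: conclusion
-/

set_option autoImplicit false

namespace Cfsg.Lib.GHN

open Subgroup Cfsg.Lib.Trans Cfsg.Lib.Gold

universe u

variable {G : Type u} [Group G] [Finite G] {S : Sylow 2 G} {P : Subgroup G} {ρ r e : G}

theorem A5E.out (h : Ctx S) (h1 : A5E (S : Subgroup G) P ρ r e) : Out S :=
  (h1.out_or h).elim id fun ⟨hS, _, hz⟩ => out_ut4 h1.le hS h1.sq h1.card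
    (inf_eq_left.2 hS ▸ h1.cardN) (fun x hx => h1.sqN x hx (hS hx)) hz

end Cfsg.Lib.GHN
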