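import Cfsg.Agent.GHN.Basic
import Cfsg.Agent.GHD.UC

/-!
# A subgroup of type `L₃(4)` whose centre is fused
-/

set_option autoImplicit false

namespace Cfsg.Lib.GHN

open Subgroup Cfsg.Lib.Trans Cfsg.Lib.Gold Cfsg.Lib.Rank2 Cfsg.Lib.GHB Cfsg.Lib.GHD
open scoped commutatorElement

universe u

variable {G : Type u} [Group G] [Finite G] {S : Sylow 2 G} {T U A B V E : Subgroup G} {r c : G}

theorem ulem_sq (h4 : SectionalPRankLE 2 4 G) (t : L34.TT U A B V) (hS : IsPGroup 2 T)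
    (hr : r ∈ T) (h1 : r ∈ Ns A) (h2 : r ∈ Ns B) (h3 : r ∈ Cs V) (h5 : r * r ∈ U) : r ∈ U := by
  obtain ⟨x, k1, k2, k3⟩ := UC.fixmod t hS hr h1 (Cs_le_Ns h3)
  have k := t.fix h1 h2 h3 (t.le₁ k1) k2 k3
  have e : r * r ∈ Cs U := fun y hy => (mul_inv_eq_iff_eq_mul.1 (by
    have e1 := k y hy
    generalize hw : r * y * r⁻¹ * y⁻¹ = w at e1
    have e2 : r * y * r⁻¹ = w * y := by rw [← hw]; group
    calc _ = r * (r * y * r⁻¹) * r⁻¹ := by group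
      _ = r * w * r⁻¹ * (r * y * r⁻¹) := by rw [e2, ← hw]; group
      _ = y := by rw [← h3 w e1, mul_inv_cancel_right, e2, ← mul_assoc, t.sqV w e1, one_mul])).symm
  by_contra hU
  have := EA.card_le1 h4 ⟨t.VT, fun _ => t.sq_mem, fun x hx v hv => (t.conjV hv hx).symm ▸ hv⟩ k
    (t.mem_of_cent h5 e) hU
  rw [t.card, t.cardV] at this
  omega

theorem ulem_u2 (h4 : SectionalPRankLE 2 4 G) (t : L34.TT U A B V) (hS : IsPGroup 2 T)
    (hr : r ∈ T) (h1 : r ∈ Ns A) (h2 : r ∈ Ns B) (h3 : r ∈ Cs V) : r ∈ U := by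
  obtain ⟨n, hn⟩ := hS ⟨r, hr⟩
  have e : r ^ 2 ^ n ∈ U := (show r ^ 2 ^ n = 1 from congrArg Subtype.val hn) ▸ one_mem U
  clear hn
  induction n with
  | zero => simpa using e
  | succ n ih =>
    refine ih (ulem_sq h4 t hS (pow_mem hr _) (pow_mem h1 _) (pow_mem h2 _) (pow_mem h3 _) ?_)
    rwa [← pow_add, ← two_mul, ← pow_succ']

theorem ulem_noE8 (k : UC.Cx T U A B V c) (hn : ¬ T ≤ Ns A) : GHA.NoE8 T := fun E h1 h2 h3 => by
  obtain ⟨u, hu, u1⟩ := SetLike.not_le_iff_exists.1 hn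
  replace h3 : ∀ e ∈ E, e * e = 1 := fun e he => by rw [← pow_two, h3 e he]
  have s := k.swap (k.le_Ns hu) u1
  have l0 : ∀ x ∈ E, x ∈ U → x ∈ V := fun x hx m => (k.t.mem_or m (h3 x hx)).elim
    (k.inf_le_Z hu s.1 h2 h3 hx) (k.symm.inf_le_Z hu s.2 h2 h3 hx)
  have l : E ≤ V := fun e he => l0 e he (by_contra fun e1 => by
    have n := k.le_Ns (h1 he)
    have key : ∀ x ∈ A, e * x * e⁻¹ * x⁻¹ ∈ V := fun x hx => l0 _ (by
      simpa only [mul_assoc] using mul_mem he (mem_normalizer_conj (h2 (k.le (k.t.le₁ hx)))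
        (inv_mem he))) (mul_mem (mem_normalizer_conj n (k.t.le₁ hx)) (inv_mem (k.t.le₁ hx)))
    by_cases e2 : e ∈ Ns A
    · obtain ⟨x, hx, m⟩ := k.nontriv (k.out (h1 he) n e2 e1)
      exact m (key x hx)
    · obtain ⟨x, hx, m⟩ := k.t.exists_notMem
      have m1 := k.t.memV ((mul_mem_cancel_right (inv_mem hx)).1 (k.t.V₁ (key x hx)))
        ((k.swap n e2).1.le (conj_mem_cj.2 hx))
      exact m (inv_mem_iff.1 ((mul_mem_cancel_left m1).1 (key x hx))))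
  exact k.t.cardV ▸ Subgroup.card_le_of_le l

theorem Ctx.ulem (h : Ctx S) (h1 : L34.TT U A B V) (h2 : U ≤ S)
    (h3 : ∀ a ∈ V, ∀ b ∈ V, a ≠ 1 → b ≠ 1 → IsConj a b) : Out S := by
  obtain ⟨v, hv, v1⟩ := h1.exists_ne_one
  obtain ⟨c, hc, c1, -, c2⟩ := Solv.PG.exists_mem_centralizer_orderOf_eq
    (S.isPGroup'.to_inf_left (K := Ns V)) h1.twoV inf_le_right fun e => v1 (mem_bot.1 (e ▸ hv))
  have k : UC.Cx S U A B V c := ⟨h1, S.isPGroup', h2, fun r => ulem_u2 h.r4 h1 S.isPGroup', hc,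
    fun e => by simp [e] at c2, fun r h1 h2 => c1 r ⟨h1, h2⟩⟩
  by_cases e : (S : Subgroup G) ≤ U
  · exact .inr (.inr (.inr (.inr (.inr (.inl ⟨A, B, V, le_antisymm h2 e ▸ h1⟩)))))
  by_cases hn : (S : Subgroup G) ≤ Ns A
  · obtain ⟨r, hr, r1⟩ := SetLike.not_le_iff_exists.1 e
    obtain ⟨f, o, f2⟩ := k.exists_inv (k.out hr (k.le_Ns hr) (hn hr) r1)
    obtain ⟨p, hp, p1, pc⟩ := k.exists_p
    refine .inr (.inr (.inr (.inr (.inl ⟨U, A, B, V, f, h1, f2, o.n1, o.n2,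
      fun m => (k.fixZ o hp (mem_Cs.1 m p hp).symm).elim p1 pc,
      le_antisymm (sup_le h2 (zpowers_le.2 o.mem)) fun x hx => ?_⟩))))
    by_cases m : x ∈ U
    · exact mem_sup_left m
    · exact (mul_mem_cancel_right (mem_sup_right (mem_zpowers f))).1
        (mem_sup_left (k.mul_mem_U (k.out hx (k.le_Ns hx) (hn hx) m) o))
  · exact h.E1 (ulem_noE8 k hn) (h1.VT.trans h2) (k.le_Ns.trans h1.Ns_le) h1.cardV h1.sqV h3

end Cfsg.Lib.GHN
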