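import Cfsg.Agent.GHN.TT
import Cfsg.Agent.GHN.Ulem

/-!
# An essential `E₁₆` with automiser containing a normal `A₅`
-/

set_option autoImplicit false

namespace Cfsg.Lib.GHN

open Subgroup Cfsg.Lib.Trans Cfsg.Lib.Gold Cfsg.Lib.Rank2 Cfsg.Lib.GHB
open scoped commutatorElement

universe u

variable {G : Type u} [Group G] [Finite G] {S : Sylow 2 G} {T P E V : Subgroup G}
  {ρ r e f g v w x y z : G}

theorem a5e_fpf (h4 : SectionalPRankLE 2 4 G) (h2 : ∀ p ∈ P, p * p = 1) (h1 : f ∈ Ns P)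
    (h5 : f ^ 5 ∈ Cs P) (hC : f ∉ Cs P) :
    Nat.card P = 16 ∧ ∀ p ∈ P, f * p = p * f → p = 1 := by
  obtain ⟨c, hc⟩ := (EA.bot h2).act5 h4 (fun b => mem_normalizer_conj h1) (fun b hb => mem_bot.2
    (commutatorElement_eq_one_iff_mul_comm.2 (mem_Cs.1 h5 b hb).symm)) (by
      by_contra! hn
      exact hC (mem_Cs.2 fun b hb => (commutatorElement_eq_one_iff_mul_comm.1 (hn b hb)).symm))
  exact ⟨by simpa using c, fun p hp e =>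
    hc p hp (mem_bot.2 (commutatorElement_eq_one_iff_mul_comm.2 e))⟩

theorem a5e_three (h4 : SectionalPRankLE 2 4 G) (h2 : ∀ p ∈ P, p * p = 1) (h1 : f ∈ Ns P)
    (h5 : f ^ 3 ∈ Cs P) (hC : f ∉ Cs P) : Nat.card P = 4 * Nat.card (Cm ⊥ P f) ∨
      (Nat.card P = 16 ∧ ∀ p ∈ P, f * p = p * f → p = 1) :=
  ((EA.bot h2).act3 h4 (fun b => mem_normalizer_conj h1) (fun b hb => mem_bot.2
    (commutatorElement_eq_one_iff_mul_comm.2 (mem_Cs.1 h5 b hb).symm)) (by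
      by_contra! hn
      exact hC (mem_Cs.2 fun b hb =>
        (commutatorElement_eq_one_iff_mul_comm.1 (hn b hb)).symm))).imp_right fun c =>
    ⟨by simpa using c.1, fun p hp e => c.2 p hp (mem_bot.2 (commutatorElement_eq_one_iff_mul_comm.2 e))⟩

theorem a5e_small (h2 : ∀ p ∈ V, p * p = 1) (h : Nat.card V < 4) : ∃ z, ∀ w ∈ V, w = 1 ∨ w = z := by
  by_contra! hn
  obtain ⟨z, hz, z1, -⟩ := hn 1
  obtain ⟨w, hw, w1, wz⟩ := hn z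
  have c1 : ∀ b ∈ (⊥ : Subgroup G), z * b * z⁻¹ ∈ (⊥ : Subgroup G) := fun b hb => by
    simp [mem_bot.1 hb]
  have s1 : z * z ∈ (⊥ : Subgroup G) := mem_bot.2 (h2 z hz)
  have l : ⊥ ⊔ zpowers z ≤ V := sup_le bot_le (zpowers_le.2 hz)
  have := card_adj (B := ⊥ ⊔ zpowers z) (g := w) (fun b hb => by
    rwa [Gold.comm_of_sq h2 w hw b (l hb), mul_inv_cancel_right]) (h2 w hw ▸ one_mem _) fun m =>
    ((mem_adj c1 s1).1 m).elim w1 fun m => wz (inv_mul_eq_one.1 m).symm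
  rw [card_adj c1 s1 z1, card_bot] at this
  have := Subgroup.card_le_of_le (sup_le l (zpowers_le.2 hw))
  omega

namespace A5E

variable (k : A5E T P ρ r e)
include k

omit [Finite G] in
theorem cm (hx : x ∈ P) (hy : y ∈ P) : x * y = y * x := Gold.comm_of_sq k.sq x hx y hy

omit [Finite G] in
theorem PU : P ≤ T ⊓ Ns P := le_inf k.le le_normalizer

theorem small (h4 : SectionalPRankLE 2 4 G) (hg : g ∈ T ⊓ Ns P) (g1 : g ∉ P) :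
    Nat.card (Cm ⊥ P g) ≤ 4 := by
  obtain ⟨f, f1, f5, fC, fi⟩ := k.inv5 g hg.1 hg.2 g1 (k.sqN g hg.1 hg.2)
  replace fi : g * f * g⁻¹ * f ∈ Cs P := sup_le (le_Cs_of_sq k.sq le_rfl) le_rfl fi
  have i : cj f (Cm ⊥ P g) ⊓ Cm ⊥ P g ≤ ⊥ := by
    rintro _ ⟨⟨y, hy, rfl⟩, hx⟩
    obtain ⟨y1, y2⟩ := mem_Cm_bot.1 hy
    have x2 : g * (f * y * f⁻¹) = f * y * f⁻¹ * g := (mem_Cm_bot.1 hx).2
    have e1 := mem_Cs.1 fi _ (mem_normalizer_conj (inv_mem f1) y1)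
    have e2 : Commute (f * f) y := by
      have : f⁻¹ * y * f = f * y * f⁻¹ :=
        calc _ = g * f * g⁻¹ * f * (f⁻¹ * y * f⁻¹⁻¹) * (g * f * g⁻¹ * f)⁻¹ := by
              rw [← e1, mul_inv_cancel_right, inv_inv]
          _ = g * (f * (g⁻¹ * (y * g)) * f⁻¹) * g⁻¹ := by group
          _ = _ := by rw [← y2, inv_mul_cancel_left, x2, mul_inv_cancel_right]
      calc f * f * y = f * (f * y * f⁻¹) * f := by group
        _ = y * (f * f) := by rw [← this]; group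
    have e5 : Commute (f ^ 5) y := (mem_Cs.1 f5 y y1).symm
    have e3 : Commute f y := by
      simpa [pow_succ, mul_assoc] using e5.mul_left (e2.mul_left e2).inv_left
    have := (a5e_fpf h4 k.sq f1 f5 fC).2 y y1 e3
    simp [this]
  have := card_mul_le ((cj_mono f (Cm_le (K := ⊥) (B := P) (g := g))).trans (mem_Ns_iff.1 f1).le)
    (Cm_le (K := ⊥) (B := P) (g := g))
  rw [le_bot_iff.1 i, card_cj, card_bot, k.card] at this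
  nlinarith

theorem big (h4 : SectionalPRankLE 2 4 G) (h1 : E ≤ T ⊓ Ns P) (h2 : ∀ x ∈ E, x * x = 1)
    (h3 : Nat.card E = 16) (hn : ¬ E ≤ P) : 4 ≤ Nat.card ↥(P ⊓ Cs (T ⊓ Ns P)) := by
  obtain ⟨g, hg, g1⟩ := SetLike.not_le_iff_exists.1 hn
  have c1 : Nat.card ↥(E ⊓ P) ≤ 4 := (Subgroup.card_le_of_le (show E ⊓ P ≤ _ from fun x hx =>
    mem_Cm_bot.2 ⟨hx.2, Gold.comm_of_sq h2 g hg x hx.1⟩)).trans (k.small h4 (h1 hg) g1)
  have c2 := card_mul_le h1 k.PU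
  have c3 := card_mul_le (le_sup_left : E ≤ E ⊔ P) le_sup_right
  rw [h3, k.card] at c2 c3
  rw [k.cardN] at c2
  have e : E ⊔ P = T ⊓ Ns P := eq_of_le_of_card_ge (sup_le h1 k.PU) (by rw [k.cardN]; nlinarith)
  refine le_trans (by omega) (Subgroup.card_le_of_le (show E ⊓ P ≤ _ from le_inf inf_le_right ?_))
  rw [← e]
  exact le_Cs_comm.1 (sup_le (le_Cs_of_sq h2 inf_le_left) (le_Cs_of_sq k.sq inf_le_right))

theorem nsg (h4 : SectionalPRankLE 2 4 G) (h : 4 ≤ Nat.card ↥(P ⊓ Cs (T ⊓ Ns P))) :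
    Nsg (T ⊓ Ns P) P (P ⊓ Cs (T ⊓ Ns P)) := by
  have e : ∀ g ∈ T ⊓ Ns P, g ∉ P → P ⊓ Cs (T ⊓ Ns P) = Cm ⊥ P g := fun g hg g1 =>
    eq_of_le_of_card_ge (fun x hx => mem_Cm_bot.2 ⟨hx.1, mem_Cs.1 hx.2 g hg⟩)
      ((k.small h4 hg g1).trans h)
  obtain ⟨g, hg, g1⟩ := exists_not_mem (H := P) (B := T ⊓ Ns P) (by rw [k.card, k.cardN]; omega)
  refine ⟨inf_le_left, k.PU, le_antisymm (e g hg g1 ▸ k.small h4 hg g1) h, k.card, k.cardN, k.sq,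
    inf_le_right, fun p hp b hb => ?_, fun p hp b hb m => or_iff_not_imp_left.2 fun p1 =>
      e p hp p1 ▸ mem_Cm_bot.2 ⟨hb, m⟩⟩
  by_cases p1 : p ∈ P
  · rw [commutatorElement_eq_one_iff_mul_comm.2 (k.cm p1 hb)]
    exact one_mem _
  · rw [e p hp p1, ← commutatorElement_inv]
    exact inv_mem ((EA.bot k.sq).comm_mem_Cm (fun b => mem_normalizer_conj hp.2) (fun b hb =>
      mem_bot.2 (commutatorElement_eq_one_iff_mul_comm.2 (k.cm (k.sqN p hp.1 hp.2) hb))) hb)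

theorem not_r (h4 : SectionalPRankLE 2 4 G) (n : Nsg (T ⊓ Ns P) P V) : r ∉ Ns V := fun hr => by
  have l : ∀ {X : Subgroup G}, X ≤ P → T ⊓ Ns P ≤ Ns X → ρ ∈ Ns X → r ∈ Ns X → e ∈ Ns X :=
    fun l0 l1 l2 l3 => sup_le (sup_le l1 ((Cs_anti l0).trans Cs_le_Ns))
      ((closure_le _).2 (by rintro _ (rfl | rfl) <;> assumption)) k.gen
  have e1 := a5e_fpf h4 k.sq (l le_rfl inf_le_right k.ρN k.rN) k.e5 k.eC
  obtain ⟨v, hv, v1⟩ := exists_not_mem (H := ⊥) (B := V) (by rw [n.h3, card_bot]; omega)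
  have := (a5e_fpf h4 n.sqV (l n.h1 ((le_Cs_comm.1 n.h7).trans Cs_le_Ns) (n.nV k.ρU k.ρN) hr)
    (Cs_anti n.h1 k.e5) fun m => v1 (e1.2 v (n.h1 hv) (mem_Cs.1 m v hv).symm)).1
  rw [n.h3] at this
  omega

omit [Finite G] in
theorem r1 (hx : x ∈ P) : r * (ρ * x * ρ⁻¹) * r⁻¹ = ρ⁻¹ * (r * x * r⁻¹) * ρ := by
  have e1 := mem_Cs.1 k.rρ _ (mem_normalizer_conj (inv_mem k.ρN) (mem_normalizer_conj k.rN hx))
  calc _ = r * ρ * r⁻¹ * ρ * (ρ⁻¹ * (r * x * r⁻¹) * ρ⁻¹⁻¹) * (r * ρ * r⁻¹ * ρ)⁻¹ := by group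
    _ = _ := by rw [← e1, mul_inv_cancel_right, inv_inv]

omit [Finite G] in
theorem cjI (hx : x ∈ P) : ρ⁻¹ * x * ρ ∈ P := by
  simpa using mem_normalizer_conj (inv_mem k.ρN) hx

omit [Finite G] in
theorem r2 (hx : x ∈ P) : r * (ρ⁻¹ * x * ρ) * r⁻¹ = ρ * (r * x * r⁻¹) * ρ⁻¹ := by
  have e1 := k.r1 (k.cjI hx)
  rw [show ρ * (ρ⁻¹ * x * ρ) * ρ⁻¹ = x by group] at e1
  rw [e1]; group

omit [Finite G] in
theorem ρρ (hx : x ∈ P) : ρ * (ρ * x * ρ⁻¹) * ρ⁻¹ = ρ⁻¹ * x * ρ := by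
  have e1 := mem_Cs.1 k.ρ3 _ (k.cjI hx)
  rw [show ρ ^ 3 = ρ * ρ * ρ by simp [pow_succ]] at e1
  calc _ = ρ * ρ * ρ * (ρ⁻¹ * x * ρ) * (ρ * ρ * ρ)⁻¹ := by group
    _ = _ := by rw [← e1, mul_inv_cancel_right]

omit [Finite G] in
theorem nfix (hx : x ∈ P) : ρ * (x * (ρ * x * ρ⁻¹ * (ρ⁻¹ * x * ρ))) =
    x * (ρ * x * ρ⁻¹ * (ρ⁻¹ * x * ρ)) * ρ := by
  refine mul_inv_eq_iff_eq_mul.1 ?_
  calc _ = ρ * x * ρ⁻¹ * (ρ * (ρ * x * ρ⁻¹) * ρ⁻¹) * x := by group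
    _ = _ := by rw [k.ρρ hx, k.cm hx (mul_mem (mem_normalizer_conj k.ρN hx) (k.cjI hx))]

omit [Finite G] in
theorem nmod (hV : ρ ∈ Ns V) (hx : x ∈ P) (h : ⁅ρ, x⁆ ∈ V) :
    x * (ρ * x * ρ⁻¹ * (ρ⁻¹ * x * ρ)) * x ∈ V := by
  rw [k.cm hx (mul_mem (mem_normalizer_conj k.ρN hx) (k.cjI hx)), mul_assoc _ x, k.sq x hx, mul_one]
  convert mul_mem h (mem_normalizer_conj (inv_mem hV) (inv_mem h)) using 1
  calc _ = ρ * x * ρ⁻¹ * (x⁻¹ * (ρ⁻¹ * x * ρ) * x⁻¹) := by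
        rw [k.cm (inv_mem hx) (k.cjI hx), mul_assoc _ x⁻¹, k.sq _ (inv_mem hx), mul_one]
    _ = _ := by simp only [commutatorElement_def]; group

theorem fpfV (h4 : SectionalPRankLE 2 4 G) (n : Nsg (T ⊓ Ns P) P V) :
    ∀ v ∈ V, ρ * v = v * ρ → v = 1 := by
  by_cases hC : ρ ∈ Cs V
  · have l : V ≤ Cm ⊥ P ρ := fun v hv => mem_Cm_bot.2 ⟨n.h1 hv, (mem_Cs.1 hC v hv).symm⟩
    rcases a5e_three h4 k.sq k.ρN k.ρ3 k.ρC with c | c
    · refine absurd (mem_normalizer_of_cj_le ?_) (k.not_r h4 n)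
      rw [eq_of_le_of_card_ge l (by rw [k.card] at c; rw [n.h3]; omega)]
      rintro _ ⟨x, hx, rfl⟩
      obtain ⟨x1, x2⟩ := mem_Cm_bot.1 hx
      refine mem_Cm_bot.2 ⟨mem_normalizer_conj k.rN x1, mul_inv_eq_iff_eq_mul.1 ?_⟩
      refine (k.r2 x1).symm.trans ?_
      rw [mul_assoc ρ⁻¹, ← x2, inv_mul_cancel_left]
      rfl
    · exact fun v hv => c.2 v (n.h1 hv)
  · rcases a5e_three h4 n.sqV (n.nV k.ρU k.ρN) (Cs_anti n.h1 k.ρ3) hC with c | c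
    · rw [n.h3] at c
      exact fun v hv m => mem_bot.1 ((card_eq_one.1 (by omega) : Cm ⊥ V ρ = ⊥) ▸ mem_Cm_bot.2 ⟨hv, m⟩)
    · exact c.2

theorem fused (h4 : SectionalPRankLE 2 4 G) (n : Nsg (T ⊓ Ns P) P V) :
    ∀ a ∈ V, ∀ b ∈ V, a ≠ 1 → b ≠ 1 → IsConj a b := fun a ha b hb a1 b1 => by
  have f := k.fpfV h4 n
  have hV := n.nV k.ρU k.ρN
  have m := mem_normalizer_conj hV ha
  have m1 : ρ * a * ρ⁻¹ ≠ 1 := mt conj_eq_one_iff.1 a1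
  have m2 : ρ * a * ρ⁻¹ ≠ a := fun e => a1 (f a ha (mul_inv_eq_iff_eq_mul.1 e))
  have c1 : IsConj a (ρ * a * ρ⁻¹) := isConj_iff.2 ⟨ρ, rfl⟩
  rcases L34.four_cases n.h3 n.sqV ha a1 m m1 m2 hb with rfl | rfl | rfl | rfl
  · exact absurd rfl b1
  · rfl
  · exact c1
  rcases L34.four_cases n.h3 n.sqV ha a1 m m1 m2 (mem_normalizer_conj hV m) with e | e | e | e
  · exact absurd (conj_eq_one_iff.1 e) m1
  · rw [k.ρρ (n.h1 ha)] at e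
    exact absurd (by nth_rewrite 1 [← e]; group) m2
  · exact absurd (f _ m (mul_inv_eq_iff_eq_mul.1 e)) m1
  · exact c1.trans (isConj_iff.2 ⟨ρ, e⟩)

theorem exc (h4 : SectionalPRankLE 2 4 G) (n : Nsg (T ⊓ Ns P) P V) (hw : w ∈ P) (w1 : w ∉ V)
    (h : ⁅ρ, w⁆ ∈ V) : False := by
  have f := k.fpfV h4 n
  have hV := n.nV k.ρU k.ρN
  have mP : ∀ {x}, x ∈ P → x * (ρ * x * ρ⁻¹ * (ρ⁻¹ * x * ρ)) ∈ P := fun hx =>
    mul_mem hx (mul_mem (mem_normalizer_conj k.ρN hx) (k.cjI hx))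
  rcases a5e_three h4 k.sq k.ρN k.ρ3 k.ρC with c | c
  swap
  · have := k.nmod hV hw h
    rw [c.2 _ (mP hw) (k.nfix hw), one_mul] at this
    exact w1 this
  let M : Subgroup G :=
    { carrier := {x | x ∈ P ∧ ⁅ρ, x⁆ ∈ V}
      one_mem' := ⟨one_mem _, by simp⟩
      mul_mem' := fun {a b} ha hb => ⟨mul_mem ha.1 hb.1, by
        convert mul_mem ha.2 (n.ea.nrm a (n.h2 ha.1) _ hb.2) using 1
        simp only [commutatorElement_def]; group⟩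
      inv_mem' := fun {a} ha => by rwa [inv_eq_of_sq (k.sq a ha.1)] }
  have l : Cm ⊥ P ρ ⊔ V ≤ M := sup_le (fun x hx => ⟨hx.1, mem_bot.1 hx.2 ▸ one_mem V⟩) fun v hv =>
    ⟨n.h1 hv, mul_mem (mem_normalizer_conj hV hv) (inv_mem hv)⟩
  have i : Cm ⊥ P ρ ⊓ V = ⊥ := le_bot_iff.1 fun x hx => f x hx.2 (mem_Cm_bot.1 hx.1).2
  have c2 := card_mul_le (le_sup_left : Cm ⊥ P ρ ≤ Cm ⊥ P ρ ⊔ V) le_sup_right
  rw [i, card_bot, n.h3] at c2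
  have e : Cm ⊥ P ρ ⊔ V = P := eq_of_le_of_card_ge (sup_le Cm_le n.h1) (by omega)
  refine k.not_r h4 n (mem_normalizer_of_cj_le ?_)
  rintro _ ⟨v, hv, rfl⟩
  have v1 := n.h1 hv
  have y1 := mem_normalizer_conj k.rN v1
  have := k.nmod hV y1 (l (e.ge y1)).2
  have e0 := f _ (mul_mem hv (mul_mem (mem_normalizer_conj hV hv) (by
    simpa using mem_normalizer_conj (inv_mem hV) hv))) (k.nfix v1)
  rwa [k.cm (mem_normalizer_conj k.ρN y1) (k.cjI y1), ← k.r1 v1, ← k.r2 v1, conj_mul', conj_mul', e0,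
    mul_one, mul_inv_cancel, one_mul] at this

end A5E

theorem A5E.out_or (h : Ctx S) (h1 : A5E (S : Subgroup G) P ρ r e) : Out S ∨
    ((S : Subgroup G) ≤ Ns P ∧ ∃ z, ∀ w ∈ P, w ∈ Cs (S : Subgroup G) → w = 1 ∨ w = z) := by
  by_cases hV : 4 ≤ Nat.card ↥(P ⊓ Cs ((S : Subgroup G) ⊓ Ns P))
  · have n := h1.nsg h.r4 hV
    rcases tt_or n.h1 n.h2 n.h3 n.h4 n.h5 n.h6 n.h7 n.h8 n.h9 with ⟨A, t⟩ | ⟨w, hw, w1, hx, -⟩
    · exact .inl (h.ulem t inf_le_left (h1.fused h.r4 n))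
    · exact (h1.exc h.r4 n hw w1 (hx ρ h1.ρU h1.ρN)).elim
  · obtain ⟨z, hz⟩ := a5e_small (fun p hp => h1.sq p (mem_inf.1 hp).1) (not_le.1 hV)
    have hS : (S : Subgroup G) ≤ Ns P := by
      by_contra hn
      obtain ⟨g, hg, g1⟩ := SetLike.exists_of_lt (Solv.PG.lt_inf_normalizer S.isPGroup'
        (lt_of_le_not_ge (inf_le_left : (S : Subgroup G) ⊓ Ns P ≤ S) fun e =>
          hn (e.trans inf_le_right)))
      refine g1 ⟨hg.1, mem_normalizer_of_cj_le (by_contra fun m => hV (h1.big h.r4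
        ((cj_mono g h1.PU).trans (mem_Ns_iff.1 hg.2).le) ?_ ((card_cj g P).trans h1.card) m))⟩
      rintro _ ⟨x, hx, rfl⟩
      rw [← map_mul, h1.sq x hx, map_one]
    exact .inr ⟨hS, z, fun w hw m => hz w ⟨hw, Cs_anti inf_le_left m⟩⟩

end Cfsg.Lib.GHN
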