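import Cfsg.Agent.GHN.Basic

/-!
# Simple groups of sectional 2-rank at most four: consequences of `VV` and `W8`
-/

set_option autoImplicit false

namespace Cfsg.Lib.GHN

open Subgroup Cfsg.Lib.Trans Cfsg.Lib.Gold
open scoped commutatorElement

universe u

variable {G : Type u} [Group G] [Finite G]
  {T P Q P₁ P₂ : Subgroup G} {d s z v w x y n d₁ s₁ d₂ s₂ : G}

omit [Finite G] in
theorem cjm (a b c : G) : a * (b * c) * a⁻¹ = a * b * a⁻¹ * (a * c * a⁻¹) := conj_mul.symm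

theorem ns_F4 (h1 : n * z * n⁻¹ ∈ F4 z v) (h2 : n * v * n⁻¹ ∈ F4 z v) : n ∈ Ns (F4 z v) :=
  mem_normalizer_of_cj_le (by
    rw [cj_sup, cj_zpowers, cj_zpowers]; exact sup_le (zpowers_le.2 h1) (zpowers_le.2 h2))

theorem ns_F8 (h1 : n * z * n⁻¹ ∈ F8 z v w) (h2 : n * v * n⁻¹ ∈ F8 z v w)
    (h3 : n * w * n⁻¹ ∈ F8 z v w) : n ∈ Ns (F8 z v w) :=
  mem_normalizer_of_cj_le (by
    rw [cj_sup, cj_sup, cj_zpowers, cj_zpowers, cj_zpowers]
    exact sup_le (sup_le (zpowers_le.2 h1) (zpowers_le.2 h2)) (zpowers_le.2 h3))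

omit [Finite G] in
theorem z_F4 : z ∈ F4 z v := mem_sup_left (mem_zpowers z)
omit [Finite G] in
theorem v_F4 : v ∈ F4 z v := mem_sup_right (mem_zpowers v)
omit [Finite G] in
theorem F4_le (h1 : z ∈ Q) (h2 : v ∈ Q) : F4 z v ≤ Q := sup_le (zpowers_le.2 h1) (zpowers_le.2 h2)
omit [Finite G] in
theorem F4_F8 : F4 z v ≤ F8 z v w := le_sup_left
omit [Finite G] in
theorem w_F8 : w ∈ F8 z v w := mem_sup_right (mem_zpowers w)
omit [Finite G] in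
theorem F8_le (h1 : z ∈ Q) (h2 : v ∈ Q) (h3 : w ∈ Q) : F8 z v w ≤ Q :=
  sup_le (F4_le h1 h2) (zpowers_le.2 h3)

omit [Finite G] in
theorem Tri.idx2 (h : Tri T P d s) (hn : T ≤ Ns P) : Local.IdxLeTwo P T := fun a ha b hb h1 h2 => by
  have k1 := (h.idx a ha (hn ha)).resolve_left h1
  have k2 := (h.idx b⁻¹ (inv_mem hb) (hn (inv_mem hb))).resolve_left (by simpa)
  have := mul_mem (mul_mem k1 (inv_mem h.s2)) (mem_normalizer_conj h.sN (inv_mem k2))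
  rwa [show a * s * (s * s)⁻¹ * (s * (b⁻¹ * s)⁻¹ * s⁻¹) = a * s⁻¹ * b * s⁻¹ by group,
    show a * s⁻¹ * b * s⁻¹ = a * b * (b⁻¹ * (s * s)⁻¹ * b⁻¹⁻¹ * ((b⁻¹ * s) * (b * s) * (s * s)⁻¹))
      by group, mul_mem_cancel_right (mul_mem (mem_normalizer_conj (hn (inv_mem hb)) (inv_mem h.s2))
      (mul_mem (mul_mem k2 ((h.idx b hb (hn hb)).resolve_left h2)) (inv_mem h.s2)))] at this

omit [Finite G] in
theorem Tri.card (h : Tri T P d s) (hn : T ≤ Ns P) : Nat.card T = 2 * Nat.card P := by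
  rw [← GHB.card_adj (fun b hb => mem_normalizer_conj h.sN hb) h.s2 h.sP]
  congr 2
  refine le_antisymm (fun a ha => ?_) (sup_le h.le (zpowers_le.2 h.sS))
  rcases h.idx a ha (hn ha) with k | k
  · exact mem_sup_left k
  · exact (mul_mem_cancel_right (mem_sup_right (mem_zpowers s))).1 (mem_sup_left k)

omit [Finite G] in
theorem Tri.cenP (h : Tri T P d s) (h1 : x ∈ T) (h2 : x ∈ Cs T) : x ∈ P :=
  h.cent x h1 (cs_mono h.le h2)

namespace VV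

variable (h : VV T P d s z v)
include h

omit [Finite G]

theorem zP : z ∈ P := h.toTri.cenP h.zS h.zc
theorem vP : v ∈ P := h.dz ▸ h.toTri.dP h.zP
theorem v2 : v * v = 1 := by rw [← h.dz, conj_mul, h.z2]; simp
theorem zcP : z ∈ Cs P := cs_mono h.le h.zc
theorem vc : v ∈ Cs P := h.dz ▸ cs_ns h.zcP h.dN
theorem zv : z * v = v * z := cs_comm h.zcP h.vP
theorem v1 : v ≠ 1 := fun e => h.z1 (by simpa [e] using h.dz)
theorem vz : v ≠ z := fun e => by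
  have := h.dv
  rw [e, h.z2, h.dz] at this
  exact h.v1 this
theorem dzv : d * (z * v) * d⁻¹ = z := by
  rw [← conj_mul, h.dz, h.dv, h.zv, ← mul_assoc, h.v2, one_mul]
theorem cz (hx : x ∈ T) : x * z * x⁻¹ = z := by rw [← cs_comm h.zc hx, mul_inv_cancel_right]
theorem cv (hx : x ∈ P) : x * v * x⁻¹ = v := by rw [← cs_comm h.vc hx, mul_inv_cancel_right]

theorem out (hx : x ∈ T) (hP : x ∉ P) : x * v * x⁻¹ = z * v := by
  have e : s * v * s⁻¹ = z * v := by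
    conv_lhs => rw [← h.dz, h.toTri.sd h.zP, h.cz h.sS, ← h.dzv]
    group
  have k := (h.idx x⁻¹ (inv_mem hx) (h.nS (inv_mem hx))).resolve_left (by simpa)
  rw [← e]
  conv_rhs => rw [← h.cv (inv_mem k)]
  group

theorem memP (hx : x ∈ T) : x ∈ P ↔ x * v = v * x :=
  ⟨fun k => (cs_comm h.vc k).symm, fun k => by
    by_contra e
    have := h.out hx e
    rw [k, mul_inv_cancel_right, right_eq_mul] at this
    exact h.z1 this⟩

theorem act (hx : x ∈ T) : x * v * x⁻¹ = v ∨ x * v * x⁻¹ = z * v :=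
  (em (x ∈ P)).imp h.cv (h.out hx)

theorem idx2 : Local.IdxLeTwo P T := h.toTri.idx2 h.nS
theorem card : Nat.card T = 2 * Nat.card P := h.toTri.card h.nS
theorem mem4 : x ∈ F4 z v ↔ x = 1 ∨ x = z ∨ x = v ∨ x = z * v := mem_F4 h.z2 h.v2 h.zv
theorem zv1 : z * v ≠ 1 := fun e => h.vz (by rw [← inv_eq h.z2, inv_eq_of_mul_eq_one_right e])

theorem card4 : Nat.card (F4 z v) = 4 := by
  rw [GHB.card_adj (fun x hx => by
    rwa [cs_conj h.vc (zpowers_le.2 h.zP hx)]) (h.v2 ▸ one_mem _) (fun e => by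
      rcases (mem_zp h.z2).1 e with e | e; exacts [h.v1 e, h.vz e]), GHB.card_zpowers_two h.z2 h.z1]

theorem le4 : F4 z v ≤ P ⊓ Cs P := F4_le ⟨h.zP, h.zcP⟩ ⟨h.vP, h.vc⟩

theorem sq4 (hx : x ∈ F4 z v) : x * x = 1 := by
  rcases h.mem4.1 hx with rfl | rfl | rfl | rfl
  exacts [mul_one 1, h.z2, h.v2, by rw [h.zv, mul_assoc, ← mul_assoc z, h.zv, mul_assoc, h.z2,
    mul_one, h.v2]]

theorem fix4 (hx : x ∈ F4 z v) (h1 : d * x = x * d) : x = 1 := by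
  rw [← mul_inv_eq_iff_eq_mul] at h1
  rcases h.mem4.1 hx with rfl | rfl | rfl | rfl
  · rfl
  · exact absurd (h.dz.symm.trans h1) h.vz
  · exact absurd (mul_eq_right.1 (h.dv.symm.trans h1)) h.z1
  · exact absurd (left_eq_mul.1 (h.dzv.symm.trans h1)) h.v1

theorem fus : ∀ a ∈ F4 z v, ∀ b ∈ F4 z v, a ≠ 1 → b ≠ 1 → IsConj a b := by
  have e1 : IsConj z v := isConj_iff.2 ⟨d, h.dz⟩
  have k : ∀ a ∈ F4 z v, a ≠ 1 → IsConj z a := fun a ha a1 => by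
    rcases h.mem4.1 ha with rfl | rfl | rfl | rfl
    exacts [absurd rfl a1, .refl _, e1, e1.trans (isConj_iff.2 ⟨d, h.dv⟩)]
  exact fun a ha b hb a1 b1 => (k a ha a1).symm.trans (k b hb b1)

theorem cj (hn : n ∈ Ns T) :
    VV T (cj n P) (n * d * n⁻¹) (n * s * n⁻¹) (n * z * n⁻¹) (n * v * n⁻¹) :=
  { h.toTri.cj hn with
    nS := by
      have := cj_mono n h.nS
      rwa [cj_eq_of_mem_normalizer hn, cj_normalizer] at this
    zS := mem_normalizer_conj hn h.zS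
    zc := cs_ns h.zc hn
    z2 := by rw [conj_mul, h.z2]; simp
    z1 := by simpa using h.z1
    dz := by rw [← h.dz]; group
    dv := by rw [← cjm n z v, ← h.dv]; group }

theorem zE : z ∈ EE T := subset_closure ⟨P, d, s, z, v, h, Or.inl rfl⟩
theorem vE : v ∈ EE T := subset_closure ⟨P, d, s, z, v, h, Or.inr rfl⟩

end VV

theorem VV.n4 (h : VV T P d s z v) : T ≤ Ns (F4 z v) := fun x hx =>
  ns_F4 (by rw [h.cz hx]; exact z_F4) (by
    rcases h.act hx with e | e <;> rw [e]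
    exacts [v_F4, mul_mem z_F4 v_F4])

theorem VV.d4 (h : VV T P d s z v) : d ∈ Ns (F4 z v) :=
  ns_F4 (h.dz ▸ v_F4) (h.dv ▸ mul_mem z_F4 v_F4)

namespace W8

variable (h : W8 T P₁ P₂ d₁ s₁ d₂ s₂ z v w)
include h

section
omit [Finite G]

theorem w2 : w * w = 1 := by rw [← h.dv, conj_mul, h.vv.v2]; simp
theorem wP₂ : w ∈ P₂ := h.dv ▸ h.tri.dP h.vP
theorem zP₂ : z ∈ P₂ := h.tri.cenP h.vv.zS h.vv.zc
theorem zw : z * w = w * z := cs_comm h.vv.zc (h.tri.le h.wP₂)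
theorem wP₁ : w ∈ P₁ := (h.vv.memP (h.tri.le h.wP₂)).2 h.vw.symm
theorem w4 (hx : x ∈ F4 z v) : w * x * w⁻¹ = x := by
  rw [← cs_comm (h.vv.le4 hx).2 h.wP₁, mul_inv_cancel_right]

theorem mem8 : x ∈ F8 z v w ↔ x ∈ F4 z v ∨ w * x ∈ F4 z v := by
  rw [GHB.mem_adj (fun b hb => by rwa [h.w4 hb]) (h.w2 ▸ one_mem _), inv_eq h.w2]

theorem sq8 : ∀ x ∈ F8 z v w, x * x = 1 := fun x hx => by
  rcases h.mem8.1 hx with k | k
  · exact h.vv.sq4 k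
  · have := h.vv.sq4 k
    have e := h.w4 k
    rw [inv_eq h.w2, ← mul_assoc, h.w2, one_mul] at e
    rwa [mul_assoc, ← mul_assoc x, e, mul_assoc, ← mul_assoc, h.w2, one_mul] at this

theorem card8 : Nat.card (F8 z v w) = 8 := by
  rw [GHB.card_adj (fun b hb => by rwa [h.w4 hb]) (h.w2 ▸ one_mem _) h.wV, h.vv.card4]

theorem le8 : F8 z v w ≤ P₁ ⊓ P₂ := F8_le ⟨h.vv.zP, h.zP₂⟩ ⟨h.vv.vP, h.vP⟩ ⟨h.wP₁, h.wP₂⟩

theorem idx2 : Local.IdxLeTwo P₂ T := h.tri.idx2 h.nS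

/-- rewriting rules for words in `z`, `v`, `w` -/
theorem nf : z⁻¹ = z ∧ v⁻¹ = v ∧ w⁻¹ = w ∧ z * z = 1 ∧ v * v = 1 ∧ w * w = 1 ∧ v * z = z * v ∧
    w * z = z * w ∧ w * v = v * w ∧ (∀ a, z * (z * a) = a) ∧ (∀ a, v * (v * a) = a) ∧
    (∀ a, w * (w * a) = a) ∧ (∀ a, v * (z * a) = z * (v * a)) ∧ (∀ a, w * (z * a) = z * (w * a)) ∧
    ∀ a, w * (v * a) = v * (w * a) :=
  ⟨inv_eq h.vv.z2, inv_eq h.vv.v2, inv_eq h.w2, h.vv.z2, h.vv.v2, h.w2, h.vv.zv.symm, h.zw.symm,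
    h.vw.symm, fun a => by rw [← mul_assoc, h.vv.z2, one_mul],
    fun a => by rw [← mul_assoc, h.vv.v2, one_mul], fun a => by rw [← mul_assoc, h.w2, one_mul],
    fun a => by rw [← mul_assoc, ← h.vv.zv, mul_assoc], fun a => by rw [← mul_assoc, ← h.zw, mul_assoc],
    fun a => by rw [← mul_assoc, ← h.vw, mul_assoc]⟩

theorem inP (hx : x ∈ P₂) : x * w * x⁻¹ = w ∨ x * w * x⁻¹ = z * w := by
  have e : x * w * x⁻¹ = d₂ * (d₂⁻¹ * x * d₂ * v * (d₂⁻¹ * x * d₂)⁻¹) * d₂⁻¹ := by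
    rw [← h.dv]; group
  refine (h.vv.act (h.tri.le (mem_normalizer_conj' h.tri.dN hx))).imp (fun k => ?_) fun k => ?_
  · rw [e, k, h.dv]
  · rw [e, k, ← conj_mul, h.dz, h.dv]

theorem outP (hx : x ∈ T) (hP : x ∉ P₂) : x * w * x⁻¹ = v * w ∨ x * w * x⁻¹ = z * (v * w) := by
  have e0 : d₂⁻¹ * z * d₂ = z := by
    conv_lhs => rw [← h.dz]
    group
  have e1 : d₂⁻¹ * v * d₂ = d₂ * w * d₂⁻¹ := by rw [h.tri.dd h.vP, h.dv]
  have e : s₂ * w * s₂⁻¹ = v * w ∨ s₂ * w * s₂⁻¹ = z * (v * w) := by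
    have k := h.tri.sd h.vP
    rw [h.dv] at k
    have e2 : d₂⁻¹ * (z * v) * d₂ = z * (d₂ * w * d₂⁻¹) := by
      rw [← e1]
      conv_rhs => rw [← e0]
      group
    rcases h.vv.act h.tri.sS with a | a <;> rw [k, a] <;> rcases h.dw with b | b <;>
      simp only [e1, e2, b, h.nf, true_or, or_true]
  have k := (h.tri.idx x⁻¹ (inv_mem hx) (h.nS (inv_mem hx))).resolve_left (by simpa)
  have e3 : x * w * x⁻¹ = s₂ * ((x⁻¹ * s₂)⁻¹ * w * (x⁻¹ * s₂)⁻¹⁻¹) * s₂⁻¹ := by group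
  rcases h.inP (inv_mem k) with a | a <;> rw [e3, a]
  · exact e
  · rw [← conj_mul, h.vv.cz h.tri.sS]
    rcases e with b | b <;> simp only [b, h.nf, true_or, or_true]

theorem cmw (x : G) : ⁅x, w⁆ = x * w * x⁻¹ * w := by rw [commutatorElement_def, inv_eq h.w2]

theorem inP' (hx : x ∈ P₂) : ⁅x, w⁆ = 1 ∨ ⁅x, w⁆ = z :=
  (h.inP hx).imp (fun k => by rw [h.cmw, k, h.w2]) fun k => by
    rw [h.cmw, k, mul_assoc, h.w2, mul_one]

theorem outP' (hx : x ∈ T) (hP : x ∉ P₂) : ⁅x, w⁆ = v ∨ ⁅x, w⁆ = z * v :=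
  (h.outP hx hP).imp (fun k => by rw [h.cmw, k, mul_assoc, h.w2, mul_one]) fun k => by
    rw [h.cmw, k, mul_assoc, mul_assoc, h.w2, mul_one]

theorem act (hx : x ∈ T) : ⁅x, w⁆ ∈ F4 z v := by
  rw [h.vv.mem4]
  by_cases k : x ∈ P₂
  · exact (h.inP' k).imp_right Or.inl
  · exact Or.inr (Or.inr (h.outP' hx k))

theorem memP₂ (hx : x ∈ T) : x ∈ P₂ ↔ ⁅x, w⁆ = 1 ∨ ⁅x, w⁆ = z :=
  ⟨h.inP', fun k => by
    by_contra e
    rcases h.outP' hx e with a | a <;> rcases k with b | b <;> rw [a] at b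
    exacts [h.vv.v1 b, h.vv.vz b, h.vv.zv1 b, h.vv.v1 (mul_eq_left.1 b)]⟩

theorem actP₂ (hx : x ∈ P₂) (hy : y ∈ F8 z v w) : ⁅x, y⁆ = 1 ∨ ⁅x, y⁆ = z := by
  have hN : T ≤ Ns (zpowers z) :=
    (le_centralizer_iff.1 (zpowers_le.2 h.vv.zc)).trans (centralizer_le_normalizer _)
  have f : ∀ a ∈ P₂, (∀ u ∈ P₂, ⁅u, a⁆ ∈ zpowers z) → a ∈ Tv (zpowers z) P₂ := fun a ha k =>
    ⟨hN (h.tri.le ha), fun u hu => commutatorElement_inv u a ▸ inv_mem (k u hu)⟩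
  have := (F8_le (f z h.zP₂ fun u hu => by
      rw [commutatorElement_def, h.vv.cz (h.tri.le hu)]; simp)
    (f v h.vP fun u hu => by
      rcases h.vv.act (h.tri.le hu) with a | a <;> simp [commutatorElement_def, a])
    (f w h.wP₂ fun u hu => (mem_zp h.vv.z2).2 (h.inP' hu)) hy).2 x hx
  exact (mem_zp h.vv.z2).1 (commutatorElement_inv y x ▸ inv_mem this)

omit h in
theorem memC' : x ∈ Cs (F8 z v w) ↔ x * z = z * x ∧ x * v = v * x ∧ x * w = w * x :=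
  ⟨fun k => ⟨cs_comm k (F4_F8 z_F4), cs_comm k (F4_F8 v_F4), cs_comm k w_F8⟩, fun ⟨a, b, c⟩ =>
    cs_of fun _ hy => (mem_centralizer_singleton_iff.1 (F8_le (Q := C1 x)
      (mem_centralizer_singleton_iff.2 a.symm) (mem_centralizer_singleton_iff.2 b.symm)
      (mem_centralizer_singleton_iff.2 c.symm) hy)).symm⟩

theorem memC : x ∈ Cs (F8 z v w) ↔ x * z = z * x ∧ x * v = v * x ∧ x * w = w * x :=
  have := h.vP
  memC'

theorem leC : T ⊓ Cs (F8 z v w) ≤ P₁ ⊓ P₂ := fun _ hx =>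
  ⟨(h.vv.memP hx.1).2 (h.memC.1 hx.2).2.1, (h.memP₂ hx.1).2
    (Or.inl (commutatorElement_eq_one_iff_mul_comm.2 (h.memC.1 hx.2).2.2))⟩

theorem exz : ∃ p ∈ P₁, p ∈ P₂ ∧ ⁅p, w⁆ = z := by
  obtain ⟨p, h1, h2, h3⟩ := h.ex
  exact ⟨p, (h.vv.memP (h.tri.le h1)).2 h2, h1, by rw [h.cmw, h3, mul_assoc, h.w2, mul_one]⟩

theorem nle : ¬ P₁ ≤ P₂ := fun k => by
  have e : P₂ ≤ P₁ := fun x hx => by
    by_contra a
    exact h.tri.sP ((mul_mem_cancel_left hx).1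
      (k (h.vv.idx2 x (h.tri.le hx) _ h.tri.sS a fun b => h.tri.sP (k b))))
  obtain ⟨p, -, h2, h3⟩ := h.exz
  have := cs_ns (cs_mono e h.vv.vc) h.tri.dN
  rw [h.dv] at this
  exact h.vv.z1 (h3 ▸ commutatorElement_eq_one_iff_mul_comm.2 (cs_comm this h2).symm)

theorem cm_mul (hx : x ∈ P₁) (hy : y ∈ P₁) : ⁅x * y, w⁆ = ⁅x, w⁆ * ⁅y, w⁆ := by
  have e := fun {a} => cs_comm (x := a) (h.vv.le4 (h.act (h.vv.le hy))).2
  rw [← e (h.vv.le4 (h.act (h.vv.le hx))).1]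
  conv_rhs => rw [← mul_inv_cancel_right ⁅y, w⁆ x, e hx]
  simp only [commutatorElement_def]; group

theorem onto (hy : y ∈ F4 z v) : ∃ p ∈ P₁, ⁅p, w⁆ = y := by
  obtain ⟨p, h1, -, h3⟩ := h.exz
  obtain ⟨q, k1, k2⟩ := SetLike.not_le_iff_exists.1 h.nle
  have e := h.cm_mul h1 k1
  rcases h.vv.mem4.1 hy with rfl | rfl | rfl | rfl
  · exact ⟨1, one_mem _, by simp⟩
  · exact ⟨p, h1, h3⟩
  all_goals rcases h.outP' (h.vv.le k1) k2 with a | a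
  · exact ⟨q, k1, a⟩
  · exact ⟨_, mul_mem h1 k1, by rw [e, h3, a, ← mul_assoc, h.vv.z2, one_mul]⟩
  · exact ⟨_, mul_mem h1 k1, by rw [e, h3, a]⟩
  · exact ⟨q, k1, a⟩

theorem cardP₁ : Nat.card P₁ = 4 * Nat.card (T ⊓ Cs (F8 z v w) : Subgroup G) := by
  let f : P₁ →* G := MonoidHom.mk' (fun p => ⁅(p : G), w⁆) fun a b => h.cm_mul a.2 b.2
  have e1 : f.range = F4 z v := le_antisymm (by rintro _ ⟨p, rfl⟩; exact h.act (h.vv.le p.2))
    fun y hy => by obtain ⟨p, a, b⟩ := h.onto hy; exact ⟨⟨p, a⟩, b⟩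
  have e2 : f.ker = (T ⊓ Cs (F8 z v w)).subgroupOf P₁ := Subgroup.ext fun p =>
    ⟨fun k => ⟨h.vv.le p.2, h.memC.2 ⟨(cs_comm h.vv.zcP p.2).symm, (cs_comm h.vv.vc p.2).symm,
      commutatorElement_eq_one_iff_mul_comm.1 k⟩⟩,
      fun k => commutatorElement_eq_one_iff_mul_comm.2 (h.memC.1 k.2).2.2⟩
  rw [← f.ker.index_mul_card, index_ker, e1, h.vv.card4, e2,
    Nat.card_congr (subgroupOfEquivOfLe (h.leC.trans inf_le_left)).toEquiv]

theorem cen (hy : y ∈ F8 z v w) (hc : y ∈ Cs T) : y = 1 ∨ y = z := by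
  rcases h.mem8.1 hy with k | k
  · have e := h.vv.out h.vv.sS h.vv.sP
    have e' : s₁ * y * s₁⁻¹ = y := by rw [← cs_comm hc h.vv.sS, mul_inv_cancel_right]
    rcases h.vv.mem4.1 k with rfl | rfl | rfl | rfl
    · exact Or.inl rfl
    · exact Or.inr rfl
    · exact absurd (mul_eq_right.1 (e.symm.trans e')) h.vv.z1
    · rw [← conj_mul, e, h.vv.cz h.vv.sS, mul_right_inj, mul_eq_right] at e'
      exact absurd e' h.vv.z1
  · obtain ⟨p, h1, -, h3⟩ := h.exz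
    have := (mul_mem_cancel_right (cs_mono h.vv.le hc)).1 (h.vv.le4 k).2
    exact absurd (h3 ▸ commutatorElement_eq_one_iff_mul_comm.2 (cs_comm this h1).symm) h.vv.z1

theorem fix8 (hy : y ∈ F8 z v w) (hc : ⁅d₂, y⁆ = 1 ∨ ⁅d₂, y⁆ = z) : y = 1 ∨ y = z := by
  have hz : ⁅d₂, y⁆ ∈ zpowers z := (mem_zp h.vv.z2).2 hc
  have a1 : ∀ a ∈ zpowers z, a * v ∉ zpowers z := fun a ha e => by
    rcases (mem_zp h.vv.z2).1 ((mul_mem_cancel_left ha).1 e) with k | k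
    exacts [h.vv.v1 k, h.vv.vz k]
  have a2 : ∀ a ∈ F4 z v, a * w ∉ zpowers z := fun a ha e =>
    h.wV ((mul_mem_cancel_left ha).1 (mem_sup_left e))
  have b1 := a1 1 (one_mem _)
  have b2 := a1 z (mem_zpowers _)
  have b3 := a2 1 (one_mem _)
  have b4 := a2 z z_F4
  have b5 := a2 v v_F4
  rw [one_mul] at b1 b3
  rw [commutatorElement_def] at hz
  rcases h.mem8.1 hy with k | k
  · rcases h.vv.mem4.1 k with rfl | rfl | rfl | rfl
    · exact Or.inl rfl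
    · exact Or.inr rfl
    all_goals
      simp only [cjm d₂, h.dz, h.dv] at hz
      simp only [mul_assoc, mul_inv_rev, h.nf] at hz
      exact absurd hz b5
  · obtain ⟨u, rfl⟩ : ∃ u, y = w * u := ⟨w * y, (h.nf.2.2.2.2.2.2.2.2.2.2.2.1 y).symm⟩
    rw [h.nf.2.2.2.2.2.2.2.2.2.2.2.1] at k
    rw [← conj_mul] at hz
    rcases h.vv.mem4.1 k with a | a | a | a <;> rcases h.dw with e | e <;>
      simp only [a, cjm d₂ z, h.dz, h.dv, e, mul_one, mul_inv_cancel] at hz <;>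
      simp only [mul_assoc, mul_inv_rev, h.nf, mul_one] at hz <;> contradiction

end

theorem n8 : T ≤ Ns (F8 z v w) := fun x hx =>
  ns_F8 (F4_F8 (mem_normalizer_conj (h.vv.n4 hx) z_F4))
    (F4_F8 (mem_normalizer_conj (h.vv.n4 hx) v_F4))
    (conj_eq_cm x w ▸ mul_mem (F4_F8 (h.act hx)) w_F8)

theorem d8 : d₂ ∈ Ns (F8 z v w) :=
  ns_F8 (by rw [h.dz]; exact F4_F8 z_F4) (by rw [h.dv]; exact w_F8) (by
    rcases h.dw with e | e <;> rw [e]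
    exacts [mul_mem (F4_F8 v_F4) w_F8, mul_mem (F4_F8 z_F4) (mul_mem (F4_F8 v_F4) w_F8)])

theorem dC : d₂ ∈ Ns (T ⊓ Cs (F8 z v w)) :=
  ns_of fun _ hx => ⟨h.tri.le (h.tri.dP (h.leC hx).2), cs_ns hx.2 h.d8⟩

end W8

end Cfsg.Lib.GHN
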