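import Cfsg.Agent.GHN.CaseA0
import Cfsg.Agent.GHN.VV

/-!
# Simple groups of sectional 2-rank at most four: section six, a `Tri` moving `z`
-/

set_option autoImplicit false

namespace Cfsg.Lib.GHN

open Subgroup

universe u

variable {G : Type u} [Group G] [Finite G] {S : Sylow 2 G} {P₁ P₂ : Subgroup G}
  {z v d₁ s₁ d₂ s₂ : G}

theorem Six.caseA (h : Six S) (h1 : VV (S : Subgroup G) P₁ d₁ s₁ z v)
    (h2 : Tri (S : Subgroup G) P₂ d₂ s₂) (h3 : d₂ * z * d₂⁻¹ ≠ z) :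
    d₂ * z * d₂⁻¹ ∈ EE (S : Subgroup G) ∧ d₂ * v * d₂⁻¹ ∈ EE (S : Subgroup G) :=
  h.caseA_of h1 h2 h3 (h.vP h1 h2) (h.toCx.exists_vv h.nrm h2)

end Cfsg.Lib.GHN
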