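import Cfsg.Agent.GHN.Basic
import Cfsg.Agent.GHN.A8
import Cfsg.Agent.Trans.NormalComplement
import Cfsg.Agent.S3103

/-!
# The automiser of a centric subgroup as a subgroup of `A₈`
-/

set_option autoImplicit false

namespace Cfsg.Lib.GHN

open Subgroup Equiv Cfsg.Lib.Trans Cfsg.Lib.Gold Cfsg.Lib.Solv
open scoped commutatorElement

universe u

variable {G : Type u} [Group G] {S : Sylow 2 G} {T P : Subgroup G} {d s d' s' x n : G}

theorem mem_Kn : x ∈ Kn P ↔ ∃ p ∈ P, ∃ c ∈ Cs P, x = p * c :=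
  PG.mem_sup_iff_of_le_normalizer (cs_le_ns le_rfl)

theorem Kn_le : Kn P ≤ Ns P := sup_le le_normalizer (cs_le_ns le_rfl)

theorem Kn_conj (hx : x ∈ Kn P) (hn : n ∈ Ns P) : n * x * n⁻¹ ∈ Kn P := by
  obtain ⟨p, hp, c, hc, rfl⟩ := mem_Kn.1 hx
  exact mem_Kn.2 ⟨_, (mem_normalizer_iff.1 hn p).1 hp, _, cs_ns hc hn, by group⟩

instance Kn_normal : ((Kn P).subgroupOf (Ns P)).Normal :=
  ⟨fun _ hx n => Kn_conj hx n.2⟩

theorem mem_of_Kn (h1 : P ≤ T) (h2 : ∀ x ∈ T, x ∈ Cs P → x ∈ P) (hx : x ∈ T) (hK : x ∈ Kn P) :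
    x ∈ P := by
  obtain ⟨p, hp, c, hc, rfl⟩ := mem_Kn.1 hK
  exact mul_mem hp (h2 c ((mul_mem_cancel_left (h1 hp)).1 hx) hc)

variable [Finite G]

/-- The action on the Frattini quotient, as a map to `A₈`. -/
theorem exists_rep (h4 : SectionalPRankLE 2 4 G) (hP : IsPGroup 2 P) :
    ∃ π : Ns P →* Perm (Fin 8), (∀ n, Perm.sign (π n) = 1) ∧
      (∀ n : Ns P, n.1 ∈ Kn P → π n = 1) ∧ ∀ n, π n = 1 → ∃ k, n.1 ^ 2 ^ k ∈ Cs P := by
  have hp := isPGroup_subgroupOf hP (Ns P)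
  obtain ⟨R⟩ := nonempty_secRep_frattini 2 (P.subgroupOf (Ns P)) hp
  obtain ⟨f, hf⟩ := Cfsg.Agent.S3103.exists_injective_A8 _ (R.lift_injective _ rfl)
    (le_trans (le_of_eq (by
      have h1 : R.hom.ker = frattini (P.subgroupOf (Ns P)) := Subgroup.ext fun a =>
        (R.π_eq_zero a.2).trans (mem_map_iff_mem (subtype_injective _))
      refine Eq.trans ?_ (congrArg index h1)
      rw [index_ker, MonoidHom.range_eq_top.mpr fun w => by
        obtain ⟨a, ha, h2⟩ := R.π_surj w.toAdd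
        exact ⟨⟨a, ha⟩, h2⟩, card_top]
      rfl)) (PG.index_frattini_le_of_secRank hp
        (PG.secRank_subgroup (PG.secRank_subgroup h4 _) _)))
  have key : ∀ n, ((alternatingGroup (Fin 8)).subtype.comp (f.comp (QuotientGroup.mk' _))) n = 1 ↔
      n ∈ R.ρ.ker := fun n =>
    (map_eq_one_iff ((alternatingGroup (Fin 8)).subtype.comp f)
      ((subtype_injective _).comp hf)).trans (QuotientGroup.eq_one_iff n)
  refine ⟨(alternatingGroup (Fin 8)).subtype.comp (f.comp (QuotientGroup.mk' _)),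
    fun n => (f n).2, fun n hn => (key n).2 ?_, fun n hn => ?_⟩
  · obtain ⟨p, hp, c, hc, h⟩ := mem_Kn.1 hn
    rw [show n = ⟨p, le_normalizer hp⟩ * ⟨c, cs_le_ns le_rfl hc⟩ from Subtype.ext h]
    refine mul_mem (R.le_ker hp) (R.mem_ker_iff.2 fun a ha => ?_)
    rw [commutatorElement_eq_one_iff_mul_comm.2 (Subtype.ext (cs_comm hc ha))]
    exact one_mem _
  · obtain ⟨k, hk⟩ := exists_pow_orderOf_coprime (p := 2) n
    have h1 : zpowers (n ^ 2 ^ k) ≤ centralizer (P.subgroupOf (Ns P) : Set (Ns P)) :=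
      Coprime.le_centralizer_of_commutator_le_frattini le_normalizer_of_normal
        (by
          rw [Nat.card_zpowers]
          obtain ⟨j, hj⟩ := IsPGroup.iff_card.1 (hp.to_subgroup (frattini _))
          rw [hj]
          exact hk.pow_right j)
        (by
          rw [commutator_comm]
          exact R.le_ker_iff.1 (zpowers_le.2 (pow_mem ((key n).1 hn) _)))
    exact ⟨k, fun a ha => congrArg Subtype.val
      (h1 (mem_zpowers _) ⟨a, le_normalizer ha⟩ ha)⟩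

/-- If `N_T(P)` meets the kernel in `P`, then the kernel is `P C(P)`. -/
theorem ker_le {Γ : Type*} [Group Γ] (π : Ns P →* Γ) (h : IsSylowIn 2 (T ⊓ Ns P) (Ns P))
    (h1 : ∀ n : Ns P, n.1 ∈ T → π n = 1 → n.1 ∈ P)
    (h2 : ∀ n, π n = 1 → ∃ k, n.1 ^ 2 ^ k ∈ Cs P) (n : Ns P) (hn : π n = 1) : n.1 ∈ Kn P := by
  have h3 := (h.subgroupOf_top.inf_normal_of_le (N := π.ker) (normalizer_eq_top _).ge
    le_top).not_dvd_relIndex_of_le (K := (Kn P).subgroupOf (Ns P))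
      fun a ha => mem_sup_left (h1 a ha.1.1 ha.2)
  have h4 := pow_relIndex_mem ((Kn P).subgroupOf (Ns P)) (K := π.ker) hn
  obtain ⟨k, hk⟩ := h2 n hn
  have h5 : (n : Ns P ⧸ (Kn P).subgroupOf (Ns P)) = 1 := by
    have a1 := (QuotientGroup.eq_one_iff _).2 h4
    have a2 := (QuotientGroup.eq_one_iff (N := (Kn P).subgroupOf (Ns P)) (n ^ 2 ^ k)).2
      (mem_sup_right hk)
    rw [QuotientGroup.mk_pow] at a1 a2
    exact orderOf_eq_one_iff.1 (Nat.eq_one_of_dvd_coprimes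
      (((Nat.Prime.coprime_iff_not_dvd Nat.prime_two).2 h3).pow_left k)
      (orderOf_dvd_of_pow_eq_one a2) (orderOf_dvd_of_pow_eq_one a1))
  exact (QuotientGroup.eq_one_iff (N := (Kn P).subgroupOf (Ns P)) n).1 h5

namespace Tri

variable {Γ : Type*} [Group Γ] (π : Ns P →* Γ) (h : Tri T P d s)
  (h1 : ∀ n : Ns P, n.1 ∈ Kn P → π n = 1) (h2 : ∀ n, π n = 1 → ∃ k, n.1 ^ 2 ^ k ∈ Cs P)
include h h1

omit [Finite G] in
theorem rep_d : π ⟨d, h.dN⟩ ^ 3 = 1 := by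
  rw [← map_pow]
  exact h1 _ (mem_sup_right h.d3)

omit [Finite G] in
theorem rep_inv : π ⟨s, h.sN⟩ * π ⟨d, h.dN⟩ * (π ⟨s, h.sN⟩)⁻¹ * π ⟨d, h.dN⟩ = 1 := by
  rw [← map_inv, ← map_mul, ← map_mul, ← map_mul]
  exact h1 _ (mem_sup_right h.inv)

omit [Finite G] in
theorem rep_s2 : π ⟨s, h.sN⟩ * π ⟨s, h.sN⟩ = 1 := by
  rw [← map_mul]
  exact h1 _ (mem_sup_left h.s2)

omit [Finite G] in
theorem rep_mem (n : Ns P) (hn : n.1 ∈ T) : n.1 ∈ P ∨ π n = π ⟨s, h.sN⟩ :=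
  (h.idx n hn n.2).imp id fun h3 => by
    have := h1 (n * ⟨s, h.sN⟩) (mem_sup_left h3)
    rw [map_mul, ← h.rep_s2 π h1] at this
    exact mul_right_cancel this

omit [Finite G] in
include h2 in
theorem rep_s1 : π ⟨s, h.sN⟩ ≠ 1 := fun h3 => by
  have h4 := h.rep_inv π h1
  have h5 := h.rep_d π h1
  rw [h3, one_mul, inv_one, mul_one] at h4
  rw [pow_succ, sq, h4, one_mul] at h5
  obtain ⟨k, hk⟩ := h2 _ h5
  obtain ⟨m, hm⟩ : ∃ m, 2 ^ k * 2 ^ k = 3 * m + 1 := ⟨2 ^ k * 2 ^ k / 3, by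
    have : 2 ^ k * 2 ^ k % 3 = 1 := by rw [← mul_pow, Nat.pow_mod]; simp
    omega⟩
  have h6 := pow_mem hk (2 ^ k)
  rw [← pow_mul, hm, pow_succ, pow_mul] at h6
  exact h.dC ((mul_mem_cancel_left (pow_mem h.d3 m)).1 h6)

theorem rep_odd [Finite Γ] (hπ : Function.Surjective π) : π ⟨d, h.dN⟩ ∈ oddCore Γ := by
  obtain ⟨R, hR⟩ := IsSylowIn.exists_sylow_eq (T := ((T ⊓ Ns P).subgroupOf (Ns P)).map π)
    (by simpa only [map_top_of_surjective π hπ] using h.syl.subgroupOf_top.map π)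
  have h3 := Block.Princ.zstar_elt R (x := π ⟨s, h.sN⟩)
    (by rw [← SetLike.mem_coe, hR]; exact mem_map_of_mem π ⟨h.sS, h.sN⟩) (fun g hg => by
      rw [← SetLike.mem_coe, hR] at hg
      obtain ⟨n, hn, h3⟩ := hg
      rcases h.rep_mem π h1 n hn.1 with h4 | h4
      · rw [h1 n (mem_sup_left h4), eq_comm, conj_eq_one_iff] at h3
        rw [h3, mul_one, mul_inv_cancel]
      · rw [← h3, h4]) (π ⟨d, h.dN⟩)
  have h4 := h.rep_inv π h1
  have h5 := h.rep_d π h1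
  generalize π ⟨d, h.dN⟩ = a at *
  generalize π ⟨s, h.sN⟩ = b at *
  rw [show a * b * a⁻¹ * b⁻¹ = a ^ 2 * (b * a * b⁻¹ * a)⁻¹ by group, h4, inv_one, mul_one] at h3
  have h6 := pow_mem h3 2
  rwa [← pow_mul, pow_succ, h5, one_mul] at h6

end Tri

theorem Tri.com (h : Ctx S) (h1 : Tri (S : Subgroup G) P d s) (h2 : Tri (S : Subgroup G) P d' s') :
    ⁅d, d'⁆ ∈ Kn P := by
  obtain ⟨π, a1, a2, a3⟩ := exists_rep h.r4 h1.pP
  have b2 : ∀ n : Ns P, n.1 ∈ Kn P → π.rangeRestrict n = 1 := fun n hn => Subtype.ext (a2 n hn)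
  have b3 : ∀ n, π.rangeRestrict n = 1 → ∃ k, n.1 ^ 2 ^ k ∈ Cs P :=
    fun n hn => a3 n (congrArg Subtype.val hn)
  have c := A8.comm3 π.range.subtype (subtype_injective _) (by rintro ⟨_, n, rfl⟩; exact a1 n)
    (coprime_card_pPrimeCore 2 _) (h1.rep_s2 _ b2) (h1.rep_s1 _ b2 b3)
    (h1.rep_odd _ b2 π.rangeRestrict_surjective) (h2.rep_odd _ b2 π.rangeRestrict_surjective)
    (h1.rep_d _ b2) (h2.rep_d _ b2)
  refine ker_le π.rangeRestrict h1.syl (fun n hn h3 => (h1.rep_mem _ b2 n hn).resolve_right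
    fun h4 => h1.rep_s1 _ b2 b3 (h4.symm.trans h3)) b3 ⁅(⟨d, h1.dN⟩ : Ns P), ⟨d', h2.dN⟩⁆ ?_
  rw [map_commutatorElement, commutatorElement_eq_one_iff_mul_comm, c]

end Cfsg.Lib.GHN
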