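import Cfsg.Agent.GHN.B1
import Cfsg.Agent.GHN.Com
import Cfsg.Agent.GHN.VV
import Cfsg.Agent.GHN.CaseA

/-!
# A central involution outside the four-group is impossible
-/

set_option autoImplicit false

namespace Cfsg.Lib.GHN

open Subgroup Cfsg.Lib.Trans Cfsg.Lib.Gold Cfsg.Lib.Rank2
open scoped commutatorElement

universe u

variable {G : Type u} [Group G] [Finite G] {S : Sylow 2 G}
  {T P Q M Z U W A B V F P₁ P₂ : Subgroup G} {d s d' s' z v w c t y e x n ρ r d₁ s₁ d₂ s₂ : G}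

theorem Six.zs (h : Six S) (h1 : VV (S : Subgroup G) P d s z v) (h2 : W ≤ S)
    (h3 : (S : Subgroup G) ≤ Ns W) (h4 : ∀ w ∈ W, w * w = 1)
    (h5 : ∀ w ∈ W, w ∈ Cs (S : Subgroup G) → w = 1 ∨ w = z) (h6 : c ∈ (S : Subgroup G))
    (h7 : c ∈ Cs (S : Subgroup G)) (h8 : c * c = 1) (h9 : c ∉ F4 z v)
    (h10 : Nat.card (W ⊔ zpowers c : Subgroup G) = 16)
    (h11 : ∀ b ∈ W ⊔ zpowers c, (∀ x ∈ (S : Subgroup G), ⁅x, b⁆ ∈ Cs (S : Subgroup G)) → b ∈ Cs P)
    (h12 : W ≤ P) (h13 : ¬ W ≤ Cs P) : False := by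
  have cC : c ∈ Cs P := centralizer_le h1.le h7
  have cP : c ∈ P := h1.cent c h6 cC
  have v4 : ∀ x ∈ F4 z v, x * x = 1 := fun x hx => by
    rcases h1.mem4.1 hx with rfl | rfl | rfl | rfl
    exacts [mul_one _, h1.z2, h1.v2,
      by rw [mul_assoc, ← mul_assoc v, ← h1.zv, mul_assoc, h1.v2, mul_one, h1.z2]]
  obtain ⟨a1, a2, a3⟩ := zs_adj v4 h8 (centralizer_le (h1.le4.trans inf_le_left) cC)
  replace a3 : Nat.card (F8 z v c) = 8 := by rw [a3 h9, h1.card4]
  have a4 : F8 z v c ≤ P ⊓ Cs P := sup_le h1.le4 (zpowers_le.2 ⟨cP, cC⟩)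
  have a5 : ∀ y ∈ P, y ∈ Cs (F8 z v c) := fun y hy a ha => ((a4 ha).2 y hy).symm
  have a6 : ∀ y ∈ P, y * y = 1 → y ∉ F8 z v c → ∀ w ∈ P, w * w = 1 → y * w = w * y →
      w ∈ F8 z v c ∨ y⁻¹ * w ∈ F8 z v c := fun y hy e hn w hw e' hc => by
    obtain ⟨b1, b2, b3⟩ := zs_adj a2 e (a5 y hy)
    exact (b1 w).1 (h.mem_e16 b2 (by rw [b3 hn, a3]) e' (zs_cent (a5 w hw) hc))
  have hZ : ∀ y ∈ P, y ∈ Cs P → y * y = 1 → y ∈ F8 z v c := fun y hy hc e => by_contra fun hn =>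
    h13 fun w hw => (a6 y hy e hn w (h12 hw) (h4 w hw) (hc w (h12 hw)).symm).elim
      (fun h => (a4 h).2) fun h => by simpa using mul_mem hc (a4 h).2
  have hZn : ∀ n ∈ Ns P, ∀ y ∈ F8 z v c, n * y * n⁻¹ ∈ F8 z v c := fun n hn y hy =>
    hZ _ (mem_normalizer_conj hn (a4 hy).1) (by
      rw [← cj_eq_of_mem_normalizer hn, Cs, ← cj_centralizer]; exact conj_mem_cj.2 (a4 hy).2)
      (by rw [conj_mul, a2 y hy]; group)
  have key : ∀ P₃ d₃ s₃ z₃ v₃, VV (S : Subgroup G) P₃ d₃ s₃ z₃ v₃ → P₃ = P :=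
    fun P₃ d₃ s₃ z₃ v₃ k => by
    suffices v₃ ∈ Cs P from (eq_of_le_of_card_ge (fun x hx => (k.memP (h1.le hx)).2 (this x hx))
      (by have := k.card; have := h1.card; omega)).symm
    have k1 := k.le k.vP
    by_cases e : v₃ ∈ Cs W
    · refine h11 _ (h.mem_e16 (zs_adj h4 h8 (centralizer_le h2 h7)).2.1 h10 k.v2
        (zs_cent e (h7 _ k1).symm)) fun x hx => ?_
      rcases k.zs_conj hx with e | e <;> rw [commutatorElement_def, e]
      · simp
      · simpa using k.zc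
    obtain ⟨w, hw, e⟩ : ∃ w ∈ W, w * v₃ ≠ v₃ * w := by
      by_contra hc
      push Not at hc
      exact e hc
    obtain rfl : z₃ = z := by
      refine (h5 _ ?_ k.zc).resolve_left k.z1
      have := mul_mem hw (mem_normalizer_conj (h3 k1) (inv_mem hw))
      rwa [← mul_assoc, ← mul_assoc, k.out (h2 hw) (mt (k.memP (h2 hw)).1 e),
        mul_inv_cancel_right] at this
    have k2 := h.vP k h1.toTri
    by_contra hc
    have k3 := (h.caseA k h1.toTri (by rw [h1.dz]; exact h1.vz)).2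
    obtain ⟨p, hp, e⟩ : ∃ p ∈ P, p * v₃ ≠ v₃ * p := by
      by_contra hc'
      push Not at hc'
      exact hc hc'
    have k4 := mem_normalizer_conj h1.dN hp
    have k5 : d * p * d⁻¹ * (d * v₃ * d⁻¹) * (d * p * d⁻¹)⁻¹ = v * (d * v₃ * d⁻¹) := by
      rw [← h1.dz, @conj_mul _ _ z₃, ← k.out (h1.le hp) (mt (k.memP (h1.le hp)).1 e)]; group
    rcases a6 v₃ k2 k.v2 (fun h => hc (a4 h).2) _ (mem_normalizer_conj h1.dN k2) (h.EE_sq _ k3)
      (zs_comm_of_sq h.EE_sq k.vE k3) with k6 | k6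
    · rw [conj_eq_of_mem_centralizer (a5 _ k4) k6] at k5
      exact h1.v1 (by simpa using k5)
    · have k7 := conj_eq_of_mem_centralizer (a5 _ k4) k6
      rw [← conj_mul, k5, ← conj_inv, inv_mul_eq_iff_eq_mul] at k7
      rcases k.zs_conj (h1.le k4) with k8 | k8 <;> rw [k8] at k7
      · exact h1.v1 (by simpa using k7)
      · exact h1.vz (by simpa [mul_assoc] using k7)
  have cA : c ∈ F8 z v c := mem_sup_right (mem_zpowers c)
  obtain ⟨w, hw, e⟩ := cop_fix ((S.2.to_le h1.le).to_le (a4.trans inf_le_left))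
    (mem_normalizer_of_cj_le (cj_le_iff.2 (hZn d h1.dN)))
    (centralizer_le (a4.trans inf_le_left) h1.d3) le_sup_left
    (((a4.trans inf_le_left).trans h1.le).trans h1.n4) h1.d4 cA
    (((a1 _).1 (mul_mem (hZn d h1.dN c cA) (inv_mem cA))).elim id fun h' => by
      rw [← mul_assoc, zs_comm_of_sq a2 (inv_mem cA) (hZn d h1.dN c cA), mul_assoc, ← mul_inv_rev,
        h8, inv_one, mul_one] at h'
      exact absurd (by simpa [mul_assoc] using mem_normalizer_conj' h1.d4 h') h9)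
  have f1 : c * w ∈ F8 z v c := mul_mem cA (mem_sup_left hw)
  have f2 : c * w ∉ F4 z v := fun h => h9 ((mul_mem_cancel_right hw).1 h)
  have fix : ∀ y ∈ F8 z v c, d * y = y * d → y ≠ 1 → y = c * w := fun y hy h h0 => by
    rcases (a1 y).1 hy with h' | h'
    · exact absurd (h1.fix4 h' h) h0
    · have := h1.fix4 (mul_mem (inv_mem hw) h') (by
        rw [← mul_assoc w⁻¹, ← mul_inv_rev]
        exact ((Commute.inv_right e).mul_right h).eq)
      rw [← mul_assoc, ← mul_inv_rev, inv_mul_eq_one] at this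
      exact this.symm
  have f0 : c * w ≠ 1 := fun e => f2 (e ▸ one_mem _)
  have com : ∀ d' s', Tri (S : Subgroup G) P d' s' → d' * (c * w) * d'⁻¹ = c * w := fun d' s' k => by
    have k1 := hZn d' k.dN _ f1
    have k2 : Kn P ≤ C1 (d' * (c * w) * d'⁻¹) :=
      sup_le (fun x hx => mem_centralizer_singleton_iff.2 ((a4 k1).2 x hx))
        fun x hx => mem_centralizer_singleton_iff.2 (hx _ (a4 k1).1).symm
    have k3 := mem_centralizer_singleton_iff.1 (k2 (h1.toTri.com h.toCtx k))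
    refine fix _ k1 ?_ (by simpa using f0)
    calc _ = ⁅d, d'⁆ * (d' * (d * (c * w)) * d⁻¹ * d'⁻¹) * ⁅d, d'⁆⁻¹ * d := by
          simp only [commutatorElement_def]; group
      _ = _ := by rw [e, mul_assoc d', mul_inv_cancel_right, k3, mul_inv_cancel_right]
  have hN : ∀ n ∈ Ns (S : Subgroup G), n * (c * w) * n⁻¹ = c * w := fun n hn => by
    have k := h1.cj (inv_mem hn)
    have k1 := key _ _ _ _ _ k
    have k2 := com _ _ (k1 ▸ k.toTri)
    refine fix _ (hZn n (by simpa using inv_mem (cj_eq_self_iff.1 k1)) _ f1) ?_ (by simpa using f0)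
    conv_rhs => rw [← k2]
    group
  have hn : ∀ n : G, n * (c * w) * n⁻¹ = c * w → n ∈ Ns (zpowers (c * w)) := fun n e =>
    cj_eq_self_iff.1 (by rw [cj_zpowers, e])
  refine f0 (zpowers_eq_bot.1 (h.sc (zpowers_le.2 (h1.le (a4 f1).1)) (fun n h => hn n (hN n h))
    (fun P' d' s' k a ha hP => ?_) fun a ha b hb => zs_comm_of_sq a2 (zpowers_le.2 f1 ha)
      (zpowers_le.2 f1 hb)))
  by_cases h0 : a = 1
  · simp [h0]
  obtain rfl := fix a (zpowers_le.2 f1 ha) (mem_centralizer_singleton_iff.1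
    ((zpowers_le (H := C1 d)).2 (mem_centralizer_singleton_iff.2 e.symm) ha)).symm h0
  by_cases e' : d' * (c * w) = c * w * d'
  · rwa [e', mul_inv_cancel_right]
  obtain ⟨z', v', k', -⟩ := h.exists_vv h.nrm k hP (fun x hx => mul_inv_eq_iff_eq_mul.1
    (hN x (le_normalizer (k.le hx)))) (a2 _ f1) e'
  rwa [com d' s' (key _ _ _ _ _ k' ▸ k)]

end Cfsg.Lib.GHN
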