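import Cfsg.Agent.GHN.Api
import Cfsg.Agent.GHN.VV
import Cfsg.Agent.GHN.Zs
import Cfsg.Agent.GHN.B1

/-!
# Simple groups of sectional 2-rank at most four: the normal `E₈`
-/

set_option autoImplicit false

namespace Cfsg.Lib.GHN

open Subgroup Cfsg.Lib.Trans Cfsg.Lib.Gold Cfsg.Lib.Rank2
open scoped commutatorElement

universe u

variable {G : Type u} [Group G]

namespace B2

/-- `v` or `1`. -/
def bb (v : G) (a : Bool) : G := cond a v 1

/-- A product of some of four elements. -/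
def ee (z u v w : G) (a i j k : Bool) : G := bb z a * bb u i * bb v j * bb w k

theorem bb_eq_1' : type_of% @bb.eq_1 := @bb.eq_1
theorem ee_eq_1' : type_of% @ee.eq_1 := @ee.eq_1

variable {z u v w x y d : G} {a i j k a' i' j' k' a0 a1 a2 b0 b1 b2 : Bool}

theorem bb_mul (h : v * v = 1) : bb v a * bb v i = bb v (a ^^ i) := by
  cases a <;> cases i <;> simp [bb, h]

theorem bb_comm (h : Commute u v) : Commute (bb u a) (bb v i) := by
  cases a <;> cases i <;> simp [bb, h]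

theorem bb_conj : x * bb v a * x⁻¹ = bb (x * v * x⁻¹) a := by cases a <;> simp [bb]

theorem bb_ee : bb (ee z u v w a i j k) a' = ee z u v w (a && a') (i && a') (j && a') (k && a') := by
  cases a' <;> simp [bb, ee]

theorem bb_mem {A : Subgroup G} (h : v ∈ A) : bb v a ∈ A := by cases a <;> simp [bb, h]

theorem ee_mem {A : Subgroup G} (h1 : z ∈ A) (h2 : u ∈ A) (h3 : v ∈ A) (h4 : w ∈ A) :
    ee z u v w a i j k ∈ A :=
  mul_mem (mul_mem (mul_mem (bb_mem h1) (bb_mem h2)) (bb_mem h3)) (bb_mem h4)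

theorem exists_bb (h : x = v ∨ x = z * v) : ∃ a, x = bb z a * v := by
  rcases h with h | h
  exacts [⟨false, by simp [bb, h]⟩, ⟨true, h⟩]

/-- Four commuting involutions. -/
structure Fr (z u v w : G) : Prop where
  z2 : z * z = 1
  u2 : u * u = 1
  v2 : v * v = 1
  w2 : w * w = 1
  zu : Commute z u
  zv : Commute z v
  zw : Commute z w
  uv : Commute u v
  uw : Commute u w
  vw : Commute v w

/-- Action trivial modulo `z`. -/
def A1 (z u v w x : G) (a0 a1 a2 : Bool) : Prop := ∀ a i j k,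
  x * ee z u v w a i j k * x⁻¹ = ee z u v w (a ^^ (a0 && i) ^^ (a1 && j) ^^ (a2 && k)) i j k

/-- Action interchanging `v` and `w` modulo `z`. -/
def A2 (z u v w x : G) (a0 a1 a2 : Bool) : Prop := ∀ a i j k,
  x * ee z u v w a i j k * x⁻¹ = ee z u v w (a ^^ (a0 && i) ^^ (a1 && j) ^^ (a2 && k)) i k j

/-- Cyclic action. -/
def A3 (z u v w d : G) : Prop := ∀ a i j k, d * ee z u v w a i j k * d⁻¹ = ee z u v w a k i j

theorem A1.mul (h : A1 z u v w x a0 a1 a2) (h' : A1 z u v w y b0 b1 b2) :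
    A1 z u v w (x * y) (a0 ^^ b0) (a1 ^^ b1) (a2 ^^ b2) := fun a i j k => by
  rw [show x * y * ee z u v w a i j k * (x * y)⁻¹ = x * (y * ee z u v w a i j k * y⁻¹) * x⁻¹ by
    group, h', h]
  congr 1
  clear h h'
  revert a i j k a0 a1 a2 b0 b1 b2
  decide

theorem A1.shift (h : A1 z u v w x a0 a1 a2) (hd : A3 z u v w d) :
    A1 z u v w (d * x * d⁻¹) a2 a0 a1 := fun a i j k => by
  rw [← hd a j k i, show d * x * d⁻¹ * (d * ee z u v w a j k i * d⁻¹) * (d * x * d⁻¹)⁻¹ =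
    d * (x * ee z u v w a j k i * x⁻¹) * d⁻¹ by group, h, hd]
  congr 1
  clear h
  revert a i j k a0 a1 a2
  decide

namespace Fr

variable (h : Fr z u v w)
include h

theorem mul : ee z u v w a i j k * ee z u v w a' i' j' k' =
    ee z u v w (a ^^ a') (i ^^ i') (j ^^ j') (k ^^ k') := by
  rw [ee, ee, ee, ← bb_mul h.z2, ← bb_mul h.u2, ← bb_mul h.v2, ← bb_mul h.w2,
    (((bb_comm h.zw).mul_left (bb_comm h.uw)).mul_left (bb_comm h.vw)).symm.mul_mul_mul_comm,
    ((bb_comm h.zv).mul_left (bb_comm h.uv)).symm.mul_mul_mul_comm,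
    (bb_comm h.zu).symm.mul_mul_mul_comm]

omit h in
theorem zero : ee z u v w false false false false = 1 := by simp [ee, bb]

theorem sq : ee z u v w a i j k * ee z u v w a i j k = 1 := by simp [h.mul, zero]

theorem inv : (ee z u v w a i j k)⁻¹ = ee z u v w a i j k := inv_eq_of_mul_eq_one_right h.sq

theorem comm : ee z u v w a i j k * ee z u v w a' i' j' k' =
    ee z u v w a' i' j' k' * ee z u v w a i j k := by
  rw [h.mul, h.mul, Bool.xor_comm a, Bool.xor_comm i, Bool.xor_comm j, Bool.xor_comm k]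

theorem conj {i0 j0 k0 i1 j1 k1 i2 j2 k2 : Bool} (hz : x * z * x⁻¹ = z)
    (h0 : x * u * x⁻¹ = ee z u v w a0 i0 j0 k0) (h1 : x * v * x⁻¹ = ee z u v w a1 i1 j1 k1)
    (h2 : x * w * x⁻¹ = ee z u v w a2 i2 j2 k2) : x * ee z u v w a i j k * x⁻¹ =
      ee z u v w (a ^^ (a0 && i) ^^ (a1 && j) ^^ (a2 && k)) ((i0 && i) ^^ (i1 && j) ^^ (i2 && k))
        ((j0 && i) ^^ (j1 && j) ^^ (j2 && k)) ((k0 && i) ^^ (k1 && j) ^^ (k2 && k)) := by
  rw [ee, ← conj_mul, ← conj_mul, ← conj_mul, bb_conj, bb_conj, bb_conj, bb_conj, hz, h0, h1, h2,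
    bb_ee, bb_ee, bb_ee, show bb z a = ee z u v w a false false false by simp [ee, bb], h.mul,
    h.mul, h.mul]
  simp only [Bool.false_xor]

theorem mk1 (hz : x * z * x⁻¹ = z) (h0 : x * u * x⁻¹ = bb z a0 * u) (h1 : x * v * x⁻¹ = bb z a1 * v)
    (h2 : x * w * x⁻¹ = bb z a2 * w) : A1 z u v w x a0 a1 a2 := fun a i j k => by
  rw [h.conj (a0 := a0) (i0 := true) (j0 := false) (k0 := false) (a1 := a1) (i1 := false)
    (j1 := true) (k1 := false) (a2 := a2) (i2 := false) (j2 := false) (k2 := true) hz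
    (by simp [h0, ee, bb]) (by simp [h1, ee, bb]) (by simp [h2, ee, bb])]
  simp

theorem mk2 (hz : x * z * x⁻¹ = z) (h0 : x * u * x⁻¹ = bb z a0 * u) (h1 : x * v * x⁻¹ = bb z a1 * w)
    (h2 : x * w * x⁻¹ = bb z a2 * v) : A2 z u v w x a0 a1 a2 := fun a i j k => by
  rw [h.conj (a0 := a0) (i0 := true) (j0 := false) (k0 := false) (a1 := a1) (i1 := false)
    (j1 := false) (k1 := true) (a2 := a2) (i2 := false) (j2 := true) (k2 := false) hz
    (by simp [h0, ee, bb]) (by simp [h1, ee, bb]) (by simp [h2, ee, bb])]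
  simp

theorem mk3 (hz : d * z * d⁻¹ = z) (h0 : d * u * d⁻¹ = v) (h1 : d * v * d⁻¹ = w)
    (h2 : d * w * d⁻¹ = u) : A3 z u v w d := fun a i j k => by
  rw [h.conj (a0 := false) (i0 := false) (j0 := true) (k0 := false) (a1 := false) (i1 := false)
    (j1 := false) (k1 := true) (a2 := false) (i2 := true) (j2 := false) (k2 := false) hz
    (by simp [h0, ee, bb]) (by simp [h1, ee, bb]) (by simp [h2, ee, bb])]
  simp

theorem inj (hd : A3 z u v w d) (nz : z ≠ 1) (n1 : ∀ a i, ee z u v w a i true false ≠ 1)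
    (nc : ∀ a, ee z u v w a true true true ≠ 1)
    (e : ee z u v w a i j k = ee z u v w a' i' j' k') : a = a' ∧ i = i' ∧ j = j' ∧ k = k' := by
  have sh : ∀ {a i j k}, ee z u v w a i j k = 1 → ee z u v w a k i j = 1 := fun e => by
    rw [← hd, e, mul_one, mul_inv_cancel]
  have key : ∀ a i j k, ee z u v w a i j k = 1 → a = false ∧ i = false ∧ j = false ∧ k = false := by
    rintro a (_ | _) (_ | _) (_ | _) e
    · cases a
      exacts [⟨rfl, rfl, rfl, rfl⟩, absurd (by simpa [ee, bb] using e) nz]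
    exacts [absurd (sh (sh e)) (n1 _ _), absurd e (n1 _ _), absurd (sh (sh e)) (n1 _ _),
      absurd (sh e) (n1 _ _), absurd (sh e) (n1 _ _), absurd e (n1 _ _), absurd e (nc _)]
  have := key _ _ _ _ (h.mul.symm.trans (by rw [e, h.sq]) : ee z u v w (a ^^ a') (i ^^ i') (j ^^ j')
    (k ^^ k') = 1)
  have k2 : ∀ a b : Bool, (a ^^ b) = false → a = b := by decide
  exact ⟨k2 _ _ this.1, k2 _ _ this.2.1, k2 _ _ this.2.2.1, k2 _ _ this.2.2.2⟩

/-- The group generated by the four involutions. -/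
def WW : Subgroup G where
  carrier := Set.range fun t : Bool × Bool × Bool × Bool => ee z u v w t.1 t.2.1 t.2.2.1 t.2.2.2
  one_mem' := ⟨(false, false, false, false), zero⟩
  mul_mem' := by
    rintro _ _ ⟨s, rfl⟩ ⟨t, rfl⟩
    exact ⟨(_, _, _, _), h.mul.symm⟩
  inv_mem' := by
    rintro _ ⟨s, rfl⟩
    exact ⟨s, h.inv.symm⟩

/-- The even part. -/
def W1 : Subgroup G where
  carrier := {g | ∃ a i j, g = ee z u v w a i j (i ^^ j)}
  one_mem' := ⟨false, false, false, zero.symm⟩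
  mul_mem' := by
    rintro _ _ ⟨a, i, j, rfl⟩ ⟨a', i', j', rfl⟩
    refine ⟨a ^^ a', i ^^ i', j ^^ j', h.mul.trans ?_⟩
    congr 1
    revert i j i' j'
    decide
  inv_mem' := by
    rintro _ ⟨a, i, j, rfl⟩
    exact ⟨a, i, j, h.inv⟩

theorem mem_WW : x ∈ h.WW ↔ ∃ a i j k, x = ee z u v w a i j k :=
  ⟨fun ⟨_, e⟩ => ⟨_, _, _, _, e.symm⟩, fun ⟨a, i, j, k, e⟩ => ⟨(a, i, j, k), e.symm⟩⟩

theorem mem_W1 : x ∈ h.W1 ↔ ∃ a i j, x = ee z u v w a i j (i ^^ j) := Iff.rfl

theorem sup_eq : h.W1 ⊔ zpowers (ee z u v w false true true true) = h.WW := by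
  refine le_antisymm (sup_le (fun x ⟨a, i, j, e⟩ => h.mem_WW.2 ⟨_, _, _, _, e⟩)
    (zpowers_le.2 (h.mem_WW.2 ⟨_, _, _, _, rfl⟩))) fun x hx => ?_
  obtain ⟨a, i, j, k, rfl⟩ := h.mem_WW.1 hx
  by_cases e : k = (i ^^ j)
  · exact mem_sup_left ⟨a, i, j, e ▸ rfl⟩
  · have : ee z u v w a i j k =
        ee z u v w a (!i) (!j) (!i ^^ !j) * ee z u v w false true true true := by
      rw [h.mul]
      clear hx
      congr 1 <;> revert a i j k <;> decide
    exact this ▸ mul_mem_sup ⟨_, _, _, rfl⟩ (mem_zpowers _)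

end Fr

variable [Finite G] {S : Sylow 2 G} {P₁ P₂ : Subgroup G} {d₁ s₁ s₂ : G}

/-- The configuration with names for the conjugates. -/
structure Cf (S : Sylow 2 G) (P₁ P₂ : Subgroup G) (d₁ s₁ d s₂ z u v w : G) : Prop where
  six : Six S
  mv : Mv (S : Subgroup G) P₁ P₂ d₁ s₁ d s₂ z u
  du : d * u * d⁻¹ = v
  dv : d * v * d⁻¹ = w

namespace Cf

variable (h : Cf S P₁ P₂ d₁ s₁ d s₂ z u v w)
include h

omit [Finite G] in
theorem vP : v ∈ P₂ := h.du ▸ mem_normalizer_conj h.mv.tri.dN h.mv.vP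

omit [Finite G] in
theorem wP : w ∈ P₂ := h.dv ▸ mem_normalizer_conj h.mv.tri.dN h.vP

omit [Finite G] in
theorem dw : d * w * d⁻¹ = u := by rw [← h.dv, ← h.du]; exact h.mv.tri.ddd h.mv.vP

omit [Finite G] in
theorem zP : z ∈ P₂ :=
  h.mv.tri.cent z h.mv.vv.zS (mem_Cs.2 fun p hp => mem_Cs.1 h.mv.vv.zc p (h.mv.tri.le hp))

theorem fr : Fr z u v w := by
  have cj : ∀ {a b : G}, Commute a b → Commute (d * a * d⁻¹) (d * b * d⁻¹) := fun e => by
    rw [commute_iff_eq, conj_mul, conj_mul, e.eq]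
  have sq : ∀ {a : G}, a * a = 1 → d * a * d⁻¹ * (d * a * d⁻¹) = 1 := fun e => by
    rw [conj_mul, e, mul_one, mul_inv_cancel]
  have c1 : Commute u v := h.du ▸ Mv.comm h.six h.mv
  have c2 : Commute v w := by have := cj c1; rwa [h.dv, h.du] at this
  have c3 : Commute w u := by have := cj c2; rwa [h.dw, h.dv] at this
  have s1 : v * v = 1 := h.du ▸ sq h.mv.vv.v2
  have zc : ∀ x ∈ P₂, Commute z x := fun x hx => (mem_Cs.1 h.mv.vv.zc x (h.mv.tri.le hx)).symm
  exact ⟨h.mv.vv.z2, h.mv.vv.v2, s1, h.dv ▸ sq s1, zc u h.mv.vP, zc v h.vP, zc w h.wP, c1, c3.symm,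
    c2⟩

theorem a3 : A3 z u v w d := h.fr.mk3 h.mv.dz h.du h.dv h.dw

omit [Finite G] in
theorem cz (hx : x ∈ (S : Subgroup G)) : x * z * x⁻¹ = z := by
  rw [mem_Cs.1 h.mv.vv.zc x hx, mul_inv_cancel_right]

theorem cu (hx : x ∈ (S : Subgroup G)) : ∃ a, x * u * x⁻¹ = bb z a * u := by
  refine exists_bb ?_
  by_cases e : x ∈ P₁
  · exact Or.inl (by rw [(h.mv.vv.memP hx).1 e, mul_inv_cancel_right])
  · exact Or.inr (h.mv.vv.out hx e)

omit [Finite G] in
theorem step (hy : ∀ p ∈ P₂, ∃ a, p * y * p⁻¹ = bb z a * y) :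
    ∀ p ∈ P₂, ∃ a, p * (d * y * d⁻¹) * p⁻¹ = bb z a * (d * y * d⁻¹) := fun p hp => by
  obtain ⟨a, e⟩ := hy _ (mem_normalizer_conj' h.mv.tri.dN hp)
  refine ⟨a, ?_⟩
  rw [← h.mv.dz, ← bb_conj, conj_mul, ← e]
  group

theorem act1 (hx : x ∈ P₂) : ∃ a0 a1 a2, A1 z u v w x a0 a1 a2 := by
  have h0 := fun p hp => h.cu (x := p) (h.mv.tri.le hp)
  have h1 := h.step h0
  rw [h.du] at h1
  have h2 := h.step h1
  rw [h.dv] at h2
  obtain ⟨a0, e0⟩ := h0 x hx
  obtain ⟨a1, e1⟩ := h1 x hx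
  obtain ⟨a2, e2⟩ := h2 x hx
  exact ⟨a0, a1, a2, h.fr.mk1 (h.cz (h.mv.tri.le hx)) e0 e1 e2⟩

theorem act2 (hx : x ∈ (S : Subgroup G)) (hn : x ∉ P₂) : ∃ a0 a1 a2, A2 z u v w x a0 a1 a2 := by
  have t := h.mv.tri
  obtain ⟨a, e0⟩ := h.cu t.sS
  have dz : ∀ y, d⁻¹ * (bb z a * (d * y * d⁻¹)) * d = bb z a * y := fun y => by
    conv_lhs => rw [← h.mv.dz, ← bb_conj]
    group
  have e1 : s₂ * v * s₂⁻¹ = bb z a * w := by rw [← h.du, t.sd h.mv.vP, e0, ← dz w, h.dw]
  have e2 : s₂ * w * s₂⁻¹ = bb z a * v := by rw [← h.dv, t.sd h.vP, e1, ← dz v, h.dv]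
  have hs := h.fr.mk2 (h.cz t.sS) e0 e1 e2
  have hq : x * s₂⁻¹ ∈ P₂ := by
    have := mul_mem ((t.idx x hx (h.six.nrm _ _ _ t hx)).resolve_left hn) (inv_mem t.s2)
    rwa [mul_inv_rev, ← mul_assoc, mul_inv_cancel_right] at this
  obtain ⟨b0, b1, b2, hb⟩ := h.act1 hq
  refine ⟨a ^^ b0, a ^^ b2, a ^^ b1, fun a' i j k => ?_⟩
  rw [show x * ee z u v w a' i j k * x⁻¹ =
    x * s₂⁻¹ * (s₂ * ee z u v w a' i j k * s₂⁻¹) * (x * s₂⁻¹)⁻¹ by group, hs, hb]
  congr 1
  clear hs hb e0 e1 e2 dz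
  revert a a' i j k b0 b1 b2
  decide

theorem act (hx : x ∈ (S : Subgroup G)) (a i j k : Bool) : ∃ a',
    x * ee z u v w a i j k * x⁻¹ = ee z u v w a' i j k ∨
      x * ee z u v w a i j k * x⁻¹ = ee z u v w a' i k j := by
  by_cases e : x ∈ P₂
  · obtain ⟨_, _, _, e⟩ := h.act1 e
    exact ⟨_, Or.inl (e _ _ _ _)⟩
  · obtain ⟨_, _, _, e⟩ := h.act2 hx e
    exact ⟨_, Or.inr (e _ _ _ _)⟩

theorem VE : F4 z u ≤ EE (S : Subgroup G) :=
  sup_le (zpowers_le.2 h.mv.vv.zE) (zpowers_le.2 h.mv.vv.vE)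

theorem vV : v ∉ F4 z u := fun e => h.mv.out (h.du ▸ h.VE e)

theorem n1 (a i : Bool) : ee z u v w a i true false ≠ 1 := fun e => h.vV (by
  have h1 : bb z a * bb u i * v = 1 := by simpa [ee, bb] using e
  rw [eq_inv_of_mul_eq_one_right h1]
  exact inv_mem (mul_mem (bb_mem (mem_sup_left (mem_zpowers _)))
    (bb_mem (mem_sup_right (mem_zpowers _)))))

theorem eP : ee z u v w a i j k ∈ P₂ := ee_mem h.zP h.mv.vP h.vP h.wP

theorem moves : ee z u v w false true true false ∉ Cs P₂ := fun hc => by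
  have t := h.mv.tri
  obtain ⟨z', v', h1, h2⟩ := h.six.toCx.exists_vv h.six.nrm t h.eP hc h.fr.sq fun e => by
    have h3 := h.a3 false true true false
    rw [e, mul_inv_cancel_right] at h3
    have h4 := h.a3 false true false true
    rw [show ee z u v w false true false true = 1 by
      rw [← h.fr.sq (a := false) (i := true) (j := true) (k := false)]
      nth_rw 2 [h3]
      rw [h.fr.mul]; rfl, mul_one, mul_inv_cancel] at h4
    exact h.n1 _ _ h4.symm
  have hc' : ee z u v w false false true true ∈ Cs P₂ := by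
    rw [← h.a3]
    exact mem_Cs.2 fun p hp => by
      have := mem_Cs.1 hc _ (mem_normalizer_conj' t.dN hp)
      calc _ = d * (d⁻¹ * p * d * ee z u v w false true true false) * d⁻¹ := by group
        _ = _ := by rw [this]; group
  have h3 := h2 _ h.eP hc' h.fr.sq
  rw [h.a3, h.fr.mul] at h3
  have h4 := mul_mem h.mv.vv.vE (sup_le (zpowers_le.2 h1.zE) (zpowers_le.2 h1.vE) h3)
  refine h.mv.out ?_
  rw [h.du]
  simpa [ee, bb, ← mul_assoc, h.fr.u2] using h4

theorem psi : ∃ p ∈ P₂, A1 z u v w p false true true := by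
  obtain ⟨p, hp, hn⟩ : ∃ p ∈ P₂, ¬ p * ee z u v w false true true false =
      ee z u v w false true true false * p := by
    by_contra e
    push Not at e
    exact h.moves (mem_Cs.2 e)
  obtain ⟨a0, a1, a2, e⟩ := h.act1 hp
  have hd := fun {x : G} (hx : x ∈ P₂) => mem_normalizer_conj h.mv.tri.dN hx
  have h1 := e.mul (e.shift h.a3)
  have h2 := mul_mem hp (hd hp)
  have h3 : a0 ≠ a1 := fun e' => hn (by
    have := e false true true false
    rw [mul_inv_eq_iff_eq_mul] at this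
    simpa [e'] using this)
  cases a0 <;> cases a1 <;> cases a2 <;> first
    | exact absurd rfl h3
    | exact ⟨_, h2, h1⟩
    | exact ⟨_, hd h2, h1.shift h.a3⟩

theorem eP1 : ee z u v w a i j k ∈ P₁ := by
  refine (h.mv.vv.memP (h.mv.tri.le h.eP)).2 ?_
  have := h.fr.comm (a := a) (i := i) (j := j) (k := k) (a' := false) (i' := true) (j' := false)
    (k' := false)
  simpa [show ee z u v w false true false false = u by simp [ee, bb]] using this

theorem psi' : ∃ p ∈ P₂, p ∉ P₁ ∧ A1 z u v w p true false true := by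
  obtain ⟨p, hp, e⟩ := h.psi
  refine ⟨_, mem_normalizer_conj h.mv.tri.dN hp, fun hn => h.mv.vv.z1 ?_, e.shift h.a3⟩
  have h1 := e.shift h.a3 false true false false
  have h2 := (h.mv.vv.memP (h.mv.vv.le hn)).1 hn
  simp only [ee, bb, Bool.and_true, Bool.and_false, Bool.xor_false, Bool.false_xor, cond_true,
    cond_false, one_mul, mul_one] at h1
  rw [h2, mul_inv_cancel_right] at h1
  exact (mul_eq_right.1 h1.symm)

theorem exists_x : ∃ x ∈ P₁, x ∉ P₂ := by
  obtain ⟨p, hp, hn, -⟩ := h.psi'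
  by_cases e : s₂ ∈ P₁
  · exact ⟨_, e, h.mv.tri.sP⟩
  · exact ⟨_, h.mv.vv.idx2 p (h.mv.tri.le hp) s₂ h.mv.tri.sS hn e,
      fun e' => h.mv.tri.sP ((mul_mem_cancel_left hp).1 e')⟩

variable (nc : ∀ a, ee z u v w a true true true ≠ 1)
include nc

theorem inj (e : ee z u v w a i j k = ee z u v w a' i' j' k') :
    a = a' ∧ i = i' ∧ j = j' ∧ k = k' := h.fr.inj h.a3 h.mv.vv.z1 h.n1 nc e

theorem card : Nat.card h.fr.WW = 16 := by
  refine (Nat.card_range_of_injective (f := fun t : Bool × Bool × Bool × Bool =>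
    ee z u v w t.1 t.2.1 t.2.2.1 t.2.2.2) fun s t e => ?_).trans (by simp)
  obtain ⟨h1, h2, h3, h4⟩ := h.inj nc e
  exact Prod.ext h1 (Prod.ext h2 (Prod.ext h3 h4))

theorem cP : ee z u v w false true true true ∈ Cs P₁ := by
  have t := h.mv.vv
  have key : ∀ p ∈ P₁, ∃ a, p * (d₁ * ee z u v w false true true true * d₁⁻¹) * p⁻¹ =
      ee z u v w false a false false * (d₁ * ee z u v w false true true true * d₁⁻¹) ∧
      d₁⁻¹ * p * d₁ * ee z u v w false true true true * (d₁⁻¹ * p * d₁)⁻¹ =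
        ee z u v w a true true true := fun p hp => by
    obtain ⟨a, e⟩ := h.act (t.le (mem_normalizer_conj' t.dN hp)) false true true true
    rw [or_self] at e
    refine ⟨a, ?_, e⟩
    rw [show ee z u v w false a false false = d₁ * bb z a * d₁⁻¹ by
      rw [bb_conj, t.dz]; simp [ee, bb], conj_mul,
      show bb z a * ee z u v w false true true true = ee z u v w a true true true by
        simp [ee, bb, mul_assoc], ← e]
    group
  have hc : d₁ * ee z u v w false true true true * d₁⁻¹ ∈ P₁ := mem_normalizer_conj t.dN h.eP1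
  have h2 : d₁ * ee z u v w false true true true * d₁⁻¹ *
      (d₁ * ee z u v w false true true true * d₁⁻¹) = 1 := by
    rw [conj_mul, h.fr.sq, mul_one, mul_inv_cancel]
  generalize d₁ * ee z u v w false true true true * d₁⁻¹ = c at key hc h2
  have k2 : ∀ a i j k, ∃ b, c * ee z u v w a i j k * c⁻¹ = ee z u v w a (b ^^ i) j k :=
    fun a i j k => by
      obtain ⟨b, e, -⟩ := key _ (h.eP1 (a := a) (i := i) (j := j) (k := k))
      refine ⟨b, ?_⟩
      rw [mul_inv_eq_iff_eq_mul, mul_assoc, ← inv_mul_eq_iff_eq_mul, h.fr.inv, ← mul_assoc,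
        h.fr.mul] at e
      rw [← e, mul_inv_cancel_right]
      simp
  have h3 : c ∈ P₂ := by
    by_contra e
    obtain ⟨_, _, _, e⟩ := h.act2 (t.le hc) e
    obtain ⟨b, e'⟩ := k2 false false true false
    simpa using (h.inj nc ((e _ _ _ _).symm.trans e')).2.2.1
  obtain ⟨a, i, j, k, rfl⟩ := h.fr.mem_WW.1 (h.six.toCtx.mem_e16 (B := h.fr.WW)
    (fun b hb => by obtain ⟨_, _, _, _, rfl⟩ := h.fr.mem_WW.1 hb; exact h.fr.sq) (h.card nc) h2
    (mem_Cs.2 fun b hb => by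
      obtain ⟨a, i, j, k, rfl⟩ := h.fr.mem_WW.1 hb
      obtain ⟨_, _, _, e⟩ := h.act1 h3
      obtain ⟨b, e'⟩ := k2 a i j k
      rw [← (h.inj nc ((e _ _ _ _).symm.trans e')).2.1, mul_inv_eq_iff_eq_mul] at e'
      exact e'.symm))
  refine mem_Cs.2 fun p hp => ?_
  obtain ⟨b, e1, e2⟩ := key _ (mem_normalizer_conj t.dN hp)
  obtain ⟨a', e3⟩ := h.act (t.le (mem_normalizer_conj t.dN hp)) a i j k
  rw [e1, h.fr.mul] at e3
  obtain rfl : b = false := by
    rcases e3 with e3 | e3 <;> have := (h.inj nc e3).2.1 <;> clear * - this <;> revert b i <;> decide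
  rw [show d₁⁻¹ * (d₁ * p * d₁⁻¹) * d₁ = p by group, mul_inv_eq_iff_eq_mul] at e2
  exact e2

theorem contra : False := by
  have t := h.mv.vv
  obtain ⟨p, hp, e1⟩ := h.psi
  obtain ⟨q, hq, hq', e2⟩ := h.psi'
  obtain ⟨x, hx, hx'⟩ := h.exists_x
  obtain ⟨b0, b1, b2, e3⟩ := h.act2 (t.le hx) hx'
  have h5 : ∀ y ∈ h.fr.W1, y ∈ Cs (S : Subgroup G) → y = 1 ∨ y = z := by
    rintro _ ⟨a, i, j, rfl⟩ hc
    have h1 := e1 a i j (i ^^ j)
    have h2 := e2 a i j (i ^^ j)
    rw [mem_Cs.1 hc p (h.mv.tri.le hp), mul_inv_cancel_right] at h1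
    rw [mem_Cs.1 hc q (h.mv.tri.le hq), mul_inv_cancel_right] at h2
    have h3 := (h.inj nc h1).1
    have h4 := (h.inj nc h2).1
    clear h1 h2 hc
    cases a <;> cases i <;> cases j <;> simp [ee, bb] at h3 h4 ⊢
  have hz : ∀ a, ee z u v w a false false false = bb z a := fun a => by simp [ee, bb]
  have hu : ∀ a i, ee z u v w a i false false ∈ Cs P₁ := fun a i => by
    simpa [ee, bb] using mul_mem (bb_mem (a := a) (t.le4 (mem_sup_left (mem_zpowers z))).2)
      (bb_mem (a := i) t.vc)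
  refine h.six.zs t (W := h.fr.W1) (c := ee z u v w false true true true) ?_ ?_ ?_ h5
    (h.mv.tri.le h.eP) (mem_Cs.2 fun y hy => ?_) h.fr.sq (fun e => ?_)
    (by rw [h.fr.sup_eq, h.card nc]) ?_ ?_ fun e => ?_
  · rintro _ ⟨a, i, j, rfl⟩
    exact h.mv.tri.le h.eP
  · refine fun y hy => mem_normalizer_of_cj_le (cj_le_iff.2 ?_)
    rintro _ ⟨a, i, j, rfl⟩
    obtain ⟨a', e | e⟩ := h.act hy a i j (i ^^ j)
    · exact ⟨_, _, _, e⟩
    · exact ⟨a', i, i ^^ j, by simpa using e⟩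
  · rintro _ ⟨a, i, j, rfl⟩
    exact h.fr.sq
  · have h1 := mem_Cs.1 (h.cP nc)
    by_cases e : y ∈ P₁
    · exact h1 y e
    · have h2 := h1 _ (t.idx2 y hy q (h.mv.tri.le hq) e hq')
      have h3 := e2 false true true true
      rw [mul_inv_eq_iff_eq_mul] at h3
      rwa [mul_assoc, h3, ← mul_assoc, ← mul_assoc, mul_left_inj] at h2
  · have key : ∀ a i, ee z u v w false true true true ≠ ee z u v w a i false false :=
      fun a i e => by simpa using h.inj nc e
    rcases t.mem4.1 e with e | e | e | e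
    exacts [nc _ e, key true false (by simpa [ee, bb] using e),
      key false true (by simpa [ee, bb] using e), key true true (by simpa [ee, bb] using e)]
  · rw [h.fr.sup_eq]
    intro b hb hc
    obtain ⟨a, i, j, k, rfl⟩ := h.fr.mem_WW.1 hb
    have h1 := hc x (t.le hx)
    rw [commutatorElement_def, e3, h.fr.inv, h.fr.mul] at h1
    obtain rfl : j = k := by
      have h2 := h5 _ ⟨_, _, _, by congr 1; cases i <;> cases j <;> cases k <;> rfl⟩ h1
      have k2 : ∀ a b : Bool, (a ^^ b) = false → a = b := by decide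
      rcases h2 with h2 | h2
      exacts [k2 _ _ (h.inj nc (h2.trans Fr.zero.symm)).2.2.2,
        k2 _ _ (h.inj nc (h2.trans (hz true).symm)).2.2.2]
    cases j
    · exact hu a i
    · have := mul_mem (hu a (!i)) (h.cP nc)
      rw [h.fr.mul] at this
      simpa using this
  · rintro _ ⟨a, i, j, rfl⟩
    exact h.eP1
  · have h1 := e3 false true true false
    rw [mem_Cs.1 (e (x := ee z u v w false true true false) ⟨false, true, true, rfl⟩)
      x hx, mul_inv_cancel_right] at h1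
    simpa using (h.inj nc h1).2.2.1

end Cf

end B2

variable [Finite G] {S : Sylow 2 G} {P₁ P₂ : Subgroup G} {d₁ s₁ d₂ s₂ z v : G}

theorem Mv.w8 (h : Six S) (h1 : Mv (S : Subgroup G) P₁ P₂ d₁ s₁ d₂ s₂ z v) :
    W8 (S : Subgroup G) P₁ P₂ d₁ s₁ d₂ s₂ z v (d₂ * v * d₂⁻¹) := by
  have c : B2.Cf S P₁ P₂ d₁ s₁ d₂ s₂ z v _ _ := ⟨h, h1, rfl, rfl⟩
  refine ⟨h1.vv, h1.tri, h.nrm _ _ _ h1.tri, h1.vP, h1.dz, rfl, ?_, c.fr.uv, c.vV, ?_⟩
  · obtain ⟨a, e⟩ : ∃ a, B2.ee z v _ _ a true true true = 1 := by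
      by_contra e
      push Not at e
      exact c.contra e
    have h2 := c.fr.mul (a := a) (i := true) (j := true) (k := true) (a' := a) (i' := true)
      (j' := true) (k' := false)
    rw [e, one_mul] at h2
    cases a
    · exact Or.inl (by simpa [B2.ee, B2.bb] using h2.symm)
    · exact Or.inr (by simpa [B2.ee, B2.bb, mul_assoc] using h2.symm)
  · obtain ⟨p, hp, e⟩ := c.psi
    refine ⟨p, hp, ?_, ?_⟩
    · have := e false true false false
      rw [mul_inv_eq_iff_eq_mul] at this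
      simpa [B2.ee, B2.bb] using this
    · simpa [B2.ee, B2.bb] using e false false true false

end Cfsg.Lib.GHN
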