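import Cfsg.Agent.GHN.D16

/-!
# A subgroup `A` with `A / V` a four-group permuted by an automorphism of order three
-/

set_option autoImplicit false

namespace Cfsg.Lib.GHN.C0

open Subgroup Cfsg.Lib.Trans Cfsg.Lib.Gold Cfsg.Lib.GHB
open scoped commutatorElement

variable {G : Type*} [Group G] {P V A H L : Subgroup G} {d a f g y : G}

theorem conj_adj (h1 : ∀ x ∈ H, g * x * g⁻¹ ∈ L) (h2 : g * y * g⁻¹ ∈ L) :
    ∀ x ∈ H ⊔ zpowers y, g * x * g⁻¹ ∈ L := fun _ hx =>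
  (sup_le h1 (zpowers_le.2 h2) : H ⊔ zpowers y ≤ L.comap (MulAut.conj g).toMonoidHom) hx

theorem comm_of_sq (h : ∀ x ∈ H, x * x = 1) {x : G} (hx : x ∈ H) (hy : y ∈ H) : x * y = y * x := by
  have h1 := h _ (mul_mem hx hy)
  calc x * y = x * (x * y * (x * y)) * y := by rw [h1, mul_one]
    _ = (x * x) * (y * x) * (y * y) := by group
    _ = y * x := by rw [h x hx, h y hy, one_mul, mul_one]

theorem idx_of_card [Finite G] (h1 : H ≤ L) (h2 : Nat.card L = 2 * Nat.card H) :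
    Local.IdxLeTwo H L := by
  refine Local.idxLeTwo_of_relIndex ?_
  have h3 := relIndex_mul_relIndex ⊥ H L bot_le h1
  rw [relIndex_bot_left, relIndex_bot_left, h2, mul_comm] at h3
  exact Nat.eq_of_mul_eq_mul_right Nat.card_pos h3

theorem comm_of_idx (h1 : Local.IdxLeTwo H L) (h2 : d ∈ Ns H) (h3 : d ∈ Ns L) :
    ∀ p ∈ L, ⁅d, p⁆ ∈ H := fun p hp => by
  rw [commutatorElement_def, h1.mul_mem_iff (mem_normalizer_conj h3 hp) (inv_mem hp), inv_mem_iff]
  exact ⟨fun h => by simpa [mul_assoc] using mem_normalizer_conj' h2 h, mem_normalizer_conj h2⟩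

/-- `V` is central in `P` of exponent two, `d` acts with order three, without fixed points on `V`,
and `a V` is a central involution of `P / V` of norm one. -/
structure Tp (P V : Subgroup G) (d a : G) : Prop where
  VP : V ≤ P
  Vc : ∀ u ∈ V, ∀ p ∈ P, p * u = u * p
  V2 : ∀ u ∈ V, u * u = 1
  dP : d ∈ Ns P
  dV : d ∈ Ns V
  d3 : ∀ x ∈ P, d * (d * (d * x * d⁻¹) * d⁻¹) * d⁻¹ = x
  fix : ∀ u ∈ V, d * u = u * d → u = 1
  aP : a ∈ P
  aV : a ∉ V
  a2 : a * a ∈ V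
  cm : ∀ p ∈ P, ⁅p, a⁆ ∈ V
  nm : a * (d * a * d⁻¹) * (d * (d * a * d⁻¹) * d⁻¹) ∈ V

/-- The abelian group generated by `V` and the conjugates of `a`. -/
structure TA (P V A : Subgroup G) (d : G) : Prop where
  VA : V ≤ A
  AP : A ≤ P
  card : Nat.card A = 4 * Nat.card V
  dA : d ∈ Ns A
  cm : ∀ p ∈ P, ∀ a ∈ A, ⁅p, a⁆ ∈ V
  sq : ∀ a ∈ A, a * a ∈ V
  comm : ∀ a ∈ A, ∀ b ∈ A, a * b = b * a
  fix : ∀ a ∈ A, d * a = a * d → a = 1
  irr : ∀ H : Subgroup G, V ≤ H → (∀ x ∈ H, d * x * d⁻¹ ∈ H) → ∀ a ∈ A, a ∉ V → a ∈ H → A ≤ H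

theorem Tp.cj (h : Tp P V d a) : Tp P V d (d * a * d⁻¹) where
  VP := h.VP
  Vc := h.Vc
  V2 := h.V2
  dP := h.dP
  dV := h.dV
  d3 := h.d3
  fix := h.fix
  aP := mem_normalizer_conj h.dP h.aP
  aV := fun e => h.aV (by simpa [mul_assoc] using mem_normalizer_conj' h.dV e)
  a2 := by simpa [mul_assoc] using mem_normalizer_conj h.dV h.a2
  cm := fun p hp => by
    have := mem_normalizer_conj h.dV (h.cm _ (mem_normalizer_conj' h.dP hp))
    rwa [show d * ⁅d⁻¹ * p * d, a⁆ * d⁻¹ = ⁅p, d * a * d⁻¹⁆ by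
      simp only [commutatorElement_def]; group] at this
  nm := by simpa [mul_assoc] using mem_normalizer_conj h.dV h.nm

theorem Tp.cm' (h : Tp P V d a) {p : G} (hp : p ∈ P) : ⁅a, p⁆ ∈ V := by
  simpa using inv_mem (h.cm p hp)

theorem Tp.exists_A [Finite G] (h : Tp P V d a) : ∃ A, a ∈ A ∧ TA P V A d := by
  have k := h.cj
  have k2 := k.cj
  have hn := h.nm
  have h3 := h.d3 a h.aP
  generalize hb : d * a * d⁻¹ = b at k k2 hn h3
  generalize hc : d * b * d⁻¹ = c at k2 hn h3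
  have e0 : EA V V := ⟨le_rfl, fun x hx => mul_mem hx hx, fun x hx y hy =>
    mul_mem (mul_mem hx hy) (inv_mem hx)⟩
  have c1 : ∀ x ∈ V, ⁅a, x⁆ ∈ V := fun x hx => h.cm' (h.VP hx)
  have l1 : V ⊔ zpowers a ≤ P := sup_le h.VP (zpowers_le.2 h.aP)
  have c2 : ∀ x ∈ V ⊔ zpowers a, ⁅b, x⁆ ∈ V := fun x hx => k.cm' (l1 hx)
  have e1 := e0.adj c1 h.a2
  have e2 := e1.adj c2 k.a2
  have m1 : ∀ x, x ∈ V ⊔ zpowers a ↔ x ∈ V ∨ a⁻¹ * x ∈ V := fun x =>
    mem_adj (conj_of_comm le_rfl c1) h.a2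
  have m2 : ∀ x, x ∈ V ⊔ zpowers a ⊔ zpowers b ↔ x ∈ V ⊔ zpowers a ∨ b⁻¹ * x ∈ V ⊔ zpowers a :=
    fun x => mem_adj (conj_of_comm e1.le c2) (e1.le k.a2)
  have nb : b ∉ V ⊔ zpowers a := fun e => by
    rcases (m1 b).1 e with e | e
    · exact k.aV e
    · refine k2.aV ?_
      have := mul_mem (inv_mem (mul_mem h.a2 e)) hn
      rwa [show (a * a * (a⁻¹ * b))⁻¹ * (a * b * c) = c by group] at this
  have hcard : Nat.card ↥(V ⊔ zpowers a ⊔ zpowers b) = 4 * Nat.card V := by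
    rw [card_adj (conj_of_comm e1.le c2) (e1.le k.a2) nb,
      card_adj (conj_of_comm le_rfl c1) h.a2 h.aV]
    ring
  have aA : a ∈ V ⊔ zpowers a ⊔ zpowers b := mem_sup_left (mem_sup_right (mem_zpowers a))
  have bA : b ∈ V ⊔ zpowers a ⊔ zpowers b := mem_sup_right (mem_zpowers b)
  have l2 : V ⊔ zpowers a ⊔ zpowers b ≤ P := sup_le l1 (zpowers_le.2 k.aP)
  have ab : a * b = b * a := by
    have u1 := h.cm' k.aP
    rw [← commutatorElement_eq_one_iff_mul_comm]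
    refine h.fix _ u1 ?_
    have u2 := h.Vc _ hn b k.aP
    have u3 := h.Vc _ u1 _ (mul_mem k.aP h.aP)
    have u4 : d * ⁅a, b⁆ * d⁻¹ = ⁅b, c⁆ := by
      rw [← hc, ← hb]; simp only [commutatorElement_def]; group
    have u5 : ⁅b, c⁆ = ⁅a, b⁆ := by
      calc ⁅b, c⁆ = a⁻¹ * ((a * b * c) * b⁻¹ * (a * b * c)⁻¹) * (a * b) := by
            rw [commutatorElement_def]; group
        _ = (b * a)⁻¹ * (⁅a, b⁆ * (b * a)) := by
            rw [← (show Commute b (a * b * c) from u2).inv_left.eq, commutatorElement_def]; group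
        _ = ⁅a, b⁆ := by rw [← u3]; group
    rw [← mul_inv_eq_iff_eq_mul, u4, u5]
  have gen : ∀ H : Subgroup G, V ≤ H → a ∈ H → b ∈ H → V ⊔ zpowers a ⊔ zpowers b ≤ H :=
    fun H h1 h2 h3 => sup_le (sup_le h1 (zpowers_le.2 h2)) (zpowers_le.2 h3)
  have irr : ∀ H : Subgroup G, V ≤ H → (∀ x ∈ H, d * x * d⁻¹ ∈ H) →
      ∀ x ∈ V ⊔ zpowers a ⊔ zpowers b, x ∉ V → x ∈ H → V ⊔ zpowers a ⊔ zpowers b ≤ H := by
    intro H h1 h2 x hx hV hH
    have i1 : a ∈ H → V ⊔ zpowers a ⊔ zpowers b ≤ H := fun e => gen H h1 e (hb ▸ h2 a e)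
    have i3 : c ∈ H → V ⊔ zpowers a ⊔ zpowers b ≤ H := fun e => i1 (h3 ▸ h2 c e)
    rcases (m2 x).1 hx with e | e <;> rcases (m1 _).1 e with e | e
    · exact absurd e hV
    · exact i1 (by simpa using mul_mem hH (inv_mem (h1 e)))
    · exact i3 (hc ▸ h2 b (by simpa using mul_mem hH (inv_mem (h1 e))))
    · refine i3 ?_
      have := mul_mem (inv_mem (mul_mem hH (inv_mem (h1 e)))) (h1 hn)
      rwa [ab, show (x * (a⁻¹ * (b⁻¹ * x))⁻¹)⁻¹ * (b * a * c) = c by group] at this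
  refine ⟨_, aA, e2.le, l2, hcard, mem_normalizer_fintype ?_, fun p hp => ?_, e2.sq,
    fun x hx y hy => ?_, fun x hx hd => ?_, irr⟩
  · refine conj_adj (conj_adj (fun x hx => e2.le (mem_normalizer_conj h.dV hx)) (hb ▸ bA)) ?_
    rw [hc]
    have := mul_mem (inv_mem (mul_mem aA bA)) (e2.le hn)
    rwa [show (a * b)⁻¹ * (a * b * c) = c by group] at this
  · refine e1.comm_adj c2 k.a2 (e0.comm_adj c1 h.a2 (fun x hx => ?_) (h.cm p hp)) (k.cm p hp)
    rw [commutatorElement_eq_one_iff_mul_comm.2 (h.Vc x hx p hp)]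
    exact one_mem _
  · have cV : ∀ p ∈ P, V ≤ C1 p := fun p hp u hu =>
      mem_centralizer_singleton_iff.2 (h.Vc u hu p hp).symm
    have s1 := gen (C1 a) (cV a h.aP) (mem_centralizer_singleton_iff.2 rfl)
      (mem_centralizer_singleton_iff.2 ab.symm) hy
    have s2 := gen (C1 b) (cV b k.aP) (mem_centralizer_singleton_iff.2 ab)
      (mem_centralizer_singleton_iff.2 rfl) hy
    rw [mem_centralizer_singleton_iff] at s1 s2
    exact mem_centralizer_singleton_iff.1 (gen (C1 y) (cV y (l2 hy))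
      (mem_centralizer_singleton_iff.2 s1.symm) (mem_centralizer_singleton_iff.2 s2.symm) hx)
  · by_cases hV : x ∈ V
    · exact h.fix x hV hd
    have := Subgroup.card_le_of_le (irr (V ⊔ zpowers x) le_sup_left (conj_adj
      (fun u hu => mem_sup_left (mem_normalizer_conj h.dV hu))
      (by rw [hd, mul_inv_cancel_right]; exact mem_sup_right (mem_zpowers x))) x hx hV
      (mem_sup_right (mem_zpowers x)))
    rw [hcard, card_adj (e2.nrm x hx) (e2.sq x hx) hV] at this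
    have := Nat.card_pos (α := V)
    omega

theorem TA.nrm [Finite G] (h : TA P V A d) : P ≤ Ns A := fun p hp =>
  mem_normalizer_fintype (conj_of_comm h.VA (h.cm p hp))

/-- An element commuting with `d` and with an element of `A ∖ V` centralises `A`. -/
theorem TA.cent (h : TA P V A d) (h1 : ∀ u ∈ V, u * f = f * u) (h2 : d * f = f * d) (ha : a ∈ A)
    (hV : a ∉ V) (h3 : a * f = f * a) : ∀ b ∈ A, b * f = f * b := fun _ hb =>
  mem_centralizer_singleton_iff.1 (h.irr (C1 f) (fun u hu => mem_centralizer_singleton_iff.2 (h1 u hu))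
    (fun x hx => mem_centralizer_singleton_iff.2 (by
      calc d * x * d⁻¹ * f = d * x * (d⁻¹ * (f * d)) * d⁻¹ := by group
        _ = d * (x * f) * d⁻¹ := by rw [← h2]; group
        _ = d * f * x * d⁻¹ := by rw [mem_centralizer_singleton_iff.1 hx]; group
        _ = f * (d * x * d⁻¹) := by rw [h2]; group)) a ha hV
    (mem_centralizer_singleton_iff.2 h3) hb)

end Cfsg.Lib.GHN.C0
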