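import Cfsg.Agent.GHN.Basic
import Cfsg.Agent.GHN.Tp
import Cfsg.Agent.GHB.Invol

/-!
# A normal `E₁₆` whose central involution has many conjugates is self-centralising
-/

set_option autoImplicit false

namespace Cfsg.Lib.GHN

open Subgroup Cfsg.Lib.Trans Cfsg.Lib.Gold Cfsg.Lib.Rank2 Cfsg.Lib.GHB
open scoped commutatorElement

universe u

variable {G : Type u} [Group G] {S : Sylow 2 G} {B C Y H : Subgroup G} {z x n σ : G}

namespace Sq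

theorem conj_mem (hn : n ∈ Ns H) (hx : x ∈ H) : n * x * n⁻¹ ∈ H := (mem_normalizer_iff.1 hn x).1 hx

theorem le_Ns (h : ∀ a ∈ Y, ∀ x ∈ H, a * x * a⁻¹ ∈ H) : Y ≤ Ns H := fun a ha =>
  mem_normalizer_iff.2 fun x => ⟨h a ha x, fun hx => by
    simpa [mul_assoc] using h _ (inv_mem ha) _ hx⟩

theorem sq_mul (h1 : ∀ b ∈ B, b * b = 1) (hx : x ∈ Cs B) {b : G} (hb : b ∈ B) :
    x * b * (x * b) = x * x := by
  rw [mul_assoc, ← mul_assoc b, mem_Cs.1 hx b hb, mul_assoc, h1 b hb, mul_one]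

/-- Squares are constant on the cosets of `B`. -/
theorem cnt [Finite G] (h1 : ∀ b ∈ B, b * b = 1) (h2 : B ≤ Y) (h3 : Y ≤ Cs B) (T : Set G)
    (hT : ∀ t ∈ T, ∃ u ∈ Y, u * u = t) : Nat.card T * Nat.card B ≤ Nat.card Y ∧
      (Nat.card Y ≤ Nat.card T * Nat.card B → ∀ u ∈ Y, ∀ u' ∈ Y, u * u = u' * u' → u⁻¹ * u' ∈ B) := by
  choose! f hf1 hf2 using hT
  let F : T × B → Y := fun p => ⟨f p.1 * p.2, mul_mem (hf1 _ p.1.2) (h2 p.2.2)⟩
  have e : ∀ p, (F p : G) * F p = p.1 := fun p => (sq_mul h1 (h3 (hf1 _ p.1.2)) p.2.2).trans (hf2 _ p.1.2)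
  have hF : Function.Injective F := fun p q hpq => by
    have a : p.1 = q.1 := Subtype.ext (by rw [← e, ← e, hpq])
    have b : f p.1 * p.2 = f q.1 * q.2 := congrArg Subtype.val hpq
    rw [a] at b
    exact Prod.ext a (Subtype.ext (mul_left_cancel b))
  refine ⟨Nat.card_prod T B ▸ Nat.card_le_card_of_injective F hF, fun h u hu u' hu' h4 => ?_⟩
  have hs := (hF.bijective_of_nat_card_le (by rwa [Nat.card_prod])).2
  obtain ⟨p, hp⟩ := hs ⟨u, hu⟩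
  obtain ⟨q, hq⟩ := hs ⟨u', hu'⟩
  have a : (p.1 : G) = q.1 := by rw [← e, ← e, hp, hq, h4]
  have b1 : f p.1 * p.2 = u := congrArg Subtype.val hp
  have b2 : f q.1 * q.2 = u' := congrArg Subtype.val hq
  rw [← b1, ← b2, a, mul_inv_rev, mul_assoc, inv_mul_cancel_left]
  exact mul_mem (inv_mem p.2.2) q.2.2

/-- The preimage of the elementary part of the centre of `C / B`. -/
def XX (B C : Subgroup G) (h : C ≤ Ns B) : Subgroup G where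
  carrier := {x | x ∈ C ∧ x * x ∈ B ∧ ∀ c ∈ C, ⁅x, c⁆ ∈ B}
  one_mem' := ⟨one_mem _, by simp, by simp⟩
  mul_mem' := fun {x y} hx hy => ⟨mul_mem hx.1 hy.1, by
    have := mul_mem (mul_mem (conj_mem (h hx.1) (hy.2.2 x hx.1)) hx.2.1) hy.2.1
    rwa [show x * ⁅y, x⁆ * x⁻¹ * (x * x) * (y * y) = x * y * (x * y) by group] at this, fun c hc => by
    have := mul_mem (conj_mem (h hx.1) (hy.2.2 c hc)) (hx.2.2 c hc)
    rwa [show x * ⁅y, c⁆ * x⁻¹ * ⁅x, c⁆ = ⁅x * y, c⁆ by group] at this⟩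
  inv_mem' := fun {x} hx => ⟨inv_mem hx.1, by simpa using inv_mem hx.2.1, fun c hc => by
    have := conj_mem (h (inv_mem hx.1)) (inv_mem (hx.2.2 c hc))
    rwa [show x⁻¹ * ⁅x, c⁆⁻¹ * x⁻¹⁻¹ = ⁅x⁻¹, c⁆ by group] at this⟩

theorem conj_XX {h : C ≤ Ns B} (hn : n ∈ Ns B ⊓ Ns C) (hx : x ∈ XX B C h) :
    n * x * n⁻¹ ∈ XX B C h := by
  refine ⟨conj_mem hn.2 hx.1, ?_, fun c hc => ?_⟩
  · have := conj_mem hn.1 hx.2.1
    rwa [show n * (x * x) * n⁻¹ = n * x * n⁻¹ * (n * x * n⁻¹) by group] at this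
  · have := conj_mem hn.1 (hx.2.2 _ (conj_mem (inv_mem hn.2) hc))
    rwa [show n * ⁅x, n⁻¹ * c * n⁻¹⁻¹⁆ * n⁻¹ = ⁅n * x * n⁻¹, c⁆ by group] at this

/-- The fixed points of an involution on an elementary section. -/
theorem exists_fix [Finite G] (h : EA B Y) (h0 : σ ∈ Ns B) (h1 : ∀ y ∈ Y, σ * y * σ⁻¹ ∈ Y)
    (h2 : σ * σ = 1) : ∃ D : Subgroup G, (∀ x, x ∈ D ↔ x ∈ Y ∧ ⁅σ, x⁆ ∈ B) ∧
      Nat.card Y * Nat.card B ≤ Nat.card D * Nat.card D := by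
  have hY : Y ≤ Ns B := le_Ns h.nrm
  have : (B.subgroupOf (Ns B)).Normal := normal_in_normalizer
  have a := EA.card_le_sq (K := B.subgroupOf (Ns B)) (B := Y.subgroupOf (Ns B)) (a := ⟨σ, h0⟩)
    ⟨fun x hx => h.le hx, fun x hx => h.sq x hx, fun x hx k hk => h.nrm x hx k hk⟩
    (fun b hb => h1 b hb) fun b _ => by
      rw [show (⟨σ, h0⟩ * ⟨σ, h0⟩ : Ns B) = 1 from Subtype.ext h2]
      simp
  rw [Nat.card_congr (subgroupOfEquivOfLe hY).toEquiv,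
    Nat.card_congr (subgroupOfEquivOfLe (h.le.trans hY)).toEquiv,
    ← card_map_of_injective (Ns B).subtype_injective] at a
  refine ⟨_, fun x => ?_, a⟩
  refine ⟨?_, fun hx => ⟨⟨x, hY hx.1⟩, (mem_Cm (K := B.subgroupOf (Ns B))).2 hx, rfl⟩⟩
  rintro ⟨y, hy, rfl⟩
  exact (mem_Cm (K := B.subgroupOf (Ns B))).1 hy

end Sq

open Sq

variable [Finite G]

theorem Ctx.sq (h : Ctx S) (h1 : B ≤ S) (h2 : (S : Subgroup G) ≤ Ns B) (h3 : ∀ b ∈ B, b * b = 1)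
    (h4 : Nat.card B = 16) (h5 : ∀ b ∈ B, b ∈ Cs (S : Subgroup G) → b = 1 ∨ b = z)
    (h6 : ((∃ Y : Finset G, 4 ≤ Y.card ∧
          ∀ y ∈ Y, ∃ n ∈ Ns B ⊓ Ns ((S : Subgroup G) ⊓ Cs B), n * z * n⁻¹ = y) ∧
        ∀ σ ∈ (S : Subgroup G), σ * σ = 1 → σ ∉ Cs B → Nat.card (B ⊓ C1 σ : Subgroup G) ≤ 4) ∨
      ∀ y ∈ B, y ≠ 1 → ∃ n ∈ Ns B ⊓ Ns ((S : Subgroup G) ⊓ Cs B), n * z * n⁻¹ = y) :
    (S : Subgroup G) ⊓ Cs B ≤ B := by
  by_contra hn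
  have ab : ∀ a ∈ B, ∀ b ∈ B, a * b = b * a := fun a ha b hb => C0.comm_of_sq h3 ha hb
  have a1 : B ≤ (S : Subgroup G) ⊓ Cs B := le_inf h1 fun b hb => mem_Cs.2 fun a ha => ab a ha b hb
  have a2 : (S : Subgroup G) ≤ Ns ((S : Subgroup G) ⊓ Cs B) := le_Ns fun a ha x hx =>
    mem_inf.2 ⟨mul_mem (mul_mem ha (mem_inf.1 hx).1) (inv_mem ha), mem_Cs.2 fun b hb => by
      have := mem_Cs.1 hx.2 _ (conj_mem (inv_mem (h2 ha)) hb)
      calc _ = a * (a⁻¹ * b * a⁻¹⁻¹ * x) * a⁻¹ := by group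
        _ = _ := by rw [this]; group⟩
  have a0 : (S : Subgroup G) ⊓ Cs B ≤ Cs B := inf_le_right
  have a3 : (S : Subgroup G) ⊓ Cs B ≤ S := inf_le_left
  generalize (S : Subgroup G) ⊓ Cs B = C at *
  have hC : C ≤ Ns B := a3.trans h2
  obtain ⟨x, x1, x2, -, x3, x4⟩ := Solv.PG.exists_step_elt S.isPGroup' (S.isPGroup'.to_le a3) h2 a2
    (lt_of_le_not_ge a1 hn)
  rw [pow_two] at x3
  have x5 : x * x ≠ 1 := fun e => x2 (h.mem_e16 h3 h4 e (a0 x1))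
  have x6 : x * x = z := (h5 _ x3 (mem_Cs.2 fun s hs => by
    have := sq_mul h3 (a0 x1) (conj_mem (inv_mem (hC x1)) (inv_mem (x4 s (mem_sup_left hs))))
    rw [show x * (x⁻¹ * ⁅x, s⁆⁻¹ * x⁻¹⁻¹) = s * x * s⁻¹ by group, conj_mul] at this
    exact mul_inv_eq_iff_eq_mul.1 this)).resolve_left x5
  have x7 : x ∈ XX B C hC := ⟨x1, x3, fun c hc => x4 c (mem_sup_left (a3 hc))⟩
  have b1 : ∀ n ∈ Ns B ⊓ Ns C, ∃ u ∈ XX B C hC, u * u = n * z * n⁻¹ := fun n hn =>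
    ⟨_, conj_XX hn x7, by rw [← x6]; group⟩
  have b2 : EA B (XX B C hC) := ⟨fun b hb => ⟨a1 hb, mul_mem hb hb, fun c hc => by
    simpa [commutatorElement_def, mul_assoc] using mul_mem hb (conj_mem (hC hc) (inv_mem hb))⟩,
    fun y hy => hy.2.1, fun y hy k hk => conj_mem (hC hy.1) hk⟩
  have b3 : XX B C hC ≤ Cs B := fun y hy => a0 hy.1
  obtain ⟨a, ha, g, s1, s2⟩ := h.exists_out h1 ab (by rintro rfl; simp at h4)
  have s3 : g * a * g⁻¹ * (g * a * g⁻¹) = 1 := by rw [conj_mul, h3 a ha]; group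
  generalize g * a * g⁻¹ = σ at s1 s2 s3
  have s4 : σ ∉ Cs B := fun e => s2 (h.mem_e16 h3 h4 s3 e)
  have s5 : ∀ y ∈ XX B C hC, σ * y * σ⁻¹ ∈ XX B C hC := fun y hy => conj_XX ⟨h2 s1, a2 s1⟩ hy
  obtain ⟨D, d1, d2⟩ := exists_fix b2 (h2 s1) s5 s3
  have d3 : B ≤ D := fun b hb => (d1 b).2 ⟨b2.le hb, mul_mem (conj_mem (h2 s1) hb) (inv_mem hb)⟩
  have d4 : D ≤ Cs B := fun y hy => b3 ((d1 y).1 hy).1
  have d5 := card_le_of_invol h.r4 d3 h3 (fun u hu w hw => (mem_Cs.1 (d4 hu) w hw).symm)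
    (fun u hu => b2.sq u ((d1 u).1 hu).1) (fun u hu => ((d1 u).1 hu).2) (s3 ▸ one_mem B)
    fun e => s4 (d4 e)
  rw [show Cm ⊥ B σ = B ⊓ C1 σ from Subgroup.ext fun y => by
    rw [mem_Cm_bot, mem_inf, mem_centralizer_singleton_iff, eq_comm]] at d5
  rcases h6 with ⟨⟨Y, y1, y2⟩, y3⟩ | y1
  · classical
    have c1 := (cnt h3 b2.le b3 (insert 1 Y : Finset G) fun t ht => by
      rcases Finset.mem_insert.1 ht with rfl | ht
      · exact ⟨1, one_mem _, mul_one 1⟩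
      · obtain ⟨n, hn, rfl⟩ := y2 t ht
        exact b1 n hn).1
    have c2 : (1 : G) ∉ Y := fun e => by
      obtain ⟨n, -, e⟩ := y2 1 e
      exact x5 (x6.trans (conj_eq_one_iff.1 e))
    rw [Finset.coe_sort_coe, Nat.card_eq_finsetCard, Finset.card_insert_of_notMem c2] at c1
    have c3 := y3 σ s1 s3 s4
    have c4 : Nat.card D * Nat.card D ≤ 32 * 32 := Nat.mul_le_mul (by omega) (by omega)
    rw [h4] at c1 d2
    omega
  · have c0 : ∀ t ∈ B, ∃ u ∈ XX B C hC, u * u = t := fun t ht => by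
      by_cases e : t = 1
      · exact ⟨1, one_mem _, by simp [e]⟩
      · obtain ⟨n, hn, rfl⟩ := y1 t ht e
        exact b1 n hn
    have c1 := (cnt h3 b2.le b3 B c0).2 ((b2.card_le h.r4).trans_eq (by simp [h4]))
    have c2 := (cnt h3 d3 d4 (B ⊓ C1 σ : Subgroup G) fun t ht => by
      obtain ⟨u, hu, rfl⟩ := c0 t ht.1
      refine ⟨u, (d1 u).2 ⟨hu, ?_⟩, rfl⟩
      have := conj_mem (hC hu.1) (c1 u hu _ (s5 u hu) (by
        rw [conj_mul, ← mem_centralizer_singleton_iff.1 ht.2, mul_inv_cancel_right]))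
      rwa [show u * (u⁻¹ * (σ * u * σ⁻¹)) * u⁻¹ = ⁅σ, u⁆ by group] at this).1
    have c3 : 0 < Nat.card (B ⊓ C1 σ : Subgroup G) := Nat.card_pos
    rw [SetLike.coe_sort_coe, h4] at c2
    omega

end Cfsg.Lib.GHN
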