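import Cfsg.Agent.GHN.Fr2
import Cfsg.Agent.Fus.EssTau
import Cfsg.Agent.FT.BG4.Aut

/-!
# Simple groups of sectional 2-rank at most four: a self-centralising four-group
-/

set_option autoImplicit false

namespace Cfsg.Lib.GHN

open Subgroup Cfsg.Lib.Trans Cfsg.Lib.Gold Cfsg.Lib.GHB
open scoped commutatorElement

universe u

variable {G : Type u} [Group G] [Finite G] {b z τ : G}

theorem MC.exists_cyc (hG : IsPGroup 2 G) {X : Subgroup G} (hX : X ≠ ⊤) (hc : Nat.card X = 4)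
    (hC : Cs X ≤ X) : ∃ c : G, (zpowers c).index = 2 := by
  suffices h : ∃ c : G, Nat.card G = orderOf c * 2 by
    obtain ⟨c, h⟩ := h
    refine ⟨c, Nat.eq_of_mul_eq_mul_left (orderOf_pos c) ?_⟩
    rw [← h, ← Nat.card_zpowers, card_mul_index]
  rcases Fus.Ess.two_maxClass_of_selfCent hG hX (Or.inl hc) hC with ⟨m, ⟨e⟩⟩ | ⟨m, ⟨e⟩⟩ |
    ⟨n, -, h1, x, -, h2, -⟩
  · exact ⟨e.symm (.r 1), by
      rw [e.symm.orderOf_eq, DihedralGroup.orderOf_r_one, Nat.card_congr e.toEquiv,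
        DihedralGroup.nat_card, mul_comm]⟩
  · rcases m with _ | m
    · have : Infinite (ZMod (2 * 0)) := inferInstanceAs (Infinite ℤ)
      exact absurd (Finite.of_equiv _ e.toEquiv) (not_finite_iff_infinite.2
        (Infinite.of_injective (QuaternionGroup.a (n := 0)) fun _ _ => QuaternionGroup.a.inj))
    · exact ⟨e.symm (.a 1), by
        rw [e.symm.orderOf_eq, QuaternionGroup.orderOf_a_one, Nat.card_congr e.toEquiv,
          Nat.card_eq_fintype_card, QuaternionGroup.card]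
        ring⟩
  · exact ⟨x, by rw [h1, h2, pow_succ]⟩

/-- 2-groups with a self-centralising four-group -/
theorem mc_aut (hG : IsPGroup 2 G) (z2 : z * z = 1) (z1 : z ≠ 1) (b2 : b * b = 1) (b1 : b ≠ 1)
    (bz : b ≠ z) (zb : z * b = b * z) (hc : ∀ y, y * z = z * y → y * b = b * y → y ∈ F4 z b)
    (τz : τ * z = z * τ) (τb : τ * b * τ⁻¹ = z * b) :
    (∀ y, (∀ x, x * y = y * x) ↔ y = 1 ∨ y = z) ∧ (∀ φ : MulAut G, Odd (orderOf φ) → φ = 1) ∧
      ∀ φ : MulAut G, φ b = b → ∀ y, φ y * y⁻¹ ∈ Phi (⊤ : Subgroup G) := by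
  have nτ : τ * b ≠ b * τ := fun e => z1 (by
    rw [e, mul_inv_cancel_right] at τb
    exact mul_eq_right.1 τb.symm)
  have cen : ∀ y, (∀ x, x * y = y * x) → y = 1 ∨ y = z := fun y hy => by
    rcases (mem_F4 z2 b2 zb).1 (hc y (hy z).symm (hy b).symm) with e | e | e | e
    · exact Or.inl e
    · exact Or.inr e
    · exact absurd (e ▸ hy τ) nτ
    · refine absurd (mul_left_cancel (a := z) ?_) nτ
      rw [← mul_assoc, ← τz, mul_assoc, ← e, hy τ, e, mul_assoc]
  have zc : ∀ x, x * z = z * x := by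
    have : Nontrivial G := ⟨z, 1, z1⟩
    have := hG.center_nontrivial
    obtain ⟨y, hy⟩ := exists_ne (1 : center G)
    exact (cen y (mem_center_iff.1 y.2)).resolve_left (fun e => hy (Subtype.ext e)) ▸
      mem_center_iff.1 y.2
  have sq : ∀ y, y * b = b * y → y * y = 1 := fun y hy => by
    rcases (mem_F4 z2 b2 zb).1 (hc y (zc y) hy) with rfl | rfl | rfl | rfl
    · exact one_mul 1
    · exact z2
    · exact b2
    · rw [mul_assoc, ← mul_assoc b, ← zb, mul_assoc, b2, mul_one, z2]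
  have c4 : Nat.card (F4 z b) = 4 := by
    rw [card_adj (fun x _ => by rwa [show b * x * b⁻¹ = x by
      rw [mem_zp z2] at *; rcases ‹_ ∨ _› with rfl | rfl <;> simp [← zb]]) (b2 ▸ one_mem _)
      (by rw [mem_zp z2]; tauto), Nat.card_zpowers,
      orderOf_eq_prime (p := 2) (by rwa [pow_two]) z1]
  have nt : F4 z b ≠ ⊤ := fun e => nτ (comm_of_sq (B := ⊤) (fun y _ => sq y (by
    rcases (mem_F4 z2 b2 zb).1 (e.ge (mem_top y)) with rfl | rfl | rfl | rfl <;>
      simp [zb, mul_assoc])) trivial trivial)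
  obtain ⟨c, hi⟩ := MC.exists_cyc hG nt c4 fun y hy => hc y (zc y)
    (cs_comm hy (mem_sup_right (mem_zpowers b)))
  have c2 : c * c ≠ 1 := fun e => by
    have h1 := (zpowers c).card_mul_index
    have h2 := Nat.le_of_dvd two_pos (orderOf_dvd_of_pow_eq_one (x := c) (by rwa [pow_two]))
    rw [hi, Nat.card_zpowers] at h1
    exact nt (eq_top_of_le_card _ (by omega))
  have cb : c * b ≠ b * c := fun e => c2 (sq c e)
  have cm : ∀ {x y}, x ∈ zpowers c → y ∈ zpowers c → x * y = y * x := by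
    rintro _ _ ⟨i, rfl⟩ ⟨j, rfl⟩
    exact zpow_mul_comm c i j
  have bn : b ∉ zpowers c := fun e => cb (cm (mem_zpowers c) e)
  have hN := normal_of_index_eq_two hi
  have out : ∀ y ∉ zpowers c, ∃ a ∈ zpowers c, y = b * a := fun y hy =>
    ⟨b * y, (mul_mem_iff_of_index_two hi).2 (by tauto), by rw [← mul_assoc, b2, one_mul]⟩
  have nm : ∀ a ∈ zpowers c, b * a * (b * a) * (b * a * (b * a)) = 1 := fun a ha => sq _ (by
    have h1 := cm (hN.conj_mem a ha b) ha
    rw [inv_eq b2] at h1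
    calc _ = b * (a * (b * a * b)) := by group
      _ = _ := by rw [← h1]; group)
  have key : ∀ y, orderOf y = orderOf c → y ∈ zpowers c := fun y hy => by
    by_contra h
    obtain ⟨a, ha, rfl⟩ := out y h
    have h1 : c ^ 4 = 1 := orderOf_dvd_iff_pow_eq_one.1 (hy ▸ orderOf_dvd_of_pow_eq_one (by
      rw [← nm a ha, pow_succ, pow_three', mul_assoc (b * a * (b * a))]))
    obtain ⟨j, hj⟩ := mul_mem (hN.conj_mem c (mem_zpowers c) b) (mem_zpowers c)
    have h2 : c ^ j * c ^ j = 1 := by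
      rw [← nm c (mem_zpowers c), show c ^ j = _ from hj, inv_eq b2]; group
    have h3 : b * c * b⁻¹ = c⁻¹ := by
      have h4 : (c ^ 4) ^ (j / 4) = 1 := by rw [h1, one_zpow]
      have h5 : c ^ j = c ^ (j % 4) := by
        conv_lhs => rw [← Int.mul_ediv_add_emod j 4, zpow_add, zpow_mul]
        rw [show c ^ (4 : ℤ) = c ^ 4 from zpow_natCast c 4, h4, one_mul]
      rw [show (fun x : ℤ => c ^ x) j = c ^ j from rfl, h5] at hj
      rw [h5] at h2
      rcases (by omega : j % 4 = 0 ∨ j % 4 = 1 ∨ j % 4 = 2 ∨ j % 4 = 3) with e | e | e | e <;>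
        rw [e] at hj h2
      · rw [eq_inv_iff_mul_eq_one, ← hj, zpow_zero]
      · exact absurd (by simpa using h2) c2
      · refine absurd ?_ cb
        rw [zpow_two, mul_left_inj] at hj
        rw [eq_mul_inv_iff_mul_eq] at hj
        exact hj
      · refine absurd ?_ c2
        rw [← h2, ← mul_one (c * c), ← h1]
        group
    have h6 : b * a * b⁻¹ = a⁻¹ := by
      obtain ⟨i, rfl⟩ := ha
      simp only [← conj_zpow, h3, inv_zpow]
    refine c2 (by
      rw [← pow_two, ← orderOf_dvd_iff_pow_eq_one, ← hy, orderOf_dvd_iff_pow_eq_one, pow_two]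
      calc _ = b * a * b⁻¹ * (b * b) * (b⁻¹ * b) * a := by group
        _ = _ := by rw [h6, b2]; group)
  have hΦ : ∀ y : G, y * y ∈ Phi (⊤ : Subgroup G) := fun y => sq_mem_Phi trivial
  have φc : ∀ φ : MulAut G, φ c * c⁻¹ ∈ Phi (⊤ : Subgroup G) := fun φ => by
    obtain ⟨k, hk⟩ := key (φ c) (φ.orderOf_eq c)
    rw [← hk]
    rcases Int.even_or_odd' k with ⟨j, rfl | rfl⟩
    · obtain ⟨n, hn⟩ := hG.exists_orderOf_eq_pow c
      rcases n with _ | n
      · exact absurd (by rw [orderOf_eq_one_iff.1 hn, one_mul]) c2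
      have h1 : φ c ^ 2 ^ n = 1 := by
        rw [← hk, ← zpow_natCast, ← zpow_mul, ← orderOf_dvd_iff_zpow_eq_one, hn]
        exact ⟨j, by push_cast; ring⟩
      have h2 := Nat.le_of_dvd (by positivity) (orderOf_dvd_of_pow_eq_one h1)
      rw [φ.orderOf_eq, hn, pow_succ] at h2
      have : 0 < 2 ^ n := by positivity
      omega
    · convert hΦ (c ^ j) using 1
      group
  have ext : ∀ φ : MulAut G, φ b * b⁻¹ ∈ Phi (⊤ : Subgroup G) →
      ∀ y, φ y * y⁻¹ ∈ Phi (⊤ : Subgroup G) := fun φ h => by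
    let π := QuotientGroup.mk' (Phi (⊤ : Subgroup G))
    have h1 : ∀ y, φ y * y⁻¹ ∈ Phi (⊤ : Subgroup G) ↔ y ∈ (π.comp φ.toMonoidHom).eqLocus π :=
      fun y => by rw [← div_eq_mul_inv, ← QuotientGroup.eq_iff_div_mem]; rfl
    have h2 : zpowers c ≤ (π.comp φ.toMonoidHom).eqLocus π := zpowers_le.2 ((h1 c).1 (φc φ))
    intro y
    rw [h1]
    by_cases hy : y ∈ zpowers c
    · exact h2 hy
    · obtain ⟨a, ha, rfl⟩ := out y hy
      exact mul_mem ((h1 b).1 h) (h2 ha)
  refine ⟨fun y => ⟨cen y, ?_⟩, fun φ ho => ?_, fun φ h => ext φ (by rw [h]; simp)⟩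
  · rintro (rfl | rfl)
    · simp
    · exact zc
  have h1 : (φ ^ 2) b * b⁻¹ ∈ Phi (⊤ : Subgroup G) := by
    have h2 : φ b ∉ zpowers c := fun e => bn (by
      obtain ⟨i, hi⟩ := e
      rw [← φ.symm_apply_apply b, ← hi, map_zpow]
      exact zpow_mem (key _ (φ.symm.orderOf_eq c)) i)
    obtain ⟨_, ⟨i, rfl⟩, h3⟩ := out _ h2
    let π := QuotientGroup.mk' (Phi (⊤ : Subgroup G))
    have h4 : π (φ c) = π c := QuotientGroup.eq_iff_div_mem.2 (by rw [div_eq_mul_inv]; exact φc φ)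
    have h5 : π (c ^ i * c ^ i) = 1 := (QuotientGroup.eq_one_iff _).2 (hΦ _)
    rw [← div_eq_mul_inv, ← QuotientGroup.eq_iff_div_mem]
    change π (φ (φ b)) = π b
    rw [h3, map_mul, h3, map_zpow, map_mul, map_zpow, h4, ← map_zpow, ← map_mul, mul_assoc,
      map_mul, h5, mul_one]
  have h2 := FT.BG4.mulAut_eq_one_of_frattini hG (β := φ ^ 2)
    (Nat.coprime_two_right.2 (ho.of_dvd_nat (orderOf_pow_dvd 2))) fun y => by
      obtain ⟨w, hw, e⟩ := Phi_le_frattini (hG.to_subgroup ⊤) (ext _ h1 y)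
      rw [← e]
      exact frattini_le_comap_frattini_of_surjective (φ := (⊤ : Subgroup G).subtype)
        (fun g => ⟨⟨g, trivial⟩, rfl⟩) hw
  exact orderOf_eq_one_iff.1 (Nat.eq_one_of_dvd_coprimes (Nat.coprime_two_left.2 ho)
    (orderOf_dvd_of_pow_eq_one h2) dvd_rfl)

end Cfsg.Lib.GHN
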