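import Cfsg.Agent.GHN.Tool
import Cfsg.Agent.GHN.MC

/-!
# Simple groups of sectional 2-rank at most four: the centraliser of a fully normalised four-group
-/

set_option autoImplicit false
set_option linter.unusedSectionVars false

namespace Cfsg.Lib.GHN

open Subgroup Cfsg.Lib.Trans Cfsg.Lib.Gold Cfsg.Lib.Rank2 Cfsg.Lib.GHB
open scoped commutatorElement

universe u

variable {G : Type u} [Group G] [Finite G] {H V Y B : Subgroup G}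
  {g n x y β δ σ τ z₁ b₁ z₂ b₂ : G}

theorem BW_adj (h1 : ∀ b ∈ B, g * b = b * g) (h2 : g * g = 1) :
    Nat.card (B ⊔ zpowers g : Subgroup G) ≤ 2 * Nat.card B ∧
      (g ∈ B → Nat.card (B ⊔ zpowers g : Subgroup G) = Nat.card B) := by
  have e : g ∈ B → Nat.card (B ⊔ zpowers g : Subgroup G) = Nat.card B := fun k => by
    rw [sup_eq_left.2 (zpowers_le.2 k)]
  refine ⟨?_, e⟩
  by_cases k : g ∈ B
  · rw [e k]; omega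
  · exact (card_adj (fun b hb => by rwa [h1 b hb, mul_inv_cancel_right]) (h2 ▸ one_mem _) k).le

/-- the automorphism induced on a section -/
theorem BW_ind [(V.subgroupOf Y).Normal] (h1 : g ∈ Ns Y) (h2 : g ∈ Ns V) :
    ∃ φ : MulAut (Y ⧸ V.subgroupOf Y), orderOf φ ∣ orderOf g ∧ ∀ y y' : Y, (y' : G) = g * y * g⁻¹ →
      φ (QuotientGroup.mk' _ y) = QuotientGroup.mk' _ y' := by
  let e := Y.normalizerMonoidHom ⟨g, h1⟩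
  have he : ∀ y : Y, (e y : G) = g * y * g⁻¹ := fun _ => rfl
  have hV : (V.subgroupOf Y).map (e : Y →* Y) = V.subgroupOf Y := by
    refine eq_of_le_of_card_ge ?_ (card_map_of_injective e.injective).ge
    rintro _ ⟨y, hy, rfl⟩
    exact mem_normalizer_conj h2 hy
  let φ : MulAut (Y ⧸ V.subgroupOf Y) := QuotientGroup.congr _ _ e hV
  have hp : ∀ (m : ℕ) (y : Y), (φ ^ m) (QuotientGroup.mk' _ y) =
      QuotientGroup.mk' _ ((e ^ m) y) := fun m => by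
    induction m with
    | zero => intro y; rfl
    | succ m ih => intro y; rw [pow_succ, pow_succ, MulAut.mul_apply, MulAut.mul_apply, ← ih]; rfl
  refine ⟨φ, orderOf_dvd_of_pow_eq_one (MulEquiv.ext fun q => ?_), fun y y' k => ?_⟩
  · obtain ⟨y, rfl⟩ := QuotientGroup.mk'_surjective _ q
    rw [hp, ← map_pow, show (⟨g, h1⟩ : normalizer (Y : Set G)) ^ orderOf g = 1 from
      Subtype.ext (pow_orderOf_eq_one g), map_one]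
    rfl
  · rw [show y' = e y from Subtype.ext k]; rfl

theorem BW_sq (h1 : ∀ v ∈ V, v * v = 1) (h2 : β ∈ Cs V) (h3 : β ∈ Tv V Y) : β * β ∈ Cs Y :=
  cs_of fun y hy => by
    have k := h3.2 y hy
    rw [← mul_inv_eq_iff_eq_mul, show β * β * y * (β * β)⁻¹ = β * (β * y * β⁻¹) * β⁻¹ by group,
      conj_eq_cm β y, ← conj_mul, cs_conj h2 k, conj_eq_cm, ← mul_assoc, h1 _ k, one_mul]

theorem BW_odd {m : ℕ} (hm : Odd m) (h1 : β * β ∈ Y) (h2 : β ^ m ∈ Y) : β ∈ Y := by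
  obtain ⟨t, rfl⟩ := hm
  rw [pow_succ, pow_mul, sq] at h2
  exact (mul_mem_cancel_left (pow_mem h1 t)).1 h2

namespace BV
variable (h0 : BV H δ σ τ z₁ b₁ z₂ b₂)
include h0

theorem m1 : z₁ ∈ F4 z₁ b₁ ⊔ F4 z₂ b₂ := mem_sup_left z_F4
theorem m2 : b₁ ∈ F4 z₁ b₁ ⊔ F4 z₂ b₂ := mem_sup_left v_F4
theorem m3 : z₂ ∈ F4 z₁ b₁ ⊔ F4 z₂ b₂ := mem_sup_right z_F4
theorem m4 : b₂ ∈ F4 z₁ b₁ ⊔ F4 z₂ b₂ := mem_sup_right v_F4

theorem indep : z₁ ≠ 1 ∧ b₁ ∉ zpowers z₁ ∧ Nat.card (F4 z₁ b₁) = 4 ∧ z₂ ∉ F4 z₁ b₁ ∧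
    b₂ ∉ F8 z₁ b₁ z₂ := by
  have c := h0.card
  rw [← sup_assoc] at c
  have l3 : F8 z₁ b₁ z₂ ≤ F4 z₁ b₁ ⊔ F4 z₂ b₂ := F8_le h0.m1 h0.m2 h0.m3
  have k3 := BW_adj (B := F8 z₁ b₁ z₂) (fun b hb => comm_of_sq h0.sq h0.m4 (l3 hb)) (h0.sq _ h0.m4)
  have k2 := BW_adj (B := F4 z₁ b₁) (fun b hb => comm_of_sq h0.sq h0.m3 (mem_sup_left hb))
    (h0.sq _ h0.m3)
  have k1 := BW_adj (B := zpowers z₁) (fun b hb => comm_of_sq h0.sq h0.m2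
    (zpowers_le.2 h0.m1 hb)) (h0.sq _ h0.m2)
  have k0 := BW_adj (B := ⊥) (g := z₁) (fun b hb => by simp [mem_bot.1 hb]) (h0.sq _ h0.m1)
  rw [bot_sup_eq, card_bot] at k0
  unfold F8 F4 at *
  refine ⟨fun e => ?_, fun e => ?_, by omega, fun e => ?_, fun e => ?_⟩
  · have := k0.2 (mem_bot.2 e); omega
  · have := k1.2 e; omega
  · have := k2.2 e; omega
  · have := k3.2 e; omega

theorem z2 : z₁ * z₁ = 1 := h0.sq _ h0.m1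
theorem zb : z₁ * b₁ = b₁ * z₁ := comm_of_sq h0.sq h0.m1 h0.m2
theorem mem4 : x ∈ F4 z₁ b₁ ↔ x = 1 ∨ x = z₁ ∨ x = b₁ ∨ x = z₁ * b₁ :=
  mem_F4 h0.z2 (h0.sq _ h0.m2) h0.zb
theorem bz : b₁ ≠ z₁ := fun e => h0.indep.2.1 (e ▸ mem_zpowers _)
theorem b1 : b₁ ≠ 1 := fun e => h0.indep.2.1 (e ▸ one_mem _)
theorem zb4 : z₁ * b₁ ∈ F4 z₁ b₁ := mul_mem z_F4 v_F4

theorem cs4 (h1 : x * z₁ * x⁻¹ = z₁) (h2 : x * b₁ * x⁻¹ = b₁) : x ∈ Cs (F4 z₁ b₁) :=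
  cs_of fun y hy => by
    rw [← mul_inv_eq_iff_eq_mul]
    rcases h0.mem4.1 hy with rfl | rfl | rfl | rfl
    exacts [by simp, h1, h2, by rw [cjm, h1, h2]]

theorem TY : F4 z₁ b₁ ⊔ F4 z₂ b₂ ≤ H ⊓ Cs (F4 z₁ b₁) := fun _ ht =>
  ⟨h0.le ht, cs_of fun _ hv => comm_of_sq h0.sq ht (mem_sup_left hv)⟩

theorem nY (h1 : x ∈ H) (h2 : x ∈ Ns (F4 z₁ b₁)) : x ∈ Ns (H ⊓ Cs (F4 z₁ b₁)) :=
  ns_of fun _ hy => ⟨H.mul_mem (H.mul_mem h1 hy.1) (H.inv_mem h1), cs_ns hy.2 h2⟩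

theorem σV : σ ∈ Ns (F4 z₁ b₁) :=
  ns_F4 (by rw [h0.σz, mul_inv_cancel_right]; exact z_F4) (h0.σb ▸ h0.zb4)

theorem δV : δ ∈ Ns (F4 z₁ b₁) := ns_F4 (h0.δz ▸ v_F4) (h0.δb ▸ h0.zb4)

theorem δzb : δ * (z₁ * b₁) * δ⁻¹ = z₁ := by
  rw [cjm, h0.δz, h0.δb, h0.zb, ← mul_assoc, h0.sq _ h0.m2, one_mul]

theorem δ3 : δ ^ 3 ∈ Cs (F4 z₁ b₁) :=
  h0.cs4 (by rw [← cube, h0.δz, h0.δb, h0.δzb]) (by rw [← cube, h0.δb, h0.δzb, h0.δz])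

theorem fix4 (hx : x ∈ F4 z₁ b₁) (h1 : δ * x * δ⁻¹ = x) : x = 1 := by
  rcases h0.mem4.1 hx with k | k | k | k
  · exact k
  · rw [k, h0.δz] at h1; exact absurd h1 h0.bz
  · rw [k, h0.δb, mul_eq_right] at h1; exact absurd h1 h0.indep.1
  · rw [k, h0.δzb, left_eq_mul] at h1; exact absurd h1 h0.b1

theorem sylY : IsSylowIn 2 (H ⊓ Cs (F4 z₁ b₁)) (Cs (F4 z₁ b₁)) := by
  have : Fact (Nat.Prime 2) := ⟨Nat.prime_two⟩
  have k := h0.syl.inf_normal_of_le (normalizer_le_normalizer_centralizer _) (cs_le_ns le_rfl)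
  rwa [inf_assoc, inf_of_le_right (cs_le_ns le_rfl)] at k

theorem exists_odd : ∃ δ', BV H δ' σ τ z₁ b₁ z₂ b₂ ∧ δ' ∈ Ns (H ⊓ Cs (F4 z₁ b₁)) ∧
    Odd (orderOf δ') := by
  have : Fact (Nat.Prime 2) := ⟨Nat.prime_two⟩
  obtain ⟨n, hn, c, hc, e⟩ := h0.sylY.frattini' (normalizer_le_normalizer_centralizer _ h0.δV)
  have re : ∀ d d' c : G, BV H d σ τ z₁ b₁ z₂ b₂ → c ∈ Cs (F4 z₁ b₁) → d' = d * c →
      BV H d' σ τ z₁ b₁ z₂ b₂ := fun d d' c k hc e =>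
    have e' : ∀ v ∈ F4 z₁ b₁, d' * v * d'⁻¹ = d * v * d⁻¹ := fun v hv => by
      rw [e, show d * c * v * (d * c)⁻¹ = d * (c * v * c⁻¹) * d⁻¹ by group, cs_conj hc hv]
    { k with δz := (e' _ z_F4).trans k.δz, δb := (e' _ v_F4).trans k.δb }
  have k1 := re δ n c⁻¹ h0 (inv_mem hc) (by rw [e]; group)
  obtain ⟨j, m, hm, hj⟩ := Nat.exists_eq_two_pow_mul_odd (orderOf_pos n).ne'
  obtain ⟨t, ht⟩ : ∃ t, 4 ^ j = 3 * t + 1 :=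
    ⟨4 ^ j / 3, by have : 4 ^ j % 3 = 1 := by simp [Nat.pow_mod]
                   omega⟩
  refine ⟨n ^ 4 ^ j, re n _ _ k1 (pow_mem k1.δ3 t) (by rw [ht, pow_succ', pow_mul]),
    pow_mem hn _, hm.of_dvd_nat (orderOf_dvd_of_pow_eq_one ?_)⟩
  rw [← pow_mul, show 4 ^ j * m = 2 ^ j * m * 2 ^ j by
    rw [show 4 = 2 * 2 from rfl, mul_pow]; ring, ← hj, pow_mul, pow_orderOf_eq_one, one_pow]

/-- the three consequences of `mc_aut` for the section `C_H(V) / V` -/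
theorem sec (hY : Y = H ⊓ Cs (F4 z₁ b₁)) :
    (∀ y ∈ Y, (∀ x ∈ Y, ⁅x, y⁆ ∈ F4 z₁ b₁) ↔ y ∈ F8 z₁ b₁ z₂) ∧
    (∀ g ∈ Ns Y, g ∈ Ns (F4 z₁ b₁) → Odd (orderOf g) → ∀ y ∈ Y, ⁅g, y⁆ ∈ F4 z₁ b₁) ∧
    ∀ y ∈ Y, ⁅σ, y⁆ ∈ F4 z₁ b₁ ⊔ Phi Y := by
  have TY : F4 z₁ b₁ ⊔ F4 z₂ b₂ ≤ Y := hY ▸ h0.TY
  have YC : Y ≤ Cs (F4 z₁ b₁) := hY ▸ inf_le_right
  have YH : Y ≤ H := hY ▸ inf_le_left
  have : ((F4 z₁ b₁).subgroupOf Y).Normal :=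
    normal_subgroupOf_of_le_normalizer (YC.trans (cs_le_ns le_rfl))
  let π := QuotientGroup.mk' ((F4 z₁ b₁).subgroupOf Y)
  have e1 : ∀ y : Y, π y = 1 ↔ (y : G) ∈ F4 z₁ b₁ := fun y => QuotientGroup.eq_one_iff y
  have e2 : ∀ x y : Y, π x * π y = π y * π x ↔ ⁅(x : G), (y : G)⁆ ∈ F4 z₁ b₁ := fun x y => by
    rw [← commutatorElement_eq_one_iff_mul_comm, ← map_commutatorElement, e1]; rfl
  have τY : τ ∈ Y := hY ▸ ⟨h0.τS, h0.cs4 (mul_inv_eq_iff_eq_mul.2 h0.τz)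
    (mul_inv_eq_iff_eq_mul.2 h0.τb)⟩
  let z : Y := ⟨z₂, TY h0.m3⟩
  let b : Y := ⟨b₂, TY h0.m4⟩
  have zi : z₂⁻¹ = z₂ := inv_eq (h0.sq _ h0.m3)
  have m8 : ∀ y, y ∈ F8 z₁ b₁ z₂ ↔ y ∈ F4 z₁ b₁ ∨ z₂⁻¹ * y ∈ F4 z₁ b₁ := fun y =>
    mem_adj (fun v hv => by rwa [cs_conj (YC (TY h0.m3)) hv]) (h0.sq _ h0.m3 ▸ one_mem _)
  have e3 : ∀ y : Y, π y = π z ↔ z₂⁻¹ * y ∈ F4 z₁ b₁ := fun y => by
    rw [eq_comm, ← inv_mul_eq_one, ← map_inv, ← map_mul, e1]; rfl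
  obtain ⟨k1, k2, k3⟩ := mc_aut (z := π z) (b := π b) (τ := π ⟨τ, τY⟩)
    ((h0.p2.to_le YH).to_quotient _)
    (by rw [← map_mul, show z * z = 1 from Subtype.ext (h0.sq _ h0.m3), map_one])
    (fun e => h0.indep.2.2.2.1 ((e1 _).1 e))
    (by rw [← map_mul, show b * b = 1 from Subtype.ext (h0.sq _ h0.m4), map_one])
    (fun e => h0.indep.2.2.2.2 (F4_F8 ((e1 _).1 e)))
    (fun e => h0.indep.2.2.2.2 ((m8 _).2 (Or.inr ((e3 _).1 e))))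
    (by rw [← map_mul, ← map_mul, show z * b = b * z from
      Subtype.ext (comm_of_sq h0.sq h0.m3 h0.m4)])
    (fun q c1 c2 => by
      obtain ⟨y, rfl⟩ := QuotientGroup.mk'_surjective _ q
      have k := h0.cen y (YH y.2) (YC y.2) ((e2 _ _).1 c1) ((e2 _ _).1 c2)
      have le : F4 z₁ b₁ ⊔ F4 z₂ b₂ ≤ ((F4 (π z) (π b)).comap π).map Y.subtype :=
        sup_le (fun v hv => ⟨⟨v, TY (mem_sup_left hv)⟩, by
          change π _ ∈ F4 (π z) (π b)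
          rw [(e1 ⟨v, TY (mem_sup_left hv)⟩).2 hv]; exact one_mem _, rfl⟩) (F4_le ⟨z, z_F4, rfl⟩ ⟨b, v_F4, rfl⟩)
      obtain ⟨y', k1, k2⟩ := le k
      exact (show y' = y from Subtype.ext k2) ▸ k1)
    (by rw [← map_mul, ← map_mul]; exact congrArg π (Subtype.ext h0.τz'))
    (by rw [← map_inv, ← map_mul, ← map_mul, ← map_mul]; exact congrArg π (Subtype.ext h0.τb'))
  refine ⟨fun y hy => ?_, fun g h1 h2 h3 y hy => ?_, fun y hy => ?_⟩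
  · rw [m8, ← e1 ⟨y, hy⟩, ← e3 ⟨y, hy⟩, ← k1]
    refine ⟨fun c q => ?_, fun c x hx => (e2 ⟨x, hx⟩ ⟨y, hy⟩).1 (c _)⟩
    obtain ⟨x, rfl⟩ := QuotientGroup.mk'_surjective _ q
    exact (e2 _ _).2 (c x x.2)
  · obtain ⟨φ, a1, a2⟩ := BW_ind h1 h2
    have k := a2 ⟨y, hy⟩ ⟨_, mem_normalizer_conj h1 hy⟩ rfl
    rw [k2 φ (h3.of_dvd_nat a1), MulAut.one_apply, eq_comm, ← mul_inv_eq_one, ← map_inv,
      ← map_mul] at k
    exact (e1 _).1 k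
  · have σY : σ ∈ Ns Y := hY ▸ h0.nY h0.σS h0.σV
    obtain ⟨φ, -, a2⟩ := BW_ind σY h0.σV
    have k := k3 φ (a2 b b (mul_inv_eq_iff_eq_mul.2 h0.σb').symm) (π ⟨y, hy⟩)
    rw [a2 ⟨y, hy⟩ ⟨_, mem_normalizer_conj σY hy⟩ rfl, ← map_inv, ← map_mul,
      ← map_top_of_surjective π (QuotientGroup.mk'_surjective _), ← map_Phi] at k
    obtain ⟨p, p1, p2⟩ := k
    have p3 : (p : G) ∈ Phi Y := by
      have := mem_map_of_mem Y.subtype p1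
      rwa [map_Phi, ← MonoidHom.range_eq_map, range_subtype] at this
    rw [eq_comm, ← mul_inv_eq_one, ← map_inv, ← map_mul] at p2
    have := mul_mem (mem_sup_left ((e1 _).1 p2)) (mem_sup_right (S := F4 z₁ b₁) p3)
    simpa [commutatorElement_def] using this

theorem bw' (hN : δ ∈ Ns (H ⊓ Cs (F4 z₁ b₁))) (ho : Odd (orderOf δ)) :
    BW H (H ⊓ Cs (F4 z₁ b₁)) δ σ τ z₁ b₁ z₂ b₂ := by
  have : Fact (Nat.Prime 2) := ⟨Nat.prime_two⟩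
  obtain ⟨k1, k2, k3⟩ := h0.sec rfl
  have sy := h0.sylY
  have TY := h0.TY
  have σY := h0.nY h0.σS h0.σV
  have τY : τ ∈ H ⊓ Cs (F4 z₁ b₁) := ⟨h0.τS, h0.cs4 (mul_inv_eq_iff_eq_mul.2 h0.τz)
    (mul_inv_eq_iff_eq_mul.2 h0.τb)⟩
  have YC : H ⊓ Cs (F4 z₁ b₁) ≤ Cs (F4 z₁ b₁) := inf_le_right
  generalize hY : H ⊓ Cs (F4 z₁ b₁) = Y at *
  have VY : F4 z₁ b₁ ≤ Y := le_sup_left.trans TY
  have sq : ∀ v ∈ F4 z₁ b₁, v * v = 1 := fun v hv => h0.sq _ (mem_sup_left hv)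
  have cm := k2 δ hN h0.δV ho
  have δT : δ ∈ Tv (F4 z₁ b₁) Y := ⟨h0.δV, cm⟩
  have δ3 : δ ^ 3 ∈ Cs Y := BW_odd ho (BW_sq sq h0.δ3 (pow_mem δT 3))
    (by rw [← pow_mul, mul_comm, pow_mul, pow_orderOf_eq_one, one_pow]; exact one_mem _)
  have fx : ∀ y ∈ Y, ∃ c, δ * c * δ⁻¹ = c ∧ ∀ x ∈ Y, ⁅c, x⁆ = ⁅y, x⁆ := fun y hy => by
    obtain ⟨w, hw, e⟩ := cop_fix sy.isPGroup hN δ3 VY (YC.trans (cs_le_ns le_rfl)) h0.δV hy (cm y hy)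
    refine ⟨y * w, mul_inv_eq_iff_eq_mul.2 e, fun x hx => ?_⟩
    rw [commutatorElement_def, commutatorElement_def, mul_assoc y, ← cs_comm (YC hx) hw]; group
  have fc : ∀ x y : G, δ * x * δ⁻¹ = x → δ * y * δ⁻¹ = y → δ * ⁅x, y⁆ * δ⁻¹ = ⁅x, y⁆ :=
    fun x y hx hy => by rw [conjugate_commutatorElement, hx, hy]
  have δz : δ * z₂ * δ⁻¹ = z₂ := by
    obtain ⟨w, hw, e⟩ := cop_fix sy.isPGroup hN δ3 VY (YC.trans (cs_le_ns le_rfl)) h0.δV (TY h0.m4)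
      (cm _ (TY h0.m4))
    obtain ⟨c, c1, c2⟩ := fx τ τY
    have k := fc _ _ c1 (mul_inv_eq_iff_eq_mul.2 e)
    rwa [c2 _ (mul_mem (TY h0.m4) (VY hw)), commutatorElement_def, cjm τ, h0.τb',
      cs_conj (YC τY) hw, mul_assoc z₂, mul_inv_cancel_right] at k
  have zC : z₂ ∈ Cs Y := cs_of fun y hy => by
    obtain ⟨c, c1, c2⟩ := fx y hy
    have k := fc _ _ c1 δz
    rw [c2 _ (TY h0.m3)] at k
    exact (commutatorElement_eq_one_iff_mul_comm.1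
      (h0.fix4 ((k1 _ (TY h0.m3)).2 w_F8 y hy) k)).symm
  have FC : F8 z₁ b₁ z₂ ≤ Cs Y := F8_le (cs_of fun y hy => (cs_comm (YC hy) z_F4).symm)
    (cs_of fun y hy => (cs_comm (YC hy) v_F4).symm) zC
  refine { h0 with
    eqY := hY.symm, δN := hN, δo := ho, δ3 := δ3, cm := cm, inv := ?_, σΦ := k3
    zY := fun y hy => ⟨fun c => (k1 y hy).1 fun x hx => ?_, fun c => FC c⟩ }
  · have σz : σ * z₁ * σ⁻¹ = z₁ := mul_inv_eq_iff_eq_mul.2 h0.σz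
    have σzb : σ * (z₁ * b₁) * σ⁻¹ = b₁ := by
      rw [cjm, σz, h0.σb, ← mul_assoc, h0.z2, one_mul]
    have e : ∀ v, σ * δ * σ⁻¹ * δ * v * (σ * δ * σ⁻¹ * δ)⁻¹ =
        σ * (δ * (σ⁻¹ * (δ * v * δ⁻¹) * σ) * δ⁻¹) * σ⁻¹ := fun v => by group
    have e' : ∀ v, σ⁻¹ * (σ * v * σ⁻¹) * σ = v := fun v => by group
    have βC : σ * δ * σ⁻¹ * δ ∈ Cs (F4 z₁ b₁) := h0.cs4
      (by rw [e, h0.δz, ← σzb, e', h0.δzb, σz]) (by rw [e, h0.δb, ← h0.σb, e', h0.δb, σzb])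
    have βT := mul_mem (Tv_conj δT h0.σV σY) δT
    have βN : σ * δ * σ⁻¹ * δ ∈ Ns Y := mul_mem (mul_mem (mul_mem σY hN) (inv_mem σY)) hN
    generalize σ * δ * σ⁻¹ * δ = β at βC βT βN
    obtain ⟨j, m, hm, hj⟩ := Nat.exists_eq_two_pow_mul_odd (orderOf_pos β).ne'
    have p2 : IsPGroup 2 (zpowers (β ^ m)) := fun ⟨_, i, rfl⟩ => ⟨j, Subtype.ext (by
      change ((β ^ m) ^ i) ^ 2 ^ j = 1
      rw [← zpow_natCast, ← zpow_mul, mul_comm, zpow_mul, zpow_natCast, ← pow_mul, mul_comm, ← hj,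
        pow_orderOf_eq_one, one_zpow])⟩
    have k := sy.eq_of_le (sy.isPGroup.to_sup_of_normal_left' p2 (zpowers_le.2 (pow_mem βN m)))
      le_sup_left (sup_le YC (zpowers_le.2 (pow_mem βC m)))
    have γY : β ^ m ∈ Y := k ▸ mem_sup_right (mem_zpowers _)
    refine BW_odd hm (BW_sq sq βC βT) (FC ((k1 _ γY).1 fun x hx => ?_))
    rw [← commutatorElement_inv]
    exact inv_mem ((pow_mem βT m).2 x hx)
  · rw [commutatorElement_eq_one_iff_mul_comm.2 (cs_comm c hx).symm]; exact one_mem _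

theorem bw : ∃ Y δ', BW H Y δ' σ τ z₁ b₁ z₂ b₂ := by
  obtain ⟨δ', k1, k2, k3⟩ := h0.exists_odd
  exact ⟨_, δ', k1.bw' k2 k3⟩

end BV

theorem BW.gv (h0 : BW H Y δ σ τ z₁ b₁ z₂ b₂) (h1 : Ns Y ≤ Ns (F4 z₁ b₁)) : GV H := by
  have h := h0.toBV
  have hY := h0.eqY
  have VY : F4 z₁ b₁ ≤ Y := hY ▸ le_sup_left.trans h.TY
  have YC : Y ≤ Cs (F4 z₁ b₁) := hY ▸ inf_le_right
  have nY : H ⊓ Ns (F4 z₁ b₁) ≤ Ns Y := fun x hx => hY ▸ h.nY hx.1 hx.2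
  have σz : σ * z₁ * σ⁻¹ = z₁ := mul_inv_eq_iff_eq_mul.2 h.σz
  refine ⟨Y, F4 z₁ b₁, δ, σ, ⟨hY ▸ inf_le_left, h0.δN, h0.δ3, fun c => ?_, h.σS, nY ⟨h.σS, h.σV⟩,
    fun c => ?_, h0.inv, fun x hx c => hY ▸ ⟨hx, cs_mono VY c⟩, fun x hx c => ?_, ?_⟩,
    ⟨VY, h.δV, h0.cm⟩, h.indep.2.2.1⟩
  · exact h.bz (h.δz.symm.trans (cs_conj c (VY z_F4)))
  · exact h.indep.1 (mul_eq_right.1 (h.σb.symm.trans (cs_conj (YC c) v_F4)))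
  · obtain ⟨w, w1, w2, -, w3⟩ := meet (T := H ⊓ Ns (F4 z₁ b₁)) (X := F4 z₁ b₁) h.p2.to_inf_left
      (le_inf (le_sup_left.trans h.le) le_normalizer) inf_le_right
      fun e => h.indep.1 (mem_bot.1 (e ▸ z_F4))
    have c1 : σ * w * σ⁻¹ = w := mul_inv_eq_iff_eq_mul.2 (cs_comm w3 ⟨h.σS, h.σV⟩).symm
    have c2 : x * w * x⁻¹ = w := mul_inv_eq_iff_eq_mul.2 (cs_comm w3 ⟨hx, h1 c⟩).symm
    have e : w = z₁ := by
      rcases h.mem4.1 w1 with k | k | k | k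
      · exact absurd k w2
      · exact k
      · rw [k, h.σb, mul_eq_right] at c1; exact absurd c1 h.indep.1
      · rw [k, cjm, σz, h.σb, mul_right_inj, mul_eq_right] at c1; exact absurd c1 h.indep.1
    rw [e] at c2
    rw [hY]
    rcases h.mem4.1 (mem_normalizer_conj (h1 c) v_F4) with k | k | k | k
    · exact absurd (by simpa using k) h.b1
    · exact absurd (by simpa using k.trans c2.symm) h.bz
    · exact Or.inl ⟨hx, h.cs4 c2 k⟩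
    · have e : ∀ v, x * σ * v * (x * σ)⁻¹ = x * (σ * v * σ⁻¹) * x⁻¹ := fun v => by group
      exact Or.inr ⟨mul_mem hx h.σS, h.cs4 (by rw [e, σz, c2])
        (by rw [e, h.σb, cjm, c2, k, ← mul_assoc, h.z2, one_mul])⟩
  · rw [show H ⊓ Ns Y = H ⊓ Ns (F4 z₁ b₁) from
      le_antisymm (inf_le_inf_left _ h1) (le_inf inf_le_left nY)]
    exact h.syl.mono nY h1

end Cfsg.Lib.GHN
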