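import Cfsg.Agent.GHN.C0a
import Cfsg.Agent.GHN.UT4
import Cfsg.Agent.GHN.G64

/-!
# The case `C_S(W) = W` of the frame `W8` does not occur
-/

set_option autoImplicit false

namespace Cfsg.Lib.GHN

open Subgroup Cfsg.Lib.Trans Cfsg.Lib.Gold

universe u

variable {G : Type u} [Group G] [Finite G] {S : Sylow 2 G} {P₁ P₂ : Subgroup G}
  {z v w d₁ s₁ d₂ s₂ : G}

theorem W8.c0w (h : Six S) (h1 : W8 (S : Subgroup G) P₁ P₂ d₁ s₁ d₂ s₂ z v w)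
    (h2 : (S : Subgroup G) ⊓ Cs (F8 z v w) ≤ F8 z v w) : False := by
  obtain ⟨A, hA, c1, c2, c3, nA, sq, nc, cen⟩ := C0.c0w_core h.nV h1 h2
  by_cases he : ∀ a ∈ A, a * a = 1
  · exact h.out (out_ut4 (hA.AP.trans h1.vv.le) nA he c1 c3 sq cen)
  · push Not at he
    exact h.out (h1.vv.g64 c2 hA.AP c1 hA.comm he hA.dA (nA h1.vv.sS) hA.fix sq nc)

end Cfsg.Lib.GHN
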