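import Cfsg.Agent.GHN.Sq
import Cfsg.Agent.GHN.UT4
import Cfsg.Agent.GHN.PzN
import Cfsg.Agent.GHN.Api

/-!
# Simple groups of sectional 2-rank at most four: a mover of `v` fixes `z`
-/

set_option autoImplicit false

namespace Cfsg.Lib.GHN

open Subgroup Cfsg.Lib.Trans Cfsg.Lib.Gold Cfsg.Lib.Rank2
open scoped commutatorElement

universe u

variable {G : Type u} [Group G] {S : Sylow 2 G} {P H P₁ P₂ : Subgroup G}
  {c d g x y z v w d₁ s₁ d₂ s₂ : G}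

namespace CaseA

/-- `v` is a non-central involution of `P` with `[P, v] = ⟨z⟩`. -/
structure Tr (P : Subgroup G) (z v : G) : Prop where
  zP : z ∈ P
  zC : z ∈ Cs P
  z2 : z * z = 1
  z1 : z ≠ 1
  vP : v ∈ P
  v2 : v * v = 1
  vC : v ∉ Cs P
  act : ∀ p ∈ P, p * v * p⁻¹ = v ∨ p * v * p⁻¹ = z * v

theorem Tr.cj (h : Tr P z v) (hd : d ∈ Ns P) : Tr P (d * z * d⁻¹) (d * v * d⁻¹) where
  zP := mem_normalizer_conj hd h.zP
  zC := cs_ns h.zC hd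
  z2 := by rw [conj_mul, h.z2, mul_one, mul_inv_cancel]
  z1 e := h.z1 (conj_eq_one_iff.1 e)
  vP := mem_normalizer_conj hd h.vP
  v2 := by rw [conj_mul, h.v2, mul_one, mul_inv_cancel]
  vC e := h.vC (by simpa [mul_assoc] using cs_ns e (inv_mem hd))
  act p hp := by
    rw [show p * (d * v * d⁻¹) * p⁻¹ = d * (d⁻¹ * p * d * v * (d⁻¹ * p * d)⁻¹) * d⁻¹ by group,
      conj_mul]
    exact (h.act _ (mem_normalizer_conj' hd hp)).imp (congrArg (d * · * d⁻¹))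
      (congrArg (d * · * d⁻¹))

theorem Tr.comm (h : Tr P z v) (h' : Tr P y w) (hne : y ≠ z) : v * w = w * v := by
  rcases h.act w h'.vP with e | e
  · exact (mul_inv_eq_iff_eq_mul.1 e).symm
  rcases h'.act v h.vP with e' | e'
  · exact mul_inv_eq_iff_eq_mul.1 e'
  refine (hne ?_).elim
  rw [← inv_eq h.z2, ← mul_inv_eq_iff_eq_mul.2 e, ← mul_inv_eq_iff_eq_mul.2 e']
  group

theorem cs_adj (h1 : c ∈ Cs H) (h2 : c * g = g * c) : c ∈ Cs (H ⊔ zpowers g) :=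
  le_Cs_comm.1 (sup_le (le_Cs_comm.1 (zpowers_le.2 h1)) (zpowers_le.2 (cs_of fun _ ⟨k, e⟩ =>
    e ▸ (Commute.zpow_right h2.symm k).eq))) (mem_zpowers c)

theorem mem_adj (h2 : g * g = 1) (h3 : g ∈ Cs H) : x ∈ H ⊔ zpowers g ↔ x ∈ H ∨ g * x ∈ H := by
  rw [GHB.mem_adj (fun b hb => (cs_conj h3 hb).symm ▸ hb) (h2 ▸ one_mem _), inv_eq h2]

theorem card_adj (h2 : g * g = 1) (h3 : g ∈ Cs H) (h4 : g ∉ H) :
    Nat.card ↥(H ⊔ zpowers g) = 2 * Nat.card H :=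
  GHB.card_adj (fun b hb => (cs_conj h3 hb).symm ▸ hb) (h2 ▸ one_mem _) h4

theorem sq_adj (h1 : ∀ x ∈ H, x * x = 1) (h2 : g * g = 1) (h3 : g ∈ Cs H) :
    ∀ x ∈ H ⊔ zpowers g, x * x = 1 := fun x hx => by
  rcases (mem_adj h2 h3).1 hx with e | e
  · exact h1 x e
  · have := h1 _ e
    rwa [← mul_assoc, ← cs_comm h3 e, ← mul_assoc, h2, one_mul] at this

theorem ns16 [Finite G] (h1 : g * z * g⁻¹ ∈ F8 z y v ⊔ zpowers w)
    (h2 : g * y * g⁻¹ ∈ F8 z y v ⊔ zpowers w) (h3 : g * v * g⁻¹ ∈ F8 z y v ⊔ zpowers w)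
    (h4 : g * w * g⁻¹ ∈ F8 z y v ⊔ zpowers w) : g ∈ Ns (F8 z y v ⊔ zpowers w) :=
  mem_normalizer_of_cj_le (by
    rw [cj_sup, cj_sup, cj_sup, cj_zpowers, cj_zpowers, cj_zpowers, cj_zpowers]
    exact sup_le (sup_le (sup_le (zpowers_le.2 h1) (zpowers_le.2 h2)) (zpowers_le.2 h3))
      (zpowers_le.2 h4))

theorem ns4 [Finite G] (h1 : g * z * g⁻¹ ∈ F4 z y) (h2 : g * y * g⁻¹ ∈ F4 z y) :
    g ∈ Ns (F4 z y) := mem_normalizer_of_cj_le (by
  rw [cj_sup, cj_zpowers, cj_zpowers]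
  exact sup_le (zpowers_le.2 h1) (zpowers_le.2 h2))

end CaseA

open CaseA

theorem Six.caseA_of [Finite G] (h : Six S) (h1 : VV (S : Subgroup G) P₁ d₁ s₁ z v)
    (h2 : Tri (S : Subgroup G) P₂ d₂ s₂) (h3 : d₂ * z * d₂⁻¹ ≠ z) (hv : v ∈ P₂)
    (hvv : z ∈ P₂ → z ∈ Cs P₂ → z * z = 1 → d₂ * z ≠ z * d₂ →
      ∃ z₂ v₂, VV (S : Subgroup G) P₂ d₂ s₂ z₂ v₂ ∧
        ∀ y ∈ P₂, y ∈ Cs P₂ → y * y = 1 → y * (d₂ * y * d₂⁻¹) ∈ F4 z₂ v₂) :
    d₂ * z * d₂⁻¹ ∈ EE (S : Subgroup G) ∧ d₂ * v * d₂⁻¹ ∈ EE (S : Subgroup G) := by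
  have zC : z ∈ Cs P₂ := cs_mono h2.le h1.zc
  have zP : z ∈ P₂ := h2.cent z h1.zS zC
  obtain ⟨z₂, v₂, k2, k3⟩ := hvv zP zC h1.z2 fun e => h3 (by rw [e, mul_inv_cancel_right])
  have E1 : ∀ y ∈ P₂, y ∈ Cs P₂ → y * y = 1 → y ∈ EE (S : Subgroup G) →
      d₂ * y * d₂⁻¹ ∈ EE (S : Subgroup G) := fun y a b c e => (mul_mem_cancel_left e).1
    (sup_le (zpowers_le.2 k2.zE) (zpowers_le.2 k2.vE) (k3 y a b c))
  have yE := E1 z zP zC h1.z2 h1.zE
  refine ⟨yE, by_contra fun h4 => h.out ?_⟩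
  have av : ∀ x ∈ (S : Subgroup G), x * v * x⁻¹ = v ∨ x * v * x⁻¹ = z * v := fun x hx =>
    (em (x ∈ P₁)).imp (fun e => by rw [(h1.memP hx).1 e, mul_inv_cancel_right]) (h1.out hx)
  have az : ∀ x ∈ (S : Subgroup G), x * z * x⁻¹ = z := fun x hx => by
    rw [← cs_comm h1.zc hx, mul_inv_cancel_right]
  have t0 : Tr P₂ z v := ⟨zP, zC, h1.z2, h1.z1, hv, h1.v2,
    fun e => h4 (E1 v hv e h1.v2 h1.vE), fun p hp => av p (h2.le hp)⟩
  have t1 := t0.cj h2.dN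
  have t2 := t1.cj h2.dN
  have z3 := h2.ddd t0.zP
  have v3 := h2.ddd t0.vP
  have sy := h2.sd t0.zP
  have sw := h2.sd t0.vP
  generalize hy : d₂ * z * d₂⁻¹ = y at *
  generalize hw : d₂ * v * d₂⁻¹ = w at *
  generalize hy' : d₂ * y * d₂⁻¹ = y' at *
  generalize hw' : d₂ * w * d₂⁻¹ = w' at *
  have n1 : y' ≠ y := fun e => h3 (by simpa using (hy'.trans e).trans hy.symm)
  have n2 : y' ≠ z := fun e => h3 (by rw [← hy, ← e, z3, e])
  have zy : z * y = y * z := cs_comm zC t1.zP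
  have vw := t0.comm t1 h3
  have zV : z ∈ F4 z y := mem_sup_left (mem_zpowers z)
  have yV : y ∈ F4 z y := mem_sup_right (mem_zpowers y)
  have VP : F4 z y ≤ P₂ := sup_le (zpowers_le.2 zP) (zpowers_le.2 t1.zP)
  have VC : F4 z y ≤ Cs P₂ := sup_le (zpowers_le.2 zC) (zpowers_le.2 t1.zC)
  have VE : F4 z y ≤ EE (S : Subgroup G) := sup_le (zpowers_le.2 h1.zE) (zpowers_le.2 yE)
  have CV : P₂ ≤ Cs (F4 z y) := le_Cs_comm.1 VC
  have m4 : ∀ {x}, x ∈ F4 z y ↔ _ := mem_F4 h1.z2 t1.z2 zy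
  have yz : y ∈ Cs (zpowers z) := cs_mono (zpowers_le.2 zP) t1.zC
  have c4 : Nat.card (F4 z y) = 4 := by
    rw [card_adj t1.z2 yz fun e => ((mem_zp h1.z2).1 e).elim t1.z1 h3, Nat.card_zpowers,
      orderOf_eq_prime ((pow_two z).trans h1.z2) h1.z1]
  have vV : v ∉ F4 z y := fun e => t0.vC (VC e)
  have c8 : Nat.card (F8 z y v) = 8 := by rw [card_adj h1.v2 (CV t0.vP) vV, c4]
  have wC := cs_adj (CV t1.vP) vw.symm
  have c16 : Nat.card ↥(F8 z y v ⊔ zpowers w) = 16 := by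
    rw [card_adj t1.v2 wC fun e => h4 (sup_le VE (zpowers_le.2 h1.vE) e), c8]
  have sq := sq_adj (sq_adj (sq_adj (fun x hx => by
    rcases (mem_zp h1.z2).1 hx with rfl | rfl
    exacts [mul_one _, h1.z2]) t1.z2 yz) h1.v2 (CV t0.vP)) t1.v2 wC
  have m8 : ∀ {x}, x ∈ F8 z y v ↔ _ := mem_adj h1.v2 (CV t0.vP)
  have m16 : ∀ {x}, x ∈ F8 z y v ⊔ zpowers w ↔ _ := mem_adj t1.v2 wC
  have n16 := fun {g} => ns16 (g := g) (z := z) (y := y) (v := v) (w := w)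
  have c16' : ∀ {c}, c ∈ Cs (F4 z y) → c * v = v * c → c * w = w * c →
      c ∈ Cs (F8 z y v ⊔ zpowers w) := fun a b c => cs_adj (cs_adj a b) c
  have VB : F4 z y ≤ F8 z y v ⊔ zpowers w := le_sup_left.trans le_sup_left
  have vB : v ∈ F8 z y v ⊔ zpowers w := mem_sup_left (mem_sup_right (mem_zpowers v))
  have wB : w ∈ F8 z y v ⊔ zpowers w := mem_sup_right (mem_zpowers w)
  have BP : F8 z y v ⊔ zpowers w ≤ P₂ := sup_le (sup_le VP (zpowers_le.2 t0.vP)) (zpowers_le.2 t1.vP)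
  generalize F8 z y v ⊔ zpowers w = B at *
  have cases : ∀ x ∈ B, x ∈ F4 z y ∨ v * x ∈ F4 z y ∨ w * x ∈ F4 z y ∨ v * w * x ∈ F4 z y :=
    fun x hx => by
      rw [m16, m8, m8, ← mul_assoc] at hx
      tauto
  have fix : ∀ H, F4 z y ≤ H → v ∉ H → w ∉ H → v * w ∉ H → B ⊓ H ≤ F4 z y :=
    fun H a b c d x hx => by
      have key : ∀ {u}, u * x ∈ F4 z y → u ∈ H := fun e => (H.mul_mem_cancel_right hx.2).1 (a e)
      rcases cases x hx.1 with e | e | e | e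
      exacts [e, (b (key e)).elim, (c (key e)).elim, (d (key e)).elim]
  have zy1 : z * y ≠ 1 := fun e => h3 (by rw [eq_inv_of_mul_eq_one_right e, inv_eq h1.z2])
  have vy : v * y = y * v := (cs_comm t1.zC t0.vP).symm
  have BC : B ⊓ Cs P₂ ≤ F4 z y := fix _ VC t0.vC t1.vC fun e => t0.vC (cs_of fun p hp => by
    have e1 : p * (v * w) * p⁻¹ = v * w := by rw [← cs_comm e hp, mul_inv_cancel_right]
    rcases t0.act p hp with e2 | e2
    · exact (mul_inv_eq_iff_eq_mul.1 e2).symm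
    rcases t1.act p hp with e3 | e3 <;> rw [← conj_mul, e2, e3, mul_assoc] at e1
    · exact (h1.z1 (mul_eq_right.1 e1)).elim
    · rw [← mul_assoc v, vy, mul_assoc, ← mul_assoc] at e1
      exact (zy1 (mul_eq_right.1 e1)).elim)
  obtain rfl : y' = z * y := by
    rcases m4.1 (BC ⟨h.toCtx.mem_e16 sq c16 t2.z2 (cs_mono BP t2.zC), t2.zC⟩) with e | e | e | e
    exacts [(t2.z1 e).elim, (n2 e).elim, (n1 e).elim, e]
  have dV : d₂ ∈ Ns (F4 z y) := ns4 (hy ▸ yV) (hy' ▸ mul_mem zV yV)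
  have wv : v * w ∉ F4 z y := fun e => h4 ((mul_mem_cancel_left h1.vE).1 (VE e))
  obtain rfl : w' = v * w := by
    have e1 := (t0.comm t2 n2).symm
    rcases cases _ (h.toCtx.mem_e16 sq c16 t2.v2 (c16' (CV t2.vP) e1 (t1.comm t2 n1).symm))
      with e | e | e | e
    · exact (t2.vC (VC e)).elim
    · have := mem_normalizer_conj dV e
      rw [← conj_mul, hw, v3, ← vw] at this
      exact (wv this).elim
    · have := mem_normalizer_conj dV (mem_normalizer_conj dV e)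
      rw [← conj_mul (a := w), hw', v3, ← conj_mul, v3, hw] at this
      exact (wv this).elim
    · have e2 : d₂ * (v * w * w') * d₂⁻¹ = v * w * w' := by
        rw [← conj_mul, ← conj_mul, hw, hw', v3, mul_assoc, e1, ← mul_assoc, vw]
      rcases m4.1 e with e3 | e3 | e3 | e3 <;> rw [e3] at e2
      · rw [eq_inv_of_mul_eq_one_right e3, inv_eq (sq _ (mul_mem vB wB))]
      exacts [(h3 (hy.symm.trans e2)).elim, (n1 (hy'.symm.trans e2)).elim,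
        (n2 (e2.symm.trans z3)).elim]
  have a2 : ∀ p ∈ P₂, p ∈ Cs B ∨ (p * v * p⁻¹ = z * v ∧ p * w * p⁻¹ = y * w) := fun p hp => by
    have e3 := t2.act p hp
    rcases t0.act p hp with e1 | e1 <;> rcases t1.act p hp with e2 | e2
    · exact .inl (c16' (CV hp) (mul_inv_eq_iff_eq_mul.1 e1) (mul_inv_eq_iff_eq_mul.1 e2))
    · rw [← conj_mul, e1, e2, ← mul_assoc v, vy, mul_assoc y, mul_assoc z, mul_eq_right,
        eq_comm (b := z * _), mul_eq_right] at e3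
      exact (e3.elim t1.z1 h1.z1).elim
    · rw [← conj_mul, e1, e2, mul_assoc z, mul_assoc z, mul_eq_right, mul_right_inj,
        eq_comm (b := y * _), mul_eq_right] at e3
      exact (e3.elim h1.z1 t1.z1).elim
    · exact .inr ⟨e1, e2⟩
  have a3 : ∀ x ∈ (S : Subgroup G), x ∉ P₂ → x * y * x⁻¹ = z * y ∧
      ∃ ζ ∈ F4 z y, x * w * x⁻¹ = ζ * (v * w) := fun x hx hxP => by
    have hp := mul_mem ((h2.idx x hx (k2.nS hx)).resolve_left hxP) (inv_mem h2.s2)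
    have e : ∀ a, x * a * x⁻¹ = x * s₂ * (s₂ * s₂)⁻¹ * (s₂ * a * s₂⁻¹) * (x * s₂ * (s₂ * s₂)⁻¹)⁻¹ :=
      fun a => by group
    have e1 : d₂⁻¹ * z * d₂ = z * y := by nth_rw 1 [← z3]; group
    have e2 : d₂⁻¹ * v * d₂ = v * w := by nth_rw 1 [← v3]; group
    rw [e y, e w, sy, sw, az _ h2.sS, e1]
    generalize x * s₂ * (s₂ * s₂)⁻¹ = p at hp
    have e3 : p * (z * y) * p⁻¹ = z * y := by rw [← cs_comm t2.zC hp, mul_inv_cancel_right]
    obtain ⟨ζ, hζ, e4⟩ : ∃ ζ ∈ F4 z y, p * (v * w) * p⁻¹ = ζ * (v * w) :=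
      (t2.act p hp).elim (fun e => ⟨1, one_mem _, by rw [e, one_mul]⟩)
        fun e => ⟨_, mul_mem zV yV, e⟩
    refine ⟨e3, ?_⟩
    rcases av s₂ h2.sS with e5 | e5 <;> rw [e5]
    · exact ⟨ζ, hζ, by rw [e2, e4]⟩
    · refine ⟨_, mul_mem (mul_mem zV yV) hζ, ?_⟩
      rw [show d₂⁻¹ * (z * v) * d₂ = d₂⁻¹ * z * d₂ * (d₂⁻¹ * v * d₂) by group, e1, e2, ← conj_mul,
        e3, e4, mul_assoc _ ζ]
  have avB : ∀ x ∈ (S : Subgroup G), x * v * x⁻¹ ∈ B := fun x hx =>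
    (av x hx).elim (fun e => e.symm ▸ vB) fun e => e.symm ▸ mul_mem (VB zV) vB
  have SB : (S : Subgroup G) ≤ Ns B := fun x hx => by
    by_cases hxP : x ∈ P₂
    · refine n16 ((az x hx).symm ▸ VB zV) ((cs_conj (CV hxP) yV).symm ▸ VB yV) (avB x hx) ?_
      exact (t1.act x hxP).elim (fun e => e.symm ▸ wB) fun e => e.symm ▸ mul_mem (VB yV) wB
    · obtain ⟨e1, ζ, hζ, e2⟩ := a3 x hx hxP
      exact n16 ((az x hx).symm ▸ VB zV) (e1.symm ▸ VB (mul_mem zV yV)) (avB x hx)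
        (e2.symm ▸ mul_mem (VB hζ) (mul_mem vB wB))
  have ny : ∀ x ∈ (S : Subgroup G), x * y = y * x → x ∈ P₂ := fun x hx e => by_contra fun hxP =>
    h1.z1 (mul_eq_right.1 ((a3 x hx hxP).1.symm.trans (mul_inv_eq_iff_eq_mul.2 e)))
  have hC : (S : Subgroup G) ⊓ Cs B = P₁ ⊓ P₂ := le_antisymm
    (fun x hx => ⟨(h1.memP hx.1).2 (cs_comm hx.2 vB), ny x hx.1 (cs_comm hx.2 (VB yV))⟩)
    fun x hx => ⟨h1.le hx.1, (a2 x hx.2).resolve_right fun e => h1.z1 (mul_eq_right.1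
      (e.1.symm.trans (cs_conj (le_Cs_comm.1 (zpowers_le.2 h1.vc) hx.1) (mem_zpowers v))))⟩
  have cB : ∀ σ ∈ (S : Subgroup G), σ ∉ Cs B → Nat.card (B ⊓ C1 σ : Subgroup G) ≤ 4 :=
    fun σ hσ hσC => by
      by_cases hP : σ ∈ P₂
      · obtain ⟨e1, e2⟩ := (a2 σ hP).resolve_left hσC
        have key : ∀ {a b}, σ * a * σ⁻¹ = b * a → b ≠ 1 → a ∉ C1 σ := fun e e' e'' =>
          e' (mul_eq_right.1 (e.symm.trans (mul_inv_eq_iff_eq_mul.2 (mem_C1.1 e'').symm)))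
        exact c4 ▸ Trans.card_le_of_le (fix _ (fun x hx => mem_C1.2 (cs_comm (VC hx) hP))
          (key e1 h1.z1) (key e2 t1.z1) (key (by
            rw [← conj_mul, e1, e2, mul_assoc z, ← mul_assoc v, vy, mul_assoc y, mul_assoc z]) zy1))
      · obtain ⟨e1, ζ, hζ, e2⟩ := a3 σ hσ hP
        have σV : σ ∈ Ns (F4 z y) := ns4 ((az σ hσ).symm ▸ zV) (e1.symm ▸ mul_mem zV yV)
        have l1 : B ⊓ C1 σ ≤ F8 z y v ⊓ C1 σ := fun x hx => ⟨(m16.1 hx.1).resolve_right fun e => by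
          have e3 : σ * (w * x) * σ⁻¹ = ζ * (v * (w * x)) := by
            rw [← conj_mul, e2, ← mem_C1.1 hx.2, mul_inv_cancel_right]; simp only [mul_assoc]
          have e4 : w * x ∈ F4 z y ↔ v * (w * x) ∈ F4 z y := ⟨fun e4 =>
            (mul_mem_cancel_left hζ).1 (e3 ▸ mem_normalizer_conj σV e4), fun e4 => by
              have e5 := mem_normalizer_conj σV e4
              have e6 : v * (ζ * (v * (w * x))) = ζ * (w * x) := by
                rw [← mul_assoc, cs_comm (CV t0.vP) hζ, mul_assoc, ← mul_assoc v, h1.v2, one_mul]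
              rcases av σ hσ with e7 | e7 <;> rw [← conj_mul, e3, e7] at e5
              · exact (mul_mem_cancel_left hζ).1 (e6 ▸ e5)
              · rw [mul_assoc, mul_mem_cancel_left zV, e6] at e5
                exact (mul_mem_cancel_left hζ).1 e5⟩
          have e5 := (m8.1 e).elim id e4.2
          exact vV ((mul_mem_cancel_right e5).1 (e4.1 e5)), hx.2⟩
        have l2 := Solv.PG.prime_mul_card_le_of_lt (IsPGroup.of_card (n := 3) c8 : IsPGroup 2 _)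
          (inf_lt_left.2 fun e : _ ≤ C1 σ => hP (ny σ hσ (mem_C1.1 (e (mem_sup_left yV))).symm))
        have l3 := Trans.card_le_of_le l1
        omega
  have BS : B ≤ S := BP.trans h2.le
  have B1 : B ≤ P₁ := fun x hx => (h1.memP (BS hx)).2 (comm_of_sq sq hx vB)
  have d1 : d₁ ∈ Ns B := by
    have sq' : ∀ x ∈ cj d₁ B, x * x = 1 := fun x hx => by
      simpa [← mul_assoc, mul_inv_eq_iff_eq_mul] using congrArg (d₁ * · * d₁⁻¹) (sq _ (mem_cj.1 hx))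
    have l1 : cj d₁ B ≤ P₁ := cj_le_iff.2 fun x hx => h1.dP (B1 hx)
    have l2 : P₂ ⊓ cj d₁ B ≤ B := fun x hx =>
      h.toCtx.mem_e16 sq c16 (sq' x hx.2) (hC.ge ⟨l1 hx.2, hx.1⟩).2
    refine mem_normalizer_of_cj_le fun σ hσ => l2 ⟨by_contra fun hP => ?_, hσ⟩
    have l3 := cB σ (h1.le (l1 hσ)) fun e => hP (hC.le ⟨h1.le (l1 hσ), e⟩).2
    have l4 := PzN.card_idx (M := P₂) (T := cj d₁ B) fun a ha b hb =>
      k2.idx2 a (h1.le (l1 ha)) b (h1.le (l1 hb))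
    have l5 := Trans.card_le_of_le (T := P₂ ⊓ cj d₁ B) (U := B ⊓ C1 σ) fun x hx =>
      ⟨l2 hx, mem_C1.2 (comm_of_sq sq' hx.2 hσ)⟩
    rw [card_cj] at l4
    omega
  have d2 : d₂ ∈ Ns B := n16 (hy ▸ VB yV) (hy' ▸ VB (mul_mem zV yV)) (hw ▸ wB) (hw' ▸ mul_mem vB wB)
  have dC : ∀ {Q : Subgroup G} {d}, Q ≤ S → (S : Subgroup G) ⊓ Cs B ≤ Q → d ∈ Ns Q → d ∈ Ns B →
      d ∈ Ns B ⊓ Ns ((S : Subgroup G) ⊓ Cs B) := fun {Q d} a b c e => ⟨e, by
    rw [show (S : Subgroup G) ⊓ Cs B = Q ⊓ Cs B from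
      le_antisymm (le_inf b inf_le_right) (inf_le_inf_right _ a)]
    exact mem_Ns_inf c (mem_Ns_Cs e)⟩
  have d1' := dC h1.le (hC.le.trans inf_le_left) h1.dN d1
  have d2' := dC h2.le (hC.le.trans inf_le_right) h2.dN d2
  have cen : ∀ b ∈ B, b ∈ Cs (S : Subgroup G) → b = 1 ∨ b = z := fun b hb hc => by
    have key : y ∉ Cs (S : Subgroup G) := fun e => h2.sP (ny _ h2.sS (cs_comm e h2.sS).symm)
    rcases m4.1 (BC ⟨hb, cs_mono h2.le hc⟩) with e | e | e | e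
    exacts [.inl e, .inr e, (key (e ▸ hc)).elim, (key ((mul_mem_cancel_left h1.zc).1 (e ▸ hc))).elim]
  classical
  have hB := h.toCtx.sq BS SB sq c16 cen (.inl ⟨⟨{z, v, z * v, y}, by
    have e1 : y ≠ v := fun e => t0.vC (e ▸ t1.zC)
    have e2 : y ≠ z * v := fun e => t0.vC ((mul_mem_cancel_left zC).1 (e ▸ t1.zC))
    rw [Finset.card_insert_of_notMem (by simp [h1.vz.symm, h1.v1, h3.symm]),
      Finset.card_insert_of_notMem (by simp [h1.z1, e1.symm]),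
      Finset.card_pair e2.symm], fun x hx => by
    simp only [Finset.mem_insert, Finset.mem_singleton] at hx
    rcases hx with rfl | rfl | rfl | rfl
    exacts [⟨1, one_mem _, by simp⟩, ⟨_, d1', h1.dz⟩,
      ⟨_, mul_mem d1' d1', by rw [← h1.dv, ← h1.dz]; group⟩, ⟨_, d2', hy⟩]⟩,
    fun σ hσ _ => cB σ hσ⟩)
  refine out_ut4 BS SB sq c16 ?_ (fun x hx => hB (hC.ge
    ⟨h1.idx2.mul_self_mem hx, k2.idx2.mul_self_mem hx⟩)) cen
  rcases Local.IdxLeTwo.le_or_relIndex (M := P₁) (T := P₂)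
    (fun a ha b hb => h1.idx2 a (h2.le ha) b (h2.le hb)) with e | e
  · exact (t0.vC (cs_mono e h1.vc)).elim
  · rw [k2.card, ← card_mul_relIndex (inf_le_right : P₁ ⊓ P₂ ≤ P₂), inf_relIndex_right, e,
      le_antisymm (hC.ge.trans hB) (le_inf B1 BP), c16]

end Cfsg.Lib.GHN
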