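import Cfsg.Agent.GHN.Defs
import Cfsg.Agent.GHB.Basic

/-!
# Simple groups of sectional 2-rank at most four: frames of sections one, two and six
-/

set_option autoImplicit false

namespace Cfsg.Lib.GHN

open Subgroup Cfsg.Lib.Trans Cfsg.Lib.Gold
open scoped commutatorElement

universe u

variable {G : Type u} [Group G]

/-- `P` is centric and fully normalised in `S`. -/
structure Ess (S P : Subgroup G) : Prop where
  le : P ≤ S
  cent : ∀ x ∈ S, x ∈ Cs P → x ∈ P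
  syl : IsSylowIn 2 (S ⊓ Ns P) (Ns P)

/-- The elements inducing inner automorphisms of `P`. -/
abbrev Kn (P : Subgroup G) : Subgroup G := P ⊔ Cs P

/-- `M / P C(P)` has order five or nine, is inverted by `t` and is irreducible under `N_S(P)`. -/
structure Ph (S P M : Subgroup G) (t : G) : Prop extends Ess S P where
  KM : Kn P ≤ M
  MN : M ≤ Ns P
  nM : S ⊓ Ns P ≤ Ns M
  min : ∀ N, Kn P ≤ N → N ≤ M → S ⊓ Ns P ≤ Ns N → N = Kn P ∨ N = M
  idx : (Kn P).relIndex M = 5 ∨ ((Kn P).relIndex M = 9 ∧ ∀ m ∈ M, m ^ 3 ∈ Kn P)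
  tS : t ∈ S
  tN : t ∈ Ns P
  t2 : t * t ∈ P
  inv : ∀ m ∈ M, t * m * t⁻¹ * m ∈ Kn P

/-- `N_S(P) / P` is generated by `t`. -/
def R2 (S P : Subgroup G) (t : G) : Prop := ∀ x ∈ S, x ∈ Ns P → x ∈ P ∨ x * t ∈ P

/-- `N_S(P) / P` is cyclic of order four, generated by `y`, with involution `t`. -/
structure R4 (S P : Subgroup G) (t y : G) : Prop where
  yS : y ∈ S
  yN : y ∈ Ns P
  y2 : y * y = t
  cases : ∀ x ∈ S, x ∈ Ns P → x ∈ P ∨ x * t ∈ P ∨ x * y ∈ P ∨ x * y⁻¹ ∈ P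

/-- The Frattini subgroup `Z` of `P` is central, `P / Z` has order sixteen. -/
structure Pz (S P M Z : Subgroup G) (t e : G) : Prop extends Ph S P M t where
  eq : Z = GHB.Phi P
  Z2 : ∀ x ∈ Z, x * x = 1
  MZ : M ≤ Cs Z
  card : Nat.card P = 16 * Nat.card Z
  eM : e ∈ M
  fpf : ∀ p ∈ P, ⁅e, p⁆ ∈ Z → p ∈ Z
  irr : ∀ H, Z ≤ H → H ≤ P → M ≤ Ns H → S ⊓ Ns P ≤ Ns H → H = Z ∨ H = P

/-- Every involution of `N_S(P) / P` inverts an automorphism of order five. -/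
def Inv5 (S P : Subgroup G) : Prop :=
  ∀ r ∈ S, r ∈ Ns P → r ∉ P → r * r ∈ P →
    ∃ e ∈ Ns P, e ^ 5 ∈ Cs P ∧ e ∉ Cs P ∧ r * e * r⁻¹ * e ∈ Kn P

/-- `P` is extraspecial of order 32 with an automorphism of order five. -/
structure Xm (S P : Subgroup G) (z : G) : Prop extends Ess S P where
  card : Nat.card P = 32
  z1 : z ≠ 1
  zc : z ∈ Cs P
  sq : ∀ p ∈ P, p * p = 1 ∨ p * p = z
  ex : ∃ p ∈ P, p * p = z
  inv5 : Inv5 S P
  lt : ¬ S ⊓ Ns P ≤ P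
  four : Nat.card (S ⊓ Ns P : Subgroup G) ≤ 4 * 32

/-- `P` is elementary of order sixteen and its automiser contains a normal `A₅`. -/
structure A5E (S P : Subgroup G) (ρ r e : G) : Prop extends Ess S P where
  card : Nat.card P = 16
  sq : ∀ p ∈ P, p * p = 1
  cardN : Nat.card (S ⊓ Ns P : Subgroup G) = 64
  sqN : ∀ x ∈ S, x ∈ Ns P → x * x ∈ P
  inv5 : Inv5 S P
  ρN : ρ ∈ Ns P
  ρ3 : ρ ^ 3 ∈ Cs P
  ρC : ρ ∉ Cs P
  ρU : ρ ∈ Ns (S ⊓ Ns P)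
  rN : r ∈ Ns P
  rρ : r * ρ * r⁻¹ * ρ ∈ Cs P
  e5 : e ^ 5 ∈ Cs P
  eC : e ∉ Cs P
  gen : e ∈ (S ⊓ Ns P) ⊔ Cs P ⊔ closure {ρ, r}

/-- The group generated by two commuting involutions. -/
abbrev F4 (z v : G) : Subgroup G := zpowers z ⊔ zpowers v

/-- The group generated by three commuting involutions. -/
abbrev F8 (z v w : G) : Subgroup G := F4 z v ⊔ zpowers w

/-- Section six: no good `Tri`, and all `Tri`s have index two. -/
structure Six (S : Sylow 2 G) : Prop extends Cx S where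
  nV : ¬ GV (S : Subgroup G)
  nQ : ¬ GQ (S : Subgroup G)
  nrm : ∀ P d s, Tri (S : Subgroup G) P d s → (S : Subgroup G) ≤ Ns P

/-- `d` permutes the involutions of the four-group `⟨z, v⟩`, `z` central in `S`. -/
structure VV (S P : Subgroup G) (d s z v : G) : Prop extends Tri S P d s where
  nS : S ≤ Ns P
  zS : z ∈ S
  zc : z ∈ Cs S
  z2 : z * z = 1
  z1 : z ≠ 1
  dz : d * z * d⁻¹ = v
  dv : d * v * d⁻¹ = z * v

/-- The subgroup generated by all the four-groups of the `VV`s. -/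
def EE (S : Subgroup G) : Subgroup G :=
  closure {x | ∃ P d s z v, VV S P d s z v ∧ (x = z ∨ x = v)}

/-- A second `Tri` moving `⟨z, v⟩` out of `EE S`. -/
structure Mv (S P₁ P₂ : Subgroup G) (d₁ s₁ d₂ s₂ z v : G) : Prop where
  vv : VV S P₁ d₁ s₁ z v
  tri : Tri S P₂ d₂ s₂
  vP : v ∈ P₂
  dz : d₂ * z * d₂⁻¹ = z
  out : d₂ * v * d₂⁻¹ ∉ EE S

/-- `⟨z, v, w⟩` is a normal `E₈` on which `S` acts as a dihedral group of order eight. -/
structure W8 (S P₁ P₂ : Subgroup G) (d₁ s₁ d₂ s₂ z v w : G) : Prop where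
  vv : VV S P₁ d₁ s₁ z v
  tri : Tri S P₂ d₂ s₂
  nS : S ≤ Ns P₂
  vP : v ∈ P₂
  dz : d₂ * z * d₂⁻¹ = z
  dv : d₂ * v * d₂⁻¹ = w
  dw : d₂ * w * d₂⁻¹ = v * w ∨ d₂ * w * d₂⁻¹ = z * (v * w)
  vw : v * w = w * v
  wV : w ∉ F4 z v
  ex : ∃ p ∈ P₂, p * v = v * p ∧ p * w * p⁻¹ = z * w

/-- `P` has order 64 and `P / B` acts non-singularly on the normal `E₁₆` `B`. -/
structure PB (S P B : Subgroup G) (d s z v : G) : Prop extends VV S P d s z v where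
  BP : B ≤ P
  sq : ∀ b ∈ B, b * b = 1
  cB : Nat.card B = 16
  cP : Nat.card P = 64
  nB : S ≤ Ns B
  zB : z ∈ B
  vB : v ∈ B
  cm : ∀ p ∈ P, ∀ b ∈ B, ⁅p, b⁆ ∈ F4 z v
  nd : ∀ p ∈ P, ∀ b ∈ B, p * b = b * p → p ∈ B ∨ b ∈ F4 z v

end Cfsg.Lib.GHN
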