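import Cfsg.Agent.GHN.Tool

/-!
# Simple groups of sectional 2-rank at most four: three centres
-/

set_option autoImplicit false

namespace Cfsg.Lib.GHN

open Subgroup Cfsg.Lib.Trans Cfsg.Lib.Gold
open scoped commutatorElement

universe u

variable {G : Type u} [Group G] [Finite G] {S : Sylow 2 G} {X : Subgroup G} {y z : G}

theorem l0g (h4 : SectionalPRankLE 2 4 G) (h1 : NC (S : Subgroup G) X z)
    (h2 : ∀ g ∈ (S : Subgroup G), ∀ h ∈ (S : Subgroup G), IsConj z ⁅g, h⁆ → ⁅g, h⁆ ∈ Cs X)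
    (hy : y ∈ (S : Subgroup G)) (h3 : IsConj z y) (h5 : y ∈ Cs X) : y = z := by
  by_contra h6
  have ci : ∀ {g a b : G}, g * a * g⁻¹ = g * b * g⁻¹ → a = b := fun e =>
    mul_left_cancel (mul_right_cancel e)
  obtain ⟨u, hu, v, hv, h8⟩ := h1.x8
  have hz : ⁅u, v⁆ = z := by rw [commutatorElement_def, h8.uv]; group
  have zX : z ∈ X := hz ▸ mul_mem (mul_mem (mul_mem hu hv) (inv_mem hu)) (inv_mem hv)
  have zc : z ∈ Cs (S : Subgroup G) := by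
    obtain ⟨x, hx, x1, -, xc⟩ := meet S.isPGroup' h1.le h1.nrm fun e => h8.w1 (mem_bot.1 (e ▸ zX))
    exact (h1.cen x hx (cs_mono h1.le xc)).resolve_left x1 ▸ xc
  have : Nonempty {y : G // y ∈ (S : Subgroup G) ∧ IsConj z y ∧ y ∈ Cs X ∧ y ≠ z} :=
    ⟨⟨y, hy, h3, h5, h6⟩⟩
  obtain ⟨⟨y, hy, h3, h5, h6⟩, hm⟩ := Finite.exists_max
    fun y : {y : G // y ∈ (S : Subgroup G) ∧ IsConj z y ∧ y ∈ Cs X ∧ y ≠ z} =>
      Nat.card ((S : Subgroup G) ⊓ C1 y.1 : Subgroup G)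
  by_cases hc : (S : Subgroup G) ≤ (S : Subgroup G) ⊓ C1 y
  · obtain ⟨n, hn, rfl⟩ := burn ⟨h1.le zX, zc⟩
      ⟨hy, cs_of fun x hx => (mem_centralizer_singleton_iff.1 (hc hx).2).symm⟩ h3
    have a1 := h1.cj n
    rw [cj_eq_of_mem_normalizer hn] at a1
    have a2 := a1.cj n
    rw [cj_eq_of_mem_normalizer hn] at a2
    refine NC.three h4 S.isPGroup' h1 a1 a2 h6.symm (fun e => h6 ?_) fun e => h6 (ci e).symm
    obtain ⟨k, ⟨j, rfl⟩, hk⟩ := ns_odd hn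
    have a3 : n ^ 2 ∈ C1 z := mem_centralizer_singleton_iff.2 (by
      conv_rhs => rw [e]
      rw [sq]; group)
    have a4 : n ^ (2 * j + 1) ∈ C1 z := mem_centralizer_singleton_iff.2 (cs_comm zc hk).symm
    rw [pow_succ, pow_mul, mul_mem_cancel_left (pow_mem a3 j)] at a4
    rw [mem_centralizer_singleton_iff.1 a4, mul_inv_cancel_right]
  have xR : ∀ w ∈ Cs X, X ≤ (S : Subgroup G) ⊓ C1 w := fun w hw x hx =>
    ⟨h1.le hx, mem_centralizer_singleton_iff.2 (cs_comm hw hx).symm⟩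
  obtain ⟨g, hg, hS⟩ := ext_cen zc h3.symm
  have gS : ∀ r ∈ (S : Subgroup G) ⊓ C1 y, g * r * g⁻¹ ∈ (S : Subgroup G) := fun r hr =>
    hS r hr.1 (mem_centralizer_singleton_iff.1 hr.2)
  have b1 : ⁅g * u * g⁻¹, g * v * g⁻¹⁆ = g * z * g⁻¹ := by
    rw [← hz, commutatorElement_def, commutatorElement_def]; group
  have b2 : IsConj z (g * z * g⁻¹) := isConj_iff.2 ⟨g, rfl⟩
  have b3 : g * z * g⁻¹ ∈ Cs X := b1 ▸ h2 _ (gS u (xR y h5 hu)) _ (gS v (xR y h5 hv)) (b1 ▸ b2)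
  have b4 : cj g ((S : Subgroup G) ⊓ C1 y) = (S : Subgroup G) ⊓ C1 (g * z * g⁻¹) :=
    eq_of_le_of_card_ge (cj_le_iff.2 fun r hr => ⟨gS r hr, mem_centralizer_singleton_iff.2 (by
      calc _ = g * (r * z) * g⁻¹ := by group
        _ = _ := by rw [← cs_comm zc hr.1]; group)⟩) (by
      rw [card_cj]
      exact hm ⟨_, gS z (xR y h5 zX), b2, b3, fun e => h6 (ci (hg.trans e.symm))⟩)
  have b5 := (h1.mono (xR _ b3) (inf_le_left.trans h1.nrm)).cj g⁻¹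
  rw [← b4, cj_inv_cj, show g⁻¹ * z * g⁻¹⁻¹ = y by rw [← hg]; group] at b5
  have pR : IsPGroup 2 ((S : Subgroup G) ⊓ C1 y : Subgroup G) := pS inf_le_left
  obtain ⟨x, xS, xN, xn, -⟩ := grow2 S.isPGroup' inf_le_left hc
  have b6 := b5.cj x
  rw [cj_eq_of_mem_normalizer xN] at b6
  refine NC.three h4 pR (h1.mono (xR y h5) (inf_le_left.trans h1.nrm)) b5 b6 h6.symm
    (fun e => h6 (ci (e.symm.trans ?_))) fun e => xn ⟨xS, mem_centralizer_singleton_iff.2 ?_⟩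
  · rw [← cs_comm zc xS, mul_inv_cancel_right]
  · conv_rhs => rw [e]
    group

end Cfsg.Lib.GHN
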