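import Cfsg.Agent.GHN.Fr2
import Cfsg.Agent.GHN.Api
import Cfsg.Agent.Comp.Tools
import Cfsg.Agent.Block.SylowIn

/-!
# Simple groups of sectional 2-rank at most four: good four-groups
-/

set_option autoImplicit false
set_option linter.unusedSectionVars false

namespace Cfsg.Lib.GHN

open Subgroup Cfsg.Lib.Trans Cfsg.Lib.Gold Cfsg.Lib.Rank2 Cfsg.Lib.GHB
open scoped commutatorElement

universe u

variable {G : Type u} [Group G] [Finite G] {S : Sylow 2 G} {P Q T : Subgroup G}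
  {b d n p q s x y z : G}

namespace VF
variable (h0 : VF T P d s z b)
include h0

theorem b2 : b * b = 1 := by rw [← h0.dz, conj_mul, h0.z2]; simp

theorem b1 : b ≠ 1 := fun e => h0.z1 (conj_eq_one_iff.1 (h0.dz.trans e))

theorem bP : b ∈ P := h0.dz ▸ h0.toTri.dP h0.zP

theorem zb : z * b = b * z := ((h0.mem z (h0.le h0.zP)).1 h0.zP).2

theorem dzb : d * (z * b) * d⁻¹ = z := by
  rw [cjm, h0.dz, h0.db, ← mul_assoc, ← h0.zb, mul_assoc, h0.b2, mul_one]

theorem eqP : P = T ⊓ C1 z ⊓ C1 b := by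
  ext x
  simp only [mem_inf, mem_centralizer_singleton_iff, and_assoc]
  exact ⟨fun h => ⟨h0.le h, (h0.mem x (h0.le h)).1 h⟩, fun h => (h0.mem x h.1).2 h.2⟩

theorem conj : IsConj z b := isConj_iff.2 ⟨d, h0.dz⟩

theorem fix4 (hq : q ∈ F4 z b) (h1 : d * q = q * d) : q = 1 := by
  rw [← mul_inv_eq_iff_eq_mul] at h1
  rcases (mem_F4 h0.z2 h0.b2 h0.zb).1 hq with rfl | rfl | rfl | rfl
  · rfl
  · exact absurd (h0.dz.symm.trans h1) h0.bz
  · exact absurd (mul_eq_right.1 (h0.db.symm.trans h1)) h0.z1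
  · exact absurd (left_eq_mul.1 (h0.dzb.symm.trans h1)) h0.b1

theorem le4 : F4 z b ≤ P ⊓ Cs P :=
  F4_le ⟨h0.zP, cs_of fun x hx => ((h0.mem x (h0.le hx)).1 hx).1.symm⟩
    ⟨h0.bP, cs_of fun x hx => ((h0.mem x (h0.le hx)).1 hx).2.symm⟩

theorem sq4 (hq : q ∈ F4 z b) : q * q = 1 := by
  rcases (mem_F4 h0.z2 h0.b2 h0.zb).1 hq with rfl | rfl | rfl | rfl
  · exact one_mul 1
  · exact h0.z2
  · exact h0.b2
  · rw [mul_assoc, ← mul_assoc b, ← h0.zb, mul_assoc, h0.b2, mul_one, h0.z2]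

theorem d4 : d ∈ Ns (F4 z b) := ns_F4 (h0.dz ▸ v_F4) (h0.db ▸ mul_mem z_F4 v_F4)

theorem fix (hp : p ∈ P) : ∃ q ∈ F4 z b, d * (p * q) = p * q * d :=
  cop_fix h0.toTri.pP h0.dN h0.d3 (h0.le4.trans inf_le_left)
    (fun x hx => ns_of fun a ha => by
      rw [← cs_comm (h0.le4 ha).2 hx, mul_inv_cancel_right]; exact ha) h0.d4 hp (h0.cm p hp)

theorem phi (hq : q ∈ Phi P) : d * q = q * d := by
  refine (mem_centralizer_singleton_iff.1 ((Phi_le_iff (K := C1 d)).2 (fun x hx => ?_) hq)).symm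
  obtain ⟨w, hw, e⟩ := h0.fix hx
  have e2 : x * x = x * w * (x * w) := by
    rw [mul_assoc x w, ← mul_assoc w, cs_comm (h0.le4 hw).2 hx, mul_assoc x w, h0.sq4 hw, mul_one]
  rw [e2]
  exact mul_mem (mem_centralizer_singleton_iff.2 e.symm) (mem_centralizer_singleton_iff.2 e.symm)

theorem nphi : z ∉ Phi P := fun h => h0.z1 (h0.fix4 z_F4 (h0.phi h))

theorem hN (hx : x ∈ T) (h1 : x ∈ Ns P) :
    x * z = z * x ∧ (x * b * x⁻¹ = b ∨ x * b * x⁻¹ = z * b) := by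
  rcases h0.idx x hx h1 with h | h
  · obtain ⟨e1, e2⟩ := (h0.mem x hx).1 h
    exact ⟨e1, Or.inl (by rw [e2, mul_inv_cancel_right])⟩
  · obtain ⟨e1, e2⟩ := (h0.mem _ (h0.le h)).1 h
    have e3 : x * z = z * x := by
      rw [mul_assoc, h0.sz, ← mul_assoc, ← mul_assoc] at e1
      exact mul_right_cancel e1
    refine ⟨e3, Or.inr ?_⟩
    have e4 : x * (z * b) * x⁻¹ = b := by
      rw [← h0.sb]
      calc x * (s * b * s⁻¹) * x⁻¹ = x * s * b * (x * s)⁻¹ := by group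
        _ = b := by rw [e2, mul_inv_cancel_right]
    rw [cjm, e3, mul_inv_cancel_right] at e4
    calc x * b * x⁻¹ = z * (z * (x * b * x⁻¹)) := by rw [← mul_assoc z, h0.z2, one_mul]
      _ = _ := by rw [e4]

theorem cj (hn : n ∈ Ns T) :
    VF T (cj n P) (n * d * n⁻¹) (n * s * n⁻¹) (n * z * n⁻¹) (n * b * n⁻¹) :=
  { h0.toTri.cj hn with
    z2 := by rw [conj_mul, h0.z2]; simp
    z1 := by simpa using h0.z1
    bz := by simpa using h0.bz
    zP := conj_mem_cj.2 h0.zP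
    dz := by rw [← h0.dz]; group
    db := by rw [← cjm n z b, ← h0.db]; group
    sz := by rw [conj_mul, conj_mul, h0.sz]
    sb := by rw [← cjm n z b, ← h0.sb]; group
    mem := fun x hx => by
      obtain ⟨x, rfl⟩ : ∃ x', x = n * x' * n⁻¹ := ⟨n⁻¹ * x * n, by group⟩
      have hx' : x ∈ T := conj_mem_cj.1 (by rwa [cj_eq_of_mem_normalizer hn])
      rw [conj_mem_cj, h0.mem x hx']
      simp only [conj_mul, mul_left_inj, mul_right_inj]
    cm := by
      rintro _ ⟨p, hp, rfl⟩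
      have := conj_mem_cj (g := n).2 (h0.cm p hp)
      rw [cj_sup, cj_zpowers, cj_zpowers, conjugate_commutatorElement] at this
      exact this }

end VF

omit [Finite G] in
theorem enum4 (h4 : Nat.card Q = 4) (hd : d ∈ Ns Q)
    (h3 : ∀ x ∈ Q, d * (d * (d * x * d⁻¹) * d⁻¹) * d⁻¹ = x) (hq : q ∈ Q) (hn : d * q * d⁻¹ ≠ q) (hx : x ∈ Q) :
    x = 1 ∨ x = q ∨ x = d * q * d⁻¹ ∨ x = d * (d * q * d⁻¹) * d⁻¹ := by
  have q0 : q ≠ 1 := fun e => hn (by simp [e])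
  have n1 : d * (d * q * d⁻¹) * d⁻¹ ≠ d * q * d⁻¹ := by simpa using hn
  have n2 : d * (d * q * d⁻¹) * d⁻¹ ≠ q := fun e => hn (by have := h3 q hq; rwa [e] at this)
  have : Finite Q := Nat.finite_of_card_ne_zero (by omega)
  have e : ({1, q, d * q * d⁻¹, d * (d * q * d⁻¹) * d⁻¹} : Set G) = Q := by
    refine Set.eq_of_subset_of_ncard_le ?_ ?_ (Set.toFinite _)
    · rintro _ (rfl | rfl | rfl | rfl)
      exacts [one_mem _, hq, mem_normalizer_conj hd hq,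
        mem_normalizer_conj hd (mem_normalizer_conj hd hq)]
    · rw [Set.ncard_insert_of_notMem, Set.ncard_insert_of_notMem, Set.ncard_pair n1.symm]
      · exact h4.le
      · rintro (e | e)
        exacts [hn e.symm, n2 e.symm]
      · rintro (e | e | e)
        exacts [q0 e.symm, q0 (conj_eq_one_iff.1 e.symm),
          q0 (conj_eq_one_iff.1 (conj_eq_one_iff.1 e.symm))]
  exact e.ge hx

theorem GV.vf (hT : IsPGroup 2 T) (h0 : GV T) : ∃ P d s z b, VF T P d s z b := by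
  obtain ⟨P, Q, d, s, ht, hg, h4⟩ := h0
  have en := fun q x => enum4 (q := q) (x := x) h4 hg.dQ fun x hx => ht.ddd (hg.le hx)
  have dq := fun x (hx : x ∈ Q) => mem_normalizer_conj hg.dQ hx
  obtain ⟨q, hq, hn⟩ : ∃ q ∈ Q, d * q * d⁻¹ ≠ q := by
    by_contra! k
    refine ht.dC (cs_of fun x hx => commutatorElement_eq_one_iff_mul_comm.1 (mem_bot.1 ?_))
    exact cop ht.pP ht.dN ht.d3 bot_le hg.le (fun _ _ => ns_of (by simp)) (ns_of (by simp)) hg.cm
      (fun u hu => by rw [commutatorElement_def, k u hu, mul_inv_cancel]; exact one_mem _) x hx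
  have nf : ∀ x ∈ Q, d * x * d⁻¹ = x → x = 1 := fun x hx e => by
    rcases en q x hq hn hx with rfl | rfl | rfl | rfl
    · rfl
    · exact absurd e hn
    · exact absurd (by simpa using e) hn
    · exact absurd (by simpa using e) hn
  have onto : ∀ x ∈ Q, ∃ y ∈ Q, ⁅d, y⁆ = x := fun x hx => by
    let f : Q → Q := fun y => ⟨⁅d, y.1⁆, mul_mem (dq _ y.2) (inv_mem y.2)⟩
    have hf : Function.Injective f := fun y y' e => by
      have e1 : ⁅d, y.1⁆ = ⁅d, y'.1⁆ := congrArg Subtype.val e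
      refine Subtype.ext (inv_mul_eq_one.1 (nf _ (mul_mem (inv_mem y'.2) y.2) ?_)).symm
      calc d * (y'.1⁻¹ * y.1) * d⁻¹ = y'.1⁻¹ * ⁅d, y'.1⁆⁻¹ * ⁅d, y.1⁆ * y.1 := by
            simp only [commutatorElement_def]; group
        _ = _ := by rw [e1]; group
    obtain ⟨y, hy⟩ := Finite.injective_iff_surjective.1 hf ⟨x, hx⟩
    exact ⟨y, y.2, congrArg Subtype.val hy⟩
  have nP : P ≤ Ns Q := fun p hp => ns_of fun x hx => by
    obtain ⟨y, hy, rfl⟩ := onto x hx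
    have := mul_mem (inv_mem (hg.cm p hp)) (hg.cm _ (mul_mem hp (hg.le hy)))
    convert this using 1
    simp only [commutatorElement_def]; group
  have sq : ∀ x ∈ Q, s * x * s⁻¹ ∈ Q := fun x hx => by
    obtain ⟨y, hy, rfl⟩ := onto x hx
    have := mem_normalizer_conj (inv_mem hg.dQ)
      (inv_mem (hg.cm _ (mem_normalizer_conj ht.sN (hg.le hy))))
    rw [commutatorElement_def, cjm, ht.sd (hg.le hy)]
    convert this using 1
    group
  obtain ⟨w, hw, w1, w2, wc, -⟩ := Comp.exists_fix ht.pP (ht.pP.to_le hg.le) nP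
    (fun e => by simp [e] at h4)
  have wn : d * w * d⁻¹ ≠ w := fun e => w1 (nf w hw e)
  have all : ∀ x ∈ Q, x * x = 1 ∧ x ∈ Cs P := fun x hx => by
    rcases en w x hw wn hx with rfl | rfl | rfl | rfl
    · exact ⟨one_mul 1, one_mem _⟩
    · exact ⟨w2, wc⟩
    · exact ⟨by rw [conj_mul, w2]; simp, cs_ns wc ht.dN⟩
    · exact ⟨by rw [conj_mul, conj_mul, w2]; simp, cs_ns (cs_ns wc ht.dN) ht.dN⟩
  have sd : ∀ x ∈ Q, s * (d * x * d⁻¹) * s⁻¹ = d * (d * (s * x * s⁻¹) * d⁻¹) * d⁻¹ := fun x hx => by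
    rw [ht.sd (hg.le hx), ht.dd (hg.le (sq x hx))]
  obtain ⟨z, hz, z1, sz⟩ : ∃ z ∈ Q, z ≠ 1 ∧ s * z * s⁻¹ = z := by
    rcases en w _ hw wn (sq w hw) with e | e | e | e
    · exact absurd (conj_eq_one_iff.1 e) w1
    · exact ⟨w, hw, w1, e⟩
    · refine ⟨_, dq _ (dq _ hw), by simpa using w1, ?_⟩
      rw [sd _ (dq _ hw), sd _ hw, e, ht.ddd (hg.le hw)]
    · refine ⟨_, dq _ hw, by simpa using w1, ?_⟩
      rw [sd _ hw, e, ht.ddd (hg.le (dq _ hw))]
  have zn : d * z * d⁻¹ ≠ z := fun e => z1 (nf z hz e)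
  have z2 := (all z hz).1
  have db : d * (d * z * d⁻¹) * d⁻¹ = z * (d * z * d⁻¹) := by
    rcases en z _ hz zn (mul_mem hz (dq _ hz)) with e | e | e | e
    · exact absurd ((inv_eq_of_mul_eq_one_right e).symm.trans (inv_eq z2)) zn
    · exact absurd (conj_eq_one_iff.1 (mul_eq_left.1 e)) z1
    · exact absurd (mul_eq_right.1 e) z1
    · exact e.symm
  have sb : s * (d * z * d⁻¹) * s⁻¹ = z * (d * z * d⁻¹) := by rw [sd z hz, sz, db]
  have hP : P ≤ T ⊓ C1 z ⊓ C1 (d * z * d⁻¹) := fun x hx =>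
    ⟨⟨ht.le hx, mem_centralizer_singleton_iff.2 (cs_comm (all z hz).2 hx).symm⟩,
      mem_centralizer_singleton_iff.2 (cs_comm (all _ (dq z hz)).2 hx).symm⟩
  have eP : T ⊓ C1 z ⊓ C1 (d * z * d⁻¹) ≤ P := by
    by_contra k
    have : Fact (Nat.Prime 2) := ⟨Nat.prime_two⟩
    obtain ⟨x, ⟨⟨⟨x1, -⟩, x2⟩, x3⟩, x4⟩ := SetLike.exists_of_lt (Block.lt_inf_normalizer_of_lt
      (hT.to_le (inf_le_left.trans inf_le_left)) (lt_of_le_not_ge hP k))
    have x5 := ((C1 _).mul_mem_cancel_left x2).1 (hP ((ht.idx x x1 x3).resolve_left x4)).2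
    rw [mem_centralizer_singleton_iff.1 x5, mul_inv_cancel_right] at sb
    exact z1 (mul_eq_right.1 sb.symm)
  refine ⟨P, d, s, z, d * z * d⁻¹, ht, z2, z1, zn, hg.le hz, rfl, db, mul_inv_eq_iff_eq_mul.1 sz,
    sb, fun x hx => ⟨fun h => ⟨mem_centralizer_singleton_iff.1 (hP h).1.2,
      mem_centralizer_singleton_iff.1 (hP h).2⟩, fun h => eP
        ⟨⟨hx, mem_centralizer_singleton_iff.2 h.1⟩, mem_centralizer_singleton_iff.2 h.2⟩⟩,
    fun p hp => ?_⟩
  rcases en z ⁅d, p⁆ hz zn (hg.cm p hp) with e | e | e | e <;> rw [e]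
  exacts [one_mem _, z_F4, v_F4, db ▸ mul_mem z_F4 v_F4]

/-- a generator of type one is a good four-group -/
theorem G1.vf (h0 : Gn (S : Subgroup G) P d) (h1 : G1 (S : Subgroup G) P d z y)
    (hz : z ∈ (S : Subgroup G)) (hc : z ∈ Cs (S : Subgroup G)) (z2 : z * z = 1) (z1 : z ≠ 1)
    (hy : y ∉ Cs (S : Subgroup G)) : ∃ s, VF (S : Subgroup G) P d s z y := by
  rcases h0 with ⟨s, ht⟩ | ⟨rfl, -⟩
  · have zP := ht.cenP hz hc
    have sz := cs_comm hc ht.sS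
    refine ⟨s, ht, z2, z1, h1.yz, zP, h1.fz, h1.fy, sz.symm, ?_, fun x hx => ?_, h1.cm⟩
    · rw [← h1.fy, ← h1.fz, ht.sd zP, ← sz, mul_inv_cancel_right, ht.dd zP]
    · rw [h1.mem x hx, and_iff_right (cs_comm hc hx).symm]
  · exact absurd (cs_of fun x hx => ((h1.mem x hx).1 hx).symm) hy

end Cfsg.Lib.GHN
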