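import Cfsg.Agent.GHN.D1a

/-!
# Simple groups of sectional 2-rank at most four: the elements of order four fused to `i`
-/

set_option autoImplicit false

namespace Cfsg.Lib.GHN

open Subgroup Cfsg.Lib.Trans Cfsg.Lib.Gold Cfsg.Lib.Rank2 Cfsg.Lib.GHB
open scoped commutatorElement

universe u

variable {G : Type u} [Group G] [Finite G] {S : Sylow 2 G} {P : Subgroup G}
  {a b d e h s u x y y' z : G} {k : ℕ}

omit [Finite G] in
theorem D1b_pow {n : ℕ} (h1 : x ^ 2 ^ n = 1) (h2 : x ≠ 1) :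
    ∃ j : ℕ, x ^ j ≠ 1 ∧ x ^ j * x ^ j = 1 := by
  induction n with
  | zero => exact absurd (by simpa using h1) h2
  | succ n ih =>
    by_cases e : x ^ 2 ^ n = 1
    · exact ih e
    · exact ⟨2 ^ n, e, by rw [← pow_add, ← two_mul, ← pow_succ', h1]⟩

namespace D1
variable (h0 : D1 S P d s z b a (k + 1))
include h0

theorem rf_nc (hy : Rf a b y) : y * a ≠ a * y := fun e => by
  have k1 := h0.dh.rfa hy
  rw [e, mul_inv_cancel_right] at k1
  have k2 : a ^ (2 : ℤ) = a ^ (0 : ℤ) := by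
    rw [zpow_two, zpow_zero]; nth_rewrite 1 [k1]; exact inv_mul_cancel a
  have k3 := (h0.dh.pow_eq.1 k2).symm.dvd
  rw [sub_zero, pow_succ, pow_succ] at k3
  obtain ⟨c, hc⟩ := k3
  have : (2 : ℤ) ^ k * c * 2 = 1 := by linarith
  omega

theorem l2_key (hz : h * z * h⁻¹ = z) (hy : Rf a b y) (hy' : Rf a b y')
    (h1 : h * y * h⁻¹ ∈ (S : Subgroup G)) (h2 : Sw (S : Subgroup G) a b (h * y' * h⁻¹))
    (h3 : h * u * h⁻¹ ∈ (S : Subgroup G)) (h4 : u ∈ Cs (Dl a b)) (h5 : y * u = y' * x)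
    (h6 : h * x * h⁻¹ ∈ zpowers a) : u = 1 ∨ u = z := by
  obtain ⟨l, hl⟩ := mem_zpowers_iff.1 h6
  obtain ⟨δ, -, hδ⟩ := h0.swc h2 l
  have yD : y ∈ Dl a b := h0.dh.mem.2 (Or.inr hy)
  have aD : a ∈ Dl a b := mem_sup_left (mem_zpowers a)
  have uy := cs_comm h4 yD
  have ua := cs_comm h4 aD
  have za := h0.dh.zc h0.dh.aH
  have zy := h0.dh.zc (h0.dh.le yD)
  have cj : ∀ w : G, IsConj w (h * w * h⁻¹) := fun w => isConj_iff.2 ⟨h, rfl⟩
  have inj : ∀ v w : G, h * v * h⁻¹ = h * w * h⁻¹ → v = w := fun v w e => by simpa using e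
  have c1 : IsConj z (h * (y * u) * h⁻¹) := by
    refine ((D1.cjr h0 hy').trans (cj _)).trans (isConj_iff.2 ⟨δ, ?_⟩)
    rw [hδ, hl, h5, conj_mul]
  have yz : h * y * h⁻¹ ≠ z := fun e => h0.dh.rfn hy (inj _ _ (e.trans hz.symm) ▸ h0.dh.za')
  have y2 := h0.dh.rf2 hy
  have k1 := h0.pure h1 (by rw [← conj_mul]; exact mul_mem h1 h3) ((D1.cjr h0 hy).trans (cj _)) yz
    c1 (by rw [conj_mul, conj_mul, mul_assoc y u y, uy])
  rw [mem_F4 h0.dh.z2 (by rw [conj_mul, y2]; simp) (h0.dh.zc h1).symm] at k1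
  have nc := h0.rf_nc hy
  rcases k1 with k1 | k1 | k1 | k1
  · have e : y = u⁻¹ := eq_inv_of_mul_eq_one_left (inj _ 1 (by simpa using k1))
    exact absurd (by rw [e]; exact (Commute.inv_left ua).eq) nc
  · have e : y = z * u⁻¹ := by rw [← inj _ _ (k1.trans hz.symm)]; group
    exact absurd (by rw [e]; exact (Commute.mul_left za.symm (Commute.inv_left ua)).eq) nc
  · exact Or.inl (mul_eq_left.1 (inj _ _ k1))
  · right
    rw [← hz, conj_mul] at k1
    have e := inj _ _ k1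
    rw [← zy] at e
    exact mul_left_cancel e

theorem l2' (he : e ∈ zpowers a) (h1 : e * e ≠ 1) (hu : u ∈ (S : Subgroup G))
    (h2 : u ∈ Cs (Dl a b)) (h3 : u * u = 1) (h4 : IsConj e (e * u)) : u = 1 ∨ u = z := by
  have aD : a ∈ Dl a b := mem_sup_left (mem_zpowers a)
  have bD : b ∈ Dl a b := mem_sup_right (mem_zpowers b)
  have eD : e ∈ Dl a b := mem_sup_left he
  have eS := h0.dh.le eD
  have ue := cs_comm h2 eD
  have ub := cs_comm h2 bD
  have le : zpowers e ≤ zpowers a := zpowers_le.2 he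
  obtain ⟨m, hm⟩ := mem_zpowers_iff.1 he
  have be : b * e * b⁻¹ = e⁻¹ := by rw [← hm, ← conj_zpow, h0.dh.ba, inv_zpow]
  have nS : (S : Subgroup G) ≤ ⊤ ⊓ Ns (zpowers e) := fun g hg => ⟨mem_top _, ns_of fun x hx => by
    obtain ⟨κ, l, -, k1, -⟩ := h0.dh.act hg
    obtain ⟨j, rfl⟩ := mem_zpowers_iff.1 hx
    rw [← conj_zpow]
    refine zpow_mem ?_ j
    rw [← hm, ← conj_zpow, k1, ← zpow_mul, mul_comm, zpow_mul]
    exact zpow_mem (mem_zpowers _) κ⟩
  obtain ⟨g, hg⟩ := isConj_iff.1 h4.symm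
  obtain ⟨c, hc, hR⟩ := ext_in (M := (S : Subgroup G)) (H := ⊤) (U' := zpowers (e * u))
    (R := (S : Subgroup G) ⊓ Ns (zpowers (e * u))) (sylIn nS) (mem_top g)
    (by rw [cj_zpowers, hg]) (pS inf_le_left) (le_inf le_top inf_le_right)
  have hS : ∀ x ∈ (S : Subgroup G), (x * (e * u) * x⁻¹ = e * u ∨ x * (e * u) * x⁻¹ = (e * u)⁻¹) →
      c * g * x * (c * g)⁻¹ ∈ (S : Subgroup G) := fun x hx k1 =>
    cj_le_iff.1 hR x ⟨hx, ns_of fun y hy => by
      obtain ⟨j, rfl⟩ := mem_zpowers_iff.1 hy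
      rw [← conj_zpow]
      refine zpow_mem ?_ j
      rcases k1 with k1 | k1 <;> rw [k1]
      exacts [mem_zpowers _, inv_mem (mem_zpowers _)]⟩
  have f1 : c * g * (e * u) * (c * g)⁻¹ ∈ zpowers a := by
    rw [show c * g * (e * u) * (c * g)⁻¹ = c * (g * (e * u) * g⁻¹) * c⁻¹ by group, hg]
    exact le (mem_normalizer_conj hc.2 (mem_zpowers e))
  generalize c * g = h at hS f1
  have ui := inv_eq h3
  have inj : ∀ v w : G, h * v * h⁻¹ = h * w * h⁻¹ → v = w := fun v w e => by simpa using e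
  have hz : h * z * h⁻¹ = z := by
    obtain ⟨n, hn⟩ := S.isPGroup' ⟨e * e, mul_mem eS eS⟩
    obtain ⟨j, j1, j2⟩ := D1b_pow (x := e * e) (congrArg Subtype.val hn) h1
    have j3 := (h0.dh.inv (pow_mem (mul_mem he he) j) j2).resolve_left j1
    have j4 : e * u * (e * u) = e * e := by
      rw [show e * u * (e * u) = e * (u * e) * u by group, ue, mul_assoc, mul_assoc, h3, mul_one]
    refine (h0.dh.inv ?_ (by rw [conj_mul, h0.dh.z2]; simp)).resolve_left fun e =>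
      h0.dh.z1 (inj _ 1 (by simpa using e))
    rw [← j3, ← j4, ← conj_pow, ← conj_mul]
    exact pow_mem (mul_mem f1 f1) j
  have r1 : Rf a b b := ⟨0, by simp⟩
  have r2 : Rf a b (b * e) := ⟨-m, by rw [zpow_neg, hm, ← be]; group⟩
  have bi : b * (e * u) * b⁻¹ = (e * u)⁻¹ := by
    rw [← conj_mul, be, ← ub, mul_inv_cancel_right, ← ue, mul_inv_rev, ui]
  have s1 := hS b h0.dh.bH (Or.inr bi)
  have s2 := hS (b * e) (mul_mem h0.dh.bH eS) (Or.inr (by
    rw [show b * e * (e * u) * (b * e)⁻¹ = b * (e * (e * (u * e⁻¹))) * b⁻¹ by group,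
      (Commute.inv_right ue).eq, mul_inv_cancel_left, bi]))
  have s3 := hS u hu (Or.inl (by rw [← mul_assoc, ue, mul_inv_cancel_right]))
  have cj : ∀ w : G, IsConj w (h * w * h⁻¹) := fun w => isConj_iff.2 ⟨h, rfl⟩
  have nz : ∀ y, Rf a b y → h * y * h⁻¹ ≠ z := fun y hy e =>
    h0.dh.rfn hy (inj _ _ (e.trans hz.symm) ▸ h0.dh.za')
  rcases h0.l1 s1 ((D1.cjr h0 r1).trans (cj _)) (nz _ r1) with t1 | t1
  · rcases h0.l1 s2 ((D1.cjr h0 r2).trans (cj _)) (nz _ r2) with t2 | t2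
    · obtain ⟨j1, t1⟩ := t1
      obtain ⟨j2, t2⟩ := t2
      have f2 : h * e * h⁻¹ ∈ zpowers a := by
        have : h * e * h⁻¹ = b⁻¹ * a ^ (j2 - j1) * b := by
          rw [show h * e * h⁻¹ = (h * b * h⁻¹)⁻¹ * (h * (b * e) * h⁻¹) by group, t1, t2]; group
        rw [this]
        exact mem_normalizer_conj' (h0.dh.na h0.dh.bH) (zpow_mem (mem_zpowers a) _)
      have f3 := mul_mem (inv_mem f2) f1
      rw [show (h * e * h⁻¹)⁻¹ * (h * (e * u) * h⁻¹) = h * u * h⁻¹ by group] at f3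
      exact (h0.dh.inv f3 (by rw [conj_mul, h3]; simp)).imp (fun e => inj _ 1 (by simpa using e))
        fun e => inj _ _ (e.trans hz.symm)
    · refine h0.l2_key (x := (e * u)⁻¹) hz r1 r2 s1 t2 s3 h2 ?_ (by rw [← conj_inv]; exact inv_mem f1)
      rw [← ue, mul_inv_rev, ui]; group
  · exact h0.l2_key hz r2 r1 s2 t1 s3 h2 (mul_assoc _ _ _) f1

theorem l2 (he : e ∈ (S : Subgroup G)) (h1 : IsConj (a ^ 2 ^ k) e) :
    e * e = z ∧ (e = a ^ 2 ^ k ∨ e = (a ^ 2 ^ k)⁻¹ ∨ Sw (S : Subgroup G) a b e) := by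
  have i2 := h0.dh.i2
  have e2 : e * e = z := by
    by_contra hn
    obtain ⟨g, hg⟩ := isConj_iff.1 h1
    have k1 := h0.l0 (mul_mem he he) (isConj_iff.2 ⟨g, by rw [← i2, ← conj_mul, hg]⟩) hn
    rw [h0.dh.sqi he, mul_inv_cancel_right] at k1
    exact h0.dh.z1 (by rw [← i2]; nth_rewrite 1 [k1]; exact inv_mul_cancel _)
  refine ⟨e2, ?_⟩
  rcases h0.dh.acti he with k1 | k1
  · obtain ⟨c, c1, c2, c3, c4⟩ := h0.sqz he e2 k1
    rcases h0.l2' (pow_mem (mem_zpowers a) _) (i2 ▸ h0.dh.z1) c1 c2 c3 (c4 ▸ h1) with rfl | k2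
    · exact Or.inl (by rw [c4, mul_one])
    · refine Or.inr (Or.inl (eq_inv_of_mul_eq_one_right ?_))
      rw [c4, k2, ← mul_assoc, i2, h0.dh.z2]
  · right; right
    obtain ⟨κ, l, -, k2, k3⟩ := h0.dh.act he
    have rf : ∀ m : ℤ, e * (a ^ m * b) * e⁻¹ = a ^ (κ * m + l) * b := fun m => by
      rw [← conj_mul, ← conj_zpow, k2, k3, ← zpow_mul, zpow_add, mul_assoc]
    rcases Int.even_or_odd l with ⟨l', hl⟩ | hl
    · exfalso
      rw [← zpow_natCast, ← conj_zpow, k2, ← zpow_mul, ← zpow_neg] at k1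
      obtain ⟨w, hw⟩ := (h0.dh.pow_eq.1 k1).symm.dvd
      have k4 : κ = 4 * w - 1 := by
        have : (2 : ℤ) ^ k * (κ + 1 - 4 * w) = 0 := by
          push_cast at hw
          rw [pow_succ, pow_succ] at hw
          linarith
        have := (mul_eq_zero.1 this).resolve_left (by positivity)
        omega
      obtain ⟨p, q, hpq⟩ : IsCoprime (2 * w - 1) ((2 : ℤ) ^ (k + 1)) :=
        IsCoprime.pow_right ⟨-1, w, by ring⟩
      have k5 : e * (a ^ (-(l' * p)) * b) * e⁻¹ = a ^ (-(l' * p)) * b := by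
        rw [rf, mul_left_inj, h0.dh.pow_eq]
        refine (Int.modEq_iff_dvd.2 ⟨l' * q, ?_⟩).symm
        rw [k4, hl, pow_succ _ (k + 1)]
        linear_combination (-2 * l') * hpq
      exact D1.ns h0 ⟨_, rfl⟩ (Subgroup.subset_closure ⟨e, ⟨he, mem_centralizer_singleton_iff.2
        (mul_inv_eq_iff_eq_mul.1 k5)⟩, e2⟩)
    · refine ⟨he, ?_, l, hl, k3⟩
      have k4 : a ^ (κ * l + l) = a ^ (0 : ℤ) := by
        rw [← mul_left_inj b, ← rf, ← k3, zpow_zero, one_mul,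
          show e * (e * b * e⁻¹) * e⁻¹ = e * e * b * (e * e)⁻¹ by group, e2,
          ← h0.dh.zc h0.dh.bH, mul_inv_cancel_right]
      have k5 := (h0.dh.pow_eq.1 k4).symm.dvd
      rw [sub_zero, show κ * l + l = (κ - -1) * l by ring] at k5
      obtain ⟨j, rfl⟩ := hl
      have k6 := IsCoprime.dvd_of_dvd_mul_right
        (IsCoprime.pow_left (show IsCoprime (2 : ℤ) (2 * j + 1) from ⟨-j, 1, by ring⟩)) k5
      rw [k2, ← zpow_neg_one, h0.dh.pow_eq]
      exact (Int.modEq_iff_dvd.2 k6).symm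

end D1

end Cfsg.Lib.GHN
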