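import Cfsg.Agent.GHN.D1c

/-!
# Simple groups of sectional 2-rank at most four: generators of the third type
-/

set_option autoImplicit false
set_option linter.unusedSectionVars false

namespace Cfsg.Lib.GHN

open Subgroup Cfsg.Lib.Trans Cfsg.Lib.Gold Cfsg.Lib.Rank2 Cfsg.Lib.GHB
open scoped commutatorElement

universe u

variable {G : Type u} [Group G] [Finite G] {S : Sylow 2 G} {H P R U V W X : Subgroup G}
  {a b c d e f g n r s x y z : G} {k : ℕ}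

open D1c

theorem Gn.triv (h1 : Gn (S : Subgroup G) R f) (h2 : W ≤ R) (h3 : R ≤ Ns W) (h4 : f ∈ Cs W)
    (he : e ∈ (S : Subgroup G)) (h5 : ∀ g ∈ (S : Subgroup G), ⁅e, g⁆ ∈ W) (h6 : e ∉ R) :
    f ∈ Cs R :=
  h1.cs le_rfl h2 (h1.stab h2 le_rfl (le_inf h3 le_normalizer) ⟨cs_le_ns le_rfl h4, h1.dN⟩ he
    (ns_cm h2 fun g hg => h5 g (h1.le hg)) h6 (ns_cm le_rfl fun g hg => h5 g (h1.le (h2 hg)))
    fun g hg => h5 g (h1.le hg)) h4

namespace D1c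

theorem na_pow (h0 : Dh H k a b z) (m : ℕ) : H ≤ Ns (zpowers (a ^ m)) := fun g hg => by
  obtain ⟨κ, -, -, h1, -⟩ := h0.act hg
  refine ns_zp ?_
  rw [← conj_pow, h1]
  exact ⟨κ, by simp only [← zpow_natCast, ← zpow_mul, mul_comm]⟩

theorem cm_pow (h0 : Dh H k a b z) (m : ℕ) (hg : g ∈ H) :
    ⁅a ^ m, g⁆ ∈ zpowers (a ^ m * a ^ m) := by
  obtain ⟨κ, l, ⟨t, rfl⟩, h1, -⟩ := h0.act hg
  rw [cm_eq, ← conj_pow, h1]
  refine ⟨-t, ?_⟩
  simp only [← zpow_natCast, ← zpow_mul, ← zpow_add, ← zpow_neg]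
  congr 1
  ring

end D1c

namespace D1

variable (h0 : D1 S P d s z b a (k + 1))
include h0

theorem step3 (h1 : Gn (S : Subgroup G) R f) {m : ℕ} (hm : m < k) (h2 : a ^ 2 ^ (m + 1) ∈ R)
    (h3 : f * a ^ 2 ^ (m + 1) = a ^ 2 ^ (m + 1) * f) :
    f ∈ Cs R ∨ (a ^ 2 ^ m ∈ R ∧ f * a ^ 2 ^ m = a ^ 2 ^ m * f) := by
  have dh := h0.dh
  have e2 : a ^ 2 ^ m * a ^ 2 ^ m = a ^ 2 ^ (m + 1) := by rw [← pow_add, ← two_mul, pow_succ']
  by_cases eR : a ^ 2 ^ m ∈ R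
  swap
  · exact .inl (h1.triv (zpowers_le.2 h2) (h1.le.trans (na_pow dh _)) (cs_zp h3) (pow_mem dh.aH _)
      (fun g hg => e2 ▸ cm_pow dh _ hg) eR)
  refine .inr ⟨eR, h1.cyc eR ?_⟩
  have hi : a ^ 2 ^ k ∈ zpowers (a ^ 2 ^ m * a ^ 2 ^ m) := by
    obtain ⟨j, rfl⟩ := Nat.exists_eq_add_of_lt hm
    rw [e2, show m + j + 1 = m + 1 + j by ring, pow_add 2 (m + 1), pow_mul]
    exact npow_mem_zpowers _ _
  have ea : a ^ 2 ^ m ∈ zpowers a := npow_mem_zpowers a _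
  have ec : ∀ c ∈ Cs (Dl a b), c * a ^ 2 ^ m = a ^ 2 ^ m * c := fun c hc =>
    cs_comm hc (mem_sup_left ea)
  have ei : a ^ 2 ^ k * a ^ 2 ^ m = a ^ 2 ^ m * a ^ 2 ^ k := pow_mul_comm a _ _
  have e1S := h1.le (h1.dP eR)
  have eS := h1.le eR
  have e12 : f * a ^ 2 ^ m * f⁻¹ * (f * a ^ 2 ^ m * f⁻¹) = a ^ 2 ^ m * a ^ 2 ^ m := by
    rw [conj_mul, e2, conj_of h3]
  have cj := cj_self f (a ^ 2 ^ m)
  have h4 := dh.ca e1S ea
  generalize f * a ^ 2 ^ m * f⁻¹ = e₁ at *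
  generalize a ^ 2 ^ m = e at *
  have uS := mul_mem e1S (inv_mem eS)
  have ui : e₁ * e⁻¹ * a ^ 2 ^ k = a ^ 2 ^ k * (e₁ * e⁻¹) := by
    have h5 : Commute e₁ (a ^ 2 ^ k) := cs_comm (cs_zp (x := e * e) (by rw [← e12, mul_assoc])) hi
    exact (h5.mul_left (Commute.inv_left ei.symm)).eq
  have hw : ⁅e₁, e⁆ ∈ zpowers a := mul_mem h4 (inv_mem ea)
  have hc : Commute (e₁ * e * e₁⁻¹) e⁻¹ := by
    obtain ⟨t, ht⟩ := mem_zpowers_iff.1 h4
    obtain ⟨t', ht'⟩ := mem_zpowers_iff.1 ea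
    rw [← ht, ← ht']
    exact ((Commute.refl a).zpow_zpow t t').inv_right
  have h6 : e₁ * e⁻¹ * (e₁ * e⁻¹) = e⁻¹ * ⁅e₁, e⁆⁻¹ * e := by
    calc _ = (e₁ * e * e₁⁻¹)⁻¹ * (e₁ * e₁) * e⁻¹ := by group
      _ = _ := by rw [e12, commutatorElement_def]; group
  have zi : z ∈ zpowers e := by
    have := zpowers_le.2 (mul_mem (mem_zpowers e) (mem_zpowers e)) hi
    exact dh.i2 ▸ mul_mem this this
  rcases dh.inv hw (by
    rw [commutatorElement_def, ← sq, hc.mul_pow, sq, conj_mul, ← e12, inv_pow, sq, ← e12]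
    group) with h5 | h5
  · rw [h5, inv_one, mul_one, inv_mul_cancel] at h6
    have h7 := h0.invc uS h6 ui
    have h8 : e₁ = e * (e₁ * e⁻¹) := by rw [← ec _ h7, inv_mul_cancel_right]
    have h9 : e * e ≠ 1 := fun h => by
      rw [h, zpowers_one_eq_bot, mem_bot] at hi
      exact i_ne dh (by rw [hi, inv_one])
    rw [h8]
    rcases h0.l2' ea h9 uS h7 h6 (h8 ▸ cj) with h | h <;> rw [h]
    · exact mul_mem (mem_zpowers e) (one_mem _)
    · exact mul_mem (mem_zpowers e) zi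
  · rw [h5, inv_eq dh.z2, mul_assoc e⁻¹, ← dh.zc eS, inv_mul_cancel_left] at h6
    obtain ⟨c, -, hc, -, h7⟩ := h0.sqz uS h6 ui
    refine (dh.z1 (h5.symm.trans (commutatorElement_eq_one_iff_mul_comm.2 ?_))).elim
    have h8 : Commute (e₁ * e⁻¹) e := by rw [h7]; exact Commute.mul_left ei (ec c hc)
    simpa using (h8.mul_left (Commute.refl e)).eq

theorem gen3 (h1 : Gn (S : Subgroup G) R f) (h2 : f * z = z * f)
    (h4 : a ^ 2 ^ k ∉ R ∨ f * a ^ 2 ^ k = a ^ 2 ^ k * f) :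
    f ∈ Cs R ∨ (Dl a b ≤ R ∧ f ∈ Cs (Dl a b)) := by
  have dh := h0.dh
  have key : ∀ j ≤ k, f ∈ Cs R ∨ (a ^ 2 ^ (k - j) ∈ R ∧ f * a ^ 2 ^ (k - j) = a ^ 2 ^ (k - j) * f) := by
    intro j hj
    induction j with
    | zero =>
      by_cases h : a ^ 2 ^ k ∈ R
      · exact .inr ⟨h, h4.resolve_left (not_not.2 h)⟩
      · exact .inl (h1.triv (zpowers_le.2 (h0.zR h1))
          (fun p hp => cs_le_ns le_rfl (cs_zp (dh.zc (h1.le hp)))) (cs_zp h2) (pow_mem dh.aH _)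
          (fun g hg => ci dh hg) h)
    | succ j ih =>
      refine (ih (by omega)).elim .inl fun h => ?_
      rw [show k - j = k - (j + 1) + 1 by omega] at h
      exact h0.step3 h1 (by omega) h.1 h.2
  refine (key k le_rfl).elim .inl fun h => ?_
  rw [Nat.sub_self, pow_zero, pow_one] at h
  obtain ⟨aR, fa⟩ := h
  by_cases bR : b ∈ R
  swap
  · refine .inl (h1.triv (zpowers_le.2 aR) (h1.le.trans dh.na) (cs_zp fa) dh.bH (fun g hg => ?_) bR)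
    obtain ⟨l, hl⟩ := dh.cb g hg
    rw [cb dh hg hl]
    exact inv_mem (zpow_mem_zpowers a l)
  have DR : Dl a b ≤ R := sup_le (zpowers_le.2 aR) (zpowers_le.2 bR)
  have fj : ∀ j : ℤ, f * a ^ j * f⁻¹ = a ^ j := fun j => by rw [← conj_zpow, conj_of fa]
  have nz : ∀ x, x ≠ z → f * x * f⁻¹ ≠ z := fun x hx e =>
    hx (by simpa using e.trans (conj_of h2).symm)
  have bz : b ≠ z := fun e => dh.bn (e ▸ dh.za')
  have c1 := (h0.cjr rf_self).trans (cj_self f b)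
  have rR := h1.dP bR
  rcases h0.l1 (h1.le rR) c1 (nz b bz) with h5 | h5
  · refine .inr ⟨DR, h1.cs DR le_sup_left (fun u hu => ?_) (cs_zp fa)⟩
    rcases dh.mem.1 hu with ⟨j, rfl⟩ | ⟨j, rfl⟩
    · simp only [commutatorElement_def, fj, mul_inv_cancel, one_mem]
    · have : ⁅f, a ^ j * b⁆ = a ^ j * (f * b * f⁻¹ * b⁻¹) * (a ^ j)⁻¹ := by
        rw [commutatorElement_def, ← conj_mul, fj]; group
      exact this ▸ mul_mem (mul_mem (zpow_mem_zpowers a j) (rf_iff.1 h5))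
        (inv_mem (zpow_mem_zpowers a j))
  exfalso
  rcases h0.l1 (h1.le (h1.dP rR)) (c1.trans (cj_self f _)) (nz _ (nz b bz)) with h6 | h6
  · refine h0.swn h5 (mem_normalizer_conj (h1.two DR (ns_of fun u hu => ?_))
      (mem_sup_right (mem_zpowers b)))
    rw [show f * f * u * (f * f)⁻¹ = f * (f * u * f⁻¹) * f⁻¹ by group]
    rcases dh.mem.1 hu with ⟨j, rfl⟩ | ⟨j, rfl⟩
    · simp only [fj]; exact hu
    · rw [← conj_mul (b := f) (a := a ^ j), fj, ← conj_mul, fj]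
      exact dh.mem.2 (.inr (h6.pow_mul j))
  obtain ⟨-, r1, l, -, r2⟩ := h5
  obtain ⟨-, r3, l', hl', r4⟩ := h6
  have r0 : f * b * f⁻¹ * (f * b * f⁻¹) = 1 := by rw [conj_mul, dh.b2, mul_one, mul_inv_cancel]
  have bj : ∀ j : ℤ, b * a ^ j * b⁻¹ = (a ^ j)⁻¹ := fun j => dh.rfx rf_self (zpow_mem_zpowers a j)
  generalize hr : f * b * f⁻¹ = r at *
  have h7 : b * r * (b * r) = (a ^ l)⁻¹ := by
    calc _ = b * (r * b * r⁻¹) * (r * r) := by group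
      _ = b * a ^ l * b⁻¹ * (b * b) := by rw [r2, r0]; group
      _ = _ := by rw [bj, dh.b2, mul_one]
  have h8 : r * (f * r * f⁻¹) * (r * (f * r * f⁻¹)) = (a ^ l)⁻¹ := by
    rw [← fj l, conj_inv, ← h7, ← conj_mul, ← conj_mul (b := f) (a := b), hr]
  generalize f * r * f⁻¹ = r' at *
  have h9 : ∀ j : ℤ, r * r' * a ^ j * (r * r')⁻¹ = a ^ j := fun j => by
    calc _ = r * (r' * a ^ j * r'⁻¹) * r⁻¹ := by group
      _ = _ := by rw [← conj_zpow, r3, ← conj_zpow, ← conj_inv, r1, inv_inv]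
  have h10 : r * r' * b * (r * r')⁻¹ = a ^ (l - l') * b := by
    calc _ = r * (r' * b * r'⁻¹) * r⁻¹ := by group
      _ = _ := by rw [r4, ← conj_mul, r2, ← conj_zpow, r1]; group
  have h11 : (a ^ l)⁻¹ * b * a ^ l = a ^ (l - l') * (a ^ (l - l') * b) := by
    calc _ = r * r' * (r * r' * b * (r * r')⁻¹) * (r * r')⁻¹ := by
          rw [← inv_inv (a ^ l), ← h8]; group
      _ = _ := by rw [h10, ← conj_mul, h9, h10]
  have h12 : (a ^ l)⁻¹ * b * a ^ l = (a ^ l)⁻¹ * ((a ^ l)⁻¹ * b) := by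
    rw [mul_assoc, show b * a ^ l = b * a ^ l * b⁻¹ * b by group, bj]
  refine odd_ne dh (j := l + l - l') ((Even.add_self l).sub_odd hl') ?_
  rw [h12, ← mul_assoc, ← mul_assoc, mul_left_inj] at h11
  calc _ = a ^ l * a ^ l * (a ^ (l - l') * a ^ (l - l')) := by group
    _ = 1 := by rw [← h11]; group

end D1

end Cfsg.Lib.GHN
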