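import Cfsg.Agent.GHN.D1c3

/-!
# Simple groups of sectional 2-rank at most four: the special swaps form one coset
-/

set_option autoImplicit false
set_option linter.unusedSectionVars false

namespace Cfsg.Lib.GHN

open Subgroup Cfsg.Lib.Trans Cfsg.Lib.Gold Cfsg.Lib.Rank2 Cfsg.Lib.GHB
open scoped commutatorElement

universe u

variable {G : Type u} [Group G] [Finite G] {S : Sylow 2 G} {H P R U V W X : Subgroup G}
  {a b c c₀ d e f g n r r' s x y z : G} {k : ℕ}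

open D1c

namespace D1c

theorem exists_inv (hc : c ∈ (S : Subgroup G)) (h1 : c ≠ 1) : ∃ c₀ ∈ zpowers c, c₀ * c₀ = 1 ∧
    c₀ ≠ 1 ∧ (c₀ = c ∨ ∃ t : ℕ, c₀ = c ^ t * c ^ t) := by
  obtain ⟨m, hm⟩ := IsPGroup.iff_orderOf.1 S.isPGroup' ⟨c, hc⟩
  rw [Subgroup.orderOf_mk] at hm
  rcases m with _ | m
  · exact (h1 (orderOf_eq_one_iff.1 hm)).elim
  refine ⟨c ^ 2 ^ m, npow_mem_zpowers _ _, ?_, fun e => ?_, ?_⟩
  · rw [← pow_add, ← two_mul, ← pow_succ', ← hm, pow_orderOf_eq_one]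
  · have := Nat.le_of_dvd (by positivity) (orderOf_dvd_of_pow_eq_one e)
    rw [hm, pow_succ] at this
    have : 0 < 2 ^ m := by positivity
    omega
  · rcases m with _ | m
    · exact .inl (by simp)
    · exact .inr ⟨2 ^ m, by rw [← pow_add, ← two_mul, pow_succ']⟩

theorem sw_nc (h0 : Dh H (k + 1) a b z) (h1 : r * a * r⁻¹ = a⁻¹) : r * a ≠ a * r := fun e =>
  odd_ne h0 odd_one (by rw [zpow_one, mul_eq_one_iff_eq_inv, ← h1, conj_of e])

theorem cs_a (hc : c ∈ Cs (Dl a b)) : c * a = a * c := cs_comm hc (mem_sup_left (mem_zpowers a))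

theorem cs_b (hc : c ∈ Cs (Dl a b)) : c * b = b * c := cs_comm hc (mem_sup_right (mem_zpowers b))

theorem cs_i (hc : c ∈ Cs (Dl a b)) (m : ℕ) : c * a ^ m = a ^ m * c :=
  cs_comm hc (mem_sup_left (npow_mem_zpowers a m))

theorem conj_sq (h : r * c * r⁻¹ = c⁻¹) : IsConj r (r * (c * c)) := by
  refine isConj_iff.2 ⟨c⁻¹, ?_⟩
  have : c⁻¹ * r = r * c := by rw [← h, inv_mul_cancel_right]
  rw [this, inv_inv, mul_assoc]

theorem sq_of (h : IsConj z r) (h2 : z * z = 1) : r * r = 1 := by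
  obtain ⟨g, rfl⟩ := isConj_iff.1 h
  rw [conj_mul, h2, mul_one, mul_inv_cancel]

end D1c

namespace D1

variable (h0 : D1 S P d s z b a (k + 1))
include h0

theorem sq_ne (hc : c ∈ (S : Subgroup G)) (h1 : c ∈ Cs (Dl a b)) : c * c ≠ z := fun e =>
  h0.ns rf_self (e ▸ sq_mem_Phi ⟨hc, mem_C1.2 (cs_b h1)⟩)

theorem spB (hr : Sw (S : Subgroup G) a b r) (h1 : IsConj z r) (hc : c ∈ (S : Subgroup G))
    (h2 : c ∈ Cs (Dl a b)) (h3 : r * c = c * r) (h4 : IsConj z (r * c)) : c = 1 ∨ c = z := by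
  have dh := h0.dh
  have n1 := sw_nc dh hr.2.1
  have za := (dh.zc dh.aH).symm
  have h5 := h0.pure hr.1 (mul_mem hr.1 hc) h1 (fun e => n1 (e ▸ za)) h4 (by rw [mul_assoc, h3])
  have h6 : Commute c⁻¹ a := Commute.inv_left (cs_a h2)
  rcases (mem_F4 dh.z2 (sq_of h1 dh.z2) (dh.zc hr.1).symm).1 h5 with e | e | e | e
  · exact (n1 (mul_eq_one_iff_eq_inv.1 e ▸ h6.eq)).elim
  · exact (n1 (eq_mul_inv_of_mul_eq e ▸ (Commute.mul_left za h6).eq)).elim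
  · exact .inl (mul_eq_left.1 e)
  · exact .inr (mul_left_cancel (e.trans (dh.zc hr.1).symm))

theorem spA (hr : Sw (S : Subgroup G) a b r) (h1 : IsConj z r) (hc : c ∈ (S : Subgroup G))
    (h2 : c ∈ Cs (Dl a b)) (h3 : r * c * r⁻¹ = c⁻¹ ∨ r * c * r⁻¹ = z * c⁻¹)
    (h4 : c * c * (c * c) = 1) : c * c = 1 := by
  have dh := h0.dh
  have zc : Commute z c := (dh.zc hc).symm
  refine (h0.spB hr h1 (mul_mem hc hc) (mul_mem h2 h2) (of_conj ?_) ?_).resolve_right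
    (h0.sq_ne hc h2)
  · rw [← conj_mul, eq_inv_of_mul_eq_one_left h4]
    rcases h3 with e | e <;> rw [e]
    · group
    · rw [← sq, zc.inv_right.mul_pow, sq, dh.z2]; group
  · rcases h3 with e | e
    · exact h1.trans (conj_sq e)
    · refine h1.trans (isConj_iff.2 ⟨a ^ 2 ^ k * c⁻¹, ?_⟩)
      have e1 : c⁻¹ * r = z * (r * c) := by
        rw [← inv_mul_cancel_right (r * c) r, e, ← mul_assoc, ← mul_assoc, dh.z2, one_mul]
      have e2 : a ^ 2 ^ k * r = r * (a ^ 2 ^ k)⁻¹ := by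
        calc _ = (r * a ^ 2 ^ k * r⁻¹)⁻¹ * r := by rw [← conj_pow, hr.2.1, inv_pow, inv_inv]
          _ = _ := by group
      have e3 : Commute (c * c) (a ^ 2 ^ k) := Commute.mul_left (cs_i h2 _) (cs_i h2 _)
      calc _ = a ^ 2 ^ k * z * r * (c * c * (a ^ 2 ^ k)⁻¹) := by
            rw [mul_assoc (a ^ 2 ^ k), e1]; group
        _ = r * (z * (a ^ 2 ^ k)⁻¹) * ((a ^ 2 ^ k)⁻¹ * (c * c)) := by
            rw [e3.inv_right.eq, dh.zc (pow_mem dh.aH _), mul_assoc z, e2, ← mul_assoc z,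
              ← dh.zc hr.1, mul_assoc r z]
        _ = _ := by rw [dh.zi]; group

theorem spD (hr : Sw (S : Subgroup G) a b r) (h1 : IsConj z r) (hc : c ∈ (S : Subgroup G))
    (h2 : c ∈ Cs (Dl a b)) (h3 : IsConj z (r * c) ∨ IsConj (a ^ 2 ^ k) (r * c)) :
    c = 1 ∨ c = z := by
  have dh := h0.dh
  have r2 := sq_of h1 dh.z2
  have h4 : ∀ w, r * c * (r * c) = w → r * c * r⁻¹ = w * c⁻¹ := fun w e => by
    rw [← e, inv_eq r2]; group
  have h5 : r * c * r⁻¹ = c⁻¹ ∨ r * c * r⁻¹ = z * c⁻¹ := h3.imp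
    (fun h => by simpa using h4 1 (sq_of h dh.z2)) fun h => h4 z (h0.l2 (mul_mem hr.1 hc) h).1
  by_cases h6 : c = 1
  · exact .inl h6
  obtain ⟨c₀, -, e1, e2, rfl | ⟨t, rfl⟩⟩ := exists_inv hc h6
  · rcases h3 with h | h
    · exact h0.spB hr h1 hc h2 (of_conj (by
        rw [h4 1 (sq_of h dh.z2), one_mul, inv_eq e1])) h
    · have h7 := h4 z (h0.l2 (mul_mem hr.1 hc) h).1
      refine (h0.nsD hr.1 h1 (fun e => sw_nc dh hr.2.1 (e ▸ (dh.zc dh.aH).symm)) ?_).elim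
      have h8 : a ^ 2 ^ k * c₀ * (a ^ 2 ^ k * c₀) = z := by
        rw [mul_assoc, ← mul_assoc c₀, cs_i h2, mul_assoc, e1, mul_one, dh.i2]
      refine h8 ▸ sq_mem_Phi ⟨mul_mem (pow_mem dh.aH _) hc, mem_C1.2 (of_conj ?_).symm⟩
      rw [← conj_mul, h7, ← conj_pow, hr.2.1, inv_pow, inv_eq e1, ← mul_assoc,
        dh.zc (inv_mem (pow_mem dh.aH _)), dh.zi]
  · refine (e2 (h0.spA hr h1 (pow_mem hc t) (pow_mem h2 t) ?_ e1)).elim
    rw [← conj_pow]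
    rcases h5 with e | e <;> rw [e]
    · exact .inl (inv_pow _ _)
    · rw [(Commute.inv_right (dh.zc hc).symm).mul_pow, inv_pow]
      rcases (mem_zp dh.z2).1 (npow_mem_zpowers z t) with e | e <;> rw [e]
      · exact .inl (one_mul _)
      · exact .inr rfl

theorem spI (hr : Sw (S : Subgroup G) a b r) (h1 : IsConj (a ^ 2 ^ k) r)
    (hc : c ∈ (S : Subgroup G)) (h2 : c ∈ Cs (Dl a b)) (h3 : IsConj (a ^ 2 ^ k) (r * c)) :
    c = 1 ∨ c = z := by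
  have dh := h0.dh
  have r2 := (h0.l2 hr.1 h1).1
  have h4 : r * c * r⁻¹ = c⁻¹ := by
    have := ((h0.l2 (mul_mem hr.1 hc) h3).1.trans r2.symm)
    rw [mul_assoc, mul_right_inj] at this
    calc _ = c⁻¹ * (c * (r * c)) * r⁻¹ := by group
      _ = _ := by rw [this]; group
  by_contra hn
  rw [not_or] at hn
  obtain ⟨c₀, hm, e1, e2, e3⟩ := exists_inv hc hn.1
  have e4 : c₀ ≠ z := by
    rcases e3 with rfl | ⟨t, rfl⟩
    exacts [hn.2, h0.sq_ne (pow_mem hc t) (pow_mem h2 t)]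
  have e5 : IsConj (a ^ 2 ^ k) (r * c₀) := by
    rcases e3 with rfl | ⟨t, rfl⟩
    exacts [h3, h1.trans (conj_sq (by rw [← conj_pow, h4, inv_pow]))]
  have e6 : c₀ * r = r * c₀ := by
    obtain ⟨t, rfl⟩ := mem_zpowers_iff.1 hm
    exact (of_conj (by rw [← conj_zpow, h4, inv_zpow, inv_eq e1])).symm
  obtain ⟨g, hg⟩ := isConj_iff.1 h1.symm
  obtain ⟨n, hn, h5⟩ := ext_in (H := ⊤) (U := zpowers (a ^ 2 ^ k)) (U' := zpowers r)
    (R := (S : Subgroup G) ⊓ C1 r)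
    (sylIn (S := S) (le_inf le_top (na_pow dh _))) (mem_top g) (by rw [cj_zpowers, hg]) (S.isPGroup'.to_le inf_le_left)
    (le_inf le_top fun x hx => cs_le_ns le_rfl (cs_zp (mem_C1.1 hx.2)))
  have h6 : n * g * c₀ * (n * g)⁻¹ ∈ (S : Subgroup G) :=
    h5 (conj_mem_cj.2 ⟨zpowers_le.2 hc hm, mem_C1.2 e6⟩)
  have h7 : n * g * r * (n * g)⁻¹ ∈ zpowers (a ^ 2 ^ k) := by
    convert mem_normalizer_conj hn.2 (mem_zpowers _) using 1
    rw [← hg]; group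
  have ia : zpowers (a ^ 2 ^ k) ≤ zpowers a := zpowers_le.2 (npow_mem_zpowers _ _)
  generalize n * g = h at *
  have h8 : h * z * h⁻¹ = z := by
    refine (dh.inv ?_ (by rw [conj_mul, dh.z2, mul_one, mul_inv_cancel])).resolve_left
      fun e => dh.z1 (by simpa using e)
    rw [← r2, ← conj_mul]
    exact ia (mul_mem h7 h7)
  have h9 : h * r * h⁻¹ = a ^ 2 ^ k ∨ h * r * h⁻¹ = (a ^ 2 ^ k)⁻¹ :=
    dh.sqz (mem_sup_left (ia h7)) (by rw [conj_mul, r2, h8])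
  have h10 : Commute (h * c₀ * h⁻¹) (h * r * h⁻¹) := by
    rw [commute_iff_eq, conj_mul, conj_mul, e6]
  have h11 : Commute (h * (r * c₀) * h⁻¹) (a ^ 2 ^ k) := by
    have := (Commute.refl _).mul_left h10
    rw [conj_mul] at this
    rcases h9 with e | e <;> rw [e] at this
    exacts [this, by simpa using this.inv_right]
  have h12 : h * (r * c₀) * h⁻¹ ∈ zpowers a := by
    rcases (h0.l2 (by rw [← conj_mul]; exact mul_mem (zpowers_le.2 dh.aH (ia h7)) h6)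
      (e5.trans (cj_self h _))).2 with e | e | e
    · exact e ▸ ia (mem_zpowers _)
    · exact e ▸ ia (inv_mem (mem_zpowers _))
    · exact (i_ne dh (by rw [← inv_pow, ← e.2.1, conj_pow, conj_of h11.eq])).elim
  rw [← conj_mul] at h12
  rcases dh.inv ((mul_mem_cancel_left (ia h7)).1 h12)
    (by rw [conj_mul, e1, mul_one, mul_inv_cancel]) with e | e
  · exact e2 (by simpa using e)
  · exact e4 (by simpa using e.trans h8.symm)

theorem sp_eq (h1 : Sp (S : Subgroup G) a b z (a ^ 2 ^ k) r)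
    (h2 : Sp (S : Subgroup G) a b z (a ^ 2 ^ k) r') : ∃ l : ℤ, r' = r * a ^ l := by
  have dh := h0.dh
  obtain ⟨hr, t1⟩ := h1
  obtain ⟨hr', t2⟩ := h2
  have ⟨rS, r1, j, hj, r2⟩ := hr
  have ⟨rS', r3, j', hj', r4⟩ := hr'
  obtain ⟨m, hm⟩ := hj.sub_odd hj'
  have r5 : ∀ l : ℤ, r⁻¹ * a ^ l * r = (a ^ l)⁻¹ := fun l => by
    calc _ = r⁻¹ * (r * a ^ l * r⁻¹)⁻¹ * r := by rw [← conj_zpow, r1, inv_zpow, inv_inv]
      _ = _ := by group
  have r6 : r⁻¹ * b * r = a ^ j * b := by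
    calc _ = (r⁻¹ * a ^ j * r)⁻¹ * (r⁻¹ * (a ^ j * b) * r) := by group
      _ = _ := by rw [r5, inv_inv, show r⁻¹ * (a ^ j * b) * r = b by rw [← r2]; group]
  have r7 : ∀ l : ℤ, r' * a ^ l * r'⁻¹ = (a ^ l)⁻¹ := fun l => by rw [← conj_zpow, r3, inv_zpow]
  have bj : b = (a ^ (m + m))⁻¹ * (a ^ m * b * (a ^ m)⁻¹) := by
    calc _ = (a ^ (m + m))⁻¹ * (a ^ m * (a ^ m)⁻¹⁻¹ * b) := by group
      _ = _ := by nth_rw 1 [← dh.rfx rf_self (zpow_mem_zpowers a m)]; group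
  obtain ⟨c, rfl⟩ : ∃ c, r' = r * c * a ^ m := ⟨r⁻¹ * r' * (a ^ m)⁻¹, by group⟩
  have cS : c ∈ (S : Subgroup G) :=
    (mul_mem_cancel_left rS).1 ((mul_mem_cancel_right (zpow_mem dh.aH m)).1 rS')
  have c1 : ∀ l : ℤ, c * a ^ l * c⁻¹ = a ^ l := fun l => by
    calc _ = r⁻¹ * (r * c * a ^ m * a ^ l * (r * c * a ^ m)⁻¹) * r := by group
      _ = (r⁻¹ * a ^ l * r)⁻¹ := by rw [r7]; group
      _ = _ := by rw [r5, inv_inv]
  have c2 : c * b * c⁻¹ = b := by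
    calc _ = (c * a ^ (m + m) * c⁻¹)⁻¹ * (r⁻¹ * (r * c * a ^ m * b * (r * c * a ^ m)⁻¹) * r) := by
          conv_lhs => rw [bj]
          group
      _ = (a ^ (m + m))⁻¹ * (r⁻¹ * a ^ j' * r * (r⁻¹ * b * r)) := by rw [c1, r4]; group
      _ = _ := by rw [r5, r6, ← hm]; group
  have cC : c ∈ Cs (Dl a b) := cs_of fun x hx => of_conj (by
    rcases dh.mem.1 hx with ⟨l, rfl⟩ | ⟨l, rfl⟩
    · exact c1 l
    · rw [← conj_mul, c1, c2])
  obtain ⟨δ, hδ, e⟩ := h0.swc hr' (-m)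
  rw [zpow_neg, mul_inv_cancel_right] at e
  have h3 : Sw (S : Subgroup G) a b (r * c) := e ▸ h0.swj hr' (dh.le hδ)
  have h4 : IsConj z (r * c) ∨ IsConj (a ^ 2 ^ k) (r * c) :=
    e ▸ t2.imp (·.trans (cj_self δ _)) (·.trans (cj_self δ _))
  have h5 : c = 1 ∨ c = z := by
    rcases t1 with t1 | t1
    · exact h0.spD hr t1 cS cC h4
    rcases h4 with h4 | h4
    · rcases h0.spD h3 h4 (inv_mem cS) (inv_mem cC) (.inr (by simpa using t1)) with e | e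
      · exact .inl (inv_eq_one.1 e)
      · exact .inr (by rw [← inv_inv c, e, inv_eq dh.z2])
    · exact h0.spI hr t1 cS cC h4
  obtain ⟨l, rfl⟩ := mem_zpowers_iff.1 (zpowers_le.2 dh.za' ((mem_zp dh.z2).2 h5))
  exact ⟨l + m, by group⟩

end D1

end Cfsg.Lib.GHN
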