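import Cfsg.Agent.GHN.Tool
import Cfsg.Agent.GHN.DhA
import Cfsg.Agent.GHN.VF
import Cfsg.Agent.GHN.ShA

/-! # A good four-group with non-central involution: basic facts -/

set_option autoImplicit false
set_option linter.unusedSectionVars false

namespace Cfsg.Lib.GHN

open Subgroup Cfsg.Lib.Trans Cfsg.Lib.Gold Cfsg.Lib.Rank2 Cfsg.Lib.GHB
open scoped commutatorElement

universe u

variable {G : Type u} [Group G] [Finite G] {S : Sylow 2 G} {P : Subgroup G}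
  {a b d s t t' x y z : G} {k : ℕ}

namespace D2

theorem cm_phi (hx : x ∈ P) (hy : y ∈ P) : ⁅x, y⁆ ∈ Phi P := by
  convert mul_mem (mul_mem (sq_mem_Phi (mul_mem hx hy)) (sq_mem_Phi (mul_mem (mul_mem (inv_mem hy)
    (inv_mem hx)) hy))) (inv_mem (sq_mem_Phi hy)) using 1
  rw [commutatorElement_def]; group

theorem rf_cj (hy : Rf a b y) (t : G) : Rf (t * a * t⁻¹) (t * b * t⁻¹) (t * y * t⁻¹) :=
  hy.imp fun j e => by rw [e, conj_zpow, conj_mul]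

variable (h0 : D2 S P d s z b a t k)
include h0

theorem rebase (hy : Rf a b y) : ∃ P' d' s', D2 S P' d' s' z y a t k := by
  obtain ⟨m, hm, e⟩ := h0.sh.dh.rft hy
  have := h0.vf.cj (le_normalizer hm.1)
  rw [e, mem_C1.1 hm.2, mul_inv_cancel_right] at this
  exact ⟨_, _, _, h0.cx, this, h0.sh.rebase hy⟩

theorem repow {l : ℤ} (hl : Odd l) : D2 S P d s z b (a ^ l) t k := ⟨h0.cx, h0.vf, h0.sh.repow hl⟩

theorem ret (h1 : t' ∈ (S : Subgroup G)) (h2 : t' * z ≠ z * t') : D2 S P d s z b a t' k :=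
  ⟨h0.cx, h0.vf, (h0.sh.ret h1 h2).1⟩

theorem symm : ∃ P' d' s', D2 S P' d' s' (t * z * t⁻¹) (t * b * t⁻¹) (t * a * t⁻¹) t k :=
  ⟨_, _, _, h0.cx, h0.vf.cj (le_normalizer h0.sh.tS), h0.sh.symm.1⟩

theorem nphi (hy : Rf a b y) : z ∉ Phi ((S : Subgroup G) ⊓ C1 z ⊓ C1 y) :=
  let ⟨_, _, _, h⟩ := h0.rebase hy
  h.vf.eqP ▸ h.vf.nphi

theorem eqM : (S : Subgroup G) ⊓ C1 (t * z * t⁻¹) = (S : Subgroup G) ⊓ C1 z :=
  Subgroup.ext fun _ => and_congr_right fun hm => mem_C1.trans ((h0.sh.cz' hm).symm.trans mem_C1.symm)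

theorem nphi' (hy : Rf a b y) :
    t * z * t⁻¹ ∉ Phi ((S : Subgroup G) ⊓ C1 z ⊓ C1 (t * y * t⁻¹)) :=
  let ⟨_, _, _, h⟩ := h0.symm
  h0.eqM ▸ h.nphi (rf_cj hy t)

theorem zD : z ∈ Dl a b := mem_sup_left h0.sh.dh.za'

theorem dz' : d * (t * z * t⁻¹) = t * z * t⁻¹ * d := by
  have tt := h0.sh.idx.mul_self_mem h0.sh.tS
  have bD : b ∈ Dl a b := mem_sup_right (mem_zpowers b)
  have rb : Rf a b b := ⟨0, by simp⟩
  obtain ⟨u, hu, u1, u2, u3⟩ := h0.sh.symm.1.s1 _ _ (rf_cj rb t)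
    (rf_cj (h0.sh.dh.rfc rb (inv_mem tt)) t)
  rw [show t * (t * ((t * t)⁻¹ * b * (t * t)⁻¹⁻¹) * t⁻¹) * t⁻¹ = b by group] at u3
  have := cm_phi ((h0.vf.mem u hu).2 ⟨(h0.sh.cz' hu).2 u1, u3⟩)
    ((h0.vf.mem _ h0.sh.dh'.bH.1).2 ⟨(h0.sh.com _ h0.zD _ bD).symm, (h0.sh.com _ bD _ bD).symm⟩)
  rw [commutatorElement_def, u2, mul_inv_cancel_right] at this
  exact h0.vf.phi this

theorem cA (hy : Rf a b y) : IsConj z y ∧ IsConj z (t * y * t⁻¹) :=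
  let ⟨_, _, _, h⟩ := h0.rebase hy
  ⟨h.vf.conj, h.vf.conj.trans (isConj_iff.2 ⟨t, rfl⟩)⟩

theorem cB (hy : Rf a b y) : IsConj (z * (t * z * t⁻¹)) (y * (t * z * t⁻¹)) ∧
    IsConj (z * (t * z * t⁻¹)) (z * (t * y * t⁻¹)) := by
  obtain ⟨_, d', _, h⟩ := h0.rebase hy
  have e : IsConj (z * (t * z * t⁻¹)) (y * (t * z * t⁻¹)) :=
    isConj_iff.2 ⟨d', by rw [← conj_mul, h.vf.dz, h.dz', mul_inv_cancel_right]⟩
  exact ⟨e, e.trans (isConj_iff.2 ⟨t, by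
    rw [← conj_mul, h0.sh.symm.2.2, h0.sh.com _ h0.zD _ (h0.sh.dh.mem.2 (.inr hy))]⟩)⟩

theorem z'1 : t * z * t⁻¹ ≠ 1 := h0.sh.dh'.z1

theorem memF (hx : x ∈ F4 z (t * z * t⁻¹)) :
    x = 1 ∨ x = z ∨ x = t * z * t⁻¹ ∨ x = z * (t * z * t⁻¹) :=
  (mem_F4 h0.sh.dh.z2 h0.sh.dh'.z2 h0.sh.zc').1 hx

end D2

namespace D2
variable (h0 : D2 S P d s z b a t (k + 1))
include h0

theorem k0 : ¬ IsConj z (z * (t * z * t⁻¹)) := fun hc => by
  obtain ⟨g, g1, g2⟩ := ext_cen h0.sh.ζc hc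
  have le : cj g ((S : Subgroup G) ⊓ C1 z) ≤ S := cj_le_iff.2 fun r hr => g2 r hr.1 (mem_C1.1 hr.2)
  have ix : Local.IdxLeTwo (cj g ((S : Subgroup G) ⊓ C1 z)) S := Local.idxLeTwo_of_relIndex (by
    have := card_mul_relIndex le
    rw [card_cj, h0.sh.cardT, mul_comm 2] at this
    exact Nat.eq_of_mul_eq_mul_left Nat.card_pos this)
  have zM := h0.sh.dh'.zH
  have c1 : ∀ r ∈ cj g ((S : Subgroup G) ⊓ C1 z),
      r * (g * (t * z * t⁻¹) * g⁻¹) = g * (t * z * t⁻¹) * g⁻¹ * r := by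
    rintro _ ⟨r, hr, rfl⟩
    change g * r * g⁻¹ * _ = _ * (g * r * g⁻¹)
    rw [conj_mul, conj_mul, h0.sh.dh'.zc hr]
  have n1 : g * (t * z * t⁻¹) * g⁻¹ ≠ 1 := fun e => h0.z'1 (by simpa using e)
  have n2 : g * (t * z * t⁻¹) * g⁻¹ ≠ z * (t * z * t⁻¹) := fun e =>
    h0.sh.zz' (by simpa using g1.trans e.symm)
  have yF := h0.sh.zz _ (le (conj_mem_cj.2 zM)) fun x hx => by
    have m1 := mem_cj.1 (ix.conj_mem hx (le (conj_mem_cj.2 zM)) (conj_mem_cj.2 zM))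
    have m2 := h0.memF (h0.sh.cenM m1.1 (cs_of fun r hr => by
      have := c1 _ (ix.conj_mem (inv_mem hx) (le (conj_mem_cj.2 hr)) (conj_mem_cj.2 hr))
      calc _ = g⁻¹ * x * (g * (t * z * t⁻¹) * g⁻¹ * (x⁻¹ * (g * r * g⁻¹) * x⁻¹⁻¹)) * x⁻¹ * g := by
            group
        _ = _ := by rw [← this]; group))
    have key : ∀ u w : G, g⁻¹ * u * g = w ↔ u = g * w * g⁻¹ := fun u w =>
      ⟨fun e => by rw [← e]; group, fun e => by rw [e]; group⟩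
    simp only [key] at m2
    rw [commutatorElement_def]
    rcases m2 with e | e | e | e
    · exact absurd (conj_eq_one_iff.1 (e.trans (by simp))) n1
    · rw [g1, mul_inv_eq_iff_eq_mul, cs_comm h0.sh.ζc hx, mul_right_inj] at e
      exact absurd e n2
    · rw [e, mul_inv_cancel]
      exact one_mem _
    · rw [e, ← conj_mul, g1, mul_inv_cancel_right]
      exact mem_zpowers _
  have eM : cj g ((S : Subgroup G) ⊓ C1 z) = (S : Subgroup G) ⊓ C1 z :=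
    eq_of_le_of_card_ge (fun r hr => ⟨le hr, mem_C1.2 (by
      have := c1 r hr
      rcases h0.memF yF with e | e | e | e
      exacts [absurd e n1, e ▸ this, (h0.sh.cz' (le hr)).2 (e ▸ this), absurd e n2])⟩)
      (card_cj _ _).ge
  have := h0.sh.dh.nc.cj g
  rw [eM, g1] at this
  exact NC.three h0.cx.r4 (pS inf_le_left) h0.sh.dh.nc h0.sh.dh'.nc this h0.sh.zz'
    (fun e => h0.z'1 (left_eq_mul.1 e)) fun e => h0.sh.dh.z1 (right_eq_mul.1 e)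

theorem syl : IsSylowIn 2 ((S : Subgroup G) ⊓ C1 z) (C1 z) := by
  have : Fact (Nat.Prime 2) := ⟨Nat.prime_two⟩
  obtain ⟨T, hT, le⟩ := exists_isSylowIn_ge (pS (S := S) inf_le_left) (inf_le_right : _ ≤ C1 z)
  refine (eq_or_ne T ((S : Subgroup G) ⊓ C1 z)).elim (fun e => e ▸ hT) fun ne => absurd ?_ h0.k0
  obtain ⟨x, -, hx⟩ := (isSylowIn_top S).exists_cj_le hT.isPGroup le_top
  have e : cj x T = S := eq_of_le_of_card_ge hx (by
    rw [card_cj, h0.sh.cardT, ← card_mul_relIndex le, mul_comm 2]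
    refine Nat.mul_le_mul_left _ ((Nat.two_le_iff _).2 ⟨index_ne_zero_of_finite, fun e => ?_⟩)
    exact ne (le_antisymm (relIndex_eq_one.1 e) le))
  rcases h0.sh.cenT (hx (conj_mem_cj.2 (le h0.sh.dh.zH))) (cs_of fun r hr => by
    obtain ⟨r, hr', rfl⟩ := e.ge hr
    change _ * (x * r * x⁻¹) = x * r * x⁻¹ * _
    rw [conj_mul, conj_mul, mem_C1.1 (hT.le hr')]) with e | e
  · exact absurd (by simpa using e) h0.sh.dh.z1
  · exact isConj_iff.2 ⟨x, e⟩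

theorem v0A (hx : x ∈ F4 z (t * z * t⁻¹)) (h1 : IsConj z x) : x = z ∨ x = t * z * t⁻¹ := by
  rcases h0.memF hx with e | e | e | e
  exacts [absurd (isConj_one_left.1 (e ▸ h1)) h0.sh.dh.z1, .inl e, .inr e, absurd (e ▸ h1) h0.k0]

theorem v0B (hx : x ∈ F4 z (t * z * t⁻¹)) (h1 : IsConj (z * (t * z * t⁻¹)) x) :
    x = z * (t * z * t⁻¹) := by
  rcases h0.memF hx with e | e | e | e
  · exact absurd (isConj_one_left.1 (e ▸ h1)) h0.sh.ζ1
  · exact absurd (e ▸ h1.symm :) h0.k0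
  · exact absurd ((isConj_iff.2 ⟨t, e.symm⟩).trans h1.symm) h0.k0
  · exact e

theorem extz (h1 : IsConj y z) : ∃ g : G, g * y * g⁻¹ = z ∧ ∀ r ∈ (S : Subgroup G),
    r * y = y * r → g * r * g⁻¹ ∈ (S : Subgroup G) ⊓ C1 z := by
  have : Fact (Nat.Prime 2) := ⟨Nat.prime_two⟩
  obtain ⟨g, a, b⟩ := Local.exists_extremal_conj (p := 2) (R := (S : Subgroup G) ⊓ C1 y)
    h0.syl h1 (pS inf_le_left) fun r hr => mem_centralizer_singleton_iff.1 hr.2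
  exact ⟨g, a, fun r hr e => b r ⟨hr, mem_centralizer_singleton_iff.2 e⟩⟩

end D2

end Cfsg.Lib.GHN
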