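import Cfsg.Agent.GHN.VF
import Cfsg.Agent.GHN.Tool
import Cfsg.Agent.S2767

/-!
# Simple groups of sectional 2-rank at most four: `S` is not a central product `X C_S(X)`
-/

set_option autoImplicit false

namespace Cfsg.Lib.GHN

open Subgroup Cfsg.Lib.Trans Cfsg.Lib.Gold Cfsg.Lib.Rank2 Cfsg.Lib.GHB
open scoped commutatorElement

universe u

variable {G : Type u} [Group G] [Finite G] {S : Sylow 2 G} {T R X : Subgroup G}
  {c f g h p s v x y z : G}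

omit [Finite G] in
theorem fn_cic : f * c = c * f ↔ f * c * f⁻¹ = c := mul_inv_eq_iff_eq_mul.symm

/-- The fixed points of `f` in `R` are invariant under `N_T(R)`. -/
theorem VF.fn_fix (h0 : VF T R f s z y) (hx : x ∈ T) (hxN : x ∈ Ns R) (hp : p ∈ R)
    (h1 : f * p = p * f) : f * (x * p * x⁻¹) = x * p * x⁻¹ * f := by
  have key : ∀ r ∈ R, ∀ p ∈ R, f * p = p * f → f * (r * p * r⁻¹) = r * p * r⁻¹ * f := by
    intro r hr p hp h1
    obtain ⟨q, hq, h2⟩ := h0.fix hr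
    obtain ⟨a1, a2⟩ := (h0.mem p (h0.le hp)).1 hp
    have h3 : q * p = p * q := (show F4 z y ≤ C1 p from
      sup_le (zpowers_le.2 (mem_C1.2 a1.symm)) (zpowers_le.2 (mem_C1.2 a2.symm))) hq |> mem_C1.1
    rw [show r * p * r⁻¹ = r * q * p * (r * q)⁻¹ by rw [mul_assoc r q, h3]; group]
    exact mem_C1.1 (mul_mem (mul_mem (mem_C1.2 h2.symm) (mem_C1.2 h1.symm))
      (inv_mem (mem_C1.2 h2.symm))) |>.symm
  rcases h0.idx x hx hxN with h2 | h2
  · exact key x h2 p hp h1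
  have h3 : s⁻¹ * p * s⁻¹⁻¹ ∈ R := (mem_normalizer_iff.1 (inv_mem h0.sN) p).1 hp
  have h4 := h0.toTri.sd h3
  rw [show s * (s⁻¹ * p * s⁻¹⁻¹) * s⁻¹ = p by group, mul_assoc f⁻¹, ← h1, inv_mul_cancel_left] at h4
  have h5 := key _ h2 _ h3 (fn_cic.2 (by
    nth_rewrite 2 [← h4]
    group))
  rwa [show x * s * (s⁻¹ * p * s⁻¹⁻¹) * (x * s)⁻¹ = x * p * x⁻¹ by group] at h5

namespace FN

variable (h0 : FN S X z)
include h0

theorem u1 (g1 : g * z = z * g) (g2 : g * v = v * g) (h1 : IsConj z v) (h2 : v ≠ z)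
    (hc : c ∈ (S : Subgroup G)) (h3 : v * c = c * v) (h4 : g * c * g⁻¹ = c * v) : False := by
  have v2 : v * v = 1 := by
    obtain ⟨a, rfl⟩ := isConj_iff.1 h1
    rw [conj_mul, h0.z2, mul_one, mul_inv_cancel]
  have vz : v * z = z * v := by
    rw [show v = c⁻¹ * (g * c * g⁻¹) by rw [h4, inv_mul_cancel_left]]
    have a1 : c ∈ C1 z := mem_C1.2 (cs_comm h0.zc hc).symm
    have a2 : g ∈ C1 z := mem_C1.2 g1
    exact mem_C1.1 (mul_mem (inv_mem a1) (mul_mem (mul_mem a2 a1) (inv_mem a2)))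
  obtain ⟨k, m, hm, hk⟩ := Nat.exists_eq_two_pow_mul_odd (orderOf_pos g).ne'
  have a1 : IsPGroup 2 (zpowers (g ^ m)) := by
    obtain ⟨j, -, hj⟩ := (Nat.dvd_prime_pow Nat.prime_two (m := k)).1 (orderOf_dvd_of_pow_eq_one
      (x := g ^ m) (by rw [← pow_mul, mul_comm, ← hk, pow_orderOf_eq_one]))
    exact IsPGroup.of_card ((Nat.card_zpowers _).trans hj)
  have a2 : g ^ m * c * (g ^ m)⁻¹ = c * v := by
    obtain ⟨l, rfl⟩ := hm
    have b1 : g ^ 2 * c = c * g ^ 2 := fn_cic.2 (by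
      rw [show g ^ 2 * c * (g ^ 2)⁻¹ = g * (g * c * g⁻¹) * g⁻¹ by rw [sq]; group, h4, ← conj_mul, h4,
        fn_cic.1 g2, mul_assoc, v2, mul_one])
    have b2 : (g ^ 2) ^ l * c = c * (g ^ 2) ^ l := (Commute.pow_left b1 l :)
    rw [pow_succ', pow_mul, mul_assoc g, b2, ← h4]
    group
  have a3 : g ^ m * z = z * g ^ m := (Commute.pow_left g1 m :)
  have a4 : g ^ m * v = v * g ^ m := (Commute.pow_left g2 m :)
  generalize g ^ m = e at a1 a2 a3 a4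
  have b1 : IsPGroup 2 (zpowers c ⊔ zpowers v : Subgroup G) :=
    (pS (zpowers_le.2 hc)).to_sup_of_normal_left' 
      (IsPGroup.of_card (n := 1) ((Nat.card_zpowers _).trans (orderOf_eq_prime (p := 2)
        (by rw [sq, v2]) fun e => h0.z1 (isConj_one_left.1 (e ▸ h1)))))
      (zpowers_le.2 (cs_le_ns le_rfl (cs_of (by
        rintro _ ⟨i, rfl⟩; exact (Commute.zpow_right h3 i :)))))
  have b2 : e ∈ Ns (zpowers c ⊔ zpowers v) := ns_of (show zpowers c ⊔ zpowers v ≤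
      (zpowers c ⊔ zpowers v).comap (MulAut.conj e).toMonoidHom from
    sup_le (zpowers_le.2 (by
      change e * c * e⁻¹ ∈ zpowers c ⊔ zpowers v
      rw [a2]
      exact mul_mem (mem_sup_left (mem_zpowers _)) (mem_sup_right (mem_zpowers _))))
      (zpowers_le.2 (by
        change e * v * e⁻¹ ∈ zpowers c ⊔ zpowers v
        rw [fn_cic.1 a4]
        exact mem_sup_right (mem_zpowers _))))
  obtain ⟨a, ha, h5⟩ := (sylIn (S := S) (H := C1 z)
    fun x hx => mem_C1.2 (cs_comm h0.zc hx).symm).exists_cj_le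
    (b1.to_sup_of_normal_left' a1 (zpowers_le.2 b2)) (sup_le (sup_le
      (zpowers_le.2 (mem_C1.2 (cs_comm h0.zc hc).symm)) (zpowers_le.2 (mem_C1.2 vz)))
      (zpowers_le.2 (mem_C1.2 a3)))
  have b3 : ⁅a * e * a⁻¹, a * c * a⁻¹⁆ = a * v * a⁻¹ := by
    rw [show ⁅a * e * a⁻¹, a * c * a⁻¹⁆ = a * (e * c * e⁻¹ * c⁻¹) * a⁻¹ by
      rw [commutatorElement_def]; group, a2, ← h3, mul_inv_cancel_right]
  have b4 := h0.l0 _ (cj_le_iff.1 h5 e (mem_sup_right (mem_zpowers _))) _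
    (cj_le_iff.1 h5 c (mem_sup_left (mem_sup_left (mem_zpowers _))))
    (b3 ▸ h1.trans (isConj_iff.2 ⟨a, rfl⟩))
  rw [b3, ← fn_cic.1 (mem_C1.1 ha)] at b4
  exact h2 (mul_left_cancel (mul_right_cancel b4))

variable (h1 : Gn (S : Subgroup G) R f) (hy : y ∈ X) (h2 : G1 (S : Subgroup G) R f z y)
include h1 hy h2

omit [Finite G] h1 in
theorem ync : y ∉ Cs X := fun h => (h0.cen y hy h).elim
  (fun e => h0.z1 (conj_eq_one_iff.1 (h2.fz.trans e))) h2.yz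

theorem vf : ∃ s, VF (S : Subgroup G) R f s z y :=
  h2.vf h1 (h0.le h0.zX) h0.zc h0.z2 h0.z1 fun h => h0.ync hy h2 (cs_mono h0.le h)

omit [Finite G] h0 h1 hy in
theorem nfix : f * z ≠ z * f := fun h => h2.yz (h2.fz.symm.trans (fn_cic.1 h))

theorem fixA (hc : c ∈ (S : Subgroup G)) (hc' : c ∈ Cs X) :
    f * c = c * f ∨ f * (c * z) = c * z * f := by
  obtain ⟨s, hV⟩ := h0.vf h1 hy h2
  have cR : c ∈ R := (h2.mem c hc).2 (cs_comm hc' hy)
  obtain ⟨x, hx, xN, xR⟩ := grow S.isPGroup' h1.le h0.le (h1.le.trans h0.nrm) fun h =>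
    h0.ync hy h2 (cs_of fun x hx => ((h2.mem x (h0.le hx)).1 (h hx)).symm)
  obtain ⟨a1, a2⟩ := hV.hN (h0.le hx) xN
  replace a2 := a2.resolve_left fun h => xR ((h2.mem x (h0.le hx)).2 (fn_cic.2 h))
  have key : ∀ q ∈ R, x * q * x⁻¹ = q * z → f * (c * q) ≠ c * q * f := fun q hq e h => by
    have h3 := hV.fn_fix (h0.le hx) xN (mul_mem cR hq) h
    rw [← conj_mul, fn_cic.1 (cs_comm hc' hx).symm, e, ← mul_assoc c, ← mul_assoc, h,
      mul_assoc, mul_assoc (c * q)] at h3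
    exact nfix h2 (mul_left_cancel h3)
  have yR : y ∈ R := (h2.mem y (h0.le hy)).2 rfl
  obtain ⟨q, hq, h3⟩ := hV.fix cR
  rcases (mem_F4 h0.z2 hV.b2 hV.zb).1 hq with rfl | rfl | rfl | rfl
  · exact Or.inl (by simpa using h3)
  · exact Or.inr h3
  · exact (key _ yR (a2.trans hV.zb) h3).elim
  · exact (key _ (mul_mem hV.zP yR) (by
      rw [← conj_mul, fn_cic.1 a1, a2, mul_assoc, ← hV.zb]) h3).elim

theorem fixB (hh : h ∈ Cs X) (hc : c ∈ (S : Subgroup G)) (hc' : c ∈ Cs X)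
    (hd : h * c * h⁻¹ ∈ (S : Subgroup G)) (h3 : f * c = c * f) :
    f * (h * c * h⁻¹) = h * c * h⁻¹ * f := by
  obtain ⟨s, hV⟩ := h0.vf h1 hy h2
  refine (h0.fixA h1 hy h2 hd (mul_mem (mul_mem hh hc') (inv_mem hh))).resolve_right fun h4 => ?_
  have a1 := cs_conj hh h0.zX
  have a2 := cs_conj hh hy
  have a3 := cs_conj (inv_mem hh) h0.zX
  have a4 := cs_conj (inv_mem hh) hy
  have b1 : f⁻¹ * y * f = z := by rw [← h2.fz]; group
  have b2 : f⁻¹ * z * f = z * y := by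
    nth_rewrite 1 [← hV.dzb]
    group
  have b3 : f⁻¹ * (z * y) * f = y := by rw [← h2.fy]; group
  have e : ∀ w, h⁻¹ * f⁻¹ * h * f * w * (h⁻¹ * f⁻¹ * h * f)⁻¹ =
      h⁻¹ * (f⁻¹ * (h * (f * w * f⁻¹) * h⁻¹) * f) * h⁻¹⁻¹ := fun w => by group
  refine h0.u1 (g := h⁻¹ * f⁻¹ * h * f) (fn_cic.2 ?_) (fn_cic.2 ?_) hV.conj h2.yz hc
    (cs_comm hc' hy).symm ?_
  · rw [e, h2.fz, a2, b1, a3]
  · rw [e, h2.fy, cs_conj hh (mul_mem h0.zX hy), b3, a4]
  · rw [e, fn_cic.1 h3, show f⁻¹ * (h * c * h⁻¹) * f =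
      f⁻¹ * (h * c * h⁻¹ * z * f) * (f⁻¹ * z * f)⁻¹ by group, ← h4, b2, inv_mul_cancel_left,
      show h * c * h⁻¹ * z * (z * y)⁻¹ = h * c * h⁻¹ * (z * y⁻¹ * z⁻¹) by group, inv_eq hV.b2,
      fn_cic.1 hV.zb, ← conj_mul, a4]
    group

theorem fixC (hh : h ∈ Cs X) (hc : c ∈ (S : Subgroup G)) (hc' : c ∈ Cs X)
    (hd : h * c * h⁻¹ ∈ (S : Subgroup G)) : h * c * h⁻¹ * c⁻¹ ∈ C1 f := by
  by_cases h3 : f * c = c * f
  · exact mul_mem (mem_C1.2 (h0.fixB h1 hy h2 hh hc hc' hd h3).symm) (inv_mem (mem_C1.2 h3.symm))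
  have hd' := mul_mem (mul_mem hh hc') (inv_mem hh)
  have e : h⁻¹ * (h * c * h⁻¹) * h⁻¹⁻¹ = c := by group
  have h4 := (h0.fixA h1 hy h2 hd hd').resolve_left fun h4 =>
    h3 (e ▸ h0.fixB h1 hy h2 (inv_mem hh) hd hd' (e.symm ▸ hc) h4)
  have h5 := mul_mem (mem_C1.2 h4.symm)
    (inv_mem (mem_C1.2 ((h0.fixA h1 hy h2 hc hc').resolve_left h3).symm))
  rwa [show h * c * h⁻¹ * z * (c * z)⁻¹ = h * c * h⁻¹ * c⁻¹ by group] at h5

end FN

theorem FN.false (h0 : FN S X z) : False := by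
  let T : Subgroup G := (S : Subgroup G) ⊓ Cs X ⊓
    ⨅ (R : Subgroup G) (f : G) (y : G) (_ : Gn (S : Subgroup G) R f ∧ y ∈ X ∧
      G1 (S : Subgroup G) R f z y), C1 f
  have mem : ∀ {c}, c ∈ T ↔ (c ∈ (S : Subgroup G) ∧ c ∈ Cs X) ∧ ∀ R f y,
      Gn (S : Subgroup G) R f ∧ y ∈ X ∧ G1 (S : Subgroup G) R f z y → c ∈ C1 f := by
    intro c
    simp only [T, mem_inf, mem_iInf]
  clear_value T
  have key : ∀ {h c}, h ∈ Cs X → c ∈ (S : Subgroup G) → c ∈ Cs X →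
      h * c * h⁻¹ ∈ (S : Subgroup G) → h * c * h⁻¹ * c⁻¹ ∈ T := fun hh hc hc' hd =>
    mem.2 ⟨⟨mul_mem hd (inv_mem hc), mul_mem (mul_mem (mul_mem hh hc') (inv_mem hh)) (inv_mem hc')⟩,
      fun _ _ _ h => h0.fixC h.1 h.2.1 h.2.2 hh hc hc' hd⟩
  have key' : ∀ {h c}, h ∈ Cs X → c ∈ T → h * c * h⁻¹ ∈ (S : Subgroup G) → h * c * h⁻¹ ∈ T :=
    fun hh hc hd => (mul_mem_cancel_right (inv_mem hc)).1
      (key hh (mem.1 hc).1.1 (mem.1 hc).1.2 hd)
  have dec : ∀ g ∈ (S : Subgroup G), ∃ x ∈ X, ∃ c ∈ (S : Subgroup G), c ∈ Cs X ∧ g = x * c :=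
    fun g hg => by
      obtain ⟨x, hx, h⟩ := h0.prod g hg
      exact ⟨x⁻¹, inv_mem hx, _, mul_mem (h0.le hx) hg, h, (inv_mul_cancel_left _ _).symm⟩
  have F : ∀ {y}, y ∈ X → F4 z y ≤ X := fun hy => sup_le (zpowers_le.2 h0.zX) (zpowers_le.2 hy)
  have hT : T ≠ ⊥ := by
    rintro rfl
    have h1 : (S : Subgroup G) ≤ X := h0.cx.foc' (fun g hg g' hg' => by
      obtain ⟨x, hx, c, hc, hc', rfl⟩ := dec g hg
      obtain ⟨x', hx', d, hd, hd', rfl⟩ := dec g' hg'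
      have a1 := mul_inv_eq_one.1 (mem_bot.1 (key hc' hd hd'
        (mul_mem (mul_mem hc hd) (inv_mem hc))))
      rw [show ⁅x * c, x' * d⁆ = x * (c * x' * c⁻¹) * (c * d * c⁻¹ * x⁻¹ * d⁻¹) * x'⁻¹ by
        rw [commutatorElement_def]; group, a1, cs_conj hc' hx', cs_conj hd' (inv_mem hx)]
      exact mul_mem (mul_mem (mul_mem hx hx') (inv_mem hx)) (inv_mem hx')) fun P d hd p hp => by
      rcases h0.gen P d hd with ⟨y, hy, h⟩ | h | h
      · exact F hy (h.cm p hp)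
      · exact h.2.1 p hp
      · obtain ⟨x, hx, c, hc, hc', rfl⟩ := dec p (hd.le hp)
        have a1 := mul_inv_eq_one.1 (mem_bot.1 (key h.2 hc hc'
          (hd.le (hd.dP ((mul_mem_cancel_left (h.1 hx)).1 hp)))))
        rw [commutatorElement_def, ← conj_mul, a1, cs_conj h.2 hx, mul_inv_cancel]
        exact one_mem _
    obtain ⟨A, a1, a2, a3⟩ := h0.cx.toCtx.exists_e8
    exact (h0.rk A (a1.trans h1) a2).not_gt a3
  have sX := h0.cx.sc' h0.le h0.nrm fun P d hd a ha hp => by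
    rw [conj_eq_cm]
    refine mul_mem ?_ ha
    rcases h0.gen P d hd with ⟨y, hy, h⟩ | h | h
    · exact F hy (h.cm a hp)
    · exact h.2.1 a hp
    · rw [commutatorElement_eq_one_iff_mul_comm.2 (cs_comm h.2 ha)]
      exact one_mem _
  have sT := h0.cx.sc' (X := T) (fun c hc => (mem.1 hc).1.1) (fun g hg => ns_of fun a ha => by
      obtain ⟨x, hx, c, hc, hc', rfl⟩ := dec g hg
      have a1 := key' hc' ha (mul_mem (mul_mem hc (mem.1 ha).1.1) (inv_mem hc))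
      rwa [show x * c * a * (x * c)⁻¹ = x * (c * a * c⁻¹) * x⁻¹ by group,
        fn_cic.1 (cs_comm (mem.1 a1).1.2 hx).symm]) fun P d hd a ha hp => by
    rcases h0.gen P d hd with ⟨y, hy, h⟩ | h | h
    · rwa [fn_cic.1 (mem_C1.1 ((mem.1 ha).2 P d y ⟨hd, hy, h⟩)).symm]
    · rwa [fn_cic.1 (h.2.2 a hp (mem.1 ha).1.2)]
    · exact key' h.2 ha (hd.le (hd.dP hp))
  have hI : X ⊓ T = ⊥ := (eq_bot_iff_forall _).2 fun a ha =>
    (h0.cen a ha.1 (mem.1 ha.2).1.2).resolve_right fun e => by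
      obtain ⟨P, d, hd, h1⟩ := h0.cx.mover (h0.le h0.zX) h0.zc h0.z2 h0.z1
      rcases h0.gen P d hd with ⟨y, hy, h⟩ | h | h
      · exact h1 (mem_C1.1 (e ▸ (mem.1 ha.2).2 P d y ⟨hd, hy, h⟩)).symm
      · exact h1 h.1
      · exact h1 (cs_comm h.2 h0.zX)
  have := h0.cx.simple
  have top : ∀ A : Subgroup G, A ≠ ⊥ → normalClosure (A : Set G) = ⊤ := fun A hA =>
    (normalClosure_normal.eq_bot_or_eq_top).resolve_left fun h =>
      hA (le_bot_iff.1 (h ▸ le_normalClosure))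
  have h1 := Cfsg.Agent.S2767.result S X T sX sT fun a ha b hb => (cs_comm (mem.1 hb).1.2 ha).symm
  have h2 : pPrimeCore 2 G = ⊥ := (Normal.eq_bot_or_eq_top inferInstance).resolve_right fun h => by
    have h3 := (Solv.coprime_card_pPrimeCore 2 G).coprime_dvd_left
      (orderOf_dvd_natCard _ (h ▸ mem_top z))
    rw [orderOf_eq_prime (p := 2) (by rw [sq, h0.z2]) h0.z1] at h3
    norm_num at h3
  rw [top X fun h => h0.z1 (mem_bot.1 (h ▸ h0.zX)), top T hT, hI, h2, normalClosure_eq_self,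
    sup_bot_eq, ← commutator_def, h0.cx.toCtx.perf] at h1
  exact h0.z1 (mem_bot.1 (h1 (mem_top z)))

end Cfsg.Lib.GHN
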