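import Cfsg.Agent.GHN.D16

/-!
# Simple groups of sectional 2-rank at most four: frames of sections three, four and five
-/

set_option autoImplicit false

namespace Cfsg.Lib.GHN

open Subgroup Cfsg.Lib.Trans Cfsg.Lib.Gold
open scoped commutatorElement

universe u

variable {G : Type u} [Group G]

/-- The generators of fusion: the `Tri`s and the elements of odd order of `N(S)`. -/
def Gn (S P : Subgroup G) (d : G) : Prop :=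
  (∃ s, Tri S P d s) ∨ (P = S ∧ d ∈ Ns S ∧ Odd (orderOf d))

/-- `u` and `v` generate a non-abelian group of order eight with centre `⟨w⟩`. -/
structure X8 (u v w : G) : Prop where
  w1 : w ≠ 1
  w2 : w * w = 1
  uv : u * v = w * (v * u)
  uw : u * w = w * u
  vw : v * w = w * v
  u2 : u * u = 1 ∨ u * u = w
  v2 : v * v = 1 ∨ v * v = w

/-- The group generated by two elements. -/
abbrev Dl (a b : G) : Subgroup G := zpowers a ⊔ zpowers b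

/-- `y` lies in the coset `⟨a⟩ b`. -/
def Rf (a b y : G) : Prop := ∃ j : ℤ, y = a ^ j * b

/-- `⟨a, b⟩` is dihedral of order `2 ^ (k + 2)`, normal in `H`, and `⟨a⟩ b` is the class of `b`. -/
structure Dh (H : Subgroup G) (k : ℕ) (a b z : G) : Prop where
  aH : a ∈ H
  bH : b ∈ H
  ord : orderOf a = 2 ^ (k + 1)
  za : a ^ 2 ^ k = z
  b2 : b * b = 1
  ba : b * a * b⁻¹ = a⁻¹
  bn : b ∉ zpowers a
  na : H ≤ Ns (zpowers a)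
  cb : ∀ h ∈ H, ∃ j : ℤ, h * b * h⁻¹ = a ^ j * b
  tr : ∀ j : ℤ, ∃ h ∈ H, h * b * h⁻¹ = a ^ j * b

/-- A `Tri` with `[P, d] = ⟨z, b⟩` a four-group. -/
structure VF (S P : Subgroup G) (d s z b : G) : Prop extends Tri S P d s where
  z2 : z * z = 1
  z1 : z ≠ 1
  bz : b ≠ z
  zP : z ∈ P
  dz : d * z * d⁻¹ = b
  db : d * b * d⁻¹ = z * b
  sz : s * z = z * s
  sb : s * b * s⁻¹ = z * b
  mem : ∀ x ∈ S, x ∈ P ↔ x * z = z * x ∧ x * b = b * x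
  cm : ∀ p ∈ P, ⁅d, p⁆ ∈ F4 z b

/-- `C_S(z)` has index two and contains the direct product of `⟨a, b⟩` and its conjugate. -/
structure Sh (S : Subgroup G) (k : ℕ) (a b z t : G) : Prop where
  dh : Dh (S ⊓ C1 z) k a b z
  tS : t ∈ S
  tz : t * z ≠ z * t
  idx : Local.IdxLeTwo (S ⊓ C1 z) S
  com : ∀ x ∈ Dl a b, ∀ y ∈ Dl a b, x * (t * y * t⁻¹) = t * y * t⁻¹ * x
  dis : ∀ x ∈ Dl a b, ∀ y ∈ Dl a b, x = t * y * t⁻¹ → x = 1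
  s1 : ∀ y y', Rf a b y → Rf a b y' → ∃ u ∈ S, u * z = z * u ∧ u * y * u⁻¹ = z * y ∧
    u * (t * y' * t⁻¹) = t * y' * t⁻¹ * u
  cent : ∀ y y', Rf a b y → Rf a b y' → ∀ x ∈ S, x * z = z * x → x * y = y * x →
    x * (t * y' * t⁻¹) = t * y' * t⁻¹ * x → x ∈ F4 z y ⊔ F4 (t * z * t⁻¹) (t * y' * t⁻¹)
  zz : ∀ y ∈ S, (∀ x ∈ S, ⁅x, y⁆ ∈ zpowers (z * (t * z * t⁻¹))) → y ∈ F4 z (t * z * t⁻¹)

/-- The direct product of `⟨a, b⟩` and its conjugate under `t`. -/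
abbrev YY (a b t : G) : Subgroup G := Dl a b ⊔ cj t (Dl a b)

/-- A good four-group whose involution `z` is central in `S`. -/
structure D1 (S : Sylow 2 G) (P : Subgroup G) (d s z b a : G) (k : ℕ) : Prop where
  cx : Cx S
  vf : VF (S : Subgroup G) P d s z b
  dh : Dh (S : Subgroup G) k a b z

/-- A good four-group whose involution `z` is not central in `S`. -/
structure D2 (S : Sylow 2 G) (P : Subgroup G) (d s z b a t : G) (k : ℕ) : Prop where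
  cx : Cx S
  vf : VF (S : Subgroup G) P d s z b
  sh : Sh (S : Subgroup G) k a b z t

/-- `C_S(z) / Y` is a four-group. -/
structure FV (S : Sylow 2 G) (P : Subgroup G) (d s z b a t r : G) (k : ℕ) : Prop
    extends D2 S P d s z b a t k where
  t2 : t * t = 1
  rS : r ∈ (S : Subgroup G)
  r2 : r * r = a
  br : b * r * b⁻¹ = r⁻¹ ∨ (1 ≤ k ∧ b * r * b⁻¹ = r⁻¹ * z)
  rc : ∀ y ∈ Dl a b, r * (t * y * t⁻¹) = t * y * t⁻¹ * r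
  rr : r * (t * r * t⁻¹) = t * r * t⁻¹ * r ∨ (1 ≤ k ∧ ⁅r, t * r * t⁻¹⁆ = z * (t * z * t⁻¹))
  cos : ∀ m ∈ (S : Subgroup G), m * z = z * m → m ∈ YY a b t ∨ r * m ∈ YY a b t ∨
    t * r * t⁻¹ * m ∈ YY a b t ∨ r * (t * r * t⁻¹) * m ∈ YY a b t

/-- `C_S(z) / Y` has order two. -/
structure FX (S : Sylow 2 G) (P : Subgroup G) (d s z b a t x : G) (k : ℕ) : Prop
    extends D2 S P d s z b a t (k + 1) where
  xS : x ∈ (S : Subgroup G)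
  xa : x * a = a * x
  xa' : x * (t * a * t⁻¹) = t * a * t⁻¹ * x
  xb : x * b * x⁻¹ = a * b
  xb' : ∃ j : ℤ, Odd j ∧ x * (t * b * t⁻¹) * x⁻¹ = t * (a ^ j * b) * t⁻¹
  cos : ∀ m ∈ (S : Subgroup G), m * z = z * m → m ∈ YY a b t ∨ x * m ∈ YY a b t

/-- `S / Y` is a four-group. -/
structure FD (S : Sylow 2 G) (P : Subgroup G) (d s z b a t x : G) (k : ℕ) : Prop
    extends FX S P d s z b a t x k where
  t2 : t * t = 1
  tx : t * x = x * t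
  x2 : x * x = a * (t * a * t⁻¹) ∨ x * x = a * (t * a * t⁻¹) * (z * (t * z * t⁻¹))

/-- `S / Y` is cyclic of order four. -/
structure FZ (S : Sylow 2 G) (P : Subgroup G) (d s z b a t x : G) (k : ℕ) : Prop
    extends FX S P d s z b a t x k where
  tY : t * t ∉ YY a b t
  ta : t * t * a * (t * t)⁻¹ = a⁻¹

/-- The extraspecial group `⟨z, e, t, v⟩` of minus type with centre `ζ`; `z, t, z t e, z t v` and
`z t e v` represent its non-central involutions. -/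
structure XM (ζ z t e v : G) : Prop where
  zt : X8 z t ζ
  ev : X8 e v ζ
  z2 : z * z = 1
  t2 : t * t = 1
  e2 : e * e = ζ
  v2 : v * v = ζ
  ze : z * e = e * z
  zv : z * v = v * z
  te : t * e = e * t
  tv : t * v = v * t

/-- `r` inverts `a` and interchanges the two classes of reflections. -/
def Sw (S : Subgroup G) (a b r : G) : Prop :=
  r ∈ S ∧ r * a * r⁻¹ = a⁻¹ ∧ ∃ j : ℤ, Odd j ∧ r * b * r⁻¹ = a ^ j * b

/-- The generator `f` permutes the involutions of `[R, f] = ⟨z, y⟩` and `R = C_S(y)`. -/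
structure G1 (S R : Subgroup G) (f z y : G) : Prop where
  yz : y ≠ z
  fz : f * z * f⁻¹ = y
  fy : f * y * f⁻¹ = z * y
  cm : ∀ p ∈ R, ⁅f, p⁆ ∈ F4 z y
  mem : ∀ x ∈ S, x ∈ R ↔ x * y = y * x

/-- `S = X C_S(X)` with `X` of rank two and centre `⟨z⟩`, and the generators respect this. -/
structure FN (S : Sylow 2 G) (X : Subgroup G) (z : G) : Prop where
  cx : Cx S
  le : X ≤ S
  nrm : (S : Subgroup G) ≤ Ns X
  zX : z ∈ X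
  z1 : z ≠ 1
  z2 : z * z = 1
  zc : z ∈ Cs (S : Subgroup G)
  prod : ∀ g ∈ (S : Subgroup G), ∃ x ∈ X, x * g ∈ Cs X
  cen : ∀ x ∈ X, x ∈ Cs X → x = 1 ∨ x = z
  rk : ∀ E : Subgroup G, E ≤ X → (∀ e ∈ E, e * e = 1) → Nat.card E ≤ 4
  l0 : ∀ g ∈ (S : Subgroup G), ∀ h ∈ (S : Subgroup G), IsConj z ⁅g, h⁆ → ⁅g, h⁆ = z
  gen : ∀ R f, Gn (S : Subgroup G) R f → (∃ y ∈ X, G1 (S : Subgroup G) R f z y) ∨
    (f * z = z * f ∧ (∀ p ∈ R, ⁅f, p⁆ ∈ X) ∧ ∀ c ∈ R, c ∈ Cs X → f * c = c * f) ∨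
    (X ≤ R ∧ f ∈ Cs X)

/-- A `Tri` with `[P, d] = ⟨i, j⟩` quaternion of order eight. -/
structure QF (S P : Subgroup G) (d s z i j : G) : Prop extends Tri S P d s where
  z1 : z ≠ 1
  z2 : z * z = 1
  i2 : i * i = z
  j2 : j * j = z
  ij : i * j = z * (j * i)
  iP : i ∈ P
  di : d * i * d⁻¹ = j
  dj : d * j * d⁻¹ = i * j ∨ d * j * d⁻¹ = j * i
  si : s * i * s⁻¹ = i ∨ s * i * s⁻¹ = i⁻¹
  sj : s * j * s⁻¹ = i * j ∨ s * j * s⁻¹ = j * i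
  mem : ∀ x ∈ S, x ∈ P ↔ ⁅x, i⁆ ∈ zpowers z ∧ ⁅x, j⁆ ∈ zpowers z
  fix : ∀ c ∈ P, c * i = i * c → c * j = j * c → d * c = c * d

/-- `⟨a, j⟩` is quaternion of order `2 ^ (k + 3)`, normal in `H`; `⟨a⟩ j` is the class of `j`. -/
structure Qh (H : Subgroup G) (k : ℕ) (a j z : G) : Prop where
  aH : a ∈ H
  jH : j ∈ H
  ord : orderOf a = 2 ^ (k + 2)
  za : a ^ 2 ^ (k + 1) = z
  j2 : j * j = z
  ja : j * a * j⁻¹ = a⁻¹
  jn : j ∉ zpowers a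
  na : H ≤ Ns (zpowers a)
  cb : ∀ h ∈ H, ∃ m : ℤ, h * j * h⁻¹ = a ^ m * j
  tr : ∀ m : ℤ, ∃ h ∈ H, h * j * h⁻¹ = a ^ m * j

/-- A good quaternion group inside a normal quaternion subgroup of `S`. -/
structure Q1 (S : Sylow 2 G) (P : Subgroup G) (d s z i j a : G) (k : ℕ) : Prop where
  cx : Cx S
  qf : QF (S : Subgroup G) P d s z i j
  qh : Qh (S : Subgroup G) k a j z
  ia : a ^ 2 ^ k = i

/-- `S = A C_R(f) ⟨σ⟩` with `A = ⟨a⟩ × ⟨f a f⁻¹⟩` homocyclic. -/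
structure QG (S : Sylow 2 G) (P R : Subgroup G) (d s z i j a f σ : G) (k : ℕ) : Prop
    extends Q1 S P d s z i j a k where
  tri : Tri (S : Subgroup G) R f σ
  nS : (S : Subgroup G) ≤ Ns R
  aR : a ∈ R
  σ2 : σ * σ = 1
  com : a * (f * a * f⁻¹) = f * a * f⁻¹ * a
  dis : ∀ x ∈ zpowers a, x ∈ zpowers (f * a * f⁻¹) → x = 1
  a12 : a * (f * a * f⁻¹) * (f * (f * a * f⁻¹) * f⁻¹) = 1
  σa : σ * a * σ⁻¹ = a⁻¹
  σa1 : σ * (f * a * f⁻¹) * σ⁻¹ = a * (f * a * f⁻¹)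
  σj : ∃ m : ℤ, σ = a ^ m * j * (f * z * f⁻¹)
  sc : ∀ p ∈ R, ∃ κ : ℤ, p * a * p⁻¹ = a ^ κ ∧ p * (f * a * f⁻¹) * p⁻¹ = (f * a * f⁻¹) ^ κ
  dec : ∀ p ∈ R, ∃ α ∈ Dl a (f * a * f⁻¹), f * (α * p) = α * p * f
  cσ : ∀ c ∈ R, f * c = c * f → σ * c = c * σ

/-- The `Tri` is good. -/
def GD (P : Subgroup G) (d : G) : Prop :=
  (∃ Q, Good P Q d ∧ Nat.card Q = 4) ∨
    ((∃ Q, Good P Q d ∧ Nonempty (Q ≃* QuaternionGroup 2)) ∧ ∀ z ∈ P, z ∈ Cs P → d * z = z * d)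

/-- A `Tri` that is not normal in `S`; `N_S(P) ⟨x⟩ / T` is dihedral of order eight. -/
structure T2 (S P T : Subgroup G) (d s x : G) : Prop extends Tri S P d s where
  p2 : IsPGroup 2 S
  xS : x ∈ S
  xN : x ∈ Ns (S ⊓ Ns P)
  xP : x ∉ Ns P
  eqT : T = P ⊓ cj x P
  x2 : x * x ∈ T

/-- The group `N_S(P) ⟨x⟩`. -/
abbrev N1 (S P : Subgroup G) (x : G) : Subgroup G := (S ⊓ Ns P) ⊔ zpowers x

/-- The core of the amalgam. -/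
structure TB (S P T K : Subgroup G) (d s x : G) : Prop extends T2 S P T d s x where
  dT : d ∉ Ns T
  KT : K ≤ T
  nK : N1 S P x ≤ Ns K
  dK : d ∈ Ns K
  sq : ∀ p ∈ P, p * p ∈ K
  card : Nat.card P ≤ 8 * Nat.card K
  max : ∀ L : Subgroup G, L ≤ P → N1 S P x ≤ Ns L → d ∈ Ns L → L ≤ K

/-- `d` normalises `T`, and the dihedral group of order eight is faithful on `T / Φ(T)`. -/
structure TA (S P T : Subgroup G) (d s x p : G) : Prop extends T2 S P T d s x where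
  dT : d ∈ Ns T
  sx : s ∈ cj x P
  pP : p ∈ P
  pT : p ∉ T
  pd : p * d = d * p
  card : Nat.card T = 16 * Nat.card (GHB.Phi T)
  faith : ∀ g ∈ N1 S P x, (∀ t ∈ T, ⁅g, t⁆ ∈ GHB.Phi T) → g ∈ T

/-- The space of dimension four over the field with two elements. -/
abbrev V4 : Type := ZMod 2 × ZMod 2 × ZMod 2 × ZMod 2

/-- The action of `p`. -/
def mp (v : V4) : V4 := (v.1, v.2.1 + v.1, v.2.2.1, v.2.2.2 + v.2.2.1)

/-- The action of `s`. -/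
def ms (v : V4) : V4 := (v.1, v.2.1, v.2.2.1 + v.1, v.2.2.2 + v.2.1)

/-- The action of `d`. -/
def md (v : V4) : V4 := (v.2.2.1, v.2.2.2, v.1 + v.2.2.1, v.2.1 + v.2.2.2)

/-- The action of `x`. -/
def mx (γ : ZMod 2) (v : V4) : V4 := (v.1, v.2.2.1, v.2.1, v.2.2.2 + γ * v.1)

/-- Coordinates on `T / Φ(T)` when `d` has no fixed points. -/
structure TC (S P T : Subgroup G) (d s x p : G) (co : G → V4) (γ : ZMod 2) : Prop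
    extends TA S P T d s x p where
  mul : ∀ a ∈ T, ∀ b ∈ T, co (a * b) = co a + co b
  ker : ∀ a ∈ T, co a = 0 ↔ a ∈ GHB.Phi T
  surj : ∀ v, ∃ a ∈ T, co a = v
  cp : ∀ a ∈ T, co (p * a * p⁻¹) = mp (co a)
  cs : ∀ a ∈ T, co (s * a * s⁻¹) = ms (co a)
  cd : ∀ a ∈ T, co (d * a * d⁻¹) = md (co a)
  cx : ∀ a ∈ T, co (x * a * x⁻¹) = mx γ (co a)

/-- A fully normalised four-group `⟨z₁, b₁⟩` inside the elementary group `⟨z₁, b₁, z₂, b₂⟩`. -/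
structure BV (S : Subgroup G) (δ σ τ z₁ b₁ z₂ b₂ : G) : Prop where
  p2 : IsPGroup 2 S
  le : F4 z₁ b₁ ⊔ F4 z₂ b₂ ≤ S
  sq : ∀ t ∈ F4 z₁ b₁ ⊔ F4 z₂ b₂, t * t = 1
  card : Nat.card (F4 z₁ b₁ ⊔ F4 z₂ b₂ : Subgroup G) = 16
  syl : IsSylowIn 2 (S ⊓ Ns (F4 z₁ b₁)) (Ns (F4 z₁ b₁))
  δz : δ * z₁ * δ⁻¹ = b₁
  δb : δ * b₁ * δ⁻¹ = z₁ * b₁
  σS : σ ∈ S
  σz : σ * z₁ = z₁ * σ
  σb : σ * b₁ * σ⁻¹ = z₁ * b₁
  σz' : σ * z₂ = z₂ * σ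
  σb' : σ * b₂ = b₂ * σ
  τS : τ ∈ S
  τz : τ * z₁ = z₁ * τ
  τb : τ * b₁ = b₁ * τ
  τz' : τ * z₂ = z₂ * τ
  τb' : τ * b₂ * τ⁻¹ = z₂ * b₂
  cen : ∀ y ∈ S, y ∈ Cs (F4 z₁ b₁) → ⁅y, z₂⁆ ∈ F4 z₁ b₁ → ⁅y, b₂⁆ ∈ F4 z₁ b₁ →
    y ∈ F4 z₁ b₁ ⊔ F4 z₂ b₂

/-- The same with `δ` normalising `Y = C_S(⟨z₁, b₁⟩)` and trivial on `Y / ⟨z₁, b₁⟩`. -/
structure BW (S Y : Subgroup G) (δ σ τ z₁ b₁ z₂ b₂ : G) : Prop
    extends BV S δ σ τ z₁ b₁ z₂ b₂ where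
  eqY : Y = S ⊓ Cs (F4 z₁ b₁)
  δN : δ ∈ Ns Y
  δo : Odd (orderOf δ)
  δ3 : δ ^ 3 ∈ Cs Y
  cm : ∀ y ∈ Y, ⁅δ, y⁆ ∈ F4 z₁ b₁
  inv : σ * δ * σ⁻¹ * δ ∈ Cs Y
  σΦ : ∀ y ∈ Y, ⁅σ, y⁆ ∈ F4 z₁ b₁ ⊔ GHB.Phi Y
  zY : ∀ y ∈ Y, y ∈ Cs Y ↔ y ∈ F8 z₁ b₁ z₂

end Cfsg.Lib.GHN
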