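import Cfsg.Agent.GHN.D16
import Cfsg.Agent.GHB.A5
import Cfsg.Agent.FT.PStable

/-!
# The Frattini subgroup of a 2-group with a group of automorphisms of order five or nine
-/

set_option autoImplicit false

namespace Cfsg.Lib.GHN

open Subgroup Cfsg.Lib.Trans Cfsg.Lib.Gold Cfsg.Lib.Rank2
open scoped commutatorElement

universe u

namespace PhiAux

open Cfsg.Lib.GHB Cfsg.Lib.Solv Cfsg.Lib.Solv.PG

variable {X : Type u} [Group X] {P K M L B H N : Subgroup X} {t e a x : X}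

theorem le_of_Phi [Finite X] (hP : IsPGroup 2 P) (h : ∀ p ∈ P, ∃ x ∈ H, x⁻¹ * p ∈ Phi P) :
    P ≤ H := by
  refine subgroupOf_eq_top.1 (frattini_nongenerating (eq_top_iff.2 fun p _ => ?_))
  obtain ⟨x, hx, e⟩ := h p p.2
  obtain ⟨y, hy, e'⟩ := Phi_le_frattini hP e
  rw [← inv_mul_cancel_right p y]
  refine mul_mem (mem_sup_left ?_) (mem_sup_right hy)
  rw [mem_subgroupOf, coe_mul, coe_inv, show (y : X) = x⁻¹ * p from e']
  simpa using hx

theorem exists_comm [Finite X] [hL : L.Normal] (h1 : ∀ b ∈ B, e * b * e⁻¹ ∈ B)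
    (h2 : ∀ b ∈ B, ⁅e, b⁆ ∈ L → b ∈ L) (hx : x ∈ B) : ∃ b ∈ B, ⁅e, b⁆⁻¹ * x ∈ L := by
  let φ : B.map (QuotientGroup.mk' L) → B.map (QuotientGroup.mk' L) := fun v =>
    ⟨⁅QuotientGroup.mk' L e, (v : X ⧸ L)⁆, by
      obtain ⟨_, b, hb, rfl⟩ := v
      exact ⟨⁅e, b⁆, mul_mem (h1 b hb) (inv_mem hb), map_commutatorElement _ _ _⟩⟩
  have : Function.Injective φ := by
    rintro ⟨_, b, hb, rfl⟩ ⟨_, c, hc, rfl⟩ h
    have h3 : ⁅QuotientGroup.mk' L e, QuotientGroup.mk' L b⁆ =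
      ⁅QuotientGroup.mk' L e, QuotientGroup.mk' L c⁆ := congrArg Subtype.val h
    rw [← map_commutatorElement, ← map_commutatorElement] at h3
    have h4 := hL.conj_mem _ (QuotientGroup.eq.1 h3) b⁻¹
    refine Subtype.ext (QuotientGroup.eq.2 (h2 _ (mul_mem (inv_mem hb) hc) ?_))
    have h5 := hL.conj_mem _ h4 (e * b⁻¹ * e⁻¹ * ⁅e, b⁆ * b)
    convert h5 using 1
    simp only [commutatorElement_def]; group
  obtain ⟨⟨_, b, hb, rfl⟩, h⟩ := Finite.surjective_of_injective this ⟨_, x, hx, rfl⟩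
  have h3 : ⁅QuotientGroup.mk' L e, QuotientGroup.mk' L b⁆ = QuotientGroup.mk' L x :=
    congrArg Subtype.val h
  rw [← map_commutatorElement] at h3
  exact ⟨b, hb, QuotientGroup.eq.1 h3⟩

theorem card_Cm_inv [Finite X] [L.Normal] [B.Normal] (h1 : ∀ q ∈ K, ∀ b ∈ B, ⁅q, b⁆ ∈ L)
    (ha : a * e * a⁻¹ * e ∈ K) (hf : e ^ 15 ∈ K) (h3 : Nat.card B = 16 * Nat.card L)
    (h5 : ∀ b ∈ B, ⁅e, b⁆ ∈ L → b ∈ L) : Nat.card (Cm L B a) ≤ 4 * Nat.card L := by
  have e1 := card_mul_le (Cm_le (K := L) (B := B) (g := a)) (Cm_le (K := L) (g := e * a * e⁻¹))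
  have e2 : Cm L B a ⊓ Cm L B (e * a * e⁻¹) ≤ L := fun x hx => h5 x hx.1.1 (by
    have c1 := mem_cmod_singleton.2 hx.1.2
    have c2 := mem_cmod_singleton.2 hx.2.2
    have c3 := mem_cmod_singleton.2 (h1 _ ha x hx.1.1)
    have c4 := mem_cmod_singleton.2 (h1 _ hf x hx.1.1)
    have := mul_mem (inv_mem c4) (pow_mem (mul_mem (mul_mem c2 (inv_mem c1)) c3) 8)
    rwa [show (e ^ 15)⁻¹ * (e * a * e⁻¹ * a⁻¹ * (a * e * a⁻¹ * e)) ^ 8 = e by
      rw [show e * a * e⁻¹ * a⁻¹ * (a * e * a⁻¹ * e) = e * e by group, ← pow_two]; group,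
      mem_cmod_singleton] at this)
  have e3 := Subgroup.card_le_of_le e2
  have hp : 0 < Nat.card L := Nat.card_pos
  rw [card_Cm_conj, h3] at e1
  by_contra e
  nlinarith [Nat.mul_le_mul_left (16 * Nat.card L) e3]

/-- Burnside's lemma for a group of order nine. -/
theorem not_nine [Finite X] [L.Normal] [hB : B.Normal] (h4 : SectionalPRankLE 2 4 X) (hE : EA L B)
    (KM : K ≤ M) (h9 : K.relIndex M = 9) (hK : ∀ k ∈ K, ∀ b ∈ B, ⁅k, b⁆ ∈ L)
    (hc : ∀ m ∈ M, m ∉ K → Nat.card B = 4 * Nat.card (Cm L B m)) : False := by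
  classical
  have := hB.map _ (QuotientGroup.mk'_surjective L)
  let _ : MulAction M (B.map (QuotientGroup.mk' L)) := MulAction.compHom _
    ((MulAut.conjNormal (H := B.map (QuotientGroup.mk' L))).comp
      ((QuotientGroup.mk' L).comp M.subtype))
  have := Fintype.ofFinite M
  have := fun m : M => Fintype.ofFinite (MulAction.fixedBy (B.map (QuotientGroup.mk' L)) m)
  have := Fintype.ofFinite (Quotient (MulAction.orbitRel M (B.map (QuotientGroup.mk' L))))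
  have e1 := MulAction.sum_card_fixedBy_eq_card_orbits_mul_card_group M
    (B.map (QuotientGroup.mk' L))
  have hp : 0 < Nat.card L := Nat.card_pos
  have e2 : ∀ m : M, Fintype.card (MulAction.fixedBy (B.map (QuotientGroup.mk' L)) m) =
      L.relIndex (Cm L B m) := fun m => by
    rw [rel_eq_card, map_Cm, ← Nat.card_eq_fintype_card]
    exact Nat.card_congr ⟨fun v => ⟨v.1.1, mem_centralizer_singleton_iff.2
      (mul_inv_eq_iff_eq_mul.1 (congrArg Subtype.val v.2)).symm, v.1.2⟩,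
      fun v => ⟨⟨v.1, v.2.2⟩, Subtype.ext
        (mul_inv_eq_iff_eq_mul.2 (mem_centralizer_singleton_iff.1 v.2.1).symm)⟩,
      fun _ => rfl, fun _ => rfl⟩
  have e3 : ∀ m : M, 4 * Fintype.card (MulAction.fixedBy (B.map (QuotientGroup.mk' L)) m) =
      L.relIndex B + if m ∈ K.subgroupOf M then 3 * L.relIndex B else 0 := fun m => by
    rw [e2]
    split_ifs with h
    · rw [le_antisymm (Cm_le (K := L) (B := B) (g := m)) fun b hb => ⟨hb, hK _ h b hb⟩]
      ring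
    · have := hc m m.2 h
      rw [← relIndex_mul_card_of_le hE.le, ← relIndex_mul_card_of_le (le_Cm (g := (m : X)) hE.le),
        ← mul_assoc] at this
      rw [Nat.eq_of_mul_eq_mul_right hp this, add_zero]
  have e4 := congrArg (4 * ·) e1
  simp only [Finset.mul_sum, e3, Finset.sum_add_distrib, ← Finset.sum_filter, Finset.sum_const,
    smul_eq_mul, Finset.card_univ] at e4
  rw [← Fintype.card_subtype, ← Nat.card_eq_fintype_card, ← Nat.card_eq_fintype_card,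
    ← relIndex_mul_card_of_le KM, h9,
    show Nat.card {m : M // m ∈ K.subgroupOf M} = Nat.card K from
      Nat.card_congr (subgroupOfEquivOfLe KM).toEquiv] at e4
  obtain ⟨n, hn, e5⟩ := hE.rel_pow h4
  have hk : 0 < Nat.card K := Nat.card_pos
  have e6 : 2 ^ n =
      3 * Fintype.card (Quotient (MulAction.orbitRel M (B.map (QuotientGroup.mk' L)))) :=
    Nat.eq_of_mul_eq_mul_left (show 0 < 12 * Nat.card K by omega) (by rw [e5] at e4; linarith)
  interval_cases n <;> omega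

/-- The hypotheses in the group generated by `M` and the normaliser of `P` in `S`. -/
structure HP (P K M : Subgroup X) (t : X) : Prop where
  two : IsPGroup 2 P
  rk : SectionalPRankLE 2 4 X
  PK : P ≤ K
  KM : K ≤ M
  inn : ∀ k ∈ K, ∃ p ∈ P, ∀ q ∈ P, k * q * k⁻¹ = p * q * p⁻¹
  min : ∀ N : Subgroup X, N.Normal → K ≤ N → N ≤ M → N = K ∨ N = M
  idx : K.relIndex M = 5 ∨ (K.relIndex M = 9 ∧ ∀ m ∈ M, m ^ 3 ∈ K)
  t2 : t * t ∈ P
  inv : ∀ m ∈ M, t * m * t⁻¹ * m ∈ K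
  nt : ∃ m ∈ M, ∃ q ∈ P, ⁅m, q⁆ ∉ Phi P

namespace HP

variable [hP : P.Normal] [hK : K.Normal] [hM : M.Normal]

omit hP hK hM in
theorem quot (h : HP P K M t) [N.Normal] (hN : N ≤ Phi P) :
    HP (P.map (QuotientGroup.mk' N)) (K.map (QuotientGroup.mk' N)) (M.map (QuotientGroup.mk' N))
      (QuotientGroup.mk' N t) := by
  have h1 : N ≤ K := hN.trans (Phi_le.trans h.PK)
  have hs := QuotientGroup.mk'_surjective N
  refine ⟨h.two.map _, secRank_quotient h.rk N, map_mono h.PK, map_mono h.KM, ?_,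
    fun H hH h2 h3 => ?_, ?_, ⟨_, h.t2, map_mul _ _ _⟩, ?_, ?_⟩
  · rintro _ ⟨k, hk, rfl⟩
    obtain ⟨p, hp, e⟩ := h.inn k hk
    refine ⟨_, ⟨p, hp, rfl⟩, ?_⟩
    rintro _ ⟨q, hq, rfl⟩
    simp only [← map_mul, ← map_inv, e q hq]
  · have e := map_comap_eq_self_of_surjective hs H
    exact (h.min _ (hH.comap _) (map_le_iff_le_comap.1 h2) fun x hx =>
      (mk_mem_map (h1.trans h.KM)).1 (h3 hx)).imp (fun e1 => by rw [← e, e1]) fun e1 => by
        rw [← e, e1]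
  · rw [relIndex_map_map, QuotientGroup.ker_mk', sup_eq_left.2 h1, sup_eq_left.2 (h1.trans h.KM)]
    refine h.idx.imp_right (And.imp_right fun e => ?_)
    rintro _ ⟨m, hm, rfl⟩
    exact ⟨_, e m hm, map_pow _ _ _⟩
  · rintro _ ⟨m, hm, rfl⟩
    exact ⟨_, h.inv m hm, by simp⟩
  · obtain ⟨m, hm, q, hq, e⟩ := h.nt
    refine ⟨_, ⟨m, hm, rfl⟩, _, ⟨q, hq, rfl⟩, ?_⟩
    rwa [← map_Phi, ← map_commutatorElement, mk_mem_map hN]

omit hP hM in
theorem mul (h : HP P K M t) (hx : x ∈ P) (h2 : x * t * (x * t) ∈ P) : HP P K M (x * t) := by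
  refine ⟨h.two, h.rk, h.PK, h.KM, h.inn, h.min, h.idx, h2, fun m hm => ?_, h.nt⟩
  have := mul_mem (mul_mem (h.PK hx) (h.inv m hm)) (hK.conj_mem _ (inv_mem (h.PK hx)) m⁻¹)
  convert this using 1
  group

omit hP hK hM in
theorem Kcomm (h : HP P K M t) (hB : B ≤ P) (h1 : ∀ p ∈ P, ∀ b ∈ B, ⁅p, b⁆ ∈ L) :
    ∀ k ∈ K, ∀ b ∈ B, ⁅k, b⁆ ∈ L := fun k hk b hb => by
  obtain ⟨p, hp, e⟩ := h.inn k hk
  have := h1 p hp b hb
  rwa [commutatorElement_def, ← e b (hB hb)] at this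

omit hP hM in
theorem pow5 (h5 : K.relIndex M = 5) (hx : x ∈ M) : x ^ 5 ∈ K := by
  have := pow_index_mem (H := K.subgroupOf M) ⟨x, hx⟩
  rwa [show (K.subgroupOf M).index = 5 from h5] at this

omit hP hM in
theorem pow15 (h : HP P K M t) (hx : x ∈ M) : x ^ 15 ∈ K := by
  rcases h.idx with e | ⟨-, e⟩
  · simpa [← pow_mul] using pow_mem (pow5 e hx) 3
  · simpa [← pow_mul] using pow_mem (e x hx) 5

omit hM in
theorem tP (h : HP P K M t) : t ∉ P := fun ht => by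
  obtain ⟨m, hm, q, hq, e⟩ := h.nt
  refine e (h.Kcomm le_rfl (fun _ hp _ hb => EA.phi.comm hp hb) m ?_ q hq)
  have e1 := mul_mem (inv_mem (mul_mem (h.PK ht) (hK.conj_mem _ (inv_mem (h.PK ht)) m))) (h.inv m hm)
  have := mul_mem (inv_mem (h.pow15 hm)) (pow_mem e1 8)
  rwa [show (m ^ 15)⁻¹ * ((t * (m * t⁻¹ * m⁻¹))⁻¹ * (t * m * t⁻¹ * m)) ^ 8 = m by
    rw [show (t * (m * t⁻¹ * m⁻¹))⁻¹ * (t * m * t⁻¹ * m) = m * m by group, ← pow_two]; group] at this

variable [Finite X]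

omit hP in
/-- The section lemma. -/
theorem sec (h : HP P K M t) [L.Normal] [hB : B.Normal] (hE : EA L B) (h0 : B ≤ P)
    (h1 : ∀ p ∈ P, ∀ b ∈ B, ⁅p, b⁆ ∈ L) (h2 : ∃ m ∈ M, ∃ b ∈ B, ⁅m, b⁆ ∉ L) :
    Nat.card B = 16 * Nat.card L ∧ ∃ e ∈ M, ∀ b ∈ B, ⁅e, b⁆ ∈ L → b ∈ L := by
  have h3 := h.Kcomm h0 h1
  obtain ⟨m, hm, h2⟩ := h2
  have h5 : ∀ m ∈ M, m ∉ K → ∃ b ∈ B, ⁅m, b⁆ ∉ L := fun g hg n => by
    by_contra hn
    rcases h.min (M ⊓ cmod L (B : Set X)) inferInstance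
      (le_inf h.KM fun k hk => mem_cmod.2 (h3 k hk)) inf_le_left with e | e
    · exact n (e.le ⟨hg, mem_cmod.2 fun b hb => not_not.1 fun e' => hn ⟨b, hb, e'⟩⟩)
    · obtain ⟨b, hb, e'⟩ := h2
      exact e' (mem_cmod.1 (e.ge hm).2 b hb)
  rcases h.idx with e | ⟨e, e'⟩
  · obtain ⟨c1, c2⟩ := hE.act5 h.rk (fun b hb => hB.conj_mem b hb m) (h3 _ (pow5 e hm)) h2
    exact ⟨c1, m, hm, c2⟩
  · by_contra hn
    exact not_nine h.rk hE h.KM e h3 fun g hg n => (hE.act3 h.rk (fun b hb => hB.conj_mem b hb g)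
      (h3 _ (e' g hg)) (h5 g hg n)).resolve_right fun k => hn ⟨k.1, g, hg, k.2⟩

theorem top (h : HP P K M t) : Nat.card P = 16 * Nat.card (Phi P) ∧
    ∃ e ∈ M, ∀ b ∈ P, ⁅e, b⁆ ∈ Phi P → b ∈ Phi P :=
  h.sec EA.phi le_rfl (fun _ hp _ hb => EA.phi.comm hp hb) h.nt

theorem irr (h : HP P K M t) [H.Normal] (h1 : Phi P ≤ H) (h2 : H ≤ P) : H = Phi P ∨ H = P := by
  by_cases e : ∃ m ∈ M, ∃ b ∈ H, ⁅m, b⁆ ∉ Phi P
  · have := (h.sec (EA.phi.sub h1 h2) h2 (fun _ hp _ hb => EA.phi.comm hp (h2 hb)) e).1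
    exact Or.inr (eq_of_le_of_card_ge h2 (by rw [this, h.top.1]))
  · obtain ⟨g, hg, e'⟩ := h.top.2
    exact Or.inl (le_antisymm (fun b hb => e' b (h2 hb)
      (not_not.1 fun k => e ⟨g, hg, b, hb, k⟩)) h1)

theorem of_sq (h : HP P K M t) (h1 : ∀ m ∈ M, m * m ∈ Cs (Phi P)) : M ≤ Cs (Phi P) := by
  obtain ⟨c1, g, hg, e⟩ := h.top
  have h2 := h.Kcomm le_rfl fun _ hp _ hb => EA.phi.comm hp hb
  have e1 : ∀ b ∈ P, ⁅g * g, b⁆ ∈ Phi P → b ∈ Phi P := fun b hb k => e b hb (by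
    have := mul_mem (inv_mem (mem_cmod_singleton.2 (h2 _ (h.pow15 hg) b hb)))
      (pow_mem (mem_cmod_singleton.2 k) 8)
    rwa [show (g ^ 15)⁻¹ * (g * g) ^ 8 = g by rw [← pow_two]; group, mem_cmod_singleton] at this)
  have e2 : P ≤ Cs (Phi P) := le_of_Phi h.two fun p hp => by
    obtain ⟨b, -, k⟩ := exists_comm (fun b hb => hP.conj_mem b hb (g * g)) e1 hp
    exact ⟨_, commutator_mem_left (h1 g hg) b, k⟩
  have e3 : K ≤ Cs (Phi P) := fun k hk => mem_centralizer_iff.2 fun z hz =>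
    (commutatorElement_eq_one_iff_mul_comm.1 (h.Kcomm (L := ⊥) Phi_le
      (comm_bot fun q hq n hn => (mem_centralizer_iff.1 (e2 hq) n hn).symm) k hk z hz)).symm
  rcases h.min (M ⊓ Cs (Phi P)) inferInstance (le_inf h.KM e3) inf_le_left with e4 | e4
  · have := Subgroup.card_le_of_le fun b hb =>
      e1 b hb (h2 _ (e4.le ⟨mul_mem hg hg, h1 g hg⟩) b hb)
    have hp : 0 < Nat.card (Phi P) := Nat.card_pos
    omega
  · exact e4.ge.trans inf_le_right

theorem step1 (h : HP P K M t) (n1 : ∀ n ∈ Phi P, n * n = 1)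
    (n2 : ∀ q ∈ P, ∀ n ∈ Phi P, q * n = n * q)
    (e : ∃ m ∈ M, ∃ n ∈ Phi P, ⁅m, n⁆ ∉ (⊥ : Subgroup X)) : False := by
  obtain ⟨c1, g, hg, c2⟩ := h.sec (EA.bot n1) Phi_le (comm_bot n2) e
  obtain ⟨c3, f, hf, c4⟩ := h.top
  obtain ⟨b, hb, e1⟩ := EA.phi.adjust (fun b hb => hP.conj_mem b hb t) h.t2 c3
    (card_Cm_inv (h.Kcomm le_rfl fun _ hq _ hb => EA.phi.comm hq hb) (h.inv f hf) (h.pow15 hf) c3 c4)
  have h' := h.mul hb (Phi_le e1)
  have e2 := card_Cm_inv (h.Kcomm Phi_le (comm_bot n2)) (h'.inv g hg) (h.pow15 hg) c1 c2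
  have e3 := EA.phi.card_le_sq (fun c hc => hP.conj_mem c hc (b * t))
    fun _ hb => EA.phi.comm h'.t2 hb
  have e4 := card_le_of_invol h.rk (le_Cm (K := Phi P) (g := b * t) Phi_le) n1
    (fun u hu => n2 u hu.1) (fun u hu => sq_mem_Phi hu.1) (fun u hu => hu.2) e1
    fun hu => h'.tP hu.1
  rw [card_bot] at c1 e2
  rw [c3, c1] at e3
  nlinarith

theorem step (h : HP P K M t) (hN : IsMinNormal N) (h1 : N ≤ Phi P)
    (h2 : ∀ m ∈ M, ∀ z ∈ Phi P, ⁅m, z⁆ ∈ N) : M ≤ Cs (Phi P) := by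
  have hn := hN.normal
  obtain ⟨n1, n2⟩ := min_facts h.two hN (h1.trans Phi_le)
  by_cases e : ∃ m ∈ M, ∃ n ∈ N, ⁅m, n⁆ ∉ (⊥ : Subgroup X)
  · exfalso
    by_cases e0 : Phi P ≤ N
    · obtain rfl := le_antisymm h1 e0
      exact h.step1 n1 n2 e
    obtain ⟨c1, g, hg, c2⟩ := h.sec (EA.bot n1) (h1.trans Phi_le) (comm_bot n2) e
    obtain ⟨z, hz, nz, e1⟩ : ∃ z ∈ Phi P, z ∉ N ∧ z * z ∈ N := by
      obtain ⟨z, hz, nz⟩ := SetLike.not_le_iff_exists.1 e0
      obtain ⟨k, hk⟩ := h.two ⟨z, Phi_le hz⟩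
      have hk' : z ^ 2 ^ k ∈ N := (show z ^ 2 ^ k = 1 from congrArg Subtype.val hk) ▸ one_mem _
      clear hk
      induction k with
      | zero => exact absurd (by simpa using hk') nz
      | succ k ih =>
        by_cases e1 : z ^ 2 ^ k ∈ N
        · exact ih e1
        · exact ⟨_, pow_mem hz _, e1, by rwa [← pow_two, ← pow_mul, ← pow_succ]⟩
    obtain ⟨n, hn', e2⟩ := exists_comm (L := ⊥) (fun b hb => hn.conj_mem b hb g) c2 (h2 g hg z hz)
    have e3 : g * (n⁻¹ * z) = n⁻¹ * z * g := by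
      rw [show g * (n⁻¹ * z) = n⁻¹ * (⁅g, n⁆⁻¹ * ⁅g, z⁆) * z * g by
        simp only [commutatorElement_def]; group, mem_bot.1 e2, mul_one]
    have := (EA.bot n1).card_le1 h.rk (g := n⁻¹ * z)
      (comm_bot n2 _ (Phi_le (mul_mem (inv_mem (h1 hn')) hz))) (c2 _ (by
        have := mul_mem (mul_mem (inv_mem hn') (hn.conj_mem _ (inv_mem hn') z)) e1
        convert this using 1
        group) (commutatorElement_eq_one_iff_mul_comm.2 (by
          rw [← mul_assoc, e3, mul_assoc, e3, ← mul_assoc])))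
      fun k => nz (by simpa using mul_mem hn' k)
    rw [card_bot] at c1 this
    omega
  · refine h.of_sq fun m hm => mem_centralizer_iff.2 fun z hz => ?_
    have e1 : ⁅m, ⁅m, z⁆⁆ = 1 := not_not.1 fun k => e ⟨m, hm, _, h2 m hm z hz, k⟩
    have e2 := n1 _ (h2 m hm z hz)
    have e3 : ⁅m * m, z⁆ = ⁅m, ⁅m, z⁆⁆ * (⁅m, z⁆ * ⁅m, z⁆) := by
      simp only [commutatorElement_def]; group
    rw [e1, e2, one_mul] at e3
    exact (commutatorElement_eq_one_iff_mul_comm.1 e3).symm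

end HP

theorem HP.main (X : Type u) [Group X] [Finite X] : ∀ (P K M : Subgroup X) [P.Normal] [K.Normal]
    [M.Normal] (t : X), HP P K M t → M ≤ Cs (Phi P) := by
  refine card_induction (P := fun X _ _ => ∀ (P K M : Subgroup X) [P.Normal] [K.Normal]
    [M.Normal] (t : X), HP P K M t → M ≤ Cs (Phi P)) (fun X _ _ ih P K M _ _ _ t h => ?_) X
  by_cases h0 : Phi P = ⊥
  · rw [h0]
    exact fun m _ => mem_centralizer_iff.2 fun z hz => by rw [mem_bot.1 hz, one_mul, mul_one]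
  obtain ⟨N, hN, h1⟩ := exists_isMinNormal_le (Phi P) h0
  have := hN.normal
  have := Normal.map ‹P.Normal› _ (QuotientGroup.mk'_surjective N)
  have := Normal.map ‹K.Normal› _ (QuotientGroup.mk'_surjective N)
  have := Normal.map ‹M.Normal› _ (QuotientGroup.mk'_surjective N)
  refine h.step hN h1 fun m hm z hz => (QuotientGroup.eq_one_iff _).1 ?_
  have := ih (X ⧸ N) (card_quotient_lt hN.ne_bot) _ _ _ _ (h.quot h1) ⟨m, hm, rfl⟩
  rw [← map_Phi] at this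
  exact commutatorElement_eq_one_iff_mul_comm.2
    (mem_centralizer_iff.1 this _ ⟨z, hz, rfl⟩).symm

theorem HP.Z2 [Finite X] [hP : P.Normal] [K.Normal] [M.Normal] (h : HP P K M t) :
    ∀ z ∈ Phi P, z * z = 1 := by
  have h1 : ∀ m ∈ M, ∀ z ∈ Phi P, m * z * m⁻¹ = z := fun m hm z hz => by
    rw [← mem_centralizer_iff.1 (HP.main X P K M t h hm) z hz, mul_inv_cancel_right]
  have h2 := fun p hp => h1 p (h.KM (h.PK hp))
  obtain ⟨-, g, hg, e⟩ := h.top
  have h3 : ∀ x ∈ P, ∀ y ∈ P, x * y * (x * y) * (x * y * (x * y)) =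
      x * x * (x * x) * (y * y * (y * y)) := fun x hx y hy => by
    have c1 := EA.phi.comm hy hx
    have c2 : ⁅y, x⁆ * ⁅y, x⁆ = 1 := by
      have c3 := h2 y hy _ (sq_mem_Phi hx)
      calc ⁅y, x⁆ * ⁅y, x⁆ = ⁅y, x⁆ * (x * ⁅y, x⁆ * x⁻¹) := by rw [h2 x hx _ c1]
        _ = y * (x * x) * y⁻¹ * (x * x)⁻¹ := by simp only [commutatorElement_def]; group
        _ = 1 := by rw [c3, mul_inv_cancel]
    have c3 : x * y * (x * y) = ⁅y, x⁆ * (x * x) * (y * y) := by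
      rw [← h2 x hx _ c1]
      simp only [commutatorElement_def]; group
    have c4 := h2 _ (mul_mem (mul_mem hx hx) (mul_mem hy hy)) _ c1
    have c5 := h2 _ (mul_mem hy hy) _ (sq_mem_Phi hx)
    rw [c3]
    generalize ⁅y, x⁆ = c at c2 c4
    generalize x * x = u at c4 c5
    generalize y * y = v at c4 c5
    calc c * u * v * (c * u * v) = c * (u * v * c * (u * v)⁻¹) * u * (v * u * v⁻¹) * (v * v) := by
          group
      _ = _ := by rw [c4, c5, c2, one_mul]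
  let T : Subgroup X :=
    { carrier := {x | x ∈ P ∧ x * x * (x * x) = 1}
      one_mem' := ⟨one_mem _, by simp⟩
      mul_mem' := fun {x y} hx hy => ⟨mul_mem hx.1 hy.1, by rw [h3 x hx.1 y hy.1, hx.2, hy.2, one_mul]⟩
      inv_mem' := fun {x} hx => ⟨inv_mem hx.1, by
        rw [← mul_inv_rev, ← mul_inv_rev, hx.2, inv_one]⟩ }
  have h4 : P ≤ T := le_of_Phi h.two fun p hp => by
    obtain ⟨b, hb, k⟩ := exists_comm (fun b hb => hP.conj_mem b hb g) e hp
    refine ⟨_, ⟨commutator_mem_right hb g, ?_⟩, k⟩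
    have := h1 g hg _ (mul_mem (sq_mem_Phi hb) (sq_mem_Phi hb))
    rw [commutatorElement_def, h3 _ (hP.conj_mem b hb g) _ (inv_mem hb), ← mul_inv_rev,
      ← mul_inv_rev, conj_mul, conj_mul, this, mul_inv_cancel]
  intro z hz
  induction hz using closure_induction with
  | mem x hx => obtain ⟨y, hy, rfl⟩ := hx; exact (h4 hy).2
  | one => exact one_mul _
  | mul x y hx hy ex ey =>
    rw [show x * y * (x * y) = x * (y * x * y⁻¹) * (y * y) by group, h2 y (Phi_le hy) x hx, ex, ey,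
      one_mul]
  | inv x _ ex => rw [← mul_inv_rev, ex, inv_one]

theorem mem_Phi_sub (h : P ≤ H) {x : H} : x ∈ Phi (P.subgroupOf H) ↔ (x : X) ∈ Phi P := by
  conv_rhs => rw [← map_subgroupOf_eq_of_le h, ← map_Phi]
  exact (mem_map_iff_mem H.subtype_injective).symm

end PhiAux

variable {G : Type u} [Group G] [Finite G] {S : Sylow 2 G} {P M : Subgroup G} {t : G}

open PhiAux GHB in
theorem Ph.pz (h : Ctx S) (h1 : Ph (S : Subgroup G) P M t) :
    ∃ Z e, Pz (S : Subgroup G) P M Z t e := by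
  have : Fact (Nat.Prime 2) := ⟨Nat.prime_two⟩
  set H := M ⊔ ((S : Subgroup G) ⊓ Ns P) with hH
  have hP : IsPGroup 2 P := S.isPGroup'.to_le h1.le
  have PM : P ≤ M := le_sup_left.trans h1.KM
  have MH : M ≤ H := le_sup_left
  have HN : H ≤ Ns P := sup_le h1.MN inf_le_right
  have nrm : ∀ N : Subgroup G, H ≤ Ns N → (N.subgroupOf H).Normal := fun N hN =>
    ⟨fun n hn g => (mem_normalizer_iff.1 (hN g.2) n).1 hn⟩
  have nC : Ns P ≤ Ns (Cs P) := (normal_subgroupOf_iff_le_normalizer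
    (centralizer_le_normalizer _)).1 inferInstance
  have nK : Ns P ≤ Ns (Kn P) :=
    (le_inf le_rfl nC).trans (normalizer_inf_normalizer_le_normalizer_sup _ _)
  have := nrm P HN
  have := nrm _ (HN.trans nK)
  have := nrm M (sup_le le_normalizer h1.nM)
  have back : ∀ N : Subgroup H, N.Normal → H ≤ Ns (N.map H.subtype) := fun N hN g hg =>
    le_normalizer_map H.subtype ⟨⟨g, hg⟩, (normalizer_eq_top N).ge (mem_top _), rfl⟩
  have inn : ∀ k ∈ Kn P, ∃ p ∈ P, p⁻¹ * k ∈ Cs P := fun k hk => by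
    obtain ⟨p, hp, c, hc, rfl⟩ := (coe_mul_of_left_le_normalizer_right P (Cs P)
      (le_normalizer.trans nC)).le hk
    exact ⟨p, hp, by simpa using hc⟩
  have hp : HP (P.subgroupOf H) ((Kn P).subgroupOf H) (M.subgroupOf H)
      ⟨t, mem_sup_right ⟨h1.tS, h1.tN⟩⟩ := by
    refine ⟨hP.comap_subtype, Solv.PG.secRank_subgroup h.r4 H, fun _ hx => mem_sup_left hx,
      fun _ hx => h1.KM hx, fun k hk => ?_, fun N hN a b => ?_, ?_, h1.t2, fun m hm => h1.inv m hm, ?_⟩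
    · obtain ⟨p, hp, e⟩ := inn k hk
      refine ⟨⟨p, MH (PM hp)⟩, hp, fun q hq => Subtype.ext ?_⟩
      have := mem_centralizer_iff.1 e q hq
      calc (k * q * k⁻¹ : G) = p * (p⁻¹ * k * q) * k⁻¹ := by group
        _ = _ := by rw [← this]; simp [mul_assoc]
    · have e := comap_map_eq_self_of_injective H.subtype_injective N
      exact (h1.min (N.map H.subtype) (fun x hx => ⟨⟨x, MH (h1.KM hx)⟩, a hx, rfl⟩)
        (map_le_iff_le_comap.2 b) (le_sup_right.trans (back N hN))).imp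
        (fun k => by rw [← e, k]; rfl) fun k => by rw [← e, k]; rfl
    · rw [relIndex_subgroupOf MH]
      exact h1.idx.imp_right (And.imp_right fun e m hm => e m hm)
    · by_contra hn
      have e : M ≤ Kn P := fun m hm => by
        obtain ⟨k, hk⟩ := FT.exists_pow_mem_cent_of_frattini hP (h1.MN hm) fun u hu =>
          Phi_le_frattini hP ((mem_Phi_sub (PM.trans MH) (x := ⁅⟨m, MH hm⟩, ⟨u, MH (PM hu)⟩⁆)).1
            (not_not.1 fun k => hn ⟨_, hm, _, hu, k⟩))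
        have e15 : m ^ 15 ∈ Kn P := by
          rcases h1.idx with e | ⟨-, e⟩
          · have := pow_mem (HP.pow5 (K := (Kn P).subgroupOf H) (M := M.subgroupOf H)
              (by rwa [relIndex_subgroupOf MH]) (x := ⟨m, MH hm⟩) hm) 3
            rwa [← pow_mul] at this
          · simpa [← pow_mul] using pow_mem (e m hm) 5
        have := mul_mem (zpow_mem (mem_sup_right hk : _ ∈ Kn P) (Nat.gcdA (2 ^ k) 15))
          (zpow_mem e15 (Nat.gcdB (2 ^ k) 15))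
        rwa [← zpow_natCast, ← zpow_natCast m 15, ← zpow_mul, ← zpow_mul, ← zpow_add,
          ← Nat.gcd_eq_gcd_ab, Nat.Coprime.pow_left k (by norm_num), Nat.cast_one, zpow_one] at this
      have := relIndex_eq_one.2 e
      have := h1.idx
      omega
  obtain ⟨c1, e, he, c2⟩ := hp.top
  have c3 : Phi (P.subgroupOf H) = (Phi P).subgroupOf H := Subgroup.ext fun _ => mem_Phi_sub (PM.trans MH)
  have ZH : Phi P ≤ H := Phi_le.trans (PM.trans MH)
  rw [c3] at c1 c2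
  refine ⟨_, e, h1, rfl, fun z hz => ?_, fun m hm => mem_centralizer_iff.2 fun z hz => ?_, ?_, he,
    fun p hp => c2 ⟨p, MH (PM hp)⟩ hp, fun N a b c d => ?_⟩
  · exact congrArg Subtype.val (hp.Z2 ⟨z, ZH hz⟩ (c3.ge hz))
  · exact congrArg Subtype.val (mem_centralizer_iff.1 (HP.main _ _ _ _ _ hp
      (show (⟨m, MH hm⟩ : H) ∈ M.subgroupOf H from hm)) ⟨z, ZH hz⟩ (c3.ge hz))
  · rwa [Nat.card_congr (subgroupOfEquivOfLe (PM.trans MH)).toEquiv,
      Nat.card_congr (subgroupOfEquivOfLe ZH).toEquiv] at c1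
  · have := nrm N (sup_le c d)
    have NH := b.trans (PM.trans MH)
    exact (hp.irr (H := N.subgroupOf H) (fun x hx => a (c3.le hx)) fun x hx => b hx).imp
      (fun k => le_antisymm (fun x hx => (SetLike.ext_iff.1 (k.trans c3) ⟨x, NH hx⟩).1 hx) a)
      fun k => le_antisymm b fun x hx => (SetLike.ext_iff.1 k ⟨x, MH (PM hx)⟩).2 hx

end Cfsg.Lib.GHN
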