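import Cfsg.Agent.GHN.Basic
import Cfsg.Agent.GHB.Invol
import Cfsg.Agent.Fus.SylIn

/-!
# An essential subgroup `2^{1+4}_-` with automorphisms of order five gives an isolated four-group
-/

set_option autoImplicit false

namespace Cfsg.Lib.GHN

open Subgroup Cfsg.Lib.Trans Cfsg.Lib.Gold Cfsg.Lib.Rank2
open scoped commutatorElement Classical

universe u

variable {G : Type u} [Group G] {T P Q H : Subgroup G} {z a b c d n r x y : G} {f : G →* G}
  {s : Fin 5 → G} {i j k : Fin 5}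

namespace Xa

/-- congruence modulo `z` -/
def Md (z a b : G) : Prop := a = b ∨ a = z * b

theorem Md_eq_1' : type_of% @Md.eq_1 := @Md.eq_1

/-- the commutator form -/
noncomputable def cc (a b : G) : ZMod 2 := if a * b = b * a then 0 else 1

theorem cc_eq_1' : type_of% @cc.eq_1 := @cc.eq_1

/-- the squaring form -/
noncomputable def qq (a : G) : ZMod 2 := if a * a = 1 then 0 else 1

theorem qq_eq_1' : type_of% @qq.eq_1 := @qq.eq_1

theorem cc_zero : cc a b = 0 ↔ a * b = b * a := by unfold cc; split_ifs with h <;> simp [h]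

theorem qq_zero : qq a = 0 ↔ a * a = 1 := by unfold qq; split_ifs with h <;> simp [h]

theorem cc_comm (a b : G) : cc a b = cc b a := by unfold cc; simp only [eq_comm (a := a * b)]

theorem cc_self (a : G) : cc a a = 0 := cc_zero.2 rfl

theorem cc_conj (n a b : G) : cc (n * a * n⁻¹) (n * b * n⁻¹) = cc a b := by
  unfold cc; simp only [conj_mul, mul_left_inj, mul_right_inj]

theorem z01 (t : ZMod 2) : t = 0 ∨ t = 1 := by revert t; decide

/-- squares of `P` lie in `⟨z⟩` -/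
structure Ex (P : Subgroup G) (z : G) : Prop where
  z1 : z ≠ 1
  z2 : z * z = 1
  zP : z ∈ P
  zN : ∀ n ∈ Ns P, n * z = z * n
  sq : ∀ p ∈ P, p * p = 1 ∨ p * p = z

theorem Md.refl (z a : G) : Md z a a := .inl rfl

theorem Md.symm (h2 : z * z = 1) (h : Md z a b) : Md z b a := by
  rcases h with rfl | rfl
  · exact .inl rfl
  · exact .inr (by rw [← mul_assoc, h2, one_mul])

theorem Md.trans (h2 : z * z = 1) (h : Md z a b) (h' : Md z b c) : Md z a c := by
  rcases h with rfl | rfl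
  · exact h'
  · rcases h' with rfl | rfl
    · exact .inr rfl
    · exact .inl (by rw [← mul_assoc, h2, one_mul])

theorem Md.conj (hn : n * z = z * n) (h : Md z a b) : Md z (n * a * n⁻¹) (n * b * n⁻¹) := by
  rcases h with rfl | rfl
  · exact .inl rfl
  · exact .inr (by rw [← mul_assoc, hn]; simp only [mul_assoc])

theorem Md.cc_eq (hd : d * z = z * d) (h : Md z a b) : cc a d = cc b d := by
  rcases h with rfl | rfl
  · rfl
  · unfold cc; rw [← mul_assoc, hd]; simp only [mul_assoc, mul_right_inj]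

namespace Ex

variable (h : Ex P z)
include h

theorem zc (hx : x ∈ P) : x * z = z * x := h.zN x (le_normalizer hx)

theorem zc' (hx : x ∈ P) : x * (z * y) = z * (x * y) := by rw [← mul_assoc, h.zc hx, mul_assoc]

theorem sqZ (hx : x ∈ P) : x * x ∈ zpowers z := (mem_zp h.z2).2 (h.sq x hx)

theorem zle : zpowers z ≤ P := zpowers_le.2 h.zP

theorem cm (ha : a ∈ P) (hb : b ∈ P) : Md z (a * b) (b * a) := by
  have e : GHB.EA (zpowers z) P := ⟨h.zle, fun _ => h.sqZ, fun x hx k hk => by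
    rcases (mem_zp h.z2).1 hk with rfl | rfl
    · simp
    · rw [h.zc hx, mul_inv_cancel_right]; exact hk⟩
  have e2 : a * b = ⁅a, b⁆ * (b * a) := by simp only [commutatorElement_def]; group
  rcases (mem_zp h.z2).1 (e.comm ha hb) with e3 | e3 <;> rw [e3] at e2
  · exact .inl (e2.trans (one_mul _))
  · exact .inr e2

theorem md (ha : a ∈ P) (hb : b ∈ P) : Md z (a * b * a⁻¹) b := by
  rcases h.cm ha hb with e | e <;> rw [e]
  · exact .inl (mul_inv_cancel_right _ _)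
  · exact .inr (by rw [mul_assoc, mul_inv_cancel_right])

theorem zadd (t u : ZMod 2) : z ^ (t + u).val = z ^ t.val * z ^ u.val := by
  rcases z01 t with rfl | rfl <;> rcases z01 u with rfl | rfl
  · simp
  · simp
  · simp
  · show z ^ 0 = z ^ 1 * z ^ 1
    rw [pow_one, pow_zero, h.z2]

theorem zinj {t u : ZMod 2} (e : z ^ t.val = z ^ u.val) : t = u := by
  have := h.z1
  rcases z01 t with rfl | rfl <;> rcases z01 u with rfl | rfl
  · rfl
  · exact absurd ((pow_one z).symm.trans (e.symm.trans (pow_zero z))) this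
  · exact absurd ((pow_one z).symm.trans (e.trans (pow_zero z))) this
  · rfl

theorem c_spec (ha : a ∈ P) (hb : b ∈ P) : a * b = z ^ (cc a b).val * (b * a) := by
  unfold cc; split_ifs with e
  · rw [e]; simp
  · exact ((h.cm ha hb).resolve_left e).trans (congrArg (· * _) (pow_one z).symm)

theorem q_spec (ha : a ∈ P) : a * a = z ^ (qq a).val := by
  unfold qq; split_ifs with e
  · rw [e]; simp
  · exact ((h.sq a ha).resolve_left e).trans (pow_one z).symm

theorem zpc (hx : x ∈ P) (m : ℕ) (y : G) : x * (z ^ m * y) = z ^ m * (x * y) := by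
  rw [← mul_assoc, (Commute.pow_right (h.zc hx) m).eq, mul_assoc]

theorem c_mul (ha : a ∈ P) (hb : b ∈ P) (hd : d ∈ P) : cc (a * b) d = cc a d + cc b d := by
  refine h.zinj (mul_right_cancel (b := d * (a * b)) ?_)
  rw [← h.c_spec (mul_mem ha hb) hd, h.zadd, mul_assoc, h.c_spec hb hd, h.zpc ha, ← mul_assoc a,
    h.c_spec ha hd, (Commute.pow_pow_self z _ _).eq]
  simp only [mul_assoc]

theorem c_mul' (ha : a ∈ P) (hb : b ∈ P) (hd : d ∈ P) : cc d (a * b) = cc d a + cc d b := by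
  rw [cc_comm, h.c_mul ha hb hd, cc_comm a, cc_comm b]

theorem q_mul (ha : a ∈ P) (hb : b ∈ P) : qq (a * b) = qq a + qq b + cc a b := by
  refine h.zinj ?_
  rw [← h.q_spec (mul_mem ha hb), h.zadd, h.zadd, ← h.q_spec ha, ← h.q_spec hb, mul_assoc,
    ← mul_assoc b, h.c_spec hb ha, cc_comm b, mul_assoc, h.zpc ha]
  rw [(Commute.pow_right (h.zc (mul_mem (mul_mem ha ha) (mul_mem hb hb))) _).eq]
  simp only [mul_assoc]

end Ex

/-- an automorphism of order five of the group `P` of order 32 -/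
structure Fv (P : Subgroup G) (z : G) (f : G →* G) : Prop extends Ex P z where
  card : Nat.card P = 32
  mem : ∀ x ∈ P, f x ∈ P
  fz : f z = z
  five : ∀ x ∈ P, f (f (f (f (f x)))) = x
  ne : ∃ x ∈ P, f x ≠ x

theorem two_or (hH : H ≤ P) (hP : Nat.card P = 32) (h5 : Nat.card H ≡ 2 [MOD 5]) :
    Nat.card H = 2 ∨ Nat.card H = 32 := by
  have := card_dvd_of_le hH
  rw [hP] at this
  obtain ⟨k, hk, e⟩ := (Nat.dvd_prime_pow Nat.prime_two (m := 5)).1 this
  rw [e] at h5 ⊢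
  interval_cases k <;> simp [Nat.ModEq] at h5 ⊢

namespace Fv

variable [Finite G] (h : Fv P z f)
include h

theorem cnt (hH : H ≤ P) (hf : ∀ x ∈ H, f x ∈ H) :
    Nat.card H ≡ Nat.card (H ⊓ f.eqLocus (MonoidHom.id G) : Subgroup G) [MOD 5] :=
  haveI : Fact (Nat.Prime 5) := ⟨by norm_num⟩
  GHB.card_fix f 5 (H : Set G) hf fun x hx => h.five x (hH hx)

theorem fix0 : P ⊓ f.eqLocus (MonoidHom.id G) = zpowers z := by
  have c2 := GHB.card_zpowers_two h.z2 h.z1
  have := h.cnt le_rfl h.mem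
  rw [h.card] at this
  rcases two_or inf_le_left h.card (this.symm.trans (by decide)) with e | e
  · exact (eq_of_le_of_card_ge (zpowers_le.2 (mem_inf.2 ⟨h.zP, h.fz⟩)) (e.trans c2.symm).le).symm
  · obtain ⟨x, hx, ne⟩ := h.ne
    have e2 := eq_of_le_of_card_ge (inf_le_left (a := P)) (h.card.trans e.symm).le
    exact absurd (e2.ge hx).2 ne

theorem fix (hx : x ∈ P) (e : Md z (f x) x) : x = 1 ∨ x = z := by
  refine (mem_zp h.z2).1 (h.fix0.le ⟨hx, e.resolve_right fun e => h.z1 ?_⟩)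
  have e2 : f (f x) = x := by rw [e, map_mul, h.fz, e, ← mul_assoc, h.z2, one_mul]
  have := h.five x hx
  rwa [e2, e2, e, mul_eq_right] at this

theorem irr (hH : H ≤ P) (hz : z ∈ H) (hf : ∀ x ∈ H, f x ∈ H) (ne : ¬ P ≤ H) :
    ∀ x ∈ H, x = 1 ∨ x = z := by
  have c2 := GHB.card_zpowers_two h.z2 h.z1
  have := h.cnt hH hf
  rw [show H ⊓ f.eqLocus (MonoidHom.id G) = zpowers z from le_antisymm
    ((inf_le_inf_right _ hH).trans h.fix0.le) (zpowers_le.2 ⟨hz, h.fz⟩), c2] at this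
  rcases two_or hH h.card this with e | e
  · exact fun x hx => (mem_zp h.z2).1
      ((eq_of_le_of_card_ge (zpowers_le.2 hz) (e.trans c2.symm).le).ge hx)
  · exact absurd (eq_of_le_of_card_ge hH (h.card.trans e.symm).le).ge ne

omit [Finite G] in
theorem cf (ha : a ∈ P) (hb : b ∈ P) : cc (f a) (f b) = cc a b := by
  refine h.zinj (mul_right_cancel (b := f b * f a) ?_)
  rw [← h.c_spec (h.mem a ha) (h.mem b hb), ← map_mul, h.c_spec ha hb, map_mul, map_mul, map_pow,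
    h.fz]

end Fv

/-- the five classes of non-central involutions of `P` -/
structure Fr (P : Subgroup G) (z : G) (s : Fin 5 → G) : Prop extends Ex P z where
  mem : ∀ i, s i ∈ P
  s2 : ∀ i, s i * s i = 1
  ac : ∀ i j, cc (s i) (s j) = if i = j then 0 else 1
  all : ∀ p ∈ P, p * p = 1 → p = 1 ∨ p = z ∨ ∃ i, Md z p (s i)

theorem pat (χ : Fin 5 → ZMod 2) (h : χ 0 + χ 1 + χ 2 + χ 3 + χ 4 = 0) : (∀ k, χ k = 0) ∨
    (∃ i, ∀ k, χ k + (if i = k then 0 else 1) = 0) ∨ ∃ i j, i ≠ j ∧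
      ∀ k, χ k + ((if i = k then 0 else 1) + if j = k then 0 else 1) = 0 := by
  revert χ; decide

theorem Fv.exists_fr [Finite G] (h : Fv P z f) (ex : ∃ p ∈ P, p * p = z) : ∃ s, Fr P z s := by
  obtain ⟨p, hp, pz⟩ := ex
  obtain ⟨a, h0, aZ, a2⟩ := GHB.aniso (L := ⊥) h.zle
    (fun u hu w hw => by rcases (mem_zp h.z2).1 hw with rfl | rfl; simp; exact h.zc hu)
    (fun u hu => h.sqZ hu) (fun u hu v hv u1 v1 => by
      rw [((mem_zp h.z2).1 hu).resolve_left u1, ((mem_zp h.z2).1 hv).resolve_left v1]; exact h.z2)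
    (by rw [GHB.card_zpowers_two h.z2 h.z1, h.card]; norm_num)
  rw [mem_zp h.z2] at aZ
  have h1 := h.mem _ h0
  have h2 := h.mem _ h1
  have h3 := h.mem _ h2
  have h4 := h.mem _ h3
  have e5 := h.five a h0
  have q0 : a * a = 1 := a2
  have q1 : f a * f a = 1 := by rw [← map_mul, q0, map_one]
  have q2 : f (f a) * f (f a) = 1 := by rw [← map_mul, q1, map_one]
  have q3 : f (f (f a)) * f (f (f a)) = 1 := by rw [← map_mul, q2, map_one]
  have q4 : f (f (f (f a))) * f (f (f (f a))) = 1 := by rw [← map_mul, q3, map_one]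
  -- `a` is not central
  have nc : a ∉ Cs P := fun hc => aZ <| h.irr (H := ⟨⟨⟨{x | x ∈ P ∧ x ∈ Cs P ∧ x * x = 1},
      fun {u v} hu hv => ⟨mul_mem hu.1 hv.1, mul_mem hu.2.1 hv.2.1, by
        rw [mul_assoc, ← mul_assoc v, cs_comm hv.2.1 hu.1, mul_assoc, hv.2.2, mul_one, hu.2.2]⟩⟩,
      ⟨one_mem _, one_mem _, one_mul 1⟩⟩, fun {u} hu => by rwa [inv_eq hu.2.2]⟩)
    (fun _ hx => hx.1) ⟨h.zP, cs_of fun x hx => (h.zc hx).symm, h.z2⟩
    (fun x hx => ⟨h.mem x hx.1, cs_of fun y hy => by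
      rw [← h.five y hy, ← map_mul, ← map_mul,
        cs_comm hx.2.1 (h.mem _ (h.mem _ (h.mem _ (h.mem _ hy))))],
      by rw [← map_mul, hx.2.2, map_one]⟩)
    (fun le => h.z1 (pz.symm.trans (le hp).2.2)) a ⟨h0, hc, q0⟩
  set s : Fin 5 → G := ![a, f a, f (f a), f (f (f a)), f (f (f (f a)))] with hs
  have ms : ∀ i, s i ∈ P := fun i => by fin_cases i <;> assumption
  have qs : ∀ i, s i * s i = 1 := fun i => by fin_cases i <;> assumption
  have fs : ∀ i, ∃ j, s i = f (s j) := fun i => by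
    fin_cases i
    exacts [⟨4, e5.symm⟩, ⟨0, rfl⟩, ⟨1, rfl⟩, ⟨2, rfl⟩, ⟨3, rfl⟩]
  -- the commutation pattern determines an element modulo `z`
  have ker : ∀ x ∈ P, (∀ k, cc x (s k) = 0) → x = 1 ∨ x = z := fun x hx hk =>
    h.irr (H := P ⊓ centralizer (Set.range s)) inf_le_left
      ⟨h.zP, fun _ ⟨k, e⟩ => e ▸ h.zc (ms k)⟩
      (fun y hy => ⟨h.mem y hy.1, fun _ ⟨k, e⟩ => by
        obtain ⟨j, e2⟩ := fs k
        rw [← e, e2, ← map_mul, ← map_mul, hy.2 _ ⟨j, rfl⟩]⟩)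
      (fun le => nc fun y hy => ((le hy).2 a ⟨0, rfl⟩).symm) x
      ⟨hx, fun _ ⟨k, e⟩ => e ▸ (cc_zero.1 (hk k)).symm⟩
  have m4 := mul_mem (mul_mem (mul_mem h1 h2) h3) h4
  have pr := h.fix (mul_mem h0 m4) (by
    simp only [map_mul, e5]
    simpa only [mul_assoc] using h.cm m4 h0)
  have qp : qq (a * (f a * f (f a) * f (f (f a)) * f (f (f (f a))))) = 0 :=
    qq_zero.2 (by rcases pr with e | e <;> rw [e]; exacts [one_mul 1, h.z2])
  have cp : ∀ x ∈ P, cc x (a * (f a * f (f a) * f (f (f a)) * f (f (f (f a))))) = 0 := fun x hx =>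
    cc_zero.2 (by rcases pr with e | e <;> rw [e]; exacts [by simp, h.zc hx])
  have c12 := h.cf h0 h1
  have c23 := (h.cf h1 h2).trans c12
  have c34 := (h.cf h2 h3).trans c23
  have c04 := (h.cf h3 h4).trans c34
  have c13 := h.cf h0 h2
  have c24 := (h.cf h1 h3).trans c13
  have c03 := (h.cf h2 h4).trans c24
  rw [e5, cc_comm] at c04 c03
  have c14 := (h.cf h0 h3).trans c03
  rw [h.q_mul h0 m4, h.q_mul (mul_mem (mul_mem h1 h2) h3) h4, h.q_mul (mul_mem h1 h2) h3,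
    h.q_mul h1 h2, h.c_mul' (mul_mem (mul_mem h1 h2) h3) h4 h0, h.c_mul' (mul_mem h1 h2) h3 h0,
    h.c_mul' h1 h2 h0, h.c_mul (mul_mem h1 h2) h3 h4, h.c_mul h1 h2 h4, h.c_mul h1 h2 h3,
    qq_zero.2 q0, qq_zero.2 q1, qq_zero.2 q2, qq_zero.2 q3, qq_zero.2 q4,
    c12, c23, c34, c04, c13, c24, c03, c14] at qp
  have bg : cc a (f a) = 1 ∧ cc a (f (f a)) = 1 := by
    have n0 : ¬ (cc a (f a) = 0 ∧ cc a (f (f a)) = 0) := fun e => aZ (ker a h0 fun k => by
      fin_cases k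
      exacts [cc_self a, e.1, e.2, c03.trans e.2, c04.trans e.1])
    revert qp n0
    generalize cc a (f a) = β
    generalize cc a (f (f a)) = γ
    revert β γ; decide
  obtain ⟨c01, c02⟩ := bg
  rw [c01] at c12 c23 c34 c04
  rw [c02] at c13 c24 c03 c14
  have ac : ∀ i j, cc (s i) (s j) = if i = j then 0 else 1 := fun i j => by
    fin_cases i <;> fin_cases j <;>
      first | exact cc_self _ | assumption | exact (cc_comm _ _).trans (by assumption)
  refine ⟨s, h.toEx, ms, qs, ac, fun x hx x2 => ?_⟩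
  have md : ∀ y ∈ P, (∀ k, cc x (s k) + cc y (s k) = 0) → Md z x y⁻¹ := fun y hy hk => by
    rcases ker _ (mul_mem hx hy) fun k => (h.c_mul hx hy (ms k)).trans (hk k) with e | e
    · exact .inl (eq_inv_of_mul_eq_one_left e)
    · exact .inr (eq_mul_inv_of_mul_eq e)
  rcases pat (fun k => cc x (s k)) (by
    have := cp x hx
    rw [h.c_mul' h0 m4 hx, h.c_mul' (mul_mem (mul_mem h1 h2) h3) h4 hx,
      h.c_mul' (mul_mem h1 h2) h3 hx, h.c_mul' h1 h2 hx, ← add_assoc, ← add_assoc,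
      ← add_assoc] at this
    exact this) with e | ⟨i, e⟩ | ⟨i, j, ij, e⟩
  · exact (ker x hx e).imp_right .inl
  · exact .inr (.inr ⟨i, inv_eq (qs i) ▸ md _ (ms i) fun k => by rw [ac]; exact e k⟩)
  · have m := mul_mem (ms i) (ms j)
    have e1 := md _ m fun k => by rw [h.c_mul (ms i) (ms j) (ms k), ac, ac]; exact e k
    have e2 := h.q_mul (ms i) (ms j)
    rw [qq_zero.2 (qs i), qq_zero.2 (qs j), ac, if_neg ij] at e2
    have e3 : (s i * s j)⁻¹ * (s i * s j)⁻¹ = 1 := by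
      rcases e1 with e1 | e1
      · rw [← e1, x2]
      · rw [e1, mul_assoc, h.zc' (inv_mem m), ← mul_assoc, h.z2, one_mul] at x2; exact x2
    rw [← mul_inv_rev, inv_eq_one, ← qq_zero, e2] at e3
    exact absurd e3 (by decide)

theorem perm5 {ε ρ : Equiv.Perm (Fin 5)} (h5 : ε ^ 5 = 1) (h1 : ∀ i, ε i ≠ i)
    (h2 : ρ * ε * ρ⁻¹ * ε = 1) (hi : ρ i = i) (hj : ρ j = j) : i = j := by
  have per : ∀ m x, (ε ^ m) x = x → 5 ∣ m := fun m x e => by
    by_contra nd
    have p5 : Function.IsPeriodicPt ε 5 x := by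
      show ε^[5] x = x
      rw [← Equiv.Perm.coe_pow, h5]; rfl
    have := (show Function.IsPeriodicPt ε m x by rwa [Equiv.Perm.coe_pow] at e).gcd p5
    rw [(Nat.Coprime.symm ((Nat.Prime.coprime_iff_not_dvd (by norm_num)).2 nd) :)] at this
    exact h1 x this
  have inj : Function.Injective fun k : Fin 5 => (ε ^ k.val) i := fun k l e => by
    have : (ε ^ (k.val + 4 * l.val)) i = i := by
      have e' : (ε ^ k.val) i = (ε ^ l.val) i := e
      rw [add_comm, pow_add, Equiv.Perm.mul_apply, e', ← Equiv.Perm.mul_apply, ← pow_add,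
        show 4 * l.val + l.val = 5 * l.val by ring, pow_mul, h5, one_pow]; rfl
    have := per _ _ this
    omega
  obtain ⟨k, hk⟩ := Finite.surjective_of_injective inj j
  have hk' : (ε ^ k.val) i = j := hk
  have e : ρ * ε ^ k.val = (ε ^ k.val)⁻¹ * ρ := by
    rw [← inv_pow, ← eq_inv_of_mul_eq_one_left h2, conj_pow, inv_mul_cancel_right]
  have e2 := congrArg (· i) e
  simp only [Equiv.Perm.mul_apply, hk', hi, hj] at e2
  have e3 : (ε ^ (k.val + k.val)) i = i := by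
    rw [pow_add, Equiv.Perm.mul_apply, hk', e2, ← Equiv.Perm.mul_apply, mul_inv_cancel]; rfl
  have := per _ _ e3
  rw [← hk', show k.val = 0 by omega]; rfl

namespace Fr

variable (h : Fr P z s)
include h

theorem uq (h1 : Md z x (s i)) (h2 : Md z x (s j)) : i = j := by
  have := ((h1.symm h.z2).trans h.z2 h2).cc_eq (h.zc (h.mem j))
  rw [cc_self, h.ac] at this
  by_contra ne
  rw [if_neg ne] at this
  exact absurd this (by decide)

theorem nZ (i : Fin 5) : ¬ (s i = 1 ∨ s i = z) := fun e => by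
  have := h.ac i (i + 1)
  rw [if_neg ((by decide : ∀ i : Fin 5, ¬ i = i + 1) i), cc_zero.2 (by
    rcases e with e | e <;> rw [e]; exacts [by simp, (h.zc (h.mem _)).symm])] at this
  exact absurd this (by decide)

theorem ex (hn : n ∈ Ns P) (i : Fin 5) : ∃ j, Md z (n * s i * n⁻¹) (s j) := by
  rcases h.all _ (mem_normalizer_conj hn (h.mem i)) (by rw [conj_mul, h.s2]; simp) with e | e | e
  · exact absurd (.inl (conj_eq_one_iff.1 e)) (h.nZ i)
  · rw [mul_inv_eq_iff_eq_mul, ← h.zN n hn, mul_right_inj] at e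
    exact absurd (.inr e) (h.nZ i)
  · exact e

theorem exists_hom : ∃ σ : Ns P →* Equiv.Perm (Fin 5),
    ∀ (n : Ns P) i, Md z (n * s i * (n : G)⁻¹) (s (σ n i)) := by
  choose g hg using fun (n : Ns P) i => h.ex n.2 i
  let _ : MulAction (Ns P) (Fin 5) :=
    { smul := g
      one_smul := fun i => h.uq (hg 1 i) (.inl (by simp))
      mul_smul := fun m n i => h.uq (hg (m * n) i) (by
        have := ((hg n i).conj (h.zN m m.2)).trans h.z2 (hg m (g n i))
        rwa [show (m : G) * (n * s i * (n : G)⁻¹) * (m : G)⁻¹ =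
          (m * n : Ns P) * s i * ((m * n : Ns P) : G)⁻¹ by simp only [coe_mul]; group] at this) }
  exact ⟨MulAction.toPermHom (Ns P) (Fin 5), hg⟩

/-- the pattern of `s i * s j` -/
theorem two (hn : n ∈ Ns P) (hy : Md z y (s j * s i)) (ij : j ≠ i) (h1 : Md z (n * y * n⁻¹) y)
    (h2 : Md z (n * s i * n⁻¹) (s k)) : k = i ∨ k = j := by
  have yP : y ∈ P := by
    rcases hy with rfl | rfl
    exacts [mul_mem (h.mem _) (h.mem _), mul_mem h.zP (mul_mem (h.mem _) (h.mem _))]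
  have e1 := h1.cc_eq (h.zc (h.mem k))
  rw [cc_comm, ← h2.cc_eq (h.zc (mem_normalizer_conj hn yP)), cc_conj, cc_comm,
    hy.cc_eq (h.zc (h.mem _)), hy.cc_eq (h.zc (h.mem _)), h.c_mul (h.mem _) (h.mem _) (h.mem _),
    h.c_mul (h.mem _) (h.mem _) (h.mem _), h.ac, h.ac, h.ac, h.ac, if_neg ij, if_pos rfl] at e1
  by_contra! ne
  rw [if_neg ne.1.symm, if_neg ne.2.symm] at e1
  exact absurd e1 (by decide)

end Fr

variable [Finite G]

omit [Finite G] in
theorem fv (h : Ex P z) (h1 : Nat.card P = 32) {e : G} (h2 : e ∈ Ns P) (h3 : e ^ 5 ∈ Cs P)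
    (h4 : e ∉ Cs P) : Fv P z (MulAut.conj e).toMonoidHom where
  toEx := h
  card := h1
  mem x hx := mem_normalizer_conj h2 hx
  fz := by show e * z * e⁻¹ = z; rw [h.zN e h2, mul_inv_cancel_right]
  five x hx := by
    show e * (e * (e * (e * (e * x * e⁻¹) * e⁻¹) * e⁻¹) * e⁻¹) * e⁻¹ = x
    refine Eq.trans ?_ (cs_conj h3 hx)
    simp only [pow_succ, pow_zero]; group
  ne := by
    by_contra! hc
    exact h4 (cs_of fun x hx => mul_inv_eq_iff_eq_mul.1 (hc x hx))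

/-- the involutions of `N_T(P)/P` all fix the same class and no other -/
theorem Fr.reg (h : Fr P z s) (h1 : Nat.card P = 32) (h5 : Inv5 T P) (hT : IsPGroup 2 T) :
    ∃ i₀, ∀ u ∈ T, u ∈ Ns P → u * u ∈ P → ∀ i ≠ i₀, Md z (u * s i * u⁻¹) (s i) → u ∈ P := by
  obtain ⟨σ, hσ⟩ := h.exists_hom
  have ker : ∀ n : Ns P, (n : G) ∈ Kn P → σ n = 1 := fun n hn => by
    have : Kn P ≤ σ.ker.map (Ns P).subtype := sup_le
      (fun p hp => ⟨⟨p, le_normalizer hp⟩, Equiv.ext fun i =>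
        h.uq (hσ _ i) (h.md hp (h.mem i)), rfl⟩)
      (fun p hp => ⟨⟨p, Cs_le_Ns hp⟩, Equiv.ext fun i =>
        h.uq (hσ _ i) (.inl (cs_conj hp (h.mem i))), rfl⟩)
    obtain ⟨m, hm, e⟩ := this hn
    rwa [← Subtype.ext e]
  let _ : MulAction (T ⊓ Ns P : Subgroup G) (Fin 5) :=
    MulAction.compHom _ (σ.comp (inclusion inf_le_right))
  obtain ⟨i₀, h0⟩ := (hT.to_le (inf_le_left (b := Ns P))).nonempty_fixed_point_of_prime_not_dvd_card
    (Fin 5) (by simp)
  refine ⟨i₀, fun u hu uN u2 i ne hi => by_contra fun uP => ne ?_⟩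
  obtain ⟨e, eN, e5, eC, inv⟩ := h5 u hu uN uP u2
  refine perm5 (ε := σ ⟨e, eN⟩) (ρ := σ ⟨u, uN⟩) ?_ (fun k hk => ?_) ?_
    (h.uq (hσ ⟨u, uN⟩ i) hi) (h0 ⟨u, hu, uN⟩)
  · rw [← map_pow]; exact ker _ (mem_sup_right e5)
  · exact h.nZ k ((fv h.toEx h1 eN e5 eC).fix (h.mem k) (by have := hσ ⟨e, eN⟩ k; rwa [hk] at this))
  · rw [← map_inv, ← map_mul, ← map_mul, ← map_mul]; exact ker _ inv

/-- a second copy of `P` inside `N_T(P)` -/
structure Tw (T P Q : Subgroup G) (z : G) : Prop where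
  le : Q ≤ T ⊓ Ns P
  nrm : P ≤ Ns Q
  cm : ∀ a ∈ Q, ∀ b ∈ Q, Md z (a * b * a⁻¹) b
  sq : ∀ a ∈ Q, a * a ∈ P

omit [Finite G] in
theorem tw_cj (h : Ex P z) (hP : P ≤ T) (hx : x ∈ Ns (T ⊓ Ns P)) (hz : x * z = z * x) :
    Tw T P (cj x P) z := by
  have le : P ≤ T ⊓ Ns P := le_inf hP le_normalizer
  refine ⟨(cj_mono x le).trans (mem_Ns_iff.1 hx).le, le.trans ?_, ?_, ?_⟩
  · rw [← cj_Ns, ← mem_Ns_iff.1 hx]; exact cj_mono x inf_le_right
  · rintro _ ⟨a, ha, rfl⟩ _ ⟨b, hb, rfl⟩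
    have := (h.md ha hb).conj hz
    rwa [← conj_mul, ← conj_mul, ← conj_inv] at this
  · rintro _ ⟨a, ha, rfl⟩
    rw [← map_mul]
    rcases h.sq a ha with e | e <;> rw [e]
    · rw [map_one]; exact one_mem _
    · show x * z * x⁻¹ ∈ P
      rw [hz, mul_inv_cancel_right]; exact h.zP

omit [Finite G] in
theorem Tw.idx (h : Fr P z s) (h1 : Tw T P Q z) {i₀ : Fin 5}
    (reg : ∀ u ∈ T, u ∈ Ns P → u * u ∈ P → ∀ i ≠ i₀, Md z (u * s i * u⁻¹) (s i) → u ∈ P)
    (hx : x ∈ Q) (xP : x ∉ P) (hy : y ∈ Q) (yP : y ∉ P) : x⁻¹ * y ∈ P := by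
  have reg' : ∀ u ∈ Q, Md z (u * s (i₀ + 1) * u⁻¹) (s (i₀ + 1)) → u ∈ P := fun u hu =>
    reg u (h1.le hu).1 (h1.le hu).2 (h1.sq u hu) _ ((by decide : ∀ i : Fin 5, i + 1 ≠ i) i₀)
  obtain ⟨j, hj⟩ := h.ex (h1.le hx).2 (i₀ + 1)
  obtain ⟨k, hk⟩ := h.ex (h1.le hy).2 (i₀ + 1)
  have m : x * s (i₀ + 1) * x⁻¹ * s (i₀ + 1) ∈ Q := by
    have := mul_mem hx (mem_normalizer_conj (h1.nrm (h.mem (i₀ + 1))) (inv_mem hx))
    rwa [inv_eq (h.s2 _), ← mul_assoc, ← mul_assoc] at this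
  rcases h.two (h1.le hy).2 (hj.imp (congrArg (· * s (i₀ + 1))) fun e => by rw [e, mul_assoc])
    (fun e => xP (reg' x hx (e ▸ hj))) (h1.cm y hy _ m) hk with e | e
  · exact absurd (reg' y hy (e ▸ hk)) yP
  · refine reg' _ (mul_mem (inv_mem hx) hy) ?_
    have := (hk.trans h.z2 ((e ▸ hj).symm h.z2)).conj (h.zN _ (inv_mem (h1.le hx).2))
    convert this using 1 <;> group

theorem Fr.normal (h : Fr P z s) (hP : P ≤ T) (hT : IsPGroup 2 T)
    (cent : ∀ x ∈ T, x ∈ Cs P → x ∈ P) {i₀ : Fin 5}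
    (reg : ∀ u ∈ T, u ∈ Ns P → u * u ∈ P → ∀ i ≠ i₀, Md z (u * s i * u⁻¹) (s i) → u ∈ P) :
    T ≤ Ns P := by
  by_contra nle
  obtain ⟨x, ⟨xT, xN⟩, xU⟩ := SetLike.exists_of_lt (Fus.lt_inf_normalizer_of_lt hT
    (lt_of_le_of_ne (inf_le_left (b := Ns P)) fun e => nle (e.ge.trans inf_le_right)))
  have le : P ≤ T ⊓ Ns P := le_inf hP le_normalizer
  have xz : x * z = z * x := by
    have wC : x * z * x⁻¹ ∈ Cs P := cs_of fun p hp => by
      have := h.zN _ (mem_normalizer_conj' xN (le hp)).2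
      calc x * z * x⁻¹ * p = x * (z * (x⁻¹ * p * x)) * x⁻¹ := by group
        _ = _ := by rw [← this]; group
    rcases h.all _ (cent _ (mem_normalizer_conj xN (le h.zP)).1 wC)
      (by rw [conj_mul, h.z2]; simp) with e | e | ⟨i, e⟩
    · exact absurd (conj_eq_one_iff.1 e) h.z1
    · exact mul_inv_eq_iff_eq_mul.1 e
    · have := e.cc_eq (h.zc (h.mem (i + 1)))
      rw [h.ac, if_neg ((by decide : ∀ i : Fin 5, ¬ i = i + 1) i),
        cc_zero.2 (cs_comm wC (h.mem _))] at this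
      exact absurd this (by decide)
  have t1 := tw_cj h.toEx hP xN xz
  have t2 := tw_cj h.toEx hP (inv_mem xN) (Commute.inv_left xz).eq
  obtain ⟨r, rQ, rP⟩ := SetLike.not_le_iff_exists.1 fun le =>
    xU ⟨xT, mem_normalizer_of_cj_le (g := x) (T := P) le⟩
  have reg' : ∀ i ≠ i₀, ¬ Md z (r * s i * r⁻¹) (s i) := fun i ne e =>
    rP (reg r (t1.le rQ).1 (t1.le rQ).2 (t1.sq r rQ) i ne e)
  have out : ∀ i ≠ i₀, x⁻¹ * s i * x ∉ P := fun i ne e => reg' i ne (t1.cm r rQ _ (mem_cj.2 e))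
  have mem : ∀ i, x⁻¹ * s i * x ∈ cj x⁻¹ P := fun i => mem_cj_inv.2 (by
    convert h.mem i using 1; group)
  have n1 := (by decide : ∀ i : Fin 5, i + 1 ≠ i) i₀
  obtain ⟨j, hj⟩ := h.ex (t1.le rQ).2 (i₀ + 1)
  obtain ⟨k, k0, k1, kj⟩ :=
    (by decide : ∀ i j : Fin 5, ∃ k, k ≠ i ∧ k ≠ i + 1 ∧ j ≠ k) i₀ j
  have m : s k * s (i₀ + 1) ∈ cj x P := mem_cj.2 (by
    have := t2.idx h reg (mem k) (out k k0) (mem _) (out _ n1)
    convert this using 1
    rw [← inv_eq (h.s2 k)]; simp only [mul_inv_rev, inv_inv, inv_eq (h.s2 k)]; group)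
  rcases h.two (t1.le rQ).2 (.refl _ _) k1 (t1.cm r rQ _ m) hj with e | e
  · exact reg' _ n1 (e ▸ hj)
  · exact kj e

end Xa

theorem Xm.out [Finite G] {S : Sylow 2 G} (h : Ctx S) (h1 : Xm (S : Subgroup G) P z) : Out S := by
  obtain ⟨p, hp, pz⟩ := h1.ex
  have zP : z ∈ P := pz ▸ mul_mem hp hp
  have z2 : z * z = 1 := (h1.sq z zP).resolve_right fun e => h1.z1 (mul_eq_left.1 e)
  have ex : Xa.Ex P z := ⟨h1.z1, z2, zP, fun n hn => by
    rcases h1.sq _ (mem_normalizer_conj hn hp) with e | e <;> rw [conj_mul, pz] at e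
    · exact absurd (conj_eq_one_iff.1 e) h1.z1
    · exact mul_inv_eq_iff_eq_mul.1 e, h1.sq⟩
  obtain ⟨r, ⟨rS, rN⟩, rP, r2⟩ : ∃ r ∈ (S : Subgroup G) ⊓ Ns P, r ∉ P ∧ r * r ∈ P := by
    obtain ⟨w, hw, wP⟩ := SetLike.not_le_iff_exists.1 h1.lt
    obtain ⟨n, hn⟩ := S.isPGroup' ⟨w, hw.1⟩
    have hn' : w ^ 2 ^ n ∈ P := by
      rw [show w ^ 2 ^ n = 1 from congrArg Subtype.val hn]; exact one_mem _
    clear hn
    induction n with
    | zero => exact absurd (by simpa using hn') wP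
    | succ n ih =>
      by_cases e : w ^ 2 ^ n ∈ P
      · exact ih e
      · exact ⟨_, pow_mem hw _, e, by rwa [← pow_add, ← mul_two, ← pow_succ]⟩
  obtain ⟨e, eN, e5, eC, -⟩ := h1.inv5 r rS rN rP r2
  obtain ⟨s, hs⟩ := (Xa.fv ex h1.card eN e5 eC).exists_fr ⟨p, hp, pz⟩
  obtain ⟨i₀, reg⟩ := hs.reg h1.card h1.inv5 S.isPGroup'
  have nrm := hs.normal h1.le S.isPGroup' h1.cent reg
  have ms := hs.mem (i₀ + 1)
  have m4 := fun x => mem_F4 (x := x) z2 (hs.s2 (i₀ + 1)) (hs.zc ms).symm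
  refine h.E2 (F := F4 z (s (i₀ + 1))) (sup_le (zpowers_le.2 (h1.le zP)) (zpowers_le.2 (h1.le ms)))
    ?_ (fun v hv => ?_) fun x xS xC x2 => ?_
  · rw [GHB.card_adj (fun b hb => ?_) (by rw [hs.s2]; exact one_mem _)
      (fun e => hs.nZ _ ((mem_zp z2).1 e)), GHB.card_zpowers_two z2 h1.z1]
    rcases (mem_zp z2).1 hb with rfl | rfl
    · simp
    · rw [hs.zc ms, mul_inv_cancel_right]; exact hb
  · rcases (m4 v).1 hv with rfl | rfl | rfl | rfl
    exacts [one_mul 1, z2, hs.s2 _, by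
      rw [mul_assoc, hs.zc' ms, ← mul_assoc, z2, one_mul, hs.s2]]
  · have c := cs_comm xC (mem_sup_right (mem_zpowers _))
    have xP := reg x xS (nrm xS) (by rw [x2]; exact one_mem _) _
      ((by decide : ∀ i : Fin 5, i + 1 ≠ i) i₀) (.inl (mul_inv_eq_iff_eq_mul.2 c))
    rw [m4]
    rcases hs.all x xP x2 with e | e | ⟨j, e⟩
    · exact .inl e
    · exact .inr (.inl e)
    · have := e.cc_eq (hs.zc ms)
      rw [hs.ac, Xa.cc_zero.2 c] at this
      obtain rfl : j = i₀ + 1 := by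
        by_contra ne
        rw [if_neg ne] at this
        exact absurd this (by decide)
      exact .inr (.inr e)

end Cfsg.Lib.GHN
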