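import Cfsg.Agent.GHN.Fr2
import Cfsg.Agent.Trans.MaxClassTwo
import Cfsg.Agent.Rank2.FusKit

/-!
# Simple groups of sectional 2-rank at most four: the commutator group `[P, d]`
-/

set_option autoImplicit false
set_option linter.unusedSectionVars false
set_option linter.unusedVariables false

namespace Cfsg.Lib.GHN

open Subgroup Cfsg.Lib.Trans Cfsg.Lib.Gold
open scoped commutatorElement

universe u

variable {G : Type u} [Group G] [Finite G] {K P R T : Subgroup G} {d p r s : G}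

theorem cd_min' (h1 : d ∈ Ns K) (h3 : ∀ p ∈ P, ⁅d, p⁆ ∈ K) : Cd P d ≤ K :=
  commutator_le.2 fun p hp x hx => by
    rw [← commutatorElement_inv]
    exact inv_mem ((zpowers_le.2 (show d ∈ Tv K P from ⟨h1, h3⟩) hx).2 p hp)

theorem cd_mem' (hp : p ∈ P) : ⁅d, p⁆ ∈ Cd P d := by
  rw [← commutatorElement_inv]
  exact inv_mem (commutator_mem_commutator hp (mem_zpowers d))

theorem cd_nd' : d ∈ Ns (Cd P d) := normalizer_commutator_ge_right _ _ (mem_zpowers d)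

theorem cd_nb (g : G) : g ∈ Ns (⊥ : Subgroup G) := ns_of fun x hx => by simp [mem_bot.1 hx]

namespace Tri
variable (h0 : Tri T P d s)
include h0

theorem cd_le : Cd P d ≤ P := le_normalizer_iff_commutator_le_left.1 (zpowers_le.2 h0.dN)

theorem cd_mem (hp : p ∈ P) : ⁅d, p⁆ ∈ Cd P d := cd_mem' hp

theorem cd_nP : P ≤ Ns (Cd P d) := normalizer_commutator_ge_left _ _

theorem cd_nd : d ∈ Ns (Cd P d) := cd_nd'

theorem cd_ns : s ∈ Ns (Cd P d) := by
  have h1 : s * d * s⁻¹ ∈ Tv (Cd P d) P := by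
    have := mul_mem (cs_le_Tv h0.cd_le le_rfl h0.inv)
      (inv_mem (show d ∈ Tv (Cd P d) P from ⟨cd_nd', fun _ => cd_mem'⟩))
    rwa [mul_inv_cancel_right] at this
  have h2 : zpowers d ≤ (Tv (Cd P d) P).comap (MulAut.conj s).toMonoidHom := zpowers_le.2 h1
  have h3 : Cd P d ≤ (Cd P d).comap (MulAut.conj s).toMonoidHom :=
    commutator_le.2 fun p hp x hx => by
      rw [mem_comap, map_commutatorElement, ← commutatorElement_inv]
      exact inv_mem ((h2 hx).2 _ (mem_normalizer_conj h0.sN hp))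
  exact ns_of h3

theorem cd_min (h1 : d ∈ Ns K) (h3 : ∀ p ∈ P, ⁅d, p⁆ ∈ K) : Cd P d ≤ K := cd_min' h1 h3

theorem cd_dec (hp : p ∈ P) : ∃ r ∈ Cd P d, d * (p * r) = p * r * d :=
  cop_fix h0.pP h0.dN h0.d3 h0.cd_le h0.cd_nP h0.cd_nd hp (cd_mem' hp)

theorem cd_cd' (h3 : d ∈ Ns K) (h4 : ∀ r ∈ Cd P d, ⁅d, r⁆ ∈ K) : Cd P d ≤ K := by
  refine le_trans (cd_min' cd_nd' fun p hp => ?_) (cd_min' h3 h4)
  obtain ⟨r, hr, e⟩ := h0.cd_dec hp
  have hc : p * r ∈ Ns (Cd (Cd P d) d) := by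
    refine ns_of (show Cd (Cd P d) d ≤ (Cd (Cd P d) d).comap (MulAut.conj (p * r)).toMonoidHom from
      commutator_le.2 fun a ha x hx => ?_)
    rw [mem_comap, map_commutatorElement]
    refine commutator_mem_commutator
      (mem_normalizer_conj (h0.cd_nP (mul_mem hp (h0.cd_le hr))) ha) ?_
    obtain ⟨k, rfl⟩ := hx
    refine ⟨k, ?_⟩
    show d ^ k = p * r * d ^ k * (p * r)⁻¹
    rw [← (Commute.zpow_left e k).eq, mul_inv_cancel_right]
  have := mem_normalizer_conj hc (cd_mem' (d := d) (inv_mem hr))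
  convert this using 1
  simp only [commutatorElement_def]
  calc d * p * d⁻¹ * p⁻¹ = d * (p * r) * r⁻¹ * d⁻¹ * p⁻¹ := by group
    _ = _ := by rw [e]; group

theorem cd_cd (h1 : K ≤ Cd P d) (h2 : Cd P d ≤ Ns K) (h3 : d ∈ Ns K)
    (h4 : ∀ r ∈ Cd P d, ⁅d, r⁆ ∈ K) : Cd P d ≤ K := h0.cd_cd' h3 h4

theorem cd_fpf (h1 : ⁅Cd P d, Cd P d⁆ ≤ K) (h2 : K ≤ Cd P d) (h3 : d ∈ Ns K) (hr : r ∈ Cd P d)
    (h4 : ⁅d, r⁆ ∈ K) : r ∈ K := by
  have hle := h0.cd_le
  have hd : d ∈ Ns (Cd P d) := cd_nd'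
  have key : ∀ Z : Subgroup G, d ∈ Ns Z → (∀ r ∈ Cd P d, ⁅d, r⁆ ∈ Z) → Cd P d ≤ Z :=
    fun Z => h0.cd_cd'
  generalize Cd P d = R at *
  have hc : ∀ a b : R, ⁅a, b⁆ ∈ K.subgroupOf R := fun a b =>
    h1 (commutator_mem_commutator a.2 b.2)
  have : (K.subgroupOf R).Normal := ⟨fun a ha b => by
    rw [conj_eq_cm]; exact mul_mem (hc b a) ha⟩
  let π := QuotientGroup.mk' (K.subgroupOf R)
  let _ : CommGroup (R ⧸ K.subgroupOf R) := { (inferInstance : Group _) with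
    mul_comm := fun a b => by
      obtain ⟨a, rfl⟩ := QuotientGroup.mk_surjective a
      obtain ⟨b, rfl⟩ := QuotientGroup.mk_surjective b
      rw [← commutatorElement_eq_one_iff_mul_comm]
      exact (map_commutatorElement π a b).symm.trans ((QuotientGroup.eq_one_iff _).2 (hc a b)) }
  let δ : R →* R := (R.normalizerMonoidHom ⟨d, hd⟩).toMonoidHom
  have δ3 : ∀ x, δ (δ (δ x)) = x := fun x => Subtype.ext (h0.ddd (hle x.2))
  let N : R →* R ⧸ K.subgroupOf R := π * π.comp δ * π.comp (δ.comp δ)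
  have hN : ∀ x, N x = π x * π (δ x) * π (δ (δ x)) := fun _ => rfl
  have hδ : ∀ x, N (δ x) = N x := fun x => by
    rw [hN, hN, δ3, mul_comm, mul_assoc]
  have h5 := key (N.ker.map R.subtype) (ns_of (by
      rintro _ ⟨x, hx, rfl⟩
      exact ⟨δ x, (hδ x).trans hx, rfl⟩))
    (fun x hx => ⟨δ ⟨x, hx⟩ * ⟨x, hx⟩⁻¹, by
      rw [SetLike.mem_coe, MonoidHom.mem_ker, map_mul, map_inv, hδ, mul_inv_cancel], rfl⟩) hr
  obtain ⟨x, hx, rfl⟩ := h5
  have e : ∀ y : R, ⁅d, (y : G)⁆ ∈ K → π (δ y) = π y := fun y hy =>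
    mul_inv_eq_one.1 (by
      rw [← map_inv, ← map_mul]; exact (QuotientGroup.eq_one_iff _).2 hy)
  have e2 : π (δ (δ x)) = π (δ x) := e _ (by
    have := mem_normalizer_conj h3 h4
    convert this using 1
    show ⁅d, d * x * d⁻¹⁆ = d * ⁅d, (x : G)⁆ * d⁻¹
    simp only [commutatorElement_def]; group)
  have e3 : π (x ^ 3) = 1 := by
    rw [← show N x = 1 from hx, hN, e2, e x h4, map_pow, pow_three']
  exact mem_of_cube (h0.pP.to_le hle) x.2 ((QuotientGroup.eq_one_iff (x ^ 3)).1 e3 :)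

theorem cd_cs (h : d ∈ Cs (Cd P d)) : False :=
  h0.dC (cs_of fun p hp => commutatorElement_eq_one_iff_mul_comm.1 (mem_bot.1
    (cop (Z := ⊥) h0.pP h0.dN h0.d3 bot_le h0.cd_le (fun g _ => cd_nb g) (cd_nb d)
      (fun _ => cd_mem') (fun u hu => commutatorElement_eq_one_iff_mul_comm.2 (cs_comm h hu)) p hp)))

theorem good (h1 : Nat.card (Cd P d) = 4 * Nat.card (⁅Cd P d, Cd P d⁆ : Subgroup G)) : GD P d := by
  have hg : Good P (Cd P d) d := ⟨h0.cd_le, cd_nd', fun _ => cd_mem'⟩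
  by_cases h4 : Nat.card (Cd P d) = 4
  · exact Or.inl ⟨_, hg, h4⟩
  have hR := h0.pP.to_le h0.cd_le
  obtain ⟨n, hn⟩ := hR.exists_card_eq
  have hpos : 0 < Nat.card (⁅Cd P d, Cd P d⁆ : Subgroup G) := Nat.card_pos
  have h2 : 2 < n := (Nat.pow_lt_pow_iff_right (a := 2) (by norm_num)).mp (by omega)
  obtain ⟨m, rfl⟩ : ∃ m, n = m + 3 := ⟨n - 3, by omega⟩
  have hi : (commutator (Cd P d)).index = 4 := by
    have e1 := (commutator (Cd P d)).index_mul_card
    rw [← card_map_of_injective (Cd P d).subtype_injective, map_subtype_commutator, h1] at e1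
    exact Nat.eq_of_mul_eq_mul_right hpos e1
  obtain ⟨C, hC, hC2⟩ := exists_cyclic_index_two_of_commutator_index hn hi
  have hA : ¬ IsPGroup 2 (MulAut (⊤ : Subgroup (Cd P d))) := fun h => by
    have h5 := h.of_equiv (MulAut.congr topEquiv)
    have h6 : (Cd P d).normalizerMonoidHom ⟨d, cd_nd'⟩ ∈ (⊥ : Subgroup _) :=
      mem_of_cube (h5.to_subgroup ⊤) (mem_top _) (mem_bot.2 (by
        ext x
        exact h0.ddd (h0.cd_le x.2)))
    exact h0.cd_cs (cs_of fun x hx => mul_inv_eq_iff_eq_mul.1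
      (congrArg Subtype.val (DFunLike.congr_fun (mem_bot.1 h6) ⟨x, hx⟩) :))
  rcases Rank2.klein_or_q8 hR hC hC2 hA with h | ⟨⟨f⟩, -⟩
  · exact absurd (by rw [← h.card_four, card_top]) h4
  have e := topEquiv.symm.trans f
  refine Or.inr ⟨⟨_, hg, ⟨e⟩⟩, fun z hz hz' => commutatorElement_eq_one_iff_mul_comm.1 (mem_bot.1
    (cop (U := P ⊓ Cs P) (W := Cd P d ⊓ Cs P) (Z := ⊥) h0.pP.to_inf_left
      (ns_of fun x hx => ⟨h0.dP hx.1, cs_ns hx.2 h0.dN⟩) (cs_mono inf_le_left h0.d3) bot_le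
      (inf_le_inf_right _ h0.cd_le) (fun g _ => cd_nb g) (cd_nb d)
      (fun u hu => ⟨cd_mem' hu.1, (Cs P).mul_mem (cs_ns hu.2 h0.dN) ((Cs P).inv_mem hu.2)⟩) (fun u hu => ?_)
      z ⟨hz, hz'⟩))⟩
  have hv : d * u * d⁻¹ ∈ Cd P d := mem_normalizer_conj cd_nd' hu.1
  have cen : ∀ a : Cd P d, (a : G) ∈ Cs P → ∀ b, e a * b = b * e a := fun a ha b => by
    obtain ⟨b, rfl⟩ := e.surjective b
    rw [← map_mul, ← map_mul]
    exact congrArg e (Subtype.ext (cs_comm ha (h0.cd_le b.2)))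
  by_cases hu1 : u = 1
  · simp [hu1]
  have := (show ∀ a b : QuaternionGroup 2, (∀ c, a * c = c * a) → (∀ c, b * c = c * b) → a ≠ 1 →
    b ≠ 1 → a = b by decide) _ _ (cen ⟨_, hv⟩ (cs_ns hu.2 h0.dN)) (cen ⟨u, hu.1⟩ hu.2)
    (fun h => hu1 (conj_eq_one_iff.1 (congrArg Subtype.val (e.map_eq_one_iff.1 h))))
    (fun h => hu1 (congrArg Subtype.val (e.map_eq_one_iff.1 h)))
  exact mul_inv_eq_one.2 (congrArg Subtype.val (e.injective this))

theorem good' (h1 : K ≤ R) (h2 : R ≤ P) (h3 : P ≤ Ns K) (h4 : d ∈ Cs K) (h5 : d ∈ Ns R)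
    (h6 : Nat.card R = 4 * Nat.card K) (h7 : ∀ p ∈ P, ⁅d, p⁆ ∈ R) : GD P d := by
  have hD : Cd P d ≤ R := cd_min' h5 h7
  have hdK : d ∈ Ns K := cs_le_ns le_rfl h4
  have hno : ¬ Cd P d ≤ K := fun h => h0.cd_cs (cs_mono h h4)
  have hi : K.relIndex R = 4 := by
    have := card_mul_relIndex h1
    rw [h6, mul_comm] at this
    exact Nat.eq_of_mul_eq_mul_right Nat.card_pos this
  have hle : K.relIndex (Cd P d) ≤ 4 := hi ▸ relIndex_le_of_le_right hD (by omega)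
  obtain ⟨n, hn⟩ := (h0.pP.to_le h0.cd_le).index (K.subgroupOf (Cd P d))
  have hn' : K.relIndex (Cd P d) = 2 ^ n := hn
  have h8 : n ≤ 2 := (Nat.pow_le_pow_iff_right (a := 2) (by norm_num)).mp (by omega)
  interval_cases n
  · exact absurd (relIndex_eq_one.1 hn') hno
  · refine absurd (h0.cd_cd' hdK fun r hr => ?_) hno
    refine (mul_mem_iff_of_index_two hn (a := ⟨_, mem_normalizer_conj cd_nd' hr⟩)
      (b := ⟨_, inv_mem hr⟩)).2 ?_
    simp only [mem_subgroupOf, inv_mem_iff]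
    exact (mem_normalizer_iff.1 hdK r).symm
  have : (K.subgroupOf (Cd P d)).Normal :=
    ⟨fun a ha b => (mem_normalizer_conj (h3 (h0.cd_le b.2)) ha :)⟩
  have hcm : ⁅Cd P d, Cd P d⁆ ≤ K := commutator_le.2 fun a ha b hb => by
    have hcomm := IsPGroup.isMulCommutative_of_card_eq_prime_sq (p := 2) hn
    exact (QuotientGroup.eq_one_iff (N := K.subgroupOf (Cd P d)) ⁅(⟨a, ha⟩ : Cd P d), ⟨b, hb⟩⁆).1
      ((map_commutatorElement (QuotientGroup.mk' _) _ _).trans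
        (commutatorElement_eq_one_iff_mul_comm.2 (hcomm.is_comm.comm _ _)))
  have hle' : ⁅Cd P d, Cd P d⁆ ≤ Cd P d := le_normalizer_iff_commutator_le_left.1 le_normalizer
  have he : K ⊓ Cd P d = ⁅Cd P d, Cd P d⁆ := le_antisymm (fun r hr => h0.cd_fpf le_rfl hle'
    (ns_of (show ⁅Cd P d, Cd P d⁆ ≤ ⁅Cd P d, Cd P d⁆.comap (MulAut.conj d).toMonoidHom from
      commutator_le.2 fun a ha b hb => by
        rw [mem_comap, map_commutatorElement]
        exact commutator_mem_commutator (mem_normalizer_conj cd_nd' ha)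
          (mem_normalizer_conj cd_nd' hb))) hr.2
    (by rw [commutatorElement_eq_one_iff_mul_comm.2 (cs_comm h4 hr.1)]; exact one_mem _))
    (le_inf hcm hle')
  refine h0.good ?_
  rw [← he, ← card_mul_relIndex (inf_le_right (a := K)), inf_relIndex_right, hn', mul_comm]
  rfl

end Tri

end Cfsg.Lib.GHN
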