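import Cfsg.Agent.GHN.K3b
import Cfsg.Agent.GHN.D2a
import Cfsg.Agent.GHN.Api

/-!
# Simple groups of sectional 2-rank at most four: moving `t` to `z` in the twisted diagonal case
-/

set_option autoImplicit false
set_option linter.unusedSectionVars false

namespace Cfsg.Lib.GHN

open Subgroup Cfsg.Lib.Trans Cfsg.Lib.Gold Cfsg.Lib.Rank2 Cfsg.Lib.GHB
open scoped commutatorElement

universe u

variable {G : Type u} [Group G] [Finite G] {S : Sylow 2 G} {P : Subgroup G}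
  {a b c d e s t t₁ v v₁ x y z ζ : G} {k : ℕ}

omit [Finite G] in
theorem K3r.cc (c : G) : c * x * c⁻¹ * (c * y * c⁻¹) = c * y * c⁻¹ * (c * x * c⁻¹) ↔ x * y = y * x := by
  rw [conj_mul, conj_mul, mul_left_inj, mul_right_inj]

namespace FD
variable (h0 : FD S P d s z b a t x k) (hζ : ζ = z * (t * z * t⁻¹))
  (he : e = a ^ 2 ^ k * (t * a ^ 2 ^ k * t⁻¹)) (hv : v = x * (b * (t * b * t⁻¹)))
  (h1 : x * x = a * (t * a * t⁻¹) * ζ)
include h0 hζ he hv h1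

/-- adjusting a conjugation that maps `z` to the involution of the frame -/
theorem gen43 (c1 : c * ζ * c⁻¹ = ζ) (c2 : c * z * c⁻¹ = t)
    (c3 : c * t₁ * c⁻¹ = z ∨ c * t₁ * c⁻¹ = z * ζ) (xS : c * x * c⁻¹ ∈ (S : Subgroup G))
    (xz : c * x * c⁻¹ * z = z * (c * x * c⁻¹)) (vS : c * v₁ * c⁻¹ ∈ (S : Subgroup G))
    (vz : c * v₁ * c⁻¹ * z = z * (c * v₁ * c⁻¹)) (vz0 : v₁ * z = z * v₁) (v2 : v₁ * v₁ = ζ)
    (vx : v₁ * x ≠ x * v₁) : ∃ g : G, g * ζ * g⁻¹ = ζ ∧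
      (g * t₁ * g⁻¹ = z ∨ g * t₁ * g⁻¹ = z * ζ) ∧ cj g (XT z t₁ e v₁) ≤ XT z t e v := by
  obtain ⟨μ, b', q, h, hx, -, hz, hζ', he', hv', -⟩ := h0.co43 hζ he hv h1
  have q0 := h.q0
  have xz0 : x * z = z * x := by rw [hx, hz, h.mul, h.mul]; simp
  have e1 : (c * x * c⁻¹) ^ (2 * q * 2) = ζ := by
    rw [conj_zpow, ← c1, hx, hζ', h.pow, mul_left_inj, mul_right_inj]
    exact h.eq (2 * q) q q (by ring) (by ring) (by ring)
  have e2 : c * e * c⁻¹ = (c * x * c⁻¹) ^ (2 * q) * ζ ^ q := by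
    rw [← c1, conj_zpow, conj_zpow, conj_mul, he', hx, hζ', h.pow, h.pow, h.mul, mul_left_inj,
      mul_right_inj]
    exact h.eq (-q) (-q) (-q) (by ring) (by ring) (by ring)
  obtain ⟨l, hl | hl⟩ := h.cent xS xz (c2 ▸ (K3r.cc c).2 xz0)
  swap
  · exfalso
    rw [mul_comm (2 * q), zpow_mul, zpow_two, hl] at e1
    simp only [h.s, h.pow] at e1
    exact h0.sh.ζ1 (hζ ▸ e1.symm.trans
      (h.one (2 * q * l) (q * l) (q * l) (by ring) (by ring) (by ring)))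
  obtain ⟨l, rfl⟩ : ∃ l', l = 2 * l' + 1 := by
    rw [hl, h.pow, hζ', h.eq_iff] at e1
    obtain ⟨u, w, -, e3, e4, -⟩ := e1
    obtain rfl : u = 2 * q * l := by linarith
    exact ⟨w - q * l, mul_left_cancel₀ (a := 2 * q) (by omega) (by linarith)⟩
  obtain ⟨j, hj | hj⟩ := h.cent vS vz (c2 ▸ (K3r.cc c).2 vz0)
  · exact absurd ((K3r.cc c).1 (by rw [hl, hj, h.mul, h.mul, add_comm j])) vx
  obtain ⟨j, rfl⟩ : ∃ j', j = 2 * j' + 1 := by
    have e3 : c * v₁ * c⁻¹ * (c * v₁ * c⁻¹) = ζ := by rw [conj_mul, v2, c1]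
    rw [hj, hζ'] at e3
    simp only [h.s] at e3
    obtain ⟨u, w, -, e3, e4, -⟩ := h.eq_iff.1 e3
    obtain rfl : u = j := by linarith
    exact ⟨w, mul_left_cancel₀ (a := 2 * q) (by omega) (by linarith)⟩
  have cg : ∀ y, μ (-j) 0 0 * c * y * (μ (-j) 0 0 * c)⁻¹ =
      μ (-j) 0 0 * (c * y * c⁻¹) * (μ (-j) 0 0)⁻¹ := fun y => by group
  have cm : ∀ i j' l, μ (-j) 0 0 * μ i j' l * (μ (-j) 0 0)⁻¹ = μ i j' l := fun i j' l => by
    simp only [h.s]; exact h.eq 0 0 0 (by ring) (by ring) (by ring)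
  have g3 : μ (-j) 0 0 * c * t₁ * (μ (-j) 0 0 * c)⁻¹ = z ∨
      μ (-j) 0 0 * c * t₁ * (μ (-j) 0 0 * c)⁻¹ = z * ζ := by
    rw [cg]
    refine c3.imp (fun e3 => ?_) fun e3 => ?_
    · rw [e3, hz, cm]
    · rw [e3, hζ', hz, h.mul, cm]
  obtain ⟨m1, m2, m3, m4⟩ := K3r.memXT z t e v
  refine ⟨μ (-j) 0 0 * c, by rw [cg, c1, hζ', cm], g3, ?_⟩
  rw [K3r.cj_XT]
  refine K3r.XT_le ?_ ?_ ?_ ?_
  · rw [cg, c2]
    convert m2 using 1
    simp only [h.s]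
    rw [mul_eq_right]
    exact h.one 0 0 0 (by ring) (by ring) (by ring)
  · have e3 : ζ = e * e := by
      rw [he', hζ', h.mul]; exact h.eq 0 0 0 (by ring) (by ring) (by ring)
    rcases g3 with e4 | e4 <;> rw [e4]
    exacts [m1, mul_mem m1 (e3 ▸ mul_mem m3 m3)]
  · rw [cg, e2]
    convert zpow_mem m3 (2 * l + 1) using 1
    rw [hl, hζ', he']
    simp only [h.s, h.pow]
    exact h.eq (q * (2 * l + 1)) (q * (l + 1)) (q * (l + 1)) (by ring) (by ring) (by ring)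
  · rw [cg]
    convert mul_mem (zpow_mem m3 (2 * j)) m4 using 1
    rw [hj, he', hv']
    simp only [h.s, h.pow]
    exact h.eq' j 0 0 (by ring) (by ring) (by ring)

/-- the first conjugation -/
theorem tr43 : ∃ g : G, g * ζ * g⁻¹ = ζ ∧ (g * t * g⁻¹ = z ∨ g * t * g⁻¹ = z * ζ) := by
  obtain ⟨μ, b', q, h, hx, -, hz, hζ', he', hv', -⟩ := h0.co43 hζ he hv h1
  have q0 := h.q0
  obtain ⟨g, gS, gM, gr⟩ := h0.cx.toCtx.tr (M := (S : Subgroup G) ⊓ C1 z) (fun x hx y hy => by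
      rw [commutatorElement_def]
      by_cases h2 : x ∈ (S : Subgroup G) ⊓ C1 z
      · simpa only [mul_assoc] using mul_mem h2 (h0.sh.cjM hy (inv_mem h2))
      by_cases h3 : y ∈ (S : Subgroup G) ⊓ C1 z
      · exact mul_mem (h0.sh.cjM hx h3) (inv_mem h3)
      · simpa only [mul_assoc] using mul_mem (h0.sh.idx x hx y hy h2 h3)
          (h0.sh.idx _ (inv_mem hx) _ (inv_mem hy) (by rwa [inv_mem_iff]) (by rwa [inv_mem_iff])))
    h0.t2 fun u hu v hv _ _ => h0.sh.idx u hu v hv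
  have e0 : x ^ (2 * (2 * q)) = ζ := by
    rw [hx, hζ', h.pow]
    exact h.eq (2 * q) q q (by ring) (by ring) (by ring)
  have e1 : (g * x * g⁻¹ * (g * x * g⁻¹)) ^ (2 * q) = g * ζ * g⁻¹ := by
    rw [← zpow_two, ← zpow_mul, conj_zpow, e0]
  have hz' : t * z * t⁻¹ = μ 0 0 (2 * q) := by rw [hz]; simp only [h.s]
  obtain e2 | ⟨J, L, e2⟩ := h.sq (gr x h0.xS h0.tx.symm)
  · rw [zpow_mul, zpow_two, e2, one_zpow, eq_comm, conj_eq_one_iff] at e1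
    exact absurd (hζ ▸ e1) h0.sh.ζ1
  rw [e2, h.pow] at e1
  have e3 : g * ζ * g⁻¹ = ζ := by
    rw [hζ]
    refine h0.v0B ?_ (isConj_iff.2 ⟨g, rfl⟩)
    rw [← hζ, ← e1]
    convert mul_mem (zpow_mem (z_F4 (z := z) (v := t * z * t⁻¹)) J) (zpow_mem v_F4 L) using 1
    rw [hz', hz, h.pow, h.pow, h.mul]
    exact h.eq 0 0 0 (by ring) (by ring) (by ring)
  rw [e3, hζ', h.eq_iff] at e1
  obtain ⟨u, w, w', e4, e5, e6⟩ := e1
  obtain rfl : u = 0 := by linarith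
  have hJ : Odd J := ⟨w, mul_left_cancel₀ (a := 2 * q) (by omega) (by linarith)⟩
  have hL : Odd L := ⟨w', mul_left_cancel₀ (a := 2 * q) (by omega) (by linarith)⟩
  refine ⟨g, e3, ?_⟩
  rcases h.v0 hJ hL gS (mem_C1.1 gM.2) (by rw [conj_mul, h0.t2]; simp)
    (by rw [← e2, conj_mul, K3r.cc, ← mul_assoc, h0.tx, mul_assoc, h0.tx, mul_assoc]) with
    e7 | e7 | e7 | e7
  · exact absurd (by rw [conj_eq_one_iff.1 e7]; simp) h0.sh.tz
  · exact .inl (e7.trans hz.symm)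
  · refine .inr (e7.trans ?_)
    rw [hζ', hz, h.mul]
    exact h.eq 0 (-1) 0 (by ring) (by ring) (by ring)
  · rw [← hζ', ← e3, mul_left_inj, mul_right_inj] at e7
    exact absurd (by rw [e7, hζ', hz, h.mul, h.mul]; simp) h0.sh.tz

/-- K3c -/
theorem mv : Mz (XT z t e v) ζ z t := by
  obtain ⟨g, g1, g2⟩ := h0.tr43 hζ he hv h1
  obtain ⟨μ, b', q, h, hx, ha, hz, hζ', he', hv', -⟩ := h0.co43 hζ he hv h1
  have z2 := h0.sh.dh.z2
  have ζ2 : ζ * ζ = 1 := hζ ▸ h0.sh.ζ2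
  have ζ1 : ζ ≠ 1 := hζ ▸ h0.sh.ζ1
  have zS : z ∈ (S : Subgroup G) := h0.sh.dh.zH.1
  have hz' : t * z * t⁻¹ = z * ζ := by rw [hζ, ← mul_assoc z z, z2, one_mul]
  have cζ : ∀ n ∈ (S : Subgroup G), n * ζ * n⁻¹ = ζ := fun n hn => by
    rw [← cs_comm (hζ ▸ h0.sh.ζc) hn, mul_inv_cancel_right]
  have pm : ∀ n ∈ (S : Subgroup G), ∀ y, y = z ∨ y = z * ζ → n * y * n⁻¹ = z ∨ n * y * n⁻¹ = z * ζ := by
    intro n hn y hy
    have : n * z * n⁻¹ = z ∨ n * z * n⁻¹ = z * ζ := by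
      by_cases e1 : n * z = z * n
      · exact .inl (by rw [e1, mul_inv_cancel_right])
      · exact .inr (hz' ▸ (h0.sh.swap hn e1).1)
    rcases hy with rfl | rfl
    · exact this
    · rw [← conj_mul, cζ n hn]
      rcases this with e1 | e1 <;> rw [e1]
      · exact .inr rfl
      · exact .inl (by rw [mul_assoc, ζ2, mul_one])
  have zζ : z * ζ = ζ * z := mul_inv_eq_iff_eq_mul.1 (cζ z zS)
  have f4 : ∀ y, y = z ∨ y = z * ζ → y ∈ F4 z ζ := by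
    rintro y (rfl | rfl)
    exacts [z_F4, mul_mem z_F4 v_F4]
  have hU : cj g (F4 t ζ) = F4 z ζ := by
    rw [cj_sup, cj_zpowers, cj_zpowers, g1]
    rcases g2 with e1 | e1 <;> rw [e1]
    exact le_antisymm (F4_le (mul_mem z_F4 v_F4) v_F4)
      (F4_le ((mul_mem_cancel_right v_F4).1 z_F4) v_F4)
  obtain ⟨c₀, ⟨c1, c2⟩, c3⟩ := ext_in (H := C1 ζ) (R := (S : Subgroup G) ⊓ (C1 ζ ⊓ Ns (F4 t ζ)))
    (sylIn (S := S) fun n hn => ⟨mem_C1.2 (mul_inv_eq_iff_eq_mul.1 (cζ n hn)),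
      ns_F4 (f4 _ (pm n hn z (.inl rfl))) (by rw [cζ n hn]; exact v_F4)⟩)
    (mem_C1.2 (mul_inv_eq_iff_eq_mul.1 g1)) hU (pS inf_le_left) inf_le_right
  have c4 : c₀ * g * ζ * (c₀ * g)⁻¹ = ζ := by
    calc _ = c₀ * (g * ζ * g⁻¹) * c₀⁻¹ := by group
      _ = ζ := by rw [g1, mem_C1.1 c1, mul_inv_cancel_right]
  have c5 : c₀ * g * t * (c₀ * g)⁻¹ = z ∨ c₀ * g * t * (c₀ * g)⁻¹ = z * ζ := by
    have e1 : c₀ * g * t * (c₀ * g)⁻¹ ∈ F4 z ζ := by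
      convert mem_normalizer_conj c2 (f4 _ g2) using 1; group
    rcases (mem_F4 z2 ζ2 zζ).1 e1 with e2 | e2 | e2 | e2
    · exact absurd (by rw [conj_eq_one_iff.1 e2]; simp) h0.sh.tz
    · exact .inl e2
    · rw [← c4, mul_left_inj, mul_right_inj] at e2
      exact absurd (e2 ▸ zζ.symm) h0.sh.tz
    · exact .inr e2
  generalize c₀ * g = c at c3 c4 c5
  have c6 : ∀ y ∈ (S : Subgroup G), y * t * y⁻¹ ∈ F4 t ζ → c * y * c⁻¹ ∈ (S : Subgroup G) :=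
    fun y hy e1 => cj_le_iff.1 c3 y ⟨hy, mem_C1.2 (mul_inv_eq_iff_eq_mul.1 (cζ y hy)),
      ns_F4 e1 (by rw [cζ y hy]; exact v_F4)⟩
  have c7 : ∀ y, c * y * c⁻¹ ∈ (S : Subgroup G) →
      (c * y * c⁻¹ * z = z * (c * y * c⁻¹) ↔ y * t = t * y) := by
    intro y hy
    rw [← K3r.cc (x := y) (y := t) c]
    rcases c5 with e1 | e1 <;> rw [e1]
    rw [← hz', ← h0.sh.cz' hy]
  have vS : v ∈ (S : Subgroup G) := hv' ▸ mul_mem (h.mS _ _ _) (mul_mem h.bS h.cS)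
  have vt : v * t = t * v := by rw [hv']; simp only [h.s]
  have xS := c6 x h0.xS (by rw [← h0.tx, mul_inv_cancel_right]; exact z_F4)
  have vS' := c6 v vS (by rw [vt, mul_inv_cancel_right]; exact z_F4)
  have zS' := c6 z zS (by
    convert mul_mem (z_F4 (z := t) (v := ζ)) v_F4 using 1
    rw [hζ', hz]; simp only [h.s]; exact h.eq' 0 0 (-1) (by ring) (by ring) (by ring))
  obtain ⟨δ, δS, δz, hδ⟩ := h.invol zS' (fun e1 => h0.sh.tz ((c7 z zS').1 e1).symm)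
    (by rw [conj_mul, z2]; simp)
  have cg : ∀ n c y : G, n * c * y * (n * c)⁻¹ = n * (c * y * c⁻¹) * n⁻¹ := fun n c y => by group
  have δM : ∀ y, c * y * c⁻¹ ∈ (S : Subgroup G) → y * t = t * y →
      δ * c * y * (δ * c)⁻¹ ∈ (S : Subgroup G) ⊓ C1 z := fun y hy e1 => by
    rw [cg]
    exact h0.sh.cjM δS ⟨hy, mem_C1.2 ((c7 y hy).2 e1)⟩
  have d1 : δ * c * ζ * (δ * c)⁻¹ = ζ := by rw [cg, c4, cζ δ δS]
  have d3 : δ * c * t * (δ * c)⁻¹ = z ∨ δ * c * t * (δ * c)⁻¹ = z * ζ := by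
    rw [cg]; exact pm δ δS _ c5
  have d4 := δM x xS h0.tx.symm
  have d5 := δM v vS' vt
  have vz : v * z = z * v := by
    rw [hv', hz]; simp only [h.s]; exact h.eq' 0 (-1) 0 (by ring) (by ring) (by ring)
  have v2 : v * v = ζ := by
    rw [hv', hζ']; simp only [h.s]; exact h.eq 1 0 0 (by ring) (by ring) (by ring)
  have vx : v * x ≠ x * v := fun e1 => by
    rw [hv', hx] at e1
    simp only [h.s, mul_left_inj] at e1
    obtain ⟨u, w, -, e2, e3, -⟩ := h.eq_iff.1 e1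
    obtain rfl : u = 0 := by linarith
    exact h.two (-2 * w) (by linarith)
  rw [← cg] at hδ
  rcases hδ with d2 | d2
  · obtain ⟨f, f1, f2, f3⟩ := h0.gen43 hζ he hv h1 d1 d2 d3 d4.1 (mem_C1.1 d4.2) d5.1
      (mem_C1.1 d5.2) vz v2 vx
    exact ⟨f, mem_normalizer_of_cj_le f3, mul_inv_eq_iff_eq_mul.1 f1, f2⟩
  · have et : μ 1 (-1) (2 * q) * t = t * (x * (t * a * t⁻¹)⁻¹) * z := by
      rw [hx, ha, hz]; simp only [h.s]; exact h.eq' 0 0 0 (by ring) (by ring) (by ring)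
    generalize μ 1 (-1) (2 * q) * t = t' at et d2
    obtain ⟨h0', e1, e2, n, nS, e3, -⟩ := h0.frame' hζ he hv h1 et
    obtain ⟨f, f1, f2, f3⟩ := h0'.gen43 (e := e) (e1 ▸ hζ)
      (by rw [he, ← conj_pow, ← conj_pow, e2]) rfl (e2 ▸ h1) d1 d2 d3 d4.1 (mem_C1.1 d4.2) d5.1 (mem_C1.1 d5.2) vz v2 vx
    refine ⟨n * f, mem_normalizer_of_cj_le ?_, mul_inv_eq_iff_eq_mul.1 ?_, ?_⟩
    · rw [cj_mul]
      exact (cj_mono n f3).trans e3.le
    · rw [cg, f1, cζ n nS]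
    · rw [cg]
      exact pm n nS _ f2

end FD

end Cfsg.Lib.GHN
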