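import Cfsg.Agent.GHN.Fr2
import Cfsg.Agent.H33.Tb
import Mathlib.GroupTheory.GroupAction.Jordan

/-!
# The group `S₅` on the five points of the extraspecial group `2₋¹⁺⁴`
-/

set_option autoImplicit false

namespace Cfsg.Lib.GHN

open Subgroup Cfsg.Lib.Trans Cfsg.Lib.Gold Cfsg.Lib.H33 Equiv

universe u

variable {G : Type u} [Group G] {ζ z t e v f : G}

namespace K3d

/-- Multiplication table of `D₈ ∘ Q₈`. -/
def tbX : ℕ := 0x462214e64256a635ee8c253ad2d7ce35bef3df08043290c74a14b6b1cf84672a56f6c677ae77fe10c2031ca452d2873dac9ca11bda95deb19ffb9d18801398855a9097b98d94e30b5eb4d6f38f7fbc290e6080626b1ee4a16aa56d784653e77dfc675b214c700443635cf4254bad2f68c272ef3fece37a398a4188207b9ac5a928b5e9594e11f7f9dd6f1931c8510c0173d8d52d09bdab49ca30ffbbcdeb384a14b6b1cf00462214e6c677ae77fe8c253ad2d74256a635ee08043290c7ce35bef3df84672a56f65a9097b98d10c2031ca4d6f38f7fbc9ca11bda9552d2873dac1880139885deb19ffb9d94e30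b5eb4635cf4254b290e608062ef3fece37aa56d7846536b1ee4a16a214c700443e77dfc675bad2f68c27273d8d52d09398a418820ffbbcdeb38b5e9594e117b9ac5a92831c8510c01f7f9dd6f19bdab49ca3084672a56f6ce35bef3df00462214e64a14b6b1cf8c253ad2d7c677ae77fe08043290c74256a635ee94e30b5eb4deb19ffb9d10c2031ca45a9097b98d9ca11bda95d6f38f7fbc188013988552d2873dacad2f68c272e77dfc675b290e608062635cf4254ba56d784653ef3fece37a214c7004436b1ee4a16abdab49ca30f7f9dd6f19398a41882073d8d52d09b5e9594e11ffbbcdeb3831c8510c017b9ac5a928ce35bef3df8c253ad2d74a14b6b1cf08043290c7c677ae77fe84672a56f64256a635ee00462214e6deb19ffb9d9ca11bda955a9097b98d1880139885d6f38f7fbc94e30b5eb452d2873dac10c2031ca4e77dfc675ba56d784653635cf4254b214c700443ef3fece37aad2f68c2726b1ee4a16a290e608062f7f9dd6f19b5e9594e1173d8d52d0931c8510c01ffbbcdeb38bdab49ca307b9ac5a928398a418820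

theorem tbX_eq_1' : type_of% @tbX.eq_1 := @tbX.eq_1

/-- Inversion table of `D₈ ∘ Q₈`. -/
def ibX : ℕ := 0xffb9dd6f19bda9594e117b98d52d0931ca418820

theorem ibX_eq_1' : type_of% @ibX.eq_1 := @ibX.eq_1

instance okX : TbOk 5 tbX ibX :=
  ⟨by decide +kernel, by decide +kernel, by decide +kernel, by decide +kernel⟩

/-- Generators `ζ z t e v`. -/
abbrev MX := Tb 5 tbX ibX

theorem MX_eq_1' : type_of% @MX.eq_1 := @MX.eq_1

/-- The five points `t, z t e, z, z t v, z t e v`. -/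
def pt (k : Fin 5) : MX := Tb.mk' ([4, 14, 2, 22, 30].getD k 0)

theorem pt_eq_1' : type_of% @pt.eq_1 := @pt.eq_1

theorem exists_hom (h : XM ζ z t e v) :
    ∃ φ : MX →* G, ∀ a, φ a = ev (fun k => [ζ, z, t, e, v].getD k 1) 5 a.v := by
  have h1 := h.zt.uw
  have h2 := h.zt.vw
  have h3 := h.ev.uw
  have h4 := h.ev.vw
  have h5 : t * z = ζ * z * t := by
    rw [mul_assoc, h.zt.uv, ← mul_assoc, h.zt.w2, one_mul]
  have h6 : v * e = ζ * e * v := by
    rw [mul_assoc, h.ev.uv, ← mul_assoc, h.ev.w2, one_mul]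
  refine Tb.exists_hom _ (fun k hk l hl => ?_) fun k hk => ?_
  · interval_cases k <;> interval_cases l
    · rw [show (Tb.gn 1 * Tb.gn 0 * (Tb.gn 1)⁻¹ : MX).v = 1 by decide +kernel]
      show z * ζ * z⁻¹ = 1 * ζ
      rw [h1, mul_inv_cancel_right, one_mul]
    · rw [show (Tb.gn 2 * Tb.gn 0 * (Tb.gn 2)⁻¹ : MX).v = 1 by decide +kernel]
      show t * ζ * t⁻¹ = 1 * ζ
      rw [h2, mul_inv_cancel_right, one_mul]
    · rw [show (Tb.gn 2 * Tb.gn 1 * (Tb.gn 2)⁻¹ : MX).v = 3 by decide +kernel]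
      show t * z * t⁻¹ = 1 * ζ * z
      rw [h5, mul_inv_cancel_right, one_mul]
    · rw [show (Tb.gn 3 * Tb.gn 0 * (Tb.gn 3)⁻¹ : MX).v = 1 by decide +kernel]
      show e * ζ * e⁻¹ = 1 * ζ
      rw [h3, mul_inv_cancel_right, one_mul]
    · rw [show (Tb.gn 3 * Tb.gn 1 * (Tb.gn 3)⁻¹ : MX).v = 2 by decide +kernel]
      show e * z * e⁻¹ = 1 * z
      rw [← h.ze, mul_inv_cancel_right, one_mul]
    · rw [show (Tb.gn 3 * Tb.gn 2 * (Tb.gn 3)⁻¹ : MX).v = 4 by decide +kernel]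
      show e * t * e⁻¹ = 1 * t
      rw [← h.te, mul_inv_cancel_right, one_mul]
    · rw [show (Tb.gn 4 * Tb.gn 0 * (Tb.gn 4)⁻¹ : MX).v = 1 by decide +kernel]
      show v * ζ * v⁻¹ = 1 * ζ
      rw [h4, mul_inv_cancel_right, one_mul]
    · rw [show (Tb.gn 4 * Tb.gn 1 * (Tb.gn 4)⁻¹ : MX).v = 2 by decide +kernel]
      show v * z * v⁻¹ = 1 * z
      rw [← h.zv, mul_inv_cancel_right, one_mul]
    · rw [show (Tb.gn 4 * Tb.gn 2 * (Tb.gn 4)⁻¹ : MX).v = 4 by decide +kernel]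
      show v * t * v⁻¹ = 1 * t
      rw [← h.tv, mul_inv_cancel_right, one_mul]
    · rw [show (Tb.gn 4 * Tb.gn 3 * (Tb.gn 4)⁻¹ : MX).v = 9 by decide +kernel]
      show v * e * v⁻¹ = 1 * ζ * e
      rw [h6, mul_inv_cancel_right, one_mul]
  · interval_cases k
    · rw [show (Tb.gn 0 * Tb.gn 0 : MX).v = 0 by decide +kernel]
      show ζ * ζ = 1
      rw [h.zt.w2]
    · rw [show (Tb.gn 1 * Tb.gn 1 : MX).v = 0 by decide +kernel]
      show z * z = 1
      rw [h.z2]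
    · rw [show (Tb.gn 2 * Tb.gn 2 : MX).v = 0 by decide +kernel]
      show t * t = 1
      rw [h.t2]
    · rw [show (Tb.gn 3 * Tb.gn 3 : MX).v = 1 by decide +kernel]
      show e * e = 1 * ζ
      rw [h.e2, one_mul]
    · rw [show (Tb.gn 4 * Tb.gn 4 : MX).v = 1 by decide +kernel]
      show v * v = 1 * ζ
      rw [h.v2, one_mul]

/-- `g` conjugates `a` to `b` modulo `ζ`. -/
def Cz (ζ g a b : G) : Prop := g * a * g⁻¹ = b ∨ g * a * g⁻¹ = b * ζ

theorem Cz_eq_1' : type_of% @Cz.eq_1 := @Cz.eq_1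

theorem Cz.trans {g g' a b c : G} (h : Cz ζ g a b) (h' : Cz ζ g' b c) (hz : ζ * ζ = 1)
    (hg : g' * ζ = ζ * g') : Cz ζ (g' * g) a c := by
  have e1 : g' * g * a * (g' * g)⁻¹ = g' * (g * a * g⁻¹) * g'⁻¹ := by group
  have e2 : g' * (b * ζ) * g'⁻¹ = g' * b * g'⁻¹ * (g' * ζ * g'⁻¹) := by group
  rcases h with h | h <;> rw [Cz, e1, h]
  · exact h'
  · rw [e2, hg, mul_inv_cancel_right]
    rcases h' with h' | h' <;> rw [h']
    · exact Or.inr rfl
    · exact Or.inl (by rw [mul_assoc, hz, mul_one])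

theorem Cz.symm {g a b : G} (h : Cz ζ g a b) (hz : ζ * ζ = 1) (hg : g * ζ = ζ * g) :
    Cz ζ g⁻¹ b a := by
  rcases h with h | h
  · exact Or.inl (by rw [← h]; group)
  · refine Or.inr ?_
    have : b = g * a * g⁻¹ * ζ := by rw [h, mul_assoc, hz, mul_one]
    calc g⁻¹ * b * g⁻¹⁻¹ = a * (g⁻¹ * (ζ * g)) := by rw [this]; group
      _ = a * ζ := by rw [← hg, inv_mul_cancel_left]

theorem inv_comm {g : G} (hg : g * ζ = ζ * g) : g⁻¹ * ζ = ζ * g⁻¹ :=
  (Commute.inv_left (a := g) hg).eq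

/-- The permutations of the five points induced by the centraliser of `ζ`. -/
def Gam (φ : MX →* G) (hz : ζ * ζ = 1) : Subgroup (Perm (Fin 5)) where
  carrier := {σ | ∃ g, g * ζ = ζ * g ∧ ∀ k, Cz ζ g (φ (pt k)) (φ (pt (σ k)))}
  one_mem' := ⟨1, by simp, fun _ => Or.inl (by simp)⟩
  mul_mem' := fun ⟨g, h1, h2⟩ ⟨g', h3, h4⟩ =>
    ⟨g * g', (Commute.mul_left h1 h3).eq, fun k => (h4 k).trans (h2 _) hz h1⟩
  inv_mem' := fun {σ} ⟨g, h1, h2⟩ => ⟨g⁻¹, inv_comm h1, fun k => by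
    simpa using (h2 (σ⁻¹ k)).symm hz h1⟩

theorem Gam_eq_1' : type_of% @Gam.eq_1 := @Gam.eq_1

theorem move {φ : MX →* G} (hφ : Function.Injective φ) (h0 : φ (Tb.gn 0) = ζ) (hz : ζ * ζ = 1)
    {k : Fin 5} (h : Mz φ.range ζ (φ (pt 2)) (φ (pt k))) : ∃ σ ∈ Gam φ hz, σ k = 2 := by
  obtain ⟨g, hg, hc, hk⟩ := h
  have uq : ∀ {k l m}, Cz ζ g (φ k) (φ m) → Cz ζ g (φ l) (φ m) → k = l ∨ k = l * Tb.gn 0 := by
    intro k l m h1 h2
    have := h1.trans (h2.symm hz hc) hz (inv_comm hc)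
    simp only [Cz, inv_mul_cancel, one_mul, inv_one, mul_one, ← h0, ← map_mul] at this
    exact this.imp (fun h => hφ h) fun h => hφ h
  have ex : ∀ k, ∃ l, Cz ζ g (φ (pt k)) (φ (pt l)) := by
    intro k
    obtain ⟨b, hb⟩ := mem_normalizer_conj hg (⟨pt k, rfl⟩ : φ (pt k) ∈ φ.range)
    have h1 : b * b = 1 := hφ (by
      rw [map_mul, hb, conj_mul, ← map_mul, (show ∀ k, pt k * pt k = 1 by decide +kernel) k]; simp)
    rcases (show ∀ b : MX, b * b = 1 → (b = 1 ∨ b = 1 * Tb.gn 0) ∨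
      ∃ l, b = pt l ∨ b = pt l * Tb.gn 0 by decide +kernel) b h1 with h2 | ⟨l, h2⟩
    · have h3 : Cz ζ g (φ (pt k)) (φ 1) := h2.imp (fun h => by rw [← hb, h])
        fun h => by rw [← hb, h, map_mul, h0]
      exact absurd (uq h3 (l := 1) (Or.inl (by simp))) (by clear h3 hb; revert k; decide +kernel)
    · exact ⟨l, h2.imp (fun h => by rw [← hb, h]) fun h => by rw [← hb, h, map_mul, h0]⟩
  choose π hπ using ex
  have pu : ∀ k l, pt k = pt l ∨ pt k = pt l * Tb.gn 0 → k = l := by decide +kernel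
  have inj : Function.Injective π := fun a b hab => pu a b (uq (hπ a) (hab ▸ hπ b))
  refine ⟨Equiv.ofBijective π (Finite.injective_iff_bijective.1 inj), ⟨g, hc, hπ⟩, ?_⟩
  have := ((hπ k).symm hz hc).trans (show Cz ζ g _ _ from hk) hz hc
  simp only [Cz, mul_inv_cancel, one_mul, inv_one, mul_one, ← h0, ← map_mul] at this
  exact pu _ _ (this.imp (fun h => hφ h) fun h => hφ h)

end K3d

open K3d in
theorem XM.s5 [Finite G] (h0 : XM ζ z t e v) (hf : f ∈ Ns (XT z t e v)) (f1 : f * z = z * f)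
    (f2 : f * t = t * f)
    (f3 : f * e = e * f) (f4 : f * v * f⁻¹ = e * v ∨ f * v * f⁻¹ = ζ * (e * v))
    (m1 : Mz (XT z t e v) ζ z t) (m2 : Mz (XT z t e v) ζ z (z * t * e))
    (m4 : Mz (XT z t e v) ζ z (z * t * v)) (m5 : Mz (XT z t e v) ζ z (z * t * e * v)) :
    ∃ g : G, g * ζ = ζ * g ∧ (g * z * g⁻¹ = z ∨ g * z * g⁻¹ = z * ζ) ∧
      (g * v * g⁻¹ = e ∨ g * v * g⁻¹ = e * ζ) := by
  obtain ⟨φ, hφ⟩ := K3d.exists_hom h0
  have hz := h0.zt.w2
  have g0 : φ (Tb.gn 0) = ζ := (hφ _).trans (one_mul _)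
  have g1 : φ (Tb.gn 1) = z := (hφ _).trans (one_mul _)
  have g2 : φ (Tb.gn 2) = t := (hφ _).trans (one_mul _)
  have g3 : φ (Tb.gn 3) = e := (hφ _).trans (one_mul _)
  have g4 : φ (Tb.gn 4) = v := (hφ _).trans (one_mul _)
  have inj : Function.Injective φ := by
    refine (injective_iff_map_eq_one _).2 fun a ha => ?_
    rcases (show ∀ a : MX, a = 1 ∨ a = Tb.gn 0 ∨ ∃ b, a * b * a⁻¹ * b⁻¹ = Tb.gn 0 by
      decide +kernel) a with h | h | ⟨b, h⟩
    · exact h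
    · exact absurd (by rw [← g0, ← h, ha]) h0.zt.w1
    · exact absurd (by rw [← g0, ← h]; simp [ha]) h0.zt.w1
  have hT : XT z t e v = φ.range := by
    apply le_antisymm
    · rw [closure_le]
      rintro _ (rfl | rfl | rfl | rfl)
      exacts [⟨_, g1⟩, ⟨_, g2⟩, ⟨_, g3⟩, ⟨_, g4⟩]
    · have he : e ∈ XT z t e v := subset_closure (by simp)
      refine Tb.range_le φ fun k hk => ?_
      interval_cases k
      · rw [g0, ← h0.e2]; exact mul_mem he he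
      · rw [g1]; exact subset_closure (by simp)
      · rw [g2]; exact subset_closure (by simp)
      · rw [g3]; exact he
      · rw [g4]; exact subset_closure (by simp)
  have p0 : φ (pt 0) = t := g2
  have p2 : φ (pt 2) = z := g1
  have p1 : φ (pt 1) = z * t * e := by
    rw [← g1, ← g2, ← g3, ← map_mul, ← map_mul]; exact congrArg φ (by decide +kernel)
  have p3 : φ (pt 3) = z * t * v := by
    rw [← g1, ← g2, ← g4, ← map_mul, ← map_mul]; exact congrArg φ (by decide +kernel)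
  have p4 : φ (pt 4) = z * t * e * v := by
    rw [← g1, ← g2, ← g3, ← g4, ← map_mul, ← map_mul, ← map_mul]
    exact congrArg φ (by decide +kernel)
  rw [hT, ← p2] at m1 m2 m4 m5
  have mv : ∀ k, ∃ σ ∈ Gam φ hz, σ k = 2 := fun k => by
    fin_cases k
    · exact move inj g0 hz (p0 ▸ m1)
    · exact move inj g0 hz (by rw [p2] at m2 ⊢; exact p1 ▸ m2)
    · exact ⟨1, one_mem _, rfl⟩
    · exact move inj g0 hz (by rw [p2] at m4 ⊢; exact p3 ▸ m4)
    · exact move inj g0 hz (by rw [p2] at m5 ⊢; exact p4 ▸ m5)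
  have : MulAction.IsPretransitive (Gam φ hz) (Fin 5) := ⟨fun a b => by
    obtain ⟨σ, h1, h2⟩ := mv a
    obtain ⟨τ, h3, h4⟩ := mv b
    exact ⟨⟨τ⁻¹ * σ, mul_mem (inv_mem h3) h1⟩, by
      show τ⁻¹ (σ a) = b
      rw [h2, ← h4]; simp⟩⟩
  have c : ∀ {a}, f * a = a * f → f * a * f⁻¹ = a := fun h => by rw [h, mul_inv_cancel_right]
  have fζ : f * ζ = ζ * f := by
    rw [← h0.e2, ← mul_assoc, f3, mul_assoc, f3, mul_assoc]
  have hs : swap (3 : Fin 5) 4 ∈ Gam φ hz := by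
    refine ⟨f, fζ, fun k => ?_⟩
    obtain ⟨b, hb, hb'⟩ : ∃ b : MX, f * v * f⁻¹ = φ b ∧
        (b = Tb.gn 3 * Tb.gn 4 ∨ b = Tb.gn 0 * (Tb.gn 3 * Tb.gn 4)) := by
      rcases f4 with h | h
      · exact ⟨_, by rw [h, map_mul, g3, g4], Or.inl rfl⟩
      · exact ⟨_, by rw [h, map_mul, map_mul, g0, g3, g4], Or.inr rfl⟩
    have := Tb.act_ev φ f (fun k => [Tb.gn 0, Tb.gn 1, Tb.gn 2, Tb.gn 3, b].getD k 1)
      (fun k hk => by
        interval_cases k
        · exact (g0 ▸ c fζ :)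
        · exact (g1 ▸ c f1 :)
        · exact (g2 ▸ c f2 :)
        · exact (g3 ▸ c f3 :)
        · exact (g4 ▸ hb :)) (pt k)
    rw [Cz, this, ← g0, ← map_mul]
    refine Or.imp (congrArg φ) (congrArg φ) ?_
    clear this
    rcases hb' with rfl | rfl <;> revert k <;> decide +kernel
  have top := Equiv.Perm.subgroup_eq_top_of_isPreprimitive_of_isSwap_mem
    (MulAction.IsPreprimitive.of_prime_card (by simpa using Nat.prime_five)) _
    ⟨3, 4, by decide, rfl⟩ hs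
  obtain ⟨g, hg, hk⟩ : swap (1 : Fin 5) 3 ∈ Gam φ hz := top ▸ mem_top _
  refine ⟨g, hg, p2 ▸ hk 2, ?_⟩
  obtain ⟨a, ha, ha'⟩ : ∃ a, g * φ (pt 1) * g⁻¹ = φ a ∧ (a = pt 3 ∨ a = pt 3 * Tb.gn 0) := by
    rcases hk 1 with h | h
    · exact ⟨_, h, Or.inl rfl⟩
    · exact ⟨_, by rw [h, map_mul, g0]; rfl, Or.inr rfl⟩
  obtain ⟨b, hb, hb'⟩ : ∃ b, g * φ (pt 4) * g⁻¹ = φ b ∧ (b = pt 4 ∨ b = pt 4 * Tb.gn 0) := by
    rcases hk 4 with h | h
    · exact ⟨_, h, Or.inl rfl⟩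
    · exact ⟨_, by rw [h, map_mul, g0]; rfl, Or.inr rfl⟩
  have : g * v * g⁻¹ = φ (a⁻¹ * b) := by
    rw [map_mul, map_inv, ← ha, ← hb, p1, p4]; group
  rw [this, ← g0, ← g3, ← map_mul]
  refine Or.imp (congrArg φ) (congrArg φ) ?_
  rcases ha' with rfl | rfl <;> rcases hb' with rfl | rfl <;> decide +kernel

end Cfsg.Lib.GHN
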