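import Cfsg.Agent.GHN.Tool
import Cfsg.Agent.GHN.D2a

/-!
# Simple groups of sectional 2-rank at most four: `S / Y` is not cyclic of order four
-/

set_option autoImplicit false
set_option linter.unusedSectionVars false

namespace Cfsg.Lib.GHN

open Subgroup Cfsg.Lib.Trans Cfsg.Lib.Gold Cfsg.Lib.Rank2 Cfsg.Lib.GHB
open scoped commutatorElement

universe u

variable {G : Type u} [Group G] [Finite G] {S : Sylow 2 G} {P : Subgroup G}
  {a b c d f g m m' p q s t u w x y z : G} {k : ℕ}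

/-- `c` lies in the product of `⟨a⟩` and its conjugate. -/
def K4C (a t c : G) : Prop := ∃ p ∈ zpowers a, ∃ q ∈ zpowers a, c = p * (t * q * t⁻¹)

theorem K4C_eq_1' : type_of% @K4C.eq_1 := @K4C.eq_1

omit [Finite G] in
theorem K4_fix (h : m * a * m⁻¹ = a) (hp : p ∈ zpowers a) : m * p * m⁻¹ = p := by
  obtain ⟨l, rfl⟩ := hp
  simp only [← conj_zpow, h]

omit [Finite G] in
theorem K4_inv (h : m * a * m⁻¹ = a⁻¹) (hp : p ∈ zpowers a) : m * p * m⁻¹ = p⁻¹ := by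
  obtain ⟨l, rfl⟩ := hp
  simp only [← conj_zpow, h, inv_zpow]

omit [Finite G] in
theorem K4_le (h1 : u ∈ P) (h2 : w ∈ P) : F4 u w ≤ P := sup_le (zpowers_le.2 h1) (zpowers_le.2 h2)

namespace FZ
variable (h0 : FZ S P d s z b a t x k)
include h0

theorem aa : a⁻¹ ≠ a := fun h => by
  have e : a ^ (2 : ℤ) = a ^ (0 : ℤ) := by
    rw [zpow_two, zpow_zero]; nth_rewrite 1 [← h]; exact inv_mul_cancel a
  have e1 := (h0.sh.dh.pow_eq.1 e).symm.dvd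
  have e2 : (4 : ℤ) ∣ 2 ^ (k + 1 + 1) := ⟨2 ^ k, by ring⟩
  have := e2.trans e1
  omega

omit [Finite G] h0 in
theorem aD (hp : p ∈ zpowers a) : p ∈ Dl a b := mem_sup_left hp

theorem xM : x ∈ (S : Subgroup G) ⊓ C1 z := by
  refine ⟨h0.xS, mem_C1.2 ?_⟩
  rw [← h0.sh.dh.za]
  exact (Commute.pow_right h0.xa _).eq

theorem cjM (hm : m ∈ (S : Subgroup G) ⊓ C1 z) : t⁻¹ * m * t ∈ (S : Subgroup G) ⊓ C1 z :=
  mem_normalizer_conj' (h0.sh.nM h0.sh.tS) hm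

theorem cjY (hm : t⁻¹ * m * t ∈ YY a b t) : m ∈ YY a b t := by
  simpa [mul_assoc] using mem_normalizer_conj (h0.sh.nY h0.sh.tS) hm

theorem actY {y₁ y₂ : G} (h2 : y₂ ∈ Dl a b) (hp : p ∈ Dl a b) :
    y₁ * (t * y₂ * t⁻¹) * p * (y₁ * (t * y₂ * t⁻¹))⁻¹ = y₁ * p * y₁⁻¹ := by
  rw [mul_assoc y₁ _ p, ← h0.sh.com p hp y₂ h2]; group

theorem actY' {y₁ y₂ : G} (h1 : y₁ ∈ Dl a b) (h2 : y₂ ∈ Dl a b) (hp : p ∈ Dl a b) :
    y₁ * (t * y₂ * t⁻¹) * (t * p * t⁻¹) * (y₁ * (t * y₂ * t⁻¹))⁻¹ =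
      t * (y₂ * p * y₂⁻¹) * t⁻¹ := by
  have := h0.sh.com y₁ h1 _ (mul_mem (mul_mem h2 hp) (inv_mem h2))
  calc _ = y₁ * (t * (y₂ * p * y₂⁻¹) * t⁻¹) * y₁⁻¹ := by group
    _ = _ := by rw [this, mul_inv_cancel_right]

theorem pm (hm : m ∈ (S : Subgroup G) ⊓ C1 z) : m * a * m⁻¹ = a ∨ m * a * m⁻¹ = a⁻¹ := by
  have key : ∀ y ∈ YY a b t, y * a * y⁻¹ = a ∨ y * a * y⁻¹ = a⁻¹ := fun y hy => by
    obtain ⟨y₁, h1, y₂, h2, rfl⟩ := h0.sh.memY.1 hy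
    rw [h0.actY h2 (aD (mem_zpowers a))]
    rcases h0.sh.dh.mem.1 h1 with ⟨l, rfl⟩ | h
    · left; group
    · exact .inr (h0.sh.dh.rfa h)
  rcases h0.cos m hm.1 (mem_C1.1 hm.2) with h | h
  · exact key m h
  · have e : ∀ c, x * c * x⁻¹ = a → c = a := fun c hc => by
      rw [mul_inv_eq_iff_eq_mul, ← h0.xa] at hc; exact mul_left_cancel hc
    rcases key _ h with h | h
    · exact .inl (e _ (Eq.trans (by group) h))
    · exact .inr (inv_eq_iff_eq_inv.1 (e _ (Eq.trans (by group) (inv_eq_iff_eq_inv.2 h))))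

theorem pm' (hm : m ∈ (S : Subgroup G) ⊓ C1 z) :
    (∀ p ∈ zpowers a, m * (t * p * t⁻¹) * m⁻¹ = t * p * t⁻¹) ∨
      ∀ p ∈ zpowers a, m * (t * p * t⁻¹) * m⁻¹ = t * p⁻¹ * t⁻¹ := by
  rcases h0.pm (h0.cjM hm) with h | h
  · refine .inl fun p hp => ?_
    conv_rhs => rw [← K4_fix h hp]
    group
  · refine .inr fun p hp => ?_
    rw [← K4_inv h hp]; group

theorem inC (hy : y ∈ YY a b t) (h1 : y * a * y⁻¹ = a)
    (h2 : y * (t * a * t⁻¹) * y⁻¹ = t * a * t⁻¹) : K4C a t y := by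
  obtain ⟨y₁, h3, y₂, h4, rfl⟩ := h0.sh.memY.1 hy
  rw [h0.actY h4 (aD (mem_zpowers a))] at h1
  rw [h0.actY' h3 h4 (aD (mem_zpowers a)), mul_left_inj, mul_right_inj] at h2
  refine ⟨y₁, (h0.sh.dh.mem.1 h3).resolve_right fun h => h0.aa ?_, y₂,
    (h0.sh.dh.mem.1 h4).resolve_right fun h => h0.aa ?_, rfl⟩
  · rw [← h0.sh.dh.rfa h, h1]
  · rw [← h0.sh.dh.rfa h, h2]

theorem two (hm : m ∈ (S : Subgroup G) ⊓ C1 z) (hm' : m' ∈ (S : Subgroup G) ⊓ C1 z)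
    (h1 : m ∉ YY a b t) (h2 : m' ∉ YY a b t) : m * m' ∈ YY a b t := by
  have e1 := (h0.cos _ (inv_mem hm).1 (mem_C1.1 (inv_mem hm).2)).resolve_left
    fun h => h1 (inv_mem_iff.1 h)
  have e2 := (h0.cos _ hm'.1 (mem_C1.1 hm'.2)).resolve_left h2
  simpa [mul_assoc] using mul_mem (inv_mem e1) e2

theorem sqC (hm : m ∈ (S : Subgroup G) ⊓ C1 z) : K4C a t (m * m) := by
  refine h0.inC ?_ ?_ ?_
  · by_cases h : m ∈ YY a b t
    exacts [mul_mem h h, h0.two hm hm h h]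
  · have e : m * m * a * (m * m)⁻¹ = m * (m * a * m⁻¹) * m⁻¹ := by group
    rcases h0.pm hm with h | h
    · rw [e, h, h]
    · rw [e, h, K4_inv h (inv_mem (mem_zpowers a)), inv_inv]
  · have e : m * m * (t * a * t⁻¹) * (m * m)⁻¹ = m * (m * (t * a * t⁻¹) * m⁻¹) * m⁻¹ := by group
    rcases h0.pm' hm with h | h
    · rw [e, h a (mem_zpowers a), h a (mem_zpowers a)]
    · rw [e, h a (mem_zpowers a), h _ (inv_mem (mem_zpowers a)), inv_inv]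

theorem invV (hc : K4C a t c) (h2 : c * c = 1) : c ∈ F4 z (t * z * t⁻¹) := by
  obtain ⟨p, hp, q, hq, rfl⟩ := hc
  have e : p * p * (t * (q * q) * t⁻¹) = 1 * (t * 1 * t⁻¹) := by
    have := h0.sh.com p (aD hp) q (aD hq)
    calc _ = p * (p * (t * q * t⁻¹)) * (t * q * t⁻¹) := by group
      _ = p * (t * q * t⁻¹ * p) * (t * q * t⁻¹) := by rw [this]
      _ = p * (t * q * t⁻¹) * (p * (t * q * t⁻¹)) := by simp only [mul_assoc]
      _ = _ := by rw [h2]; group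
  obtain ⟨e1, e2⟩ := h0.sh.uniq (aD (mul_mem hp hp)) (aD (mul_mem hq hq)) (one_mem _)
    (one_mem _) e
  refine mul_mem (mem_sup_left ?_) (mem_sup_right ?_)
  · rcases h0.sh.dh.inv hp e1 with rfl | rfl
    exacts [one_mem _, mem_zpowers _]
  · rcases h0.sh.dh.inv hq e2 with rfl | rfl
    · simp
    · exact mem_zpowers _

theorem vM : t * t ∈ (S : Subgroup G) ⊓ C1 z := h0.sh.idx.mul_self_mem h0.sh.tS

theorem tM (hu : u ∈ (S : Subgroup G)) (h1 : u ∉ (S : Subgroup G) ⊓ C1 z) :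
    t⁻¹ * u ∈ (S : Subgroup G) ⊓ C1 z :=
  (h0.sh.idx.mul_mem_iff (inv_mem h0.sh.tS) hu).2
    (iff_of_false (fun h => h0.sh.tz (mem_C1.1 (inv_mem_iff.1 h).2)) h1)

/-- squares of elements outside `M` lie outside `Y` -/
theorem f1 (hu : u ∈ (S : Subgroup G)) (h1 : u * u ∈ YY a b t) : u ∈ (S : Subgroup G) ⊓ C1 z := by
  by_contra h2
  have h3 := h0.tM hu h2
  have h4 : t⁻¹ * (t⁻¹ * u) * t * (t⁻¹ * u) ∈ YY a b t := by
    by_cases h : t⁻¹ * u ∈ YY a b t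
    · exact mul_mem (mem_normalizer_conj' (h0.sh.nY h0.sh.tS) h) h
    · exact h0.two (h0.cjM h3) h3 (fun h' => h (h0.cjY h')) h
  refine h0.tY ?_
  have := mul_mem h1 (inv_mem h4)
  convert this using 1
  simp [mul_assoc]

theorem cyc (hu : u ∈ (S : Subgroup G)) : ∃ l : ℤ, ∃ y ∈ YY a b t, u = t ^ l * y := by
  have key : ∀ m ∈ (S : Subgroup G) ⊓ C1 z, ∃ l : ℤ, ∃ y ∈ YY a b t, m = t ^ l * y := fun m hm => by
    by_cases h : m ∈ YY a b t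
    · exact ⟨0, m, h, by group⟩
    · exact ⟨-2, _, h0.two h0.vM hm h0.tY h, by group⟩
  by_cases h : u ∈ (S : Subgroup G) ⊓ C1 z
  · exact key u h
  · obtain ⟨l, y, hy, e⟩ := key _ (h0.tM hu h)
    exact ⟨l + 1, y, hy, by rw [inv_mul_eq_iff_eq_mul.1 e]; group⟩

theorem cmY (hu : u ∈ (S : Subgroup G)) (hw : w ∈ (S : Subgroup G)) : ⁅u, w⁆ ∈ YY a b t := by
  obtain ⟨l, y, hy, rfl⟩ := h0.cyc hu
  obtain ⟨l', y', hy', rfl⟩ := h0.cyc hw
  have n : ∀ j : ℤ, ∀ y ∈ YY a b t, t ^ j * y * (t ^ j)⁻¹ ∈ YY a b t := fun j y hy =>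
    mem_normalizer_conj (zpow_mem (h0.sh.nY h0.sh.tS) j) hy
  have := mul_mem (mul_mem (n l y hy) (n (l + l') _ (mul_mem hy' (inv_mem hy))))
    (n l' _ (inv_mem hy'))
  convert this using 1
  rw [commutatorElement_def]; group

theorem cmC (hm : m ∈ (S : Subgroup G) ⊓ C1 z) (hm' : m' ∈ (S : Subgroup G) ⊓ C1 z) :
    K4C a t ⁅m, m'⁆ :=
  h0.inC (h0.cmY hm.1 hm'.1) (by rw [h0.sh.dh.cma hm hm', mul_inv_cancel_right])
    (by rw [h0.sh.dh'.cma hm hm', mul_inv_cancel_right])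

theorem vinv (hc : K4C a t c) : t * t * c * (t * t)⁻¹ = c⁻¹ := by
  obtain ⟨p, hp, q, hq, rfl⟩ := hc
  have e := h0.sh.com _ (aD (inv_mem hp)) _ (aD (inv_mem hq))
  calc _ = t * t * p * (t * t)⁻¹ * (t * (t * t * q * (t * t)⁻¹) * t⁻¹) := by group
    _ = _ := by rw [K4_inv h0.ta hp, K4_inv h0.ta hq, e]; group

theorem v4 : t * t * (t * t) = 1 ∨ t * t * (t * t) = z * (t * z * t⁻¹) := by
  have h1 := h0.sqC h0.vM
  have h2 := h0.vinv h1
  have h3 : t * t * (t * t) * (t * t * (t * t)) = 1 := by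
    rw [← mul_assoc (t * t) (t * t) (t * t), mul_inv_cancel_right] at h2
    nth_rewrite 1 [h2]
    exact inv_mul_cancel _
  have e : t * t * (t * t) ≠ z := fun h => h0.sh.tz (by rw [← h]; simp only [mul_assoc])
  rcases (mem_F4 h0.sh.dh.z2 h0.sh.dh'.z2 h0.sh.zc').1 (h0.invV h1 h3) with h | h | h | h
  · exact .inl h
  · exact absurd h e
  · exact absurd (mul_left_cancel (a := t) (by
      rw [eq_mul_inv_iff_mul_eq] at h; rw [← h]; simp only [mul_assoc])) e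
  · exact .inr h

theorem nc (hu : u ∈ (S : Subgroup G) ⊓ C1 z) (h1 : u ∉ YY a b t) (h2 : u * u = 1) :
    u * a * u⁻¹ = a⁻¹ := by
  refine (h0.pm hu).resolve_left fun h => ?_
  obtain ⟨K, -, hD, -, hK⟩ := h0.sh.dh.par
  have rb : Rf a b b := ⟨0, by simp⟩
  have bD : b ∈ Dl a b := mem_sup_right (mem_zpowers b)
  have hY : YY a b t ≤ K := sup_le hD (cj_le_iff.2 fun y hy =>
    (hK _ (h0.sh.YM (mem_sup_right (conj_mem_cj.2 hy))) b rb 0
      (by rw [← h0.sh.com b bD y hy]; group)).2 (by simp))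
  obtain ⟨l, hl⟩ := h0.sh.dh.cb u hu
  have e1 : a ^ (2 * l) = a ^ (0 : ℤ) := by
    have : u * (u * b * u⁻¹) * u⁻¹ = b := by
      calc _ = u * u * b * (u * u)⁻¹ := by group
        _ = b := by rw [h2]; group
    rw [hl, show u * (a ^ l * b) * u⁻¹ = u * a ^ l * u⁻¹ * (u * b * u⁻¹) by group, hl,
      K4_fix h (zpow_mem_zpowers a l), ← mul_assoc, mul_eq_right] at this
    rw [zpow_zero, ← this]; group
  have e2 := (h0.sh.dh.pow_eq.1 e1).symm.dvd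
  have e3 : (4 : ℤ) ∣ 2 ^ (k + 1 + 1) := ⟨2 ^ k, by ring⟩
  have e4 := e3.trans e2
  have e5 : u ∈ K := (hK u hu b rb l hl).2 (by rw [Int.even_iff]; omega)
  have e6 : x * u ∈ K := hY ((h0.cos u hu.1 (mem_C1.1 hu.2)).resolve_left h1)
  have e7 := (hK x h0.xM b rb 1 (by rw [zpow_one, h0.xb])).1 ((mul_mem_cancel_right e5).1 e6)
  exact absurd e7 (by decide)

/-- an involution outside `Y` forces `v ^ 2 = 1` -/
theorem invY (hu : u ∈ (S : Subgroup G)) (h2 : u * u = 1) (h1 : u ∉ YY a b t) :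
    t * t * (t * t) = 1 := by
  have hM := h0.f1 hu (h2 ▸ one_mem _)
  have e1 := h0.nc hM h1 h2
  have e2 := h0.nc (h0.cjM hM) (fun h => h1 (h0.cjY h)) (by
    calc _ = t⁻¹ * (u * u) * t := by group
      _ = 1 := by rw [h2]; group)
  have hc : K4C a t ((t * t)⁻¹ * u) := by
    refine h0.inC (h0.two (inv_mem h0.vM) hM (fun h => h0.tY (inv_mem_iff.1 h)) h1) ?_ ?_
    · calc _ = (t * t)⁻¹ * (u * a * u⁻¹) * (t * t) := by simp [mul_assoc]
        _ = _ := by rw [e1, ← h0.ta]; simp [mul_assoc]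
    · calc _ = (t * t)⁻¹ * t * (t⁻¹ * u * t * a * (t⁻¹ * u * t)⁻¹) * t⁻¹ * (t * t) := by
            simp [mul_assoc]
        _ = _ := by rw [e2, ← h0.ta]; simp [mul_assoc]
  have e3 := h0.vinv hc
  rw [mul_inv_cancel_left, mul_inv_rev _ u, inv_inv, inv_eq h2, mul_right_inj] at e3
  nth_rewrite 1 [← e3]
  exact inv_mul_cancel _

/-- an element of `M` commuting with `p q'` where `p ^ 2 ≠ 1 ≠ q ^ 2` centralises `a` and `a'` -/
theorem cenA (hm : m ∈ (S : Subgroup G) ⊓ C1 z) (hp : p ∈ zpowers a) (hq : q ∈ zpowers a)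
    (p2 : p * p ≠ 1) (q2 : q * q ≠ 1) (h : m * (p * (t * q * t⁻¹)) = p * (t * q * t⁻¹) * m) :
    m * a * m⁻¹ = a ∧ m * (t * a * t⁻¹) * m⁻¹ = t * a * t⁻¹ := by
  have e : m * p * m⁻¹ * (m * (t * q * t⁻¹) * m⁻¹) = p * (t * q * t⁻¹) := by
    rw [← mul_inv_eq_iff_eq_mul] at h; rw [← h]; group
  have ni : ∀ r : G, r * r ≠ 1 → r⁻¹ ≠ r := fun r hr h =>
    hr (by nth_rewrite 1 [← h]; exact inv_mul_cancel r)
  have pD := aD (b := b) hp
  have qD := aD (b := b) hq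
  rcases h0.pm hm with h1 | h1 <;> rcases h0.pm' hm with h2 | h2
  · exact ⟨h1, h2 a (mem_zpowers a)⟩
  · rw [K4_fix h1 hp, h2 q hq] at e
    exact absurd (h0.sh.uniq pD (inv_mem qD) pD qD e).2 (ni q q2)
  · rw [K4_inv h1 hp, h2 q hq] at e
    exact absurd (h0.sh.uniq (inv_mem pD) qD pD qD e).1 (ni p p2)
  · rw [K4_inv h1 hp, h2 q hq] at e
    exact absurd (h0.sh.uniq (inv_mem pD) (inv_mem qD) pD qD e).1 (ni p p2)

omit h0 [Finite G] in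
theorem fixC (hc : K4C a t c) (h1 : m * a * m⁻¹ = a)
    (h2 : m * (t * a * t⁻¹) * m⁻¹ = t * a * t⁻¹) : m * c = c * m := by
  obtain ⟨p, hp, q, hq, rfl⟩ := hc
  have e : t⁻¹ * m * t * a * (t⁻¹ * m * t)⁻¹ = a := by
    calc _ = t⁻¹ * (m * (t * a * t⁻¹) * m⁻¹) * t := by group
      _ = a := by rw [h2]; group
  rw [← mul_inv_eq_iff_eq_mul]
  calc _ = m * p * m⁻¹ * (t * (t⁻¹ * m * t * q * (t⁻¹ * m * t)⁻¹) * t⁻¹) := by group
    _ = _ := by rw [K4_fix h1 hp, K4_fix e hq]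

/-- the centraliser of `a` and `a'` in `M` is abelian -/
theorem abA (hm : m ∈ (S : Subgroup G) ⊓ C1 z) (hm' : m' ∈ (S : Subgroup G) ⊓ C1 z)
    (h1 : m * a * m⁻¹ = a ∧ m * (t * a * t⁻¹) * m⁻¹ = t * a * t⁻¹)
    (h2 : m' * a * m'⁻¹ = a ∧ m' * (t * a * t⁻¹) * m'⁻¹ = t * a * t⁻¹) : m * m' = m' * m := by
  by_cases h : m ∈ YY a b t
  · exact (fixC (h0.inC h h1.1 h1.2) h2.1 h2.2).symm
  by_cases h' : m' ∈ YY a b t
  · exact fixC (h0.inC h' h2.1 h2.2) h1.1 h1.2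
  have := fixC (h0.inC (h0.two hm hm' h h')
    (by calc _ = m * (m' * a * m'⁻¹) * m⁻¹ := by group
      _ = a := by rw [h2.1, h1.1])
    (by calc _ = m * (m' * (t * a * t⁻¹) * m'⁻¹) * m⁻¹ := by group
      _ = _ := by rw [h2.2, h1.2])) h1.1 h1.2
  rw [mul_assoc m m'] at this
  exact mul_left_cancel this

theorem transfer : ∃ g : G, g * (t * t) * g⁻¹ ∈ YY a b t ∧
    g * t * g⁻¹ ∈ (S : Subgroup G) ⊓ C1 z ∧ g * z * g⁻¹ ∈ (S : Subgroup G) ⊓ C1 z ∧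
    g * (z * (t * z * t⁻¹)) * g⁻¹ = z * (t * z * t⁻¹) := by
  have ζ2 := h0.sh.ζ2
  have h2 : ∀ u ∈ (S : Subgroup G), ∀ n : ℕ, IsConj ((t * t) ^ 2 ^ (n + 1)) u →
      u ∈ YY a b t := fun u hu n h => by
    rw [pow_succ', pow_mul, sq] at h
    rcases h0.v4 with e | e
    · rw [e, one_pow, isConj_one_right] at h
      exact h ▸ one_mem _
    · by_contra h1
      obtain ⟨g, rfl⟩ := isConj_iff.1 h
      refine h0.sh.ζ1 (e.symm.trans (h0.invY hu ?_ h1))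
      rw [conj_mul, ← (Commute.refl _).mul_pow, e, ζ2]
      simp
  obtain ⟨g, -, g1, g2⟩ := h0.cx.toCtx.tr2 (fun x hx y hy => h0.cmY hx hy) h0.vM.1 h2
    fun u hu w hw c1 c2 n1 n2 => by
      have key : ∀ u ∈ (S : Subgroup G), IsConj (t * t) u → u ∈ (S : Subgroup G) ⊓ C1 z :=
        fun u hu c => h0.f1 hu (h2 _ (mul_mem hu hu) 0 (by
          obtain ⟨g, rfl⟩ := isConj_iff.1 c
          rw [conj_mul, zero_add, pow_one, sq]
          exact isConj_iff.2 ⟨g, rfl⟩))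
      exact h0.two (key u hu c1) (key w hw c2) n1 n2
  have zS := h0.sh.dh.zH.1
  have m1 := h0.f1 (g2 t h0.sh.tS (mul_assoc t t t).symm) (by rwa [conj_mul])
  have m2 := h0.f1 (g2 z zS (mem_C1.1 h0.vM.2).symm)
    (by rw [conj_mul, h0.sh.dh.z2]; simp)
  refine ⟨g, g1, m1, m2, h0.toD2.v0B (h0.invV ?_ (by rw [conj_mul, ζ2]; simp))
    (isConj_iff.2 ⟨g, rfl⟩)⟩
  have := h0.cmC m1 m2
  rwa [← conjugate_commutatorElement, commutatorElement_def, inv_eq h0.sh.dh.z2,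
    ← h0.sh.zc'] at this

theorem v1 : t * t * (t * t) = 1 := by
  refine h0.v4.resolve_right fun e => ?_
  obtain ⟨g, -, m1, m2, hζ⟩ := h0.transfer
  obtain ⟨p, hp, q, hq, e1⟩ := h0.sqC m1
  have pD := aD (b := b) hp
  have qD := aD (b := b) hq
  have zD := aD (b := b) h0.sh.dh.za'
  have e2 : p * p * (t * (q * q) * t⁻¹) = z * (t * z * t⁻¹) := by
    have := h0.sh.com p pD q qD
    calc _ = p * (p * (t * q * t⁻¹)) * (t * q * t⁻¹) := by group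
      _ = p * (t * q * t⁻¹ * p) * (t * q * t⁻¹) := by rw [this]
      _ = p * (t * q * t⁻¹) * (p * (t * q * t⁻¹)) := by simp only [mul_assoc]
      _ = _ := by rw [← e1, conj_mul, conj_mul, e, hζ]
  obtain ⟨p2, q2⟩ := h0.sh.uniq (mul_mem pD pD) (mul_mem qD qD) zD zD e2
  have c1 := h0.cenA m1 hp hq (p2 ▸ h0.sh.dh.z1) (q2 ▸ h0.sh.dh.z1)
    (by rw [← e1]; simp only [mul_assoc])
  have c2 := h0.cenA m2 hp hq (p2 ▸ h0.sh.dh.z1) (q2 ▸ h0.sh.dh.z1)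
    (by rw [← e1, conj_mul, conj_mul, conj_mul, mem_C1.1 h0.vM.2])
  have := h0.abA m1 m2 c1 c2
  rw [conj_mul, conj_mul, mul_left_inj, mul_right_inj] at this
  exact h0.sh.tz this

/-- `S / Y` is not cyclic of order four -/
theorem false : False := by
  obtain ⟨g, g1, m1, -, hζ⟩ := h0.transfer
  have v2 := h0.v1
  have z2 := h0.sh.dh.z2
  have z2' := h0.sh.dh'.z2
  have zc := h0.sh.zc'
  have ζ2 := h0.sh.ζ2
  have zD := aD (b := b) h0.sh.dh.za'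
  have ζY : z * (t * z * t⁻¹) ∈ YY a b t := h0.sh.memY.2 ⟨z, zD, z, zD, rfl⟩
  have vζ : t * t * (z * (t * z * t⁻¹)) = z * (t * z * t⁻¹) * (t * t) :=
    (cs_comm h0.sh.ζc h0.vM.1).symm
  -- conjugates of `v` in `V0` under `C(ζ)`
  have key : ∀ h : G, h * (z * (t * z * t⁻¹)) * h⁻¹ = z * (t * z * t⁻¹) →
      h * (t * t) * h⁻¹ ∈ F4 z (t * z * t⁻¹) →
      h * (t * t) * h⁻¹ = z ∨ h * (t * t) * h⁻¹ = t * z * t⁻¹ := fun h e hh => by
    rcases (mem_F4 z2 z2' zc).1 hh with e1 | e1 | e1 | e1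
    · exact absurd (conj_eq_one_iff.1 e1 ▸ one_mem _) h0.tY
    · exact .inl e1
    · exact .inr e1
    · rw [← e, mul_left_inj, mul_right_inj] at e1
      exact absurd (e1 ▸ ζY) h0.tY
  have gv : g * (t * t) * g⁻¹ ∈ F4 z (t * z * t⁻¹) :=
    h0.invV (by rw [← conj_mul]; exact h0.sqC m1) (by rw [conj_mul, v2]; simp)
  have hcj : cj g (F4 (t * t) (z * (t * z * t⁻¹))) = F4 z (t * z * t⁻¹) := by
    rw [cj_sup, cj_zpowers, cj_zpowers, hζ]
    refine le_antisymm (K4_le gv (mul_mem (mem_sup_left (mem_zpowers _))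
      (mem_sup_right (mem_zpowers _)))) ?_
    have a1 : ∀ u : G, u ∈ F4 u (z * (t * z * t⁻¹)) := fun u => mem_sup_left (mem_zpowers u)
    have a2 : ∀ u : G, z * (t * z * t⁻¹) ∈ F4 u (z * (t * z * t⁻¹)) := fun u =>
      mem_sup_right (mem_zpowers _)
    rcases key g hζ gv with e | e <;> rw [e]
    · exact K4_le (a1 _) ((mul_mem_cancel_left (a1 _)).1 (a2 _))
    · exact K4_le ((mul_mem_cancel_right (a1 _)).1 (a2 _)) (a1 _)
  obtain ⟨e, he⟩ : ∃ e, e = a ^ 2 ^ k * (t * a ^ 2 ^ k * t⁻¹) := ⟨_, rfl⟩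
  have iA : a ^ 2 ^ k ∈ zpowers a := pow_mem (mem_zpowers a) _
  have eC : K4C a t e := ⟨_, iA, _, iA, he⟩
  have eS : e ∈ (S : Subgroup G) :=
    (h0.sh.YM (h0.sh.memY.2 ⟨_, aD iA, _, aD iA, he⟩)).1
  have e2 : e * e = z * (t * z * t⁻¹) := by
    have := h0.sh.com _ (aD iA) _ (aD iA)
    calc _ = a ^ 2 ^ k * (t * a ^ 2 ^ k * t⁻¹ * a ^ 2 ^ k) * (t * a ^ 2 ^ k * t⁻¹) := by
          simp only [he, mul_assoc]
      _ = a ^ 2 ^ k * a ^ 2 ^ k * (t * (a ^ 2 ^ k * a ^ 2 ^ k) * t⁻¹) := by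
          rw [← this]; simp [mul_assoc]
      _ = _ := by rw [h0.sh.dh.i2]
  have ve := h0.vinv eC
  have ev : e * (t * t) * e⁻¹ = z * (t * z * t⁻¹) * (t * t) := by
    calc _ = e * (t * t * e * (t * t)⁻¹)⁻¹ * (t * t) := by simp [mul_assoc]
      _ = _ := by rw [ve, inv_inv, e2]
  have eζ : e * (z * (t * z * t⁻¹)) = z * (t * z * t⁻¹) * e := by rw [← e2, mul_assoc]
  have hS : (S : Subgroup G) ≤ C1 (z * (t * z * t⁻¹)) ⊓ Ns (F4 z (t * z * t⁻¹)) := fun u hu => by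
    refine ⟨mem_C1.2 (cs_comm h0.sh.ζc hu).symm, mem_Ns_iff.2 ?_⟩
    rw [cj_sup, cj_zpowers, cj_zpowers]
    by_cases h : u * z = z * u
    · rw [(h0.sh.cz' hu).1 h, h, mul_inv_cancel_right, mul_inv_cancel_right]
    · rw [(h0.sh.swap hu h).2, (h0.sh.swap hu h).1, sup_comm]
  obtain ⟨c, hc, hR⟩ := ext_in (R := zpowers e) (sylIn hS)
    (mem_C1.2 (mul_inv_eq_iff_eq_mul.1 hζ)) hcj (S.isPGroup'.to_le (zpowers_le.2 eS))
    (zpowers_le.2 ⟨mem_C1.2 eζ, mem_normalizer_of_cj_le (by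
      rw [cj_sup, cj_zpowers, cj_zpowers, ev, eζ, mul_inv_cancel_right]
      exact K4_le (mul_mem (mem_sup_right (mem_zpowers _)) (mem_sup_left (mem_zpowers _)))
        (mem_sup_right (mem_zpowers _)))⟩)
  have hζ' : c * g * (z * (t * z * t⁻¹)) * (c * g)⁻¹ = z * (t * z * t⁻¹) := by
    calc _ = c * (g * (z * (t * z * t⁻¹)) * g⁻¹) * c⁻¹ := by group
      _ = _ := by rw [hζ, mem_C1.1 hc.1, mul_inv_cancel_right]
  have hv := key _ hζ' (by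
    rw [show c * g * (t * t) * (c * g)⁻¹ = c * (g * (t * t) * g⁻¹) * c⁻¹ by simp [mul_assoc]]
    exact mem_normalizer_conj hc.2 gv)
  have hM := h0.f1 (cj_le_iff.1 hR e (mem_zpowers e)) (by rw [conj_mul, e2, hζ']; exact ζY)
  have hcm : c * g * e * (c * g)⁻¹ * (c * g * (t * t) * (c * g)⁻¹) =
      c * g * (t * t) * (c * g)⁻¹ * (c * g * e * (c * g)⁻¹) := by
    rcases hv with h | h <;> rw [h]
    · exact mem_C1.1 hM.2
    · exact (h0.sh.cz' hM.1).1 (mem_C1.1 hM.2)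
  rw [conj_mul, conj_mul, mul_left_inj, mul_right_inj] at hcm
  rw [hcm, mul_inv_cancel_right, eq_comm, mul_eq_right] at ev
  exact h0.sh.ζ1 ev

end FZ

end Cfsg.Lib.GHN
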