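import Cfsg.Agent.GHN.D16
import Cfsg.Agent.S3104
import Cfsg.Agent.S3105
import Cfsg.Agent.S3106
import Cfsg.Agent.GHC.A5
import Cfsg.Agent.Block.BFBound
import Cfsg.Agent.Trans.Thompson
import Cfsg.Agent.Local.InvolCount
import Cfsg.Agent.Hom.TwoLocal

/-!
# An elementary abelian subgroup of order eight with transitive automizer
-/

set_option autoImplicit false

namespace Cfsg.Lib.GHN

open Subgroup Cfsg.Lib.Trans Cfsg.Lib.Gold Cfsg.Lib.Rank2
open scoped commutatorElement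

universe u

namespace L3x

theorem card16 :
    Nat.card {y : Multiplicative (ZMod 4) × (Fin 3 → Multiplicative (ZMod 2)) // y * y = 1} = 16 := by
  rw [Nat.card_eq_fintype_card]
  decide +kernel

variable {X : Type u} [Group X] [Finite X] {T W : Subgroup X}

theorem not_solv [W.Normal] (h3 : ∀ w ∈ W, w * w = 1) (h4 : Nat.card W = 8)
    (h5 : Nat.card T = 8 * Nat.card (T ⊓ Cs W : Subgroup X))
    (h6 : ∀ a ∈ W, ∀ b ∈ W, a ≠ 1 → b ≠ 1 → ∃ n, n * a * n⁻¹ = b) : ¬ Group.IsSolvable X := by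
  intro hs
  have : Fact (Nat.Prime 2) := ⟨Nat.prime_two⟩
  have hE : Homog.EA W := ⟨comm_of_sq h3, h3⟩
  have := hE.isSimpleGroup_mulAut h4.ge
  have : IsMulCommutative W := isMulCommutative_of_sq h3
  have : Solv.ElemAb 2 W := .of_subgroup fun a ha => by rw [pow_two, h3 a ha]
  have hc : Nat.card (MulAut W) = 168 := by
    rw [Solv.Vec.card_mulAut (p := 2) (n := 3) h4]
    decide
  set φ : X →* MulAut W := MulAut.conjNormal with hφ
  have hk : φ.ker = Cs W := by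
    ext g
    rw [MonoidHom.mem_ker, mem_Cs, MulEquiv.ext_iff]
    exact ⟨fun h w hw => (mul_inv_eq_iff_eq_mul.1 (congrArg Subtype.val (h ⟨w, hw⟩))).symm,
      fun h w => Subtype.ext (mul_inv_eq_iff_eq_mul.2 (h w w.2).symm)⟩
  have h8 : 8 ∣ Nat.card φ.range := by
    have e1 := card_mul_relIndex (inf_le_left : T ⊓ Cs W ≤ T)
    rw [inf_relIndex_left, h5, mul_comm 8, Nat.mul_right_inj Nat.card_pos.ne', ← hk,
      relIndex_ker] at e1
    exact e1 ▸ card_dvd_of_le (map_le_range φ T)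
  have h7 : 7 ∣ Nat.card φ.range := by
    have : Nontrivial W := Finite.one_lt_card_iff_nontrivial.1 (by omega)
    obtain ⟨w, hw⟩ := exists_ne (1 : W)
    have e1 := MulAction.index_stabilizer φ.range w
    have e2 : MulAction.orbit φ.range w = {1}ᶜ := by
      ext b
      constructor
      · rintro ⟨g, rfl⟩ e
        exact hw ((MulEquiv.map_eq_one_iff g.1).1 e)
      · intro hb
        obtain ⟨n, hn⟩ := h6 w w.2 b b.2 (fun e => hw (Subtype.ext e)) fun e => hb (Subtype.ext e)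
        exact ⟨⟨φ n, n, rfl⟩, Subtype.ext hn⟩
    rw [e2, Set.ncard_compl, h4, Set.ncard_singleton] at e1
    exact (show 7 = _ from e1.symm) ▸ index_dvd_card _
  obtain ⟨k, hk⟩ := Nat.Coprime.mul_dvd_of_dvd_of_dvd (by norm_num) h8 h7
  have e1 := φ.range.card_mul_index
  have e2 : φ.range = ⊤ := by
    by_contra hne
    have e3 := Local.card_dvd_factorial_index hne
    have e4 : φ.range.index ∣ 3 := ⟨k, by rw [hc, hk] at e1; linarith⟩
    rcases (Nat.dvd_prime Nat.prime_three).1 e4 with e | e <;> rw [hc, e] at e3 <;>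
      exact absurd e3 (by decide)
  have := Group.isSolvable_of_surjective (MonoidHom.range_eq_top.1 e2)
  have := IsSimpleGroup.comm_iff_isSolvable.2 this
  let _ : CommGroup (MulAut W) := { (inferInstance : Group (MulAut W)) with mul_comm := this }
  have := IsSimpleGroup.prime_card (α := MulAut W)
  rw [hc] at this
  exact absurd this (by norm_num)

theorem core [W.Normal] [hn : (T ⊓ Cs W).Normal] (hO : oddCore X = ⊥)
    (hr : SectionalPRankLE 2 4 X) (hT : IsSylowIn 2 T ⊤) (h3 : ∀ w ∈ W, w * w = 1)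
    (h4 : Nat.card W = 8) (h5 : Nat.card T = 8 * Nat.card (T ⊓ Cs W : Subgroup X))
    (h6 : ∀ a ∈ W, ∀ b ∈ W, a ≠ 1 → b ≠ 1 → ∃ n, n * a * n⁻¹ = b)
    (h7 : ∀ x ∈ T ⊓ Cs W, x ∈ Cs (T ⊓ Cs W) → x * x = 1 → x ∈ W) : T ⊓ Cs W ≤ W := by
  have : Fact (Nat.Prime 2) := ⟨Nat.prime_two⟩
  have ns := not_solv h3 h4 h5 h6
  have hP := Solv.pCore_isPGroup 2 X
  have nrm : ∀ {Q : Subgroup X} [Q.Normal], IsPGroup 2 Q → Q ≤ T := fun hQ =>
    hT.le_of_normal hQ le_top (by rw [normalizer_eq_top])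
  have hW : W ≤ T ⊓ Cs W := le_inf (nrm (isPGroup_of_sq h3)) (le_Cs_of_sq h3 le_rfl)
  have hC : Cs (T ⊓ Cs W) ≤ T ⊓ Cs W := le_inf (nrm (Block.BF.isPGroup_of_central hO
    fun y hy ⟨k, hk⟩ c hc => by
      obtain ⟨g, -, hg⟩ := hT.exists_cj_le (isPGroup_zpowers_two (x := y) (k := k)
        (by rw [← hk, pow_orderOf_eq_one])) le_top
      have e1 : g * y * g⁻¹ ∈ T ⊓ Cs W := ⟨cj_le_iff.1 hg y (mem_zpowers y),
        Cs_anti hW (Normal.conj_mem inferInstance y hy g)⟩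
      have e2 := hn.conj_mem' _ e1 g
      rw [show g⁻¹ * (g * y * g⁻¹) * g = y by group] at e2
      exact (mem_Cs.1 hc y e2).symm)) (Cs_anti hW)
  have hQ : pCore 2 X = T ⊓ Cs W := by
    refine le_antisymm (le_inf (nrm hP) ?_)
      (le_sSup ⟨hn, hT.isPGroup.to_le inf_le_left⟩)
    have hW' : W ≤ pCore 2 X := le_sSup ⟨inferInstance, isPGroup_of_sq h3⟩
    obtain ⟨y, hy, hz, h1, -⟩ := exists_mem_center_pow_eq_one hP (W.subgroupOf (pCore 2 X)) (by
      rw [Ne, subgroupOf_eq_bot, disjoint_iff, inf_eq_left.2 hW']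
      rintro rfl
      simp at h4)
    intro p hp
    refine mem_Cs.2 fun b hb => ?_
    by_cases e : b = 1
    · simp [e]
    obtain ⟨n, rfl⟩ := h6 y hy b hb (fun k => h1 (Subtype.ext k)) e
    have e1 : n⁻¹ * p * n * y = y * (n⁻¹ * p * n) := congrArg Subtype.val
      (mem_center_iff.1 hz ⟨_, (pCore_normal 2 X).conj_mem' p hp n⟩)
    calc _ = n * (y * (n⁻¹ * p * n)) * n⁻¹ := by group
      _ = _ := by rw [← e1]; group
  have hc : IsPConstrained 2 X :=
    (Solv.isPConstrained_iff_of_pPrimeCore_eq_bot hO).2 (by rw [hQ]; exact hC)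
  have el : IsElementaryAbelian 2 (pCore 2 X) → T ⊓ Cs W ≤ W := fun h x hx => by
    have e : ∀ a ∈ T ⊓ Cs W, a * a = 1 := fun a ha => by rw [← pow_two]; exact h.2 a (hQ.ge ha)
    exact h7 x hx (le_Cs_of_sq e le_rfl hx) (e x hx)
  rcases (Agent.S3104.result ns hc hO (Solv.PG.secRank_subgroup hr _)).1 with
    ⟨F, _, _, hF, e⟩ | hA
  · rcases Agent.S3105.result ns hc hO hr hF e with h | ⟨⟨φ⟩⟩
    · exact el h.1
    exfalso
    have e1 := card16
    have e2 : ∀ y : Multiplicative (ZMod 4) × (Fin 3 → Multiplicative (ZMod 2)), y * y = 1 →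
        (φ.symm y : X) ∈ W := fun y hy => h7 _ (hQ.le (φ.symm y).2) (mem_Cs.2 fun a ha =>
          congrArg Subtype.val (φ.injective (a₁ := ⟨a, hQ.ge ha⟩ * φ.symm y)
            (a₂ := φ.symm y * ⟨a, hQ.ge ha⟩) (by rw [map_mul, map_mul, mul_comm])))
      (by rw [← coe_mul, ← map_mul, hy, map_one, coe_one])
    have e3 := Nat.card_le_card_of_injective
      (fun y : {y : Multiplicative (ZMod 4) × (Fin 3 → Multiplicative (ZMod 2)) // y * y = 1} =>
        (⟨φ.symm y.1, e2 y.1 y.2⟩ : W)) fun a b e =>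
      Subtype.ext (φ.symm.injective (Subtype.ext (congrArg Subtype.val e :)))
    omega
  · rcases Agent.S3106.result ns hc hO hr (GHC.exists_A5 hA) with h | ⟨-, A, B, ⟨e⟩, -, -, -, h⟩
    · exact el h.1
    exfalso
    have e1 : ∀ w : W, (⟨w, hQ.ge (hW w.2)⟩ : pCore 2 X) ∈ A := fun w =>
      (h.ge (mem_center_iff.2 fun g => Subtype.ext (mem_Cs.1 (hQ.le g.2).2 w w.2).symm)).1
    have e2 := Nat.card_le_card_of_injective
      (fun w : W => (⟨e ⟨_, e1 w⟩, by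
        rw [← map_mul, ← map_one e]
        exact congrArg e (Subtype.ext (Subtype.ext (h3 w w.2)))⟩ :
          {y : QuaternionGroup 2 // y * y = 1})) fun a b k =>
      Subtype.ext (congrArg (fun t : A => (t : X)) (e.injective (congrArg Subtype.val k)) :)
    have e3 : Nat.card {y : QuaternionGroup 2 // y * y = 1} = 2 := by
      rw [Nat.card_eq_fintype_card]
      decide +kernel
    omega

theorem quot [W.Normal] [hn : (T ⊓ Cs W).Normal] (hr : SectionalPRankLE 2 4 X)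
    (hT : IsSylowIn 2 T ⊤) (h1 : W ≤ T) (h3 : ∀ w ∈ W, w * w = 1)
    (h4 : Nat.card W = 8) (h5 : Nat.card T = 8 * Nat.card (T ⊓ Cs W : Subgroup X))
    (h6 : ∀ a ∈ W, ∀ b ∈ W, a ≠ 1 → b ≠ 1 → ∃ n, n * a * n⁻¹ = b)
    (h7 : ∀ x ∈ T ⊓ Cs W, x ∈ Cs (T ⊓ Cs W) → x * x = 1 → x ∈ W) : T ⊓ Cs W ≤ W := by
  have : Fact (Nat.Prime 2) := ⟨Nat.prime_two⟩
  set π := QuotientGroup.mk' (oddCore X) with hπ
  have hs : Function.Surjective π := QuotientGroup.mk'_surjective _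
  have hk : T ⊓ π.ker = ⊥ := by
    rw [hπ, QuotientGroup.ker_mk']
    exact inf_eq_bot_of_odd hT.isPGroup (odd_iff_coprime.2 (Solv.coprime_card_pPrimeCore 2 X))
  have inj : ∀ a ∈ T, ∀ b ∈ T, π a = π b → a = b := fun a ha b hb e =>
    mul_inv_eq_one.1 (mem_bot.1 (hk.le (mem_inf.2 ⟨mul_mem ha (inv_mem hb), by
      rw [MonoidHom.mem_ker, map_mul, map_inv, e, mul_inv_cancel]⟩)))
  have cd : ∀ U ≤ T, Nat.card (U.map π) = Nat.card U := fun U hU =>
    TJ.card_map_of_injOn (eq_bot_iff.2 ((inf_le_inf_right _ hU).trans hk.le))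
  have cs : ∀ U ≤ T, ∀ t ∈ T, π t ∈ Cs (U.map π) ↔ t ∈ Cs U := fun U hU t ht =>
    ⟨fun h => mem_Cs.2 fun a ha => inj _ (mul_mem (hU ha) ht) _ (mul_mem ht (hU ha)) (by
      rw [map_mul, map_mul]; exact mem_Cs.1 h _ (mem_map_of_mem π ha)), fun h => mem_Cs.2 (by
      rintro _ ⟨a, ha, rfl⟩
      rw [← map_mul, ← map_mul, mem_Cs.1 h a ha])⟩
  have e1 : T.map π ⊓ Cs (W.map π) = (T ⊓ Cs W).map π := by
    ext x
    constructor
    · rintro ⟨⟨t, ht, rfl⟩, h⟩
      exact ⟨t, ⟨ht, (cs W h1 t ht).1 h⟩, rfl⟩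
    · rintro ⟨t, ⟨ht, h⟩, rfl⟩
      exact ⟨⟨t, ht, rfl⟩, (cs W h1 t ht).2 h⟩
  have : (W.map π).Normal := Normal.map inferInstance π hs
  have : (T.map π ⊓ Cs (W.map π)).Normal := e1 ▸ hn.map π hs
  have e2 := core (T := T.map π) (W := W.map π) (Solv.pPrimeCore_quotient_pPrimeCore 2 X)
    (Solv.PG.secRank_quotient hr _) (by simpa [map_top_of_surjective π hs] using hT.map π) (by
      rintro _ ⟨w, hw, rfl⟩
      rw [← map_mul, h3 w hw, map_one]) ((cd W h1).trans h4)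
    (by rw [e1, cd T le_rfl, cd _ inf_le_left, h5]) (by
      rintro _ ⟨a, ha, rfl⟩ _ ⟨b, hb, rfl⟩ a1 b1
      obtain ⟨n, rfl⟩ := h6 a ha b hb (fun e => a1 (by rw [e, map_one])) fun e => b1 (by rw [e, map_one])
      exact ⟨π n, by simp only [map_mul, map_inv]⟩) (by
      rw [e1]
      rintro _ ⟨x, hx, rfl⟩ k k'
      exact mem_map_of_mem π (h7 x hx ((cs _ inf_le_left x hx.1).1 k)
        (inj _ (mul_mem hx.1 hx.1) _ (one_mem _) (by rw [map_mul, k', map_one]))))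
  intro x hx
  obtain ⟨w, hw, e⟩ := e2 (e1.ge (mem_map_of_mem π hx))
  exact inj _ (h1 hw) _ hx.1 e ▸ hw

end L3x

variable {G : Type u} [Group G] [Finite G] {S : Sylow 2 G} {W : Subgroup G}

theorem Ctx.l3 (h : Ctx S) (h1 : W ≤ S) (h2 : (S : Subgroup G) ≤ Ns W) (h3 : ∀ w ∈ W, w * w = 1)
    (h4 : Nat.card W = 8)
    (h5 : Nat.card (S : Subgroup G) = 8 * Nat.card ((S : Subgroup G) ⊓ Cs W : Subgroup G))
    (h6 : ∀ a ∈ W, ∀ b ∈ W, a ≠ 1 → b ≠ 1 →
      ∃ n ∈ Ns W ⊓ Ns ((S : Subgroup G) ⊓ Cs W), n * a * n⁻¹ = b)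
    (h7 : ∀ x ∈ (S : Subgroup G) ⊓ Cs W, x ∈ Cs ((S : Subgroup G) ⊓ Cs W) → x * x = 1 → x ∈ W) :
    (S : Subgroup G) ⊓ Cs W ≤ W := by
  have : Fact (Nat.Prime 2) := ⟨Nat.prime_two⟩
  set H := Ns W ⊓ Ns ((S : Subgroup G) ⊓ Cs W) with hH
  have hS : (S : Subgroup G) ≤ H := le_inf h2 (le_Ns_inf le_normalizer (le_Ns_Cs h2))
  have cs : ∀ U ≤ H, Cs (U.subgroupOf H) = (Cs U).subgroupOf H := fun U hU => by
    ext x
    exact ⟨fun k => mem_Cs.2 fun a ha => congrArg Subtype.val (mem_Cs.1 k ⟨a, hU ha⟩ ha),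
      fun k => mem_Cs.2 fun a ha => Subtype.ext (mem_Cs.1 k a ha)⟩
  have cd : ∀ U ≤ H, Nat.card (U.subgroupOf H) = Nat.card U := fun U hU =>
    Nat.card_congr (subgroupOfEquivOfLe hU).toEquiv
  have e1 : (S : Subgroup G).subgroupOf H ⊓ Cs (W.subgroupOf H) =
      ((S : Subgroup G) ⊓ Cs W).subgroupOf H := by rw [cs W (h1.trans hS)]; rfl
  have : (W.subgroupOf H).Normal := normal_subgroupOf_of_le_normalizer inf_le_left
  have : ((S : Subgroup G).subgroupOf H ⊓ Cs (W.subgroupOf H)).Normal :=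
    e1 ▸ normal_subgroupOf_of_le_normalizer inf_le_right
  have e2 := L3x.quot (T := (S : Subgroup G).subgroupOf H) (W := W.subgroupOf H)
    (Solv.PG.secRank_subgroup h.r4 H) (isSylowIn_of_le S hS).subgroupOf_top (fun _ k => h1 k)
    (fun w hw => Subtype.ext (h3 w hw)) ((cd W (h1.trans hS)).trans h4)
    (by rw [e1, cd _ hS, cd _ (inf_le_left.trans hS), h5]) (fun a ha b hb a1 b1 => by
      obtain ⟨n, hn, e⟩ := h6 a ha b hb (fun e => a1 (Subtype.ext e)) fun e => b1 (Subtype.ext e)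
      exact ⟨⟨n, hn⟩, Subtype.ext e⟩) (by
      rw [e1, cs _ (inf_le_left.trans hS)]
      exact fun x hx k k' => h7 x hx k (congrArg Subtype.val k'))
  rw [e1] at e2
  exact fun x hx => e2 (x := ⟨x, hS hx.1⟩) hx

end Cfsg.Lib.GHN
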