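import Cfsg.Agent.GHN.D2a

/-!
# Simple groups of sectional 2-rank at most four: the normal form with a four-group on top
-/

set_option autoImplicit false

namespace Cfsg.Lib.GHN

open Subgroup Cfsg.Lib.Trans Cfsg.Lib.Gold Cfsg.Lib.Rank2 Cfsg.Lib.GHB
open scoped commutatorElement

universe u

variable {G : Type u} [Group G] [Finite G] {S : Sylow 2 G} {H K M P Q T : Subgroup G}
  {a b d m r s t x y z : G} {k : ℕ}

namespace NfV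

omit [Finite G] in
theorem cm_phi (hx : x ∈ Q) (hy : y ∈ Q) : x * y * x⁻¹ * y⁻¹ ∈ Phi Q := by
  have := mul_mem (mul_mem (sq_mem_Phi (mul_mem hx hy))
    (sq_mem_Phi (mul_mem (mul_mem (inv_mem hy) (inv_mem hx)) hy))) (inv_mem (sq_mem_Phi hy))
  convert this using 1
  group

omit [Finite G] in
theorem cm_cs (hx : x ∈ Ns Q) (hy : y ∈ Cs Q) : ⁅x, y⁆ ∈ Cs Q :=
  mul_mem (cs_ns hy hx) (inv_mem hy)

/-- The subgroup of the elements acting evenly on the reflections. -/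
structure PK (H : Subgroup G) (a b : G) (K : Subgroup G) : Prop where
  le : Dl a b ≤ K
  idx : Local.IdxLeTwo K H
  par : ∀ g ∈ H, ∀ l : ℤ, g * b * g⁻¹ = a ^ l * b → (g ∈ K ↔ Even l)

theorem exPK (h0 : Dh H k a b z) : ∃ K, PK H a b K :=
  let ⟨K, _, h2, h3, h4⟩ := h0.par
  ⟨K, h2, h3, fun g hg l => h4 g hg b ⟨0, by simp⟩ l⟩

/-- `r` is odd on the first factor and even on the second. -/
def Ty (M K : Subgroup G) (t r : G) : Prop := r ∈ M ∧ r ∉ K ∧ t⁻¹ * r * t ∈ K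

omit [Finite G] in
theorem aD : a ∈ Dl a b := mem_sup_left (mem_zpowers _)

omit [Finite G] in
theorem bD : b ∈ Dl a b := mem_sup_right (mem_zpowers _)

omit [Finite G] in
theorem DY (hy : y ∈ Dl a b) : y ∈ YY a b t := mem_sup_left hy

omit [Finite G] in
theorem DY' (hy : y ∈ Dl a b) : t * y * t⁻¹ ∈ YY a b t := mem_sup_right (conj_mem_cj.2 hy)

omit [Finite G] in
theorem rc_of (h1 : r * (t * a * t⁻¹) = t * a * t⁻¹ * r) (h2 : r * (t * b * t⁻¹) = t * b * t⁻¹ * r) :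
    ∀ y ∈ Dl a b, r * (t * y * t⁻¹) = t * y * t⁻¹ * r := fun y hy => by
  have : Dl a b ≤ cj t⁻¹ (C1 r) := sup_le (zpowers_le.2 (mem_cj_inv.2 (mem_C1.2 h1.symm)))
    (zpowers_le.2 (mem_cj_inv.2 (mem_C1.2 h2.symm)))
  exact (mem_C1.1 (mem_cj_inv.1 (this hy))).symm

omit [Finite G] in
theorem cjF4 : cj t (Dl z b) = F4 (t * z * t⁻¹) (t * b * t⁻¹) := by
  rw [cj_sup, cj_zpowers, cj_zpowers]

omit [Finite G] in
theorem tt (t2 : t * t = 1) (x : G) : t * (t * x * t⁻¹) * t⁻¹ = x := by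
  calc _ = (t * t) * x * (t * t)⁻¹ := by group
    _ = x := by rw [t2]; simp

omit [Finite G] in
theorem cmul (t x y : G) : t * (x * y) * t⁻¹ = t * x * t⁻¹ * (t * y * t⁻¹) := by group

section sh

variable (h0 : Sh T k a b z t) (hK : PK (T ⊓ C1 z) a b K)
include h0

theorem cjM (hm : m ∈ T ⊓ C1 z) : t * m * t⁻¹ ∈ T ⊓ C1 z := mem_normalizer_conj (h0.nM h0.tS) hm

theorem cjM' (hm : m ∈ T ⊓ C1 z) : t⁻¹ * m * t ∈ T ⊓ C1 z := mem_normalizer_conj' (h0.nM h0.tS) hm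

theorem tM : t ∉ T ⊓ C1 z := fun h => h0.tz (mem_C1.1 h.2)

/-- the commutator centralises both factors -/
theorem cm_rr (t2 : t * t = 1) (hr : r ∈ T ⊓ C1 z)
    (rc : ∀ y ∈ Dl a b, r * (t * y * t⁻¹) = t * y * t⁻¹ * r) :
    ⁅r, t * r * t⁻¹⁆ ∈ Cs (YY a b t) ∧ t * ⁅r, t * r * t⁻¹⁆ * t⁻¹ = ⁅r, t * r * t⁻¹⁆⁻¹ := by
  have h1 : r ∈ Cs (cj t (Dl a b)) := cs_of (by rintro _ ⟨y, hy, rfl⟩; exact rc y hy)
  have h2 : t * r * t⁻¹ ∈ Cs (Dl a b) := by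
    rw [← h0.ttD, ← cj_Cs]; exact conj_mem_cj.2 h1
  have h3 : r ∈ Ns (Dl a b) := h0.dh.nrm hr
  have h4 : t * r * t⁻¹ ∈ Ns (cj t (Dl a b)) := by rw [← cj_Ns]; exact conj_mem_cj.2 h3
  refine ⟨le_Cs_comm.1 (sup_le (le_Cs_comm.1 (zpowers_le.2 (cm_cs h3 h2)))
    (le_Cs_comm.1 (zpowers_le.2 ?_))) (mem_zpowers _), ?_⟩
  · rw [← commutatorElement_inv]
    exact inv_mem (cm_cs h4 h1)
  · rw [commutatorElement_inv, ← MulAut.conj_apply, map_commutatorElement]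
    simp only [MulAut.conj_apply, tt t2]

include hK

theorem typ' (hm : m ∈ T ⊓ C1 z) : m ∈ YY a b t ↔ m ∈ K ∧ t⁻¹ * m * t ∈ K := by
  obtain ⟨l, h1⟩ := h0.dh.cb m hm
  obtain ⟨l', h2⟩ := h0.dh.cb _ (cjM' h0 hm)
  rw [hK.par _ hm _ h1, hK.par _ (cjM' h0 hm) _ h2]
  exact h0.typ hm.1 (mem_C1.1 hm.2) h1 (by rw [← h2]; group)

theorem Ty.mul (hr : Ty (T ⊓ C1 z) K t r) (hy : y ∈ YY a b t) : Ty (T ⊓ C1 z) K t (r * y) := by
  have h1 := (typ' h0 hK (h0.YM hy)).1 hy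
  refine ⟨mul_mem hr.1 (h0.YM hy), fun h => hr.2.1 ((mul_mem_cancel_right h1.1).1 h), ?_⟩
  convert mul_mem hr.2.2 h1.2 using 1
  group

theorem Ty.sq (hr : Ty (T ⊓ C1 z) K t r) : r * r ∈ YY a b t := by
  refine (typ' h0 hK (mul_mem hr.1 hr.1)).2 ⟨hK.idx.mul_self_mem hr.1, ?_⟩
  convert mul_mem hr.2.2 hr.2.2 using 1
  group

theorem Ty.act (hr : Ty (T ⊓ C1 z) K t r) :
    ∃ κ l : ℤ, Odd l ∧ r * a * r⁻¹ = a ^ κ ∧ r * b * r⁻¹ = a ^ l * b := by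
  obtain ⟨κ, l, -, h1, h2⟩ := h0.dh.act hr.1
  exact ⟨κ, l, Int.not_even_iff_odd.1 fun h => hr.2.1 ((hK.par _ hr.1 _ h2).2 h), h1, h2⟩

theorem stept (hr : Ty (T ⊓ C1 z) K t r) :
    ∃ t' ∈ T, t' * z ≠ z * t' ∧ t' * t' = 1 ∧ Ty (T ⊓ C1 z) K t' r := by
  have h1 : t * t ∈ T ⊓ C1 z := h0.idx.mul_self_mem h0.tS
  obtain ⟨x, h2, h3, h4⟩ : ∃ x ∈ T, x ∉ T ⊓ C1 z ∧ x * x ∈ YY a b t := by
    by_cases h5 : t * t ∈ K
    · exact ⟨t, h0.tS, tM h0, (typ' h0 hK h1).2 ⟨h5, by simpa using h5⟩⟩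
    have h6 := mul_mem h0.tS hr.1.1
    refine ⟨t * r, h6, fun h => tM h0 ((mul_mem_cancel_right hr.1).1 h),
      (typ' h0 hK (h0.idx.mul_self_mem h6)).2 ⟨?_, ?_⟩⟩
    · have := hK.idx _ (mul_mem h1 (cjM' h0 hr.1)) _ hr.1
        (fun h => h5 ((mul_mem_cancel_right hr.2.2).1 h)) hr.2.1
      convert this using 1
      group
    · have := hK.idx _ (mul_mem hr.1 (mul_mem (mul_mem h1 (cjM' h0 hr.1)) (inv_mem h1))) _ h1
        (fun h => hr.2.1 ((mul_mem_cancel_right (hK.idx.conj_mem h1 (cjM' h0 hr.1) hr.2.2)).1 h)) h5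
      convert this using 1
      group
  obtain ⟨δ, h5, h6⟩ := h0.exists_t2 h2 (fun h => h3 ⟨h2, mem_C1.2 h⟩) h4
  have h7 := h0.dh.le h5
  have h8 : δ * x ∉ T ⊓ C1 z := fun h => h3 ((mul_mem_cancel_left h7).1 h)
  have h9 := mul_mem h7.1 h2
  refine ⟨δ * x, h9, fun h => h8 ⟨h9, mem_C1.2 h⟩, h6, hr.1, hr.2.1, ?_⟩
  have := hK.idx.conj_mem (inv_mem (h0.idx _ (inv_mem h0.tS) _ h9
    (fun h => tM h0 (inv_mem_iff.1 h)) h8)) (cjM' h0 hr.1) hr.2.2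
  convert this using 1
  group

theorem stepb (hr : Ty (T ⊓ C1 z) K t r) :
    ∃ r, Ty (T ⊓ C1 z) K t r ∧ r * (t * b * t⁻¹) = t * b * t⁻¹ * r := by
  have h1 := inv_mem (cjM' h0 hr.1)
  obtain ⟨l, h2⟩ := h0.dh.cb _ h1
  obtain ⟨j, rfl⟩ := (hK.par _ h1 _ h2).1 (inv_mem hr.2.2)
  refine ⟨_, hr.mul h0 hK (DY' (zpow_mem aD j)), ?_⟩
  have h3 : b * a ^ j * b⁻¹ = (a ^ j)⁻¹ := by rw [← conj_zpow, h0.dh.ba, inv_zpow]
  calc _ = r * t * (a ^ j * b) * t⁻¹ := by group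
    _ = r * t * (a ^ (j + j) * b * (b⁻¹ * (a ^ j)⁻¹ * b)) * t⁻¹ := by group
    _ = _ := by rw [← h2, ← h3]; group

end sh

variable (h0 : D2 S P d s z b a t k) (hK : PK ((S : Subgroup G) ⊓ C1 z) a b K) (t2 : t * t = 1)
  (hr : Ty ((S : Subgroup G) ⊓ C1 z) K t r)
include h0 hK t2 hr

theorem fin {l : ℤ} (hl : Odd l) (r2 : r * r = a ^ l)
    (br : b * r * b⁻¹ = r⁻¹ ∨ (1 ≤ k ∧ b * r * b⁻¹ = r⁻¹ * z))
    (rc : ∀ y ∈ Dl a b, r * (t * y * t⁻¹) = t * y * t⁻¹ * r)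
    (rr : r * (t * r * t⁻¹) = t * r * t⁻¹ * r ∨ (1 ≤ k ∧ ⁅r, t * r * t⁻¹⁆ = z * (t * z * t⁻¹))) :
    FV S P d s z b (a ^ l) t r k := by
  have e := (h0.sh.dh.repow hl).2.2.1
  refine ⟨h0.repow hl, t2, hr.1.1, r2, br, fun y hy => rc y (e ▸ hy), rr, fun m h1 h2 => ?_⟩
  have hm : m ∈ (S : Subgroup G) ⊓ C1 z := ⟨h1, mem_C1.2 h2⟩
  have hr' := cjM h0.sh hr.1
  have e1 : t⁻¹ * r * t = t * r * t⁻¹ := by rw [inv_eq t2]
  have e2 : ∀ x y, t⁻¹ * (x * y) * t = t⁻¹ * x * t * (t⁻¹ * y * t) := fun x y => by group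
  have e3 : t⁻¹ * (t * r * t⁻¹) * t = r := by group
  have hm' := cjM' h0.sh hm
  have i := @hK.idx.mul_mem_iff
  have A := hr.2.1
  have B := hr.2.2
  rw [e1] at B
  rw [show YY (a ^ l) b t = YY a b t from congrArg (fun D => D ⊔ cj t D) e, typ' h0.sh hK hm,
    typ' h0.sh hK (mul_mem hr.1 hm), typ' h0.sh hK (mul_mem hr' hm),
    typ' h0.sh hK (mul_mem (mul_mem hr.1 hr') hm), e2 r, e2 (t * r * t⁻¹), e2 (r * _), e2 r, e1, e3,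
    i hr.1 hm, i hr' hm', i hr' hm, i hr.1 hm', i (mul_mem hr.1 hr') hm, i hr.1 hr',
    i (mul_mem hr' hr.1) hm', i hr' hr.1, iff_true_intro B, iff_false_intro A]
  generalize (m ∈ K) = p
  generalize (t⁻¹ * m * t ∈ K) = q
  by_cases p <;> by_cases q <;> simp [*]


end NfV

namespace NfV

variable (h0 : D2 S P d s z b a t 0) (hK : PK ((S : Subgroup G) ⊓ C1 z) a b K) (t2 : t * t = 1)
  (hr : Ty ((S : Subgroup G) ⊓ C1 z) K t r) (rb : r * (t * b * t⁻¹) = t * b * t⁻¹ * r)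
include h0

theorem az : a = z := by simpa using h0.sh.dh.za

include hK hr

theorem rb0 : r * b * r⁻¹ = z * b := by
  obtain ⟨κ, l, ⟨j, rfl⟩, -, h1⟩ := hr.act h0.sh hK
  rw [h1, az h0, zpow_add, zpow_mul, zpow_two, h0.sh.dh.z2]
  simp

theorem cen0 (hy : y ∈ Dl a b) (h1 : r * y = y * r) : y = 1 ∨ y = z := by
  have h2 := rb0 h0 hK hr
  have h3 : r * b ≠ b * r := fun h => h0.vf.z1 (by
    rwa [h, mul_inv_cancel_right, right_eq_mul] at h2)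
  rw [az h0] at hy
  rcases (mem_F4 h0.vf.z2 h0.vf.b2 h0.vf.zb).1 hy with h | h | rfl | rfl
  exacts [.inl h, .inr h, absurd h1 h3, absurd (mul_left_cancel (a := z) (by
    rw [← mul_assoc, ← mem_C1.1 hr.1.2, mul_assoc, h1, mul_assoc])) h3]

include rb

theorem rc0 : ∀ y ∈ Dl a b, r * (t * y * t⁻¹) = t * y * t⁻¹ * r :=
  rc_of (by rw [az h0]; exact (h0.sh.cz' hr.1.1).1 (mem_C1.1 hr.1.2)) rb

theorem sq0 : r * r = 1 ∨ r * r = z := by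
  obtain ⟨y₁, h1, y₂, h2, h3⟩ := h0.sh.memY.1 (hr.sq h0.sh hK)
  have h4 := cen0 h0 hK hr h1 (h0.sh.split hr.1.1 (mem_C1.1 hr.1.2) h1 h2
    (by rw [← h3, mul_assoc])).1
  obtain ⟨P', d', s', h5⟩ := h0.symm
  have h6 : r ∈ P' := (h5.vf.mem r hr.1.1).2 ⟨(h0.sh.cz' hr.1.1).1 (mem_C1.1 hr.1.2), rb⟩
  have h7 : b ∈ P' := (h5.vf.mem b h0.sh.dh.bH.1).2 ⟨h0.sh.com _ bD _ (az h0 ▸ aD),
    h0.sh.com _ bD _ bD⟩
  have h8 := cm_phi h6 h7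
  rw [rb0 h0 hK hr, mul_inv_cancel_right] at h8
  have h9 : y₁ ∈ Phi P' := by
    rcases h4 with h | h <;> rw [h]
    exacts [one_mem _, h8]
  have h10 := (mul_mem_cancel_left h9).1 (h3 ▸ sq_mem_Phi h6)
  have h11 : t * y₂ * t⁻¹ ∈ F4 (t * z * t⁻¹) (t * b * t⁻¹) := by
    rw [← cjF4, conj_mem_cj, ← az h0]
    exact h2
  rwa [h3, h5.vf.fix4 h11 (h5.vf.phi h10), mul_one]

theorem fin0 (t2 : t * t = 1) (r2 : r * r = z) (rr : r * (t * r * t⁻¹) = t * r * t⁻¹ * r) :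
    FV S P d s z b (a ^ (1 : ℤ)) t r 0 := by
  refine fin h0 hK t2 hr odd_one (by rw [r2, az h0, zpow_one]) (.inl ?_) (rc0 h0 hK hr rb) (.inl rr)
  have h1 := rb0 h0 hK hr
  calc _ = (r * r)⁻¹ * (r * r * b * r) * b⁻¹ := by group
    _ = (r * r)⁻¹ * (r * b) * b⁻¹ := by rw [mul_inv_eq_iff_eq_mul.1 h1, ← r2]
    _ = _ := by group

theorem cm0 (t2 : t * t = 1) (r2 : r * r = z) :
    ⁅r, t * r * t⁻¹⁆ = 1 ∨ ⁅r, t * r * t⁻¹⁆ = z * (t * z * t⁻¹) := by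
  obtain ⟨h1, h2⟩ := cm_rr h0.sh t2 hr.1 (rc0 h0 hK hr rb)
  have hr' := cjM h0.sh hr.1
  have hc : ⁅r, t * r * t⁻¹⁆ ∈ (S : Subgroup G) ⊓ C1 z :=
    mul_mem (mul_mem (mul_mem hr.1 hr') (inv_mem hr.1)) (inv_mem hr')
  have h3 : t * r * t⁻¹ * r * (t * r * t⁻¹)⁻¹ = ⁅r, t * r * t⁻¹⁆⁻¹ * r := by
    rw [commutatorElement_def]; group
  have h4 : t * r * t⁻¹ * z = z * (t * r * t⁻¹) := mem_C1.1 hr'.2
  generalize ⁅r, t * r * t⁻¹⁆ = c at h1 h2 h3 hc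
  have h5 := h0.sh.cent b b ⟨0, by simp⟩ ⟨0, by simp⟩ c hc.1 (mem_C1.1 hc.2)
    (cs_comm h1 (DY bD)) (cs_comm h1 (DY' bD))
  rw [← cjF4, ← az h0] at h5
  obtain ⟨y₁, a1, y₂, a2, e⟩ := h0.sh.memY.1 h5
  have sq : ∀ y ∈ Dl a b, y * y = 1 := fun y hy => by
    rw [az h0] at hy
    rcases (mem_F4 h0.vf.z2 h0.vf.b2 h0.vf.zb).1 hy with h | h | h | h <;> rw [h]
    exacts [mul_one _, h0.vf.z2, h0.vf.b2,
      by rw [mul_assoc, ← mul_assoc b, ← h0.vf.zb, mul_assoc, h0.vf.b2, mul_one, h0.vf.z2]]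
  have h6 : c * c = 1 := by
    rw [e, mul_assoc, ← mul_assoc _ y₁, ← h0.sh.com _ a1 _ a2, mul_assoc, conj_mul, sq _ a2,
      ← mul_assoc, sq _ a1]
    simp
  rw [inv_eq h6] at h2 h3
  have h7 : c * r * (c * r) = r * r := by rw [← h3, conj_mul, r2, h4, mul_inv_cancel_right]
  have h8 : r * c = c * r := by
    calc _ = c⁻¹ * (c * r * (c * r)) * r⁻¹ := by group
      _ = _ := by rw [h7, inv_eq h6]; group
  rw [e] at h2 h8
  rw [← conj_mul, tt t2, ← h0.sh.com _ a2 _ a1] at h2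
  rw [e, (h0.sh.uniq a2 a1 a1 a2 h2).1]
  rcases cen0 h0 hK hr a1 (h0.sh.split hr.1.1 (mem_C1.1 hr.1.2) a1 a2 h8).1 with h | h <;> simp [h]

omit hr rb in
theorem case0 (t2 : t * t = 1) (hr : Ty ((S : Subgroup G) ⊓ C1 z) K t r) :
    ∃ a' r', FV S P d s z b a' t r' 0 := by
  obtain ⟨r, hr, rb, r2⟩ : ∃ r, Ty ((S : Subgroup G) ⊓ C1 z) K t r ∧
      r * (t * b * t⁻¹) = t * b * t⁻¹ * r ∧ r * r = z := by
    obtain ⟨r, hr, rb⟩ := stepb h0.sh hK hr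
    rcases sq0 h0 hK hr rb with h | h
    · refine ⟨r * b, hr.mul h0.sh hK (DY bD),
        Commute.mul_left rb (h0.sh.com _ bD _ bD), ?_⟩
      have h1 := rb0 h0 hK hr
      rw [inv_eq h] at h1
      rw [← mul_assoc, h1, mul_assoc, h0.vf.b2, mul_one]
    · exact ⟨r, hr, rb, h⟩
  rcases cm0 h0 hK hr rb t2 r2 with h | h
  · exact ⟨_, r, fin0 h0 hK hr rb t2 r2 (commutatorElement_eq_one_iff_mul_comm.1 h)⟩
  have b2 : t * b * t⁻¹ * (t * b * t⁻¹) = 1 := by rw [conj_mul, h0.vf.b2]; simp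
  refine ⟨_, r * (t * b * t⁻¹), fin0 h0 hK (hr.mul h0.sh hK (DY' bD))
    (Commute.mul_left rb (Commute.refl _)) t2 ?_ ?_⟩
  · rw [mul_assoc, ← mul_assoc _ r, ← rb, mul_assoc r, b2, mul_one, r2]
  have h1 := rb0 h0 hK hr
  have h2 : t * r * t⁻¹ * (t * b * t⁻¹) * (t * r * t⁻¹)⁻¹ = t * z * t⁻¹ * (t * b * t⁻¹) := by
    rw [← cmul t z, ← h1]; group
  have h3 : t * r * t⁻¹ * b = b * (t * r * t⁻¹) := by
    have := congrArg (fun x => t * x * t⁻¹) rb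
    simpa only [cmul t r, cmul t _ r, tt t2] using this
  have h4 := h0.sh.com _ bD _ bD
  have h5 : r * (t * z * t⁻¹) = _ := (h0.sh.cz' hr.1.1).1 (mem_C1.1 hr.1.2)
  have h6 : t * r * t⁻¹ * z = z * (t * r * t⁻¹) := mem_C1.1 (cjM h0.sh hr.1).2
  have h7 := h0.sh.zc'
  have h8 := h0.sh.dh'.z2
  have h9 := h0.vf.z2
  rw [cmul t r, tt t2]
  rw [commutatorElement_def] at h
  generalize t * r * t⁻¹ = r' at *
  generalize t * z * t⁻¹ = z' at *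
  generalize t * b * t⁻¹ = b' at *
  have e1 : b' * r' = z' * (r' * b') := by
    rw [mul_inv_eq_iff_eq_mul.1 h2, ← mul_assoc, ← mul_assoc, h8, one_mul]
  have e2 : b * r = z * (r * b) := by
    rw [mul_inv_eq_iff_eq_mul.1 h1, ← mul_assoc, ← mul_assoc, h9, one_mul]
  have e3 : r * r' = z * z' * (r' * r) := by rw [← h]; group
  calc _ = r * (b' * r') * b := by group
    _ = r * z' * r' * (b' * b) := by rw [e1]; group
    _ = z' * (r * r') * (b * b') := by rw [h5, h4]; group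
    _ = z' * (z * z') * (r' * r * (b * b')) := by rw [e3]; group
    _ = z * r' * (r * b) * b' := by rw [h7, ← mul_assoc z', h8]; group
    _ = r' * (z * (r * b)) * b' := by rw [← h6]; group
    _ = _ := by rw [← e2]; group

end NfV

namespace NfV

theorem sq_mem {l l' : ℤ} (h0 : Dh H k a b z) (hl : Odd l) (hx : x ∈ Q) (hb : b ∈ Q)
    (h1 : x * b * x⁻¹ = a ^ l * b) (h2 : x * x = a ^ l' * y) : y ∈ Phi Q := by
  have h3 := cm_phi hx hb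
  rw [h1, mul_inv_cancel_right, ← zpowers_le, (h0.repow hl).2.1, zpowers_le] at h3
  exact (mul_mem_cancel_left (zpow_mem h3 l')).1 (h2 ▸ sq_mem_Phi hx)

theorem kap {κ : ℤ} (h0 : Dh H (k + 1) a b z) (h1 : r * a * r⁻¹ = a ^ κ)
    (h2 : r * a ^ 2 ^ k = a ^ 2 ^ k * r) : ∃ j, κ = 4 * j + 1 := by
  have h3 : a ^ (κ * 2 ^ k) = a ^ (1 * 2 ^ k : ℤ) := by
    rw [zpow_mul, ← h1, one_mul, ← Nat.cast_ofNat, ← Nat.cast_pow, zpow_natCast, zpow_natCast,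
      conj_pow, h2, mul_inv_cancel_right]
  obtain ⟨j, hj⟩ := (h0.pow_eq.1 h3).symm.dvd
  refine ⟨j, mul_right_cancel₀ (b := (2 : ℤ) ^ k) (by positivity) ?_⟩
  linear_combination hj

variable (h0 : D2 S P d s z b a t (k + 1)) (hK : PK ((S : Subgroup G) ⊓ C1 z) a b K)
  (hr : Ty ((S : Subgroup G) ⊓ C1 z) K t r)
include h0 hK hr

theorem stepi : ∃ r, Ty ((S : Subgroup G) ⊓ C1 z) K t r ∧ r * (t * b * t⁻¹) = t * b * t⁻¹ * r ∧
    r * (t * a * t⁻¹) ^ 2 ^ k = (t * a * t⁻¹) ^ 2 ^ k * r ∧ r * a ^ 2 ^ k = a ^ 2 ^ k * r := by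
  have inv : ∀ {a b r : G}, b * a * b⁻¹ = a⁻¹ → r * a ^ 2 ^ k * r⁻¹ = (a ^ 2 ^ k)⁻¹ →
      r * b * a ^ 2 ^ k = a ^ 2 ^ k * (r * b) := fun {a b r} h1 h2 => by
    have h3 : b * a ^ 2 ^ k * b⁻¹ = (a ^ 2 ^ k)⁻¹ := by rw [← conj_pow, h1, inv_pow]
    calc _ = r * (b * a ^ 2 ^ k * b⁻¹) * b := by group
      _ = (r * a ^ 2 ^ k * r⁻¹)⁻¹ * (r * b) := by rw [h3]; group
      _ = _ := by rw [h2, inv_inv]
  obtain ⟨r, hr, h1, h2⟩ : ∃ r, Ty ((S : Subgroup G) ⊓ C1 z) K t r ∧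
      r * (t * b * t⁻¹) = t * b * t⁻¹ * r ∧
      r * (t * a * t⁻¹) ^ 2 ^ k = (t * a * t⁻¹) ^ 2 ^ k * r := by
    obtain ⟨r, hr, h1⟩ := stepb h0.sh hK hr
    rcases h0.sh.dh'.acti hr.1 with h | h
    exacts [⟨r, hr, h1, h⟩, ⟨_, hr.mul h0.sh hK (DY' bD), Commute.mul_left h1 (Commute.refl _),
      inv h0.sh.dh'.ba h⟩]
  rcases h0.sh.dh.acti hr.1 with h | h
  exacts [⟨r, hr, h1, h2, h⟩, ⟨_, hr.mul h0.sh hK (DY bD),
    Commute.mul_left h1 (h0.sh.com _ bD _ bD),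
    Commute.mul_left h2 (Commute.pow_right (h0.sh.com _ bD _ aD) _), inv h0.sh.dh.ba h⟩]

variable (rb : r * (t * b * t⁻¹) = t * b * t⁻¹ * r)
  (ri' : r * (t * a * t⁻¹) ^ 2 ^ k = (t * a * t⁻¹) ^ 2 ^ k * r) (ri : r * a ^ 2 ^ k = a ^ 2 ^ k * r)
include rb ri' ri

theorem sq1 : ∃ l : ℤ, Odd l ∧ r * r = a ^ l := by
  obtain ⟨y₁, h1, y₂, h2, h3⟩ := h0.sh.memY.1 (hr.sq h0.sh hK)
  have sp : ∀ m ∈ (S : Subgroup G) ⊓ C1 z, r * m = m * r →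
      m * y₁ = y₁ * m ∧ m * (t * y₂ * t⁻¹) = t * y₂ * t⁻¹ * m := fun m hm h =>
    h0.sh.split hm.1 (mem_C1.1 hm.2) h1 h2 (h3 ▸ (Commute.mul_left h h).symm)
  obtain ⟨m, rfl⟩ := h0.sh.dh.ceni h1 (sp _ (pow_mem h0.sh.dh.aH _) ri).1.symm
  have h4 := (sp _ h0.sh.dh'.bH rb).2
  have h5 := (sp _ (pow_mem h0.sh.dh'.aH _) ri').2
  rw [conj_pow, conj_mul, conj_mul] at h5
  rw [conj_mul, conj_mul] at h4
  have h6 := h0.sh.dh.ceni h2 (mul_left_cancel (mul_right_cancel h5)).symm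
  have h7 := h0.sh.dh.cenb ⟨0, by simp⟩ h2 (mul_left_cancel (mul_right_cancel h4)).symm
  obtain ⟨κ, l, hl, h8, h9⟩ := hr.act h0.sh hK
  have h10 := sq_mem (Q := (S : Subgroup G) ⊓ C1 z ⊓ C1 (t * b * t⁻¹)) h0.sh.dh hl
    ⟨hr.1, mem_C1.2 rb⟩ ⟨h0.sh.dh.bH, mem_C1.2 (h0.sh.com _ bD _ bD)⟩ h9 h3
  have h11 : y₂ = 1 := by
    rcases (mem_F4 h0.vf.z2 h0.vf.b2 h0.vf.zb).1 h7 with h | h | h | h
    · exact h
    · exact absurd (h ▸ h10) (h0.nphi' ⟨0, by simp⟩)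
    · exact absurd (h ▸ h6) h0.sh.dh.bn
    · exact absurd ((mul_mem_cancel_left h0.sh.dh.za').1 (h ▸ h6)) h0.sh.dh.bn
  replace h3 : r * r = a ^ m := by simpa [h11] using h3
  refine ⟨m, ?_, h3⟩
  obtain ⟨j, rfl⟩ := kap h0.sh.dh h8 ri
  have e : b * a ^ m * b⁻¹ = (a ^ m)⁻¹ := by rw [← conj_zpow, h0.sh.dh.ba, inv_zpow]
  have h12 : a ^ ((4 * j + 1) * l + l) = a ^ (m + m) := by
    rw [zpow_add a _ l, zpow_mul, ← h8, conj_zpow]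
    calc _ = r * a ^ l * r⁻¹ * (a ^ l * b) * b⁻¹ := by group
      _ = r * (a ^ l * b) * r⁻¹ * b⁻¹ := by
        conv_lhs => rw [← h9]
        group
      _ = r * r * (b * (r * r)⁻¹ * b⁻¹) := by rw [← h9]; group
      _ = _ := by rw [h3, ← conj_inv, e, inv_inv, zpow_add]
  obtain ⟨c, hc⟩ := (h0.sh.dh.pow_eq.1 h12).dvd
  obtain ⟨u, rfl⟩ := hl
  exact ⟨j * (2 * u + 1) + u + 2 ^ k * c, by
    refine mul_left_cancel₀ (two_ne_zero) ?_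
    linear_combination hc⟩

omit ri in
theorem ra' {l : ℤ} (r2 : r * r = a ^ l) : r * (t * a * t⁻¹) = t * a * t⁻¹ * r := by
  have D := h0.sh.dh'
  obtain ⟨κ, -, -, h1, -⟩ := D.act hr.1
  obtain ⟨j, rfl⟩ := kap D h1 ri'
  have c1 : a ^ l * (t * a * t⁻¹) = _ := h0.sh.com _ (zpow_mem aD l) _ aD
  have c2 : (t * a * t⁻¹) ^ 2 ^ k * b = b * (t * a * t⁻¹) ^ 2 ^ k :=
    (Commute.pow_right (h0.sh.com _ bD _ aD) _).symm
  have c3 := h0.sh.com _ bD _ (mul_mem aD bD)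
  have n := h0.nphi' (y := a * b) ⟨1, by simp⟩
  obtain ⟨-, l', hl, -, h9⟩ := hr.act h0.sh hK
  rw [cmul] at c3 n
  generalize t * a * t⁻¹ = a' at *
  generalize t * b * t⁻¹ = b' at *
  generalize t * z * t⁻¹ = z' at *
  have h2 : a' ^ ((4 * j + 1) * (4 * j + 1)) = a' ^ (1 : ℤ) := by
    rw [zpow_mul, zpow_one]
    calc _ = r * a' ^ (4 * j + 1) * r⁻¹ := by rw [← conj_zpow, h1]
      _ = r * r * a' * (r * r)⁻¹ := by rw [← h1]; group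
      _ = _ := by rw [r2, c1, mul_inv_cancel_right]
  have h3 : (2 : ℤ) ^ (k + 1 + 1) ∣ 8 * j :=
    (IsCoprime.pow_left (⟨-j, 1, by ring⟩ : IsCoprime 2 (2 * j + 1))).dvd_of_dvd_mul_right (by
      rw [show 8 * j * (2 * j + 1) = (4 * j + 1) * (4 * j + 1) - 1 by ring]
      exact (D.pow_eq.1 h2).symm.dvd)
  have h4 : a' ^ (4 * j) * a' ^ (4 * j) = 1 := by
    rw [← zpow_add, ← zpow_zero a', D.pow_eq]
    exact (Int.modEq_zero_iff_dvd.2 (by convert h3 using 1; ring))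
  rw [zpow_add, zpow_one] at h1
  rcases D.inv (zpow_mem (mem_zpowers _) _) h4 with h | h <;> rw [h] at h1
  · rw [mul_inv_eq_iff_eq_mul.1 h1, one_mul]
  have h5 : b' * a' ^ 2 ^ k * b'⁻¹ = (a' ^ 2 ^ k)⁻¹ := by rw [← conj_pow, D.ba, inv_pow]
  have h6 : a' ^ 2 ^ k * a' = a' * a' ^ 2 ^ k := (Commute.refl _).pow_left _
  have h7 := D.i2
  have h8 := D.zc D.aH
  have hi := pow_mem D.aH (2 ^ k)
  generalize a' ^ 2 ^ k = i at *
  exfalso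
  refine n (sq_mem (x := r * i) (l' := l) h0.sh.dh hl (mem_inf.2 ⟨mul_mem hr.1 hi, mem_C1.2 ?_⟩)
    (mem_inf.2 ⟨h0.sh.dh.bH, mem_C1.2 c3⟩) ?_ ?_)
  · calc _ = r * (i * a') * b' := by group
      _ = r * a' * r⁻¹ * (r * i * i) * (i⁻¹ * b') := by rw [h6]; group
      _ = z' * a' * (r * z') * (b' * i) := by rw [h1, mul_assoc r, h7, ← h5]; group
      _ = a' * (z' * z') * (r * b') * i := by rw [D.zc hr.1, ← h8]; group
      _ = _ := by rw [D.z2, rb]; group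
  · rw [← h9, mul_assoc r, c2]
    group
  · rw [← r2, ← h7, mul_assoc r, ← mul_assoc i, ← ri']
    group

omit hr rb ri' ri in
theorem case1 (t2 : t * t = 1) (hr : Ty ((S : Subgroup G) ⊓ C1 z) K t r) :
    ∃ a' r', FV S P d s z b a' t r' (k + 1) := by
  obtain ⟨r, hr, rb, ri', ri⟩ := stepi h0 hK hr
  obtain ⟨m, hm, r2⟩ := sq1 h0 hK hr rb ri' ri
  have rc := rc_of (ra' h0 hK hr rb ri' r2) rb
  refine ⟨_, r, fin h0 hK t2 hr hm r2 ?_ rc ?_⟩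
  · obtain ⟨-, l, -, -, h1⟩ := hr.act h0.sh hK
    have h2 : a ∈ C1 r := by
      rw [← zpowers_le, ← (h0.sh.dh.repow hm).2.1, zpowers_le, ← r2]
      exact mem_C1.2 (mul_assoc _ _ _)
    have h3 : ∀ l : ℤ, a ^ l * r = r * a ^ l := fun l => mem_C1.1 (zpow_mem h2 l)
    have h4 : b * r * b⁻¹ = r⁻¹ * a ^ (m - l) := by
      calc _ = (a ^ l)⁻¹ * (a ^ l * b * r) * b⁻¹ := by group
        _ = r⁻¹ * (r * a ^ (-l)) * r := by rw [← h1]; group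
        _ = r⁻¹ * a ^ (-l) * (r * r) := by rw [← h3]; group
        _ = _ := by rw [r2]; group
    have h5 : a ^ (m - l) * a ^ (m - l) = 1 := by
      have e : b * a ^ m * b⁻¹ = (a ^ m)⁻¹ := by rw [← conj_zpow, h0.sh.dh.ba, inv_zpow]
      rw [← r2, cmul, h4] at e
      calc _ = r * r * (r⁻¹ * (r⁻¹ * (a ^ (m - l) * r) * r⁻¹ * r) * r⁻¹ * a ^ (m - l)) := by group
        _ = r * r * (r⁻¹ * a ^ (m - l) * (r⁻¹ * a ^ (m - l))) := by rw [h3]; group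
        _ = 1 := by rw [e, mul_inv_cancel]
    rcases h0.sh.dh.inv (zpow_mem (mem_zpowers _) _) h5 with h | h <;> rw [h] at h4
    exacts [.inl (h4.trans (mul_one _)), .inr ⟨by omega, h4⟩]
  · obtain ⟨h1, h2⟩ := cm_rr h0.sh t2 hr.1 rc
    have hr' := (cjM h0.sh hr.1).1
    rcases (mem_F4 h0.vf.z2 h0.sh.dh'.z2 h0.sh.zc').1 (h0.sh.cenY
      (mul_mem (mul_mem (mul_mem hr.1.1 hr') (inv_mem hr.1.1)) (inv_mem hr')) h1) with h | h | h | h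
    · exact .inl (commutatorElement_eq_one_iff_mul_comm.1 h)
    · rw [commutatorElement_def, h, inv_eq h0.vf.z2] at h2
      exact absurd h2.symm h0.sh.zz'
    · rw [commutatorElement_def, h, inv_eq h0.sh.dh'.z2, tt t2] at h2
      exact absurd h2 h0.sh.zz'
    · exact .inr ⟨by omega, h⟩

end NfV

open NfV in
theorem D2.nfV (h0 : D2 S P d s z b a t k) (hr : r ∈ (S : Subgroup G)) (h1 : r * z = z * r)
    (h2 : ∃ l : ℤ, Odd l ∧ r * b * r⁻¹ = a ^ l * b)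
    (h3 : ∃ l : ℤ, Even l ∧ r * (t * b * t⁻¹) * r⁻¹ = t * (a ^ l * b) * t⁻¹) :
    ∃ a' t' r', FV S P d s z b a' t' r' k := by
  obtain ⟨K, hK⟩ := exPK h0.sh.dh
  obtain ⟨l, a1, a2⟩ := h2
  obtain ⟨l', a3, a4⟩ := h3
  have hm : r ∈ (S : Subgroup G) ⊓ C1 z := ⟨hr, mem_C1.2 h1⟩
  obtain ⟨t', b1, b2, b3, b4⟩ := stept h0.sh hK (r := r) ⟨hm,
    fun h => Int.not_even_iff_odd.2 a1 ((hK.par _ hm _ a2).1 h),
    (hK.par _ (cjM' h0.sh hm) l' (by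
      calc _ = t⁻¹ * (r * (t * b * t⁻¹) * r⁻¹) * t := by group
        _ = _ := by rw [a4]; group)).2 a3⟩
  cases k with
  | zero =>
    obtain ⟨a', r', h⟩ := case0 (h0.ret b1 b2) hK b3 b4
    exact ⟨a', t', r', h⟩
  | succ k =>
    obtain ⟨a', r', h⟩ := case1 (h0.ret b1 b2) hK b3 b4
    exact ⟨a', t', r', h⟩

end Cfsg.Lib.GHN
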