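import Cfsg.Agent.GHN.D2a

/-!
# Sectional 2-rank at most four: the normal form when `C_S(z) / Y` has order two
-/

set_option autoImplicit false

namespace Cfsg.Lib.GHN

open Subgroup Cfsg.Lib.Trans Cfsg.Lib.Gold

universe u

variable {G : Type u} [Group G] [Finite G] {S : Sylow 2 G} {H P T : Subgroup G}
  {a b d g h m s t x y z : G} {k : ℕ}

namespace NfX

/-- Membership in `Y` is decided by the parity of the action on `b`. -/
def Pa (T : Subgroup G) (a b z t : G) : Prop :=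
  ∀ m ∈ T, m * z = z * m → ∀ l : ℤ, m * b * m⁻¹ = a ^ l * b → (m ∈ YY a b t ↔ Even l)

theorem Pa_eq_1 : type_of% @Pa.eq_1 := @Pa.eq_1

omit [Finite G] in
theorem mM (h1 : m ∈ T) (h2 : m * z = z * m) : m ∈ T ⊓ C1 z :=
  ⟨h1, mem_centralizer_singleton_iff.2 h2⟩

omit [Finite G] in
theorem cz (h1 : m ∈ T ⊓ C1 z) : m * z = z * m := mem_centralizer_singleton_iff.1 h1.2

omit [Finite G] in
theorem aD (l : ℤ) : a ^ l ∈ Dl a b := mem_sup_left (zpow_mem_zpowers a l)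

omit [Finite G] in
theorem bD : b ∈ Dl a b := mem_sup_right (mem_zpowers b)

omit [Finite G] in
theorem rfb : Rf a b b := ⟨0, by simp⟩

theorem mul_act (h0 : Dh H k a b z) (hg : g ∈ H) {l j : ℤ} (e1 : g * b * g⁻¹ = a ^ l * b)
    (e2 : h * b * h⁻¹ = a ^ j * b) :
    ∃ κ : ℤ, Odd κ ∧ g * a * g⁻¹ = a ^ κ ∧ g * h * b * (g * h)⁻¹ = a ^ (κ * j + l) * b := by
  obtain ⟨κ, -, k1, k2, -⟩ := h0.act hg
  refine ⟨κ, k1, k2, ?_⟩
  calc g * h * b * (g * h)⁻¹ = g * (h * b * h⁻¹) * g⁻¹ := by group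
    _ = _ := by rw [e2, ← conj_mul, ← conj_zpow, k2, e1, zpow_add, zpow_mul, mul_assoc]

theorem conj_act (h0 : Dh H k a b z) (l : ℤ) : a ^ l * b * (a ^ l)⁻¹ = a ^ (2 * l) * b := by
  have : b * a ^ (-l) * b⁻¹ = a ^ l := by rw [← conj_zpow, h0.ba]; simp
  rw [two_mul, zpow_add, mul_assoc (a ^ l) (a ^ l)]
  conv_rhs => enter [2, 1]; rw [← this]
  group

theorem cent_of (h0 : Dh H (k + 1) a b z) (hx : x ∈ H) (xi : x * a ^ 2 ^ k = a ^ 2 ^ k * x)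
    {l j : ℤ} (hl : Odd l) (xb : x * b * x⁻¹ = a ^ l * b)
    (hb : x * x * b * (x * x)⁻¹ = a ^ j * b * (a ^ j)⁻¹) (hc : x * a ^ j = a ^ j * x) :
    x * a = a * x := by
  obtain ⟨κ, -, k2, k3⟩ := mul_act h0 hx xb xb
  rw [hb, conj_act h0, mul_left_inj, h0.pow_eq] at k3
  have k4 : a ^ (κ * 2 ^ k) = a ^ (1 * 2 ^ k : ℤ) := by
    rw [zpow_mul, ← k2, conj_zpow, one_mul, ← Nat.cast_ofNat, ← Nat.cast_pow, zpow_natCast, xi,
      mul_inv_cancel_right]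
  rw [h0.pow_eq, pow_succ', pow_succ', ← mul_assoc] at k4
  have k5 := Int.ModEq.mul_right_cancel' (by positivity) k4
  have k6 := k3.of_dvd (show (4 : ℤ) ∣ 2 ^ (k + 1 + 1) from ⟨2 ^ k, by ring⟩)
  have : Odd j := by
    obtain ⟨c, hc⟩ := k5.symm.dvd
    obtain ⟨e, he⟩ := k6.dvd
    obtain ⟨f, rfl⟩ := hl
    obtain rfl : κ = 1 + 4 * c := by omega
    exact ⟨f + c * (2 * f + 1) - e, by linarith⟩
  obtain ⟨n, hn⟩ : a ∈ zpowers (a ^ j) := (h0.repow this).2.1 ▸ mem_zpowers a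
  rw [← show (a ^ j) ^ n = a from hn]
  exact ((show Commute x (a ^ j) from hc).zpow_right n).eq

theorem near (h0 : Dh H k a b z) (xa : x * a = a * x) (xb : x * b * x⁻¹ = a * b) {j : ℤ}
    (hb : x * x * b * (x * x)⁻¹ = a ^ j * b * (a ^ j)⁻¹) : a ^ j = a ∨ a ^ j = a * z := by
  have e : a ^ (2 * j) = a * a := by
    rw [← mul_left_inj b, ← conj_act h0, ← hb]
    calc _ = x * (x * b * x⁻¹) * x⁻¹ := by group
      _ = _ := by rw [xb, ← conj_mul, xb, xa, mul_inv_cancel_right, mul_assoc]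
  rcases h0.inv (zpow_mem_zpowers a (j - 1)) (by
    rw [← zpow_add, show j - 1 + (j - 1) = 2 * j + -2 by ring, zpow_add, e]; group) with f | f
  · left; rw [zpow_sub_one, mul_inv_eq_one] at f; exact f
  · right; rw [← f]; group

theorem pa_of (sh : Sh T k a b z t) (h1 : ∀ r ∈ T, r * z = z * r → ∀ l l' : ℤ,
    r * b * r⁻¹ = a ^ l * b → r * (t * b * t⁻¹) * r⁻¹ = t * (a ^ l' * b) * t⁻¹ → Odd l → Odd l') :
    Pa T a b z t := fun m hm hz l e => by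
  have cv : ∀ j : ℤ, (t * a * t⁻¹) ^ j * (t * b * t⁻¹) = t * (a ^ j * b) * t⁻¹ := fun j => by
    rw [conj_zpow, conj_mul]
  obtain ⟨l', e'⟩ := sh.dh'.cb m (mM hm hz)
  rw [sh.typ hm hz e (e'.trans (cv _)), and_iff_left_iff_imp]
  intro ev
  obtain ⟨x, hx, f⟩ := sh.dh.tr 1
  obtain ⟨j, f'⟩ := sh.dh'.cb x hx
  obtain ⟨κ, k1, -, k2⟩ := mul_act sh.dh hx f e
  obtain ⟨κ', k1', -, k2'⟩ := mul_act sh.dh' hx f' e'
  have o1 := h1 x hx.1 (cz hx) _ _ f (f'.trans (cv _)) odd_one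
  have o2 := h1 _ (mul_mem hx.1 hm) (cz (mul_mem hx (mM hm hz))) _ _ k2 (k2'.trans (cv _))
    ((ev.mul_left κ).add_one)
  by_contra n
  exact Int.not_even_iff_odd.2 o2 ((k1'.mul (Int.not_even_iff_odd.1 n)).add_odd o1)

variable (sh : Sh T k a b z t) (pa : Pa T a b z t)
include sh pa

theorem Pa.cos (hx : x ∈ T ⊓ C1 z) (hm : m ∈ T ⊓ C1 z) (n1 : x ∉ YY a b t) (n2 : m ∉ YY a b t) :
    x * m ∈ YY a b t := by
  obtain ⟨l, e⟩ := sh.dh.cb x hx
  obtain ⟨j, f⟩ := sh.dh.cb m hm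
  obtain ⟨κ, k1, -, k2⟩ := mul_act sh.dh hx e f
  rw [pa _ hx.1 (cz hx) _ e, Int.not_even_iff_odd] at n1
  rw [pa _ hm.1 (cz hm) _ f, Int.not_even_iff_odd] at n2
  exact (pa _ (mul_mem hx hm).1 (cz (mul_mem hx hm)) _ k2).2 ((k1.mul n2).add_odd n1)

theorem Pa.prime (hm : m ∈ T ⊓ C1 z) (n : m ∉ YY a b t) :
    ∃ l : ℤ, Odd l ∧ m * (t * b * t⁻¹) * m⁻¹ = t * (a ^ l * b) * t⁻¹ := by
  have h1 := mem_normalizer_conj' (sh.nM sh.tS) hm
  obtain ⟨l, e⟩ := sh.dh.cb _ h1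
  refine ⟨l, Int.not_even_iff_odd.1 fun ev => n ?_, by rw [← e]; group⟩
  simpa [mul_assoc] using mem_normalizer_conj (sh.nY sh.tS) ((pa _ h1.1 (cz h1) _ e).2 ev)

theorem Pa.repow {l : ℤ} (hl : Odd l) : Pa T (a ^ l) b z t := fun m hm hz j e => by
  rw [YY, (sh.dh.repow hl).2.2.1, pa m hm hz (l * j) (by rw [e, zpow_mul]), Int.even_mul,
    or_iff_right (Int.not_even_iff_odd.2 hl)]

theorem Pa.ret {t' : G} (h1 : t' ∈ T) (h2 : t' * z ≠ z * t') : Pa T a b z t' := fun m hm hz j e => by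
  rw [YY, (sh.ret h1 h2).2.1]; exact pa m hm hz j e

omit sh pa

theorem cenY2 (sh : Sh T (k + 1) a b z t) (hy : y ∈ YY a b t)
    (h1 : a ^ 2 ^ k * y = y * a ^ 2 ^ k)
    (h2 : (t * a * t⁻¹) ^ 2 ^ k * y = y * (t * a * t⁻¹) ^ 2 ^ k) :
    ∃ p q : ℤ, y = a ^ p * (t * a ^ q * t⁻¹) := by
  obtain ⟨y1, m1, y2, m2, rfl⟩ := sh.memY.1 hy
  have i1 := pow_mem sh.dh.aH (2 ^ k)
  have i2 := pow_mem sh.dh'.aH (2 ^ k)
  obtain ⟨p, rfl⟩ := sh.dh.ceni m1 (sh.split i1.1 (cz i1) m1 m2 h1).1.symm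
  obtain ⟨q, rfl⟩ := sh.dh.ceni m2 (by
    have := (sh.split i2.1 (cz i2) m1 m2 h2).2
    rw [conj_pow, conj_mul, conj_mul, mul_left_inj, mul_right_inj] at this
    exact this.symm)
  exact ⟨p, q, rfl⟩

theorem fixi (h0 : Dh H (k + 1) a b z) (hx : x ∈ H) : ∃ c, (c = 1 ∨ c = b) ∧
    x * c * a ^ 2 ^ k = a ^ 2 ^ k * (x * c) := by
  rcases h0.acti hx with e | e
  · exact ⟨1, .inl rfl, by simpa using e⟩
  · refine ⟨b, .inr rfl, mul_inv_eq_iff_eq_mul.1 ?_⟩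
    calc _ = x * (b * a ^ 2 ^ k * b⁻¹) * x⁻¹ := by group
      _ = _ := by rw [← conj_pow, h0.ba, inv_pow, ← conj_inv, e, inv_inv]

theorem lemX (sh : Sh T (k + 1) a b z t) (pa : Pa T a b z t) : ∃ x ∈ T, ∃ l : ℤ, Odd l ∧
    x * a = a * x ∧ x * (t * a * t⁻¹) = t * a * t⁻¹ * x ∧ x * b * x⁻¹ = a ^ l * b := by
  obtain ⟨x0, h0, e0⟩ := sh.dh.tr 1
  have n0 : x0 ∉ YY a b t := by rw [pa _ h0.1 (cz h0) _ e0]; decide
  obtain ⟨c, hc, f⟩ := fixi sh.dh h0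
  have cY : c ∈ YY a b t := by rcases hc with rfl | rfl; exacts [one_mem _, mem_sup_left bD]
  obtain ⟨c', hc', f'⟩ := fixi sh.dh' (mul_mem h0 (sh.YM cY))
  have cY' : c' ∈ YY a b t := by
    rcases hc' with rfl | rfl; exacts [one_mem _, mem_sup_right (cj_le_iff.1 le_rfl _ bD)]
  have f1 : x0 * c * c' * a ^ 2 ^ k = a ^ 2 ^ k * (x0 * c * c') := by
    rcases hc' with rfl | rfl
    · simpa using f
    · rw [mul_assoc, ← sh.com _ (pow_mem (mem_sup_left (mem_zpowers a)) _) _ bD, ← mul_assoc, f,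
        mul_assoc]
  have hx := mul_mem (mul_mem h0 (sh.YM cY)) (sh.YM cY')
  have n : x0 * c * c' ∉ YY a b t := by rwa [mul_mem_cancel_right cY', mul_mem_cancel_right cY]
  generalize x0 * c * c' = x at f' f1 hx n
  obtain ⟨p, q, e⟩ := cenY2 sh (pa.cos sh hx hx n n)
    ((show Commute x _ from f1).symm.mul_right (show Commute x _ from f1).symm)
    ((show Commute x _ from f').symm.mul_right (show Commute x _ from f').symm)
  obtain ⟨s1, s2⟩ := sh.split hx.1 (cz hx) (aD p) (aD q) (by rw [← e, mul_assoc])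
  obtain ⟨l, g⟩ := sh.dh.cb x hx
  have ol : Odd l := by rwa [pa _ hx.1 (cz hx) _ g, Int.not_even_iff_odd] at n
  obtain ⟨j, oj, g'⟩ := pa.prime sh hx n
  refine ⟨x, hx.1, l, ol, cent_of sh.dh hx f1 ol g (j := p) ?_ s1,
    cent_of sh.dh' hx f' oj (by rw [g', conj_zpow, conj_mul]) (j := q) ?_
      (by rw [conj_zpow, s2]), g⟩
  · rw [e, mul_assoc _ _ b, ← sh.com _ bD _ (aD q)]; group
  · rw [e, sh.com _ (aD p) _ (aD q), mul_assoc _ (a ^ p), sh.com _ (aD p) _ bD, conj_zpow]; group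

theorem xz (h0 : Dh H k a b z) (xa : x * a = a * x) : x * z = z * x :=
  h0.za ▸ ((show Commute x a from xa).pow_right _).eq

theorem mkFX (h0 : D2 S P d s z b a t (k + 1)) (pa : Pa (S : Subgroup G) a b z t)
    (hx : x ∈ (S : Subgroup G)) (xa : x * a = a * x) (xa' : x * (t * a * t⁻¹) = t * a * t⁻¹ * x)
    (xb : x * b * x⁻¹ = a * b) : FX S P d s z b a t x k ∧ x ∉ YY a b t := by
  have hz := xz h0.sh.dh xa
  have n : x ∉ YY a b t := by rw [pa _ hx hz 1 (by simpa using xb)]; decide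
  exact ⟨⟨h0, hx, xa, xa', xb, pa.prime h0.sh (mM hx hz) n, fun m hm e =>
    or_iff_not_imp_left.2 (pa.cos h0.sh (mM hx hz) (mM hm e) n)⟩, n⟩

theorem mkFD (h0 : D2 S P d s z b a t (k + 1)) (pa : Pa (S : Subgroup G) a b z t) (t2 : t * t = 1)
    (hx : x ∈ (S : Subgroup G)) (xa : x * a = a * x) (xa' : x * (t * a * t⁻¹) = t * a * t⁻¹ * x)
    (xb : x * b * x⁻¹ = a * b) (tx : t * x = x * t) : FD S P d s z b a t x k := by
  obtain ⟨F, n⟩ := mkFX h0 pa hx xa xa' xb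
  have sh := h0.sh
  have hm := mM hx (xz sh.dh xa)
  have c1 := (show Commute x a from xa).symm.pow_left (2 ^ k)
  have c2 := (show Commute x _ from xa').symm.pow_left (2 ^ k)
  obtain ⟨p, q, e⟩ := cenY2 sh (pa.cos sh hm hm n n) (c1.mul_right c1) (c2.mul_right c2)
  have e' : a ^ p = a ^ q := (sh.uniq (aD p) (aD q) (aD q) (aD p) (by
    rw [sh.com _ (aD q) _ (aD p), ← e]
    calc x * x = t * (x * x) * t⁻¹ := by rw [← mul_assoc, tx, mul_assoc x, tx]; group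
      _ = t * a ^ p * t⁻¹ * ((t * t) * a ^ q * (t * t)⁻¹) := by rw [e]; group
      _ = _ := by rw [t2]; group)).1
  refine ⟨F, t2, tx, (near sh.dh xa xb (j := p) (by
    rw [e, mul_assoc _ _ b, ← sh.com _ bD _ (aD q)]; group)).imp (fun f => ?_) fun f => ?_⟩
  · rw [e, ← e', f]
  · rw [e, ← e', f, ← conj_mul, mul_assoc, ← mul_assoc z, ← sh.dh.zc sh.dh'.aH]
    simp only [mul_assoc]

theorem fd (h0 : D2 S P d s z b a t (k + 1)) (pa : Pa (S : Subgroup G) a b z t) (t2 : t * t = 1)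
    (hx : x ∈ (S : Subgroup G)) (xa : x * a = a * x) (xa' : x * (t * a * t⁻¹) = t * a * t⁻¹ * x)
    (xb : x * b * x⁻¹ = a * b) : ∃ x, FD S P d s z b a t x k := by
  have sh := h0.sh
  have n := (mkFX h0 pa hx xa xa' xb).2
  have hm := mM hx (xz sh.dh xa)
  have tt : ∀ u, t * (t * u * t⁻¹) * t⁻¹ = u := fun u => by
    rw [show t * (t * u * t⁻¹) * t⁻¹ = t * t * u * (t * t)⁻¹ by group, t2]; group
  have cj2 : ∀ {u v}, Commute u v → Commute (t * u * t⁻¹) (t * v * t⁻¹) := fun h => by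
    rw [Commute, SemiconjBy, conj_mul, conj_mul, h.eq]
  have ca : Commute x a := xa
  have ca' : Commute x (t * a * t⁻¹) := xa'
  have aa : ∀ p q : ℤ, Commute (a ^ p) (t * a ^ q * t⁻¹) := fun p q => sh.com _ (aD p) _ (aD q)
  obtain ⟨p, q, e⟩ := cenY2 sh (pa.cos sh (inv_mem hm) (mem_normalizer_conj (sh.nM sh.tS) hm)
    (mt inv_mem_iff.1 n) (mt (mem_normalizer_iff.1 (sh.nY sh.tS) x).2 n))
    ((ca.inv_left.mul_left (tt a ▸ cj2 ca')).symm.pow_left _)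
    ((ca'.inv_left.mul_left (cj2 ca)).symm.pow_left _)
  rw [inv_mul_eq_iff_eq_mul] at e
  obtain ⟨y, hy⟩ : ∃ y, y = x * (t * a ^ q * t⁻¹) := ⟨_, rfl⟩
  have yS : y ∈ (S : Subgroup G) :=
    hy ▸ mul_mem hx (mul_mem (mul_mem sh.tS (S.1.zpow_mem sh.dh.aH.1 q)) (inv_mem sh.tS))
  have ya : Commute y a := hy ▸ ca.mul_left (by simpa using (aa 1 q).symm)
  have ya' : Commute y (t * a * t⁻¹) := hy ▸ ca'.mul_left (cj2 (Commute.zpow_self a q))
  have yb : y * b * y⁻¹ = a * b := by rw [hy, mul_assoc x, ← sh.com _ bD _ (aD q), ← xb]; group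
  have yb' : y * (t * b * t⁻¹) * y⁻¹ = t * (a * b) * t⁻¹ := by
    have : t * x * t⁻¹ = y * a ^ p := by rw [e, (aa p q).eq, hy, mul_assoc x]
    calc _ = y * (a ^ p * (t * b * t⁻¹) * (a ^ p)⁻¹) * y⁻¹ := by
          rw [sh.com _ (aD p) _ bD, mul_inv_cancel_right]
      _ = t * x * t⁻¹ * (t * b * t⁻¹) * (t * x * t⁻¹)⁻¹ := by rw [this]; group
      _ = _ := by rw [← xb]; group
  have v : y⁻¹ * (t * y * t⁻¹) ∈ F4 z (t * z * t⁻¹) := by
    have same : ∀ u, y * u * y⁻¹ = t * y * t⁻¹ * u * (t * y * t⁻¹)⁻¹ →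
        zpowers u ≤ C1 (y⁻¹ * (t * y * t⁻¹)) := fun u f =>
      zpowers_le.2 (mem_centralizer_singleton_iff.2 (by
        calc _ = y⁻¹ * (y * u * y⁻¹) * (t * y * t⁻¹) := by group
          _ = _ := by rw [f]; group))
    have k : YY a b t ≤ C1 (y⁻¹ * (t * y * t⁻¹)) := by
      rw [YY, cj_sup, cj_zpowers, cj_zpowers]
      refine sup_le (sup_le (same _ ?_) (same _ ?_)) (sup_le (same _ ?_) (same _ ?_))
      · rw [ya.eq, (tt a ▸ cj2 ya' : Commute (t * y * t⁻¹) a).eq]; group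
      · rw [yb, ← tt (a * b), ← yb', ← tt b]; simp only [tt]; nth_rewrite 2 [← tt b]; group
      · rw [ya'.eq, (cj2 ya).eq]; group
      · rw [yb', ← yb]; group
    exact sh.cenY (mul_mem (inv_mem yS) (mul_mem (mul_mem sh.tS yS) (inv_mem sh.tS)))
      (mem_centralizer_iff.2 fun u hu => mem_centralizer_singleton_iff.1 (k hu))
  have w : y⁻¹ * (t * y * t⁻¹) * (t * (y⁻¹ * (t * y * t⁻¹)) * t⁻¹) = 1 := by
    rw [← conj_mul, tt, ← conj_inv]; group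
  have zM := sh.dh.zH
  rcases (mem_F4 sh.dh.z2 sh.dh'.z2 sh.zc').1 v with f | f | f | f
  · exact ⟨y, mkFD h0 pa t2 yS ya ya' yb (mul_inv_eq_iff_eq_mul.1 (inv_mul_eq_one.1 f).symm)⟩
  · exact absurd (f ▸ w) sh.ζ1
  · rw [f, tt, ← sh.zc'] at w; exact absurd w sh.ζ1
  · refine ⟨y * z, mkFD h0 pa t2 (mul_mem yS zM.1) (ya.mul_left (sh.dh.zc sh.dh.aH).symm)
      (ya'.mul_left (sh.dh.zc sh.dh'.aH).symm) (by
        rw [mul_assoc y, ← sh.dh.zc sh.dh.bH, ← yb]; group) (mul_inv_eq_iff_eq_mul.1 ?_)⟩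
    rw [← conj_mul, inv_mul_eq_iff_eq_mul.1 f, mul_assoc, mul_assoc z, sh.dh'.z2, mul_one]

theorem fz (h0 : D2 S P d s z b a t (k + 1)) (pa : Pa (S : Subgroup G) a b z t)
    (tY : t * t ∉ YY a b t) (hx : x ∈ (S : Subgroup G)) (xa : x * a = a * x)
    (xa' : x * (t * a * t⁻¹) = t * a * t⁻¹ * x) (xb : x * b * x⁻¹ = a * b) :
    ∃ t, FZ S P d s z b a t x k := by
  have sh := h0.sh
  obtain ⟨F, n⟩ := mkFX h0 pa hx xa xa' xb
  obtain ⟨y1, m1, y2, m2, e⟩ := sh.memY.1 ((F.cos _ (mul_mem sh.tS sh.tS) (by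
    rw [← mul_inv_eq_iff_eq_mul]; refine .trans ?_ sh.symm.2.2; group)).resolve_left tY)
  have aD' : a ∈ Dl a b := mem_sup_left (mem_zpowers a)
  have e1 : t * t * a * (t * t)⁻¹ = x⁻¹ * (y1 * a * y1⁻¹) * x := by
    rw [eq_inv_mul_iff_mul_eq.2 e, mul_assoc, mul_assoc x⁻¹, mul_assoc, mul_assoc y1,
      ← mul_assoc (t * y2 * t⁻¹), ← sh.com _ aD' _ m2]
    group
  rcases sh.dh.mem.1 m1 with ⟨j, rfl⟩ | r
  · have tb : t * b ∈ (S : Subgroup G) := mul_mem sh.tS sh.dh.bH.1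
    have nz : t * b * z ≠ z * (t * b) := by
      rw [mul_assoc, sh.dh.zc sh.dh.bH, ← mul_assoc, ← mul_assoc]
      exact fun f => sh.tz (mul_right_cancel f)
    have c : t⁻¹ * b * t ∈ cj t (Dl a b) := mem_cj.1 (sh.ttD.symm ▸ bD)
    obtain ⟨y, hy, c'⟩ := id c
    have e2 : t * b * (t * b) = t * t * (t⁻¹ * b * t * b) := by group
    refine ⟨t * b, (mkFX (h0.ret tb nz) (pa.ret sh tb nz) hx xa ?_ xb).1, ?_, ?_⟩
    · rw [show t * b * a * (t * b)⁻¹ = t * (b * a * b⁻¹) * t⁻¹ by group, sh.dh.ba, ← conj_inv]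
      exact (show Commute x _ from xa').inv_right
    · rw [YY, (sh.ret tb nz).2.1, e2,
        mul_mem_cancel_right (mul_mem (mem_sup_right c) (mem_sup_left bD))]
      exact tY
    · have c2 : Commute a (t⁻¹ * b * t) := c' ▸ sh.com _ aD' _ hy
      calc _ = t * t * (t⁻¹ * b * t * (b * a * b⁻¹) * (t⁻¹ * b * t)⁻¹) * (t * t)⁻¹ := by group
        _ = (t * t * a * (t * t)⁻¹)⁻¹ := by
          rw [sh.dh.ba, ← c2.inv_left.eq, mul_inv_cancel_right, conj_inv]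
        _ = _ := by
          rw [e1, show a ^ j * a * (a ^ j)⁻¹ = a by group, mul_assoc, ← xa, inv_mul_cancel_left]
  · exact ⟨t, F, tY, by
      rw [e1, sh.dh.rfa r, mul_assoc, ← (show Commute x a from xa).inv_right.eq,
        inv_mul_cancel_left]⟩

end NfX

open NfX

theorem D2.nfX (h0 : D2 S P d s z b a t k)
    (h1 : ∀ r ∈ (S : Subgroup G), r * z = z * r → ∀ l l' : ℤ, r * b * r⁻¹ = a ^ l * b →
      r * (t * b * t⁻¹) * r⁻¹ = t * (a ^ l' * b) * t⁻¹ → Odd l → Odd l') :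
    ∃ k', k = k' + 1 ∧ ∃ a' t' x, FD S P d s z b a' t' x k' ∨ FZ S P d s z b a' t' x k' := by
  have pa := pa_of h0.sh h1
  rcases k with _ | k
  · obtain ⟨u, hu, u1, u2, u3⟩ := h0.sh.s1 b b rfb rfb
    exact absurd (h1 u hu u1 1 0 (by rw [u2, ← h0.sh.dh.za]; simp) (by rw [u3]; simp) odd_one)
      (by decide)
  refine ⟨k, rfl, ?_⟩
  have key : ∀ t, D2 S P d s z b a t (k + 1) → Pa (S : Subgroup G) a b z t →
      t * t = 1 ∨ t * t ∉ YY a b t →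
      ∃ a' t' x, FD S P d s z b a' t' x k ∨ FZ S P d s z b a' t' x k := fun t h0 pa c => by
    obtain ⟨x, hx, l, ol, xa, xa', xb⟩ := lemX h0.sh pa
    have ya : x * a ^ l = a ^ l * x := (show Commute x a from xa).zpow_right l
    have ya' : x * (t * a ^ l * t⁻¹) = t * a ^ l * t⁻¹ * x := by
      rw [← conj_zpow]; exact (show Commute x _ from xa').zpow_right l
    rcases c with c | c
    · obtain ⟨y, F⟩ := fd (h0.repow ol) (pa.repow h0.sh ol) c hx ya ya' xb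
      exact ⟨_, _, _, .inl F⟩
    · obtain ⟨t', F⟩ := fz (h0.repow ol) (pa.repow h0.sh ol)
        (by rwa [YY, (h0.sh.dh.repow ol).2.2.1]) hx ya ya' xb
      exact ⟨_, _, _, .inr F⟩
  by_cases c : t * t ∈ YY a b t
  · obtain ⟨δ, hδ, e⟩ := h0.sh.exists_t2 h0.sh.tS h0.sh.tz c
    have m := h0.sh.dh.le hδ
    have nz : δ * t * z ≠ z * (δ * t) := by
      rw [← mul_assoc, ← cz m, mul_assoc, mul_assoc]
      exact fun f => h0.sh.tz (mul_left_cancel f)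
    exact key _ (h0.ret (mul_mem m.1 h0.sh.tS) nz) (pa.ret h0.sh (mul_mem m.1 h0.sh.tS) nz) (.inl e)
  · exact key t h0 pa (.inr c)

end Cfsg.Lib.GHN
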