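import Cfsg.Agent.GHN.Sq
import Cfsg.Agent.GHN.Ulem
import Cfsg.Agent.GHN.TT
import Cfsg.Agent.GHN.Api

/-!
# The configuration `PB` does not occur
-/

set_option autoImplicit false
set_option linter.unusedSectionVars false

namespace Cfsg.Lib.GHN

open Subgroup Cfsg.Lib.Trans Cfsg.Lib.Gold Cfsg.Lib.Rank2 Cfsg.Lib.GHB
open scoped commutatorElement

universe u

variable {G : Type u} [Group G] {S : Sylow 2 G} {T P B E H : Subgroup G}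
  {d s z v w g₁ g₂ g₃ a b f g n x y : G}

open Sq

/-- The second alternative of `tt_or` for `PB`. -/
structure Pf (T P B : Subgroup G) (d s z v w g₁ g₂ g₃ : G) : Prop extends PB T P B d s z v where
  pT : IsPGroup 2 T
  wB : w ∈ B
  wV : w ∉ F4 z v
  wc : ∀ x ∈ Ns P, x ∈ Ns B → ⁅x, w⁆ ∈ F4 z v
  m₁ : g₁ ∈ P
  m₂ : g₂ ∈ P
  q₁ : g₁ * g₁ = 1
  q₂ : g₂ * g₂ = 1
  q₃ : g₃ * g₃ = 1
  prod : g₁ * g₂ * g₃ = w
  n₁ : g₁ ∉ B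
  n₂ : g₂ ∉ B
  n₃ : g₃ ∉ B
  c₁ : g₁ * g₂ ≠ g₂ * g₁
  c₂ : g₂ * g₃ ≠ g₃ * g₂
  c₃ : g₁ * g₃ ≠ g₃ * g₁
  all : ∀ x ∈ P, x * x = 1 → x ∈ B ∨ g₁ * x ∈ F4 z v ∨ g₂ * x ∈ F4 z v ∨ g₃ * x ∈ F4 z v

variable [Finite G]

theorem PB.nsg (h : PB T P B d s z v) : Nsg P B (F4 z v) :=
  ⟨sup_le (zpowers_le.2 h.zB) (zpowers_le.2 h.vB), h.BP, h.toVV.card4, h.cB, h.cP, h.sq,
    h.toVV.le4.trans inf_le_right, h.cm, h.nd⟩

namespace Pf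

variable (k : Pf T P B d s z v w g₁ g₂ g₃)
include k

theorem VB : F4 z v ≤ B := k.nsg.h1

theorem cV (hp : x ∈ P) (hv : y ∈ F4 z v) : x * y * x⁻¹ ∈ F4 z v := by
  rwa [k.nsg.cV hp hv, mul_inv_cancel_right]

theorem memW : y ∈ F8 z v w ↔ y ∈ F4 z v ∨ w⁻¹ * y ∈ F4 z v :=
  mem_adj (fun _ => k.cV (k.BP k.wB)) (k.sq w k.wB ▸ one_mem _)

theorem cardW : Nat.card (F8 z v w) = 8 := by
  rw [card_adj (fun _ => k.cV (k.BP k.wB)) (k.sq w k.wB ▸ one_mem _) k.wV, k.toVV.card4]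

theorem WB : F8 z v w ≤ B := sup_le k.VB (zpowers_le.2 k.wB)

theorem idxW : Local.IdxLeTwo (F8 z v w) B := C0.idx_of_card k.WB (by rw [k.cB, k.cardW])

theorem nW (h1 : n ∈ Ns P) (h2 : n ∈ Ns B) : ∀ y ∈ F8 z v w, n * y * n⁻¹ ∈ F8 z v w :=
  C0.conj_adj (fun _ hy => mem_sup_left (conj_mem (k.nsg.nV h1 h2) hy)) (by
    rw [conj_eq_cm]
    exact mul_mem (mem_sup_left (k.wc n h1 h2)) (mem_sup_right (mem_zpowers w)))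

theorem nW' : T ≤ Ns (F8 z v w) := le_Ns fun _ ha => k.nW (k.nS ha) (k.nB ha)

theorem cmW (hx : x ∈ T) (hb : b ∈ B) : ⁅x, b⁆ ∈ F8 z v w :=
  C0.comm_of_idx k.idxW (k.nW' hx) (k.nB hx) b hb

theorem cmul (ha : a ∈ B) (h1 : ⁅x, a⁆ ∈ F4 z v) (h2 : ⁅x, b⁆ ∈ F4 z v) : ⁅x, a * b⁆ ∈ F4 z v := by
  have := mul_mem h1 (k.cV (k.BP ha) h2)
  rwa [show ⁅x, a⁆ * (a * ⁅x, b⁆ * a⁻¹) = ⁅x, a * b⁆ by group] at this

theorem cmV (hx : x ∈ T) (hy : y ∈ F4 z v) : ⁅x, y⁆ ∈ F4 z v :=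
  mul_mem (conj_mem (k.toVV.n4 hx) hy) (inv_mem hy)

theorem vV : v ∈ F4 z v := mem_sup_right (mem_zpowers v)

theorem mv (hx : x ∈ T) (hP : x ∉ P) : x * v ≠ v * x := fun e => hP ((k.toVV.memP hx).2 e)

/-- An element outside `P` acts nontrivially on `B / V`. -/
theorem zero (hx : x ∈ T) (hP : x ∉ P) : ¬ ∀ b ∈ B, ⁅x, b⁆ ∈ F4 z v := fun h => by
  obtain ⟨g, h1, h2, -, -, h3⟩ := Solv.PG.exists_step_elt k.pT (k.pT.to_le k.le) k.nB k.nS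
    (lt_of_le_not_ge k.BP fun e => k.n₁ (e k.m₁))
  obtain ⟨b, hb, e⟩ := k.nsg.onto h1 h2 k.vV
  have h4 := inv_mem (h3 x (mem_sup_left hx))
  have h5 := comm_of_sq k.sq h4 (conj_mem (k.nB hx) hb)
  have h6 := k.nsg.cV h1 (h b hb)
  have h7 := k.nsg.cV (k.BP h4) k.vV
  have h8 := k.nsg.cV (k.BP (k.VB (h b hb))) k.vV
  refine k.mv hx hP (mul_inv_eq_iff_eq_mul.1 ?_)
  have e1 : g * (x * b * x⁻¹) * g⁻¹ = v * (x * b * x⁻¹) := by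
    rw [conj_eq_cm x, ← mul_assoc, h6, ← mul_assoc, ← h8, ← e]
    group
  calc x * v * x⁻¹ = ⁅g, x⁆⁻¹ * (g * (x * b * x⁻¹) * g⁻¹) * ⁅g, x⁆⁻¹⁻¹ * (x * b * x⁻¹)⁻¹ := by
        rw [← e]; group
    _ = v := by rw [e1, ← mul_assoc, h7, mul_assoc v, h5]; group

theorem fmove (hx : x ∈ T) (hP : x ∉ P) (hf : f ∈ B) (hW : f ∉ F8 z v w) : ⁅x, f⁆ ∉ F4 z v := by
  refine fun h => k.zero hx hP fun b hb => ?_
  have key : ∀ y ∈ F8 z v w, ⁅x, y⁆ ∈ F4 z v := fun y hy => (k.memW.1 hy).elim (k.cmV hx) fun e => by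
    simpa using k.cmul k.wB (k.wc x (k.nS hx) (k.nB hx)) (k.cmV hx e)
  by_cases e : b ∈ F8 z v w
  · exact key b e
  · have := k.cmul hf h (key _ (k.idxW f hf b hb hW e))
    rwa [← mul_assoc, k.sq f hf, one_mul] at this

theorem el (h1 : E ≤ P) (h2 : ∀ e ∈ E, e * e = 1) (hg : g ∈ E) (hB : g ∉ B) :
    E ≤ F4 z v ⊔ zpowers g ∧ Nat.card (F4 z v ⊔ zpowers g : Subgroup G) = 8 := by
  have a1 := fun y => k.cV (y := y) (h1 hg)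
  have a2 : g * g ∈ F4 z v := h2 g hg ▸ one_mem _
  refine ⟨fun y hy => (mem_adj a1 a2).2 ?_, by
    rw [card_adj a1 a2 fun e => hB (k.VB e), k.toVV.card4]⟩
  have c := comm_of_sq h2 hg hy
  have e1 : ∀ {p}, p * g ∈ F4 z v → p * y ∈ F4 z v → y ∈ F4 z v ∨ g⁻¹ * y ∈ F4 z v := fun a b =>
    Or.inr (by simpa [mul_assoc] using mul_mem (inv_mem a) b)
  have e2 : ∀ {p q}, p * g ∈ F4 z v → q * y ∈ F4 z v → p * q = q * p := fun {p q} a b => by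
    have b1 := k.nsg.cV (inv_mem (h1 hy)) a
    have b2 := k.nsg.cV (inv_mem (h1 hg)) b
    have b3 := k.nsg.cV (k.toVV.le4 a).1 b
    have b4 : g⁻¹ * y⁻¹ = y⁻¹ * g⁻¹ := by rw [← mul_inv_rev, ← c, mul_inv_rev]
    calc p * q = p * g * (g⁻¹ * (q * y)) * y⁻¹ := by group
      _ = q * y * (y⁻¹ * (p * g)) * g⁻¹ := by
        rw [b1, b2, ← mul_assoc, b3, mul_assoc, b4]; group
      _ = q * p := by group
  by_cases hy' : y ∈ B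
  · exact Or.inl ((k.nd g (h1 hg) y hy' c).resolve_left hB)
  rcases (k.all g (h1 hg) (h2 g hg)).resolve_left hB with a | a | a <;>
    rcases (k.all y (h1 hy) (h2 y hy)).resolve_left hy' with b | b | b
  exacts [e1 a b, absurd (e2 a b) k.c₁, absurd (e2 a b) k.c₃, absurd (e2 a b).symm k.c₁, e1 a b,
    absurd (e2 a b) k.c₂, absurd (e2 a b).symm k.c₃, absurd (e2 a b).symm k.c₂, e1 a b]

/-- `B` is the only `E₁₆`. -/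
theorem uniq (h1 : E ≤ T) (h2 : ∀ e ∈ E, e * e = 1) (h3 : Nat.card E = 16) : E = B := by
  by_cases hP : E ≤ P
  · refine eq_of_le_of_card_ge (fun g hg => ?_) (by rw [h3, k.cB])
    by_contra hB
    have a := k.el hP h2 hg hB
    have := Subgroup.card_le_of_le a.1
    omega
  obtain ⟨x, hx, hxP⟩ := SetLike.not_le_iff_exists.1 hP
  have a1 : ∀ y ∈ E ⊓ P, x * y * x⁻¹ ∈ E ⊓ P := fun y hy => by
    rwa [comm_of_sq h2 hx hy.1, mul_inv_cancel_right]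
  have a2 : x * x ∈ E ⊓ P := h2 x hx ▸ one_mem _
  have a3 : E ≤ E ⊓ P ⊔ zpowers x := fun y hy => (mem_adj a1 a2).2 (or_iff_not_imp_left.2 fun e =>
    mem_inf.2 ⟨mul_mem (inv_mem hx) hy, k.toVV.idx2 _ (inv_mem (h1 hx)) _ (h1 hy) (mt inv_mem_iff.1 hxP)
      fun e' => e ⟨hy, e'⟩⟩)
  have a4 := Subgroup.card_le_of_le a3
  rw [card_adj a1 a2 fun e => hxP e.2] at a4
  have a5 : v ∉ E ⊓ P := fun e => k.mv (h1 hx) hxP (comm_of_sq h2 hx e.1)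
  exfalso
  by_cases hB : E ⊓ P ≤ B
  · have b1 : ∀ y ∈ E ⊓ P, v * y * v⁻¹ ∈ E ⊓ P := fun y hy => by
      rwa [← k.nsg.cV hy.2 k.vV, mul_inv_cancel_right]
    have b2 : v * v ∈ E ⊓ P := k.sq v k.vB ▸ one_mem _
    have b3 : E ⊓ P ⊔ zpowers v = B := eq_of_le_of_card_ge (sup_le hB (zpowers_le.2 k.vB)) (by
      rw [card_adj b1 b2 a5, k.cB]; omega)
    have b4 : ∀ y ∈ E ⊓ P, ⁅x, y⁆ ∈ F4 z v := fun y hy => by
      rw [commutatorElement_eq_one_iff_mul_comm.2 (comm_of_sq h2 hx hy.1)]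
      exact one_mem _
    refine k.zero (h1 hx) hxP fun b hb => ((mem_adj b1 b2).1 (b3 ▸ hb)).elim (b4 b) fun e => ?_
    simpa using k.cmul k.vB (k.cmV (h1 hx) k.vV) (b4 _ e)
  · obtain ⟨g, hg, hgB⟩ := SetLike.not_le_iff_exists.1 hB
    obtain ⟨b1, b2⟩ := k.el inf_le_right (fun e he => h2 e he.1) hg hgB
    exact a5 (eq_of_le_of_card_ge b1 (by omega) ▸ mem_sup_left k.vV)

theorem nsB (h1 : H ≤ T) (h2 : B ≤ H) (hn : n ∈ Ns H) : n ∈ Ns B :=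
  cj_eq_self_iff.1 (k.uniq (cj_le_iff.2 fun _ hb => h1 (conj_mem hn (h2 hb))) (by
    rintro _ ⟨b, hb, rfl⟩
    rw [← map_mul, k.sq b hb, map_one]) ((card_cj _ _).trans k.cB))

theorem exF : ∃ f ∈ B, f ∉ F8 z v w := exists_not_mem (by rw [k.cardW, k.cB]; norm_num)

/-- `[B, H]` is the group generated by `V` and `w`. -/
theorem nsW (h1 : H ≤ T) (hg : g ∈ H) (g1 : g ∈ P) (g2 : g ∉ B) (hx : x ∈ H) (x1 : x ∉ P)
    (hn : n ∈ Ns H) (hB : n ∈ Ns B) : ∀ y ∈ F8 z v w, n * y * n⁻¹ ∈ F8 z v w := by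
  have a1 : ∀ a ∈ H, ∀ b ∈ B, n * ⁅a, b⁆ * n⁻¹ ∈ F8 z v w := fun a ha b hb => by
    rw [conjugate_commutatorElement]
    exact k.cmW (h1 (conj_mem hn ha)) (conj_mem hB hb)
  have a2 : ∀ y ∈ F4 z v, n * y * n⁻¹ ∈ F8 z v w := fun y hy => by
    obtain ⟨b, hb, rfl⟩ := k.nsg.onto g1 g2 hy
    exact a1 g hg b hb
  refine C0.conj_adj a2 ?_
  obtain ⟨f, f1, f2⟩ := k.exF
  have := mul_mem (a1 x hx f f1) (inv_mem (a2 _
    ((k.memW.1 (k.cmW (h1 hx) f1)).resolve_left (k.fmove (h1 hx) x1 f1 f2))))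
  rwa [show n * ⁅x, f⁆ * n⁻¹ * (n * (w⁻¹ * ⁅x, f⁆) * n⁻¹)⁻¹ = n * (⁅x, f⁆ * ⁅x, f⁆⁻¹ * w) * n⁻¹ by
    simp only [mul_inv_rev, inv_inv, mul_assoc, inv_mul_cancel_left], mul_inv_cancel, one_mul] at this

theorem n₁₂ : g₁ * g₂ ∉ B := fun e => k.n₃ (by
  have := mul_mem (inv_mem e) k.wB
  rwa [← k.prod, inv_mul_cancel_left] at this)

theorem le_of_mem (h1 : T ≤ Ns H) (hz : z ∈ H) (hf : f ∈ H) (f1 : f ∈ B) (f2 : f ∉ F8 z v w) :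
    B ≤ H := by
  have a1 : ∀ x ∈ T, ⁅x, f⁆ ∈ H := fun x hx => mul_mem (conj_mem (h1 hx) hf) (inv_mem hf)
  have a2 : ∀ x ∈ P, x ∉ B → ⁅x, f⁆ ≠ 1 := fun x hx hB e =>
    f2 (mem_sup_left ((k.nd x hx f f1 (commutatorElement_eq_one_iff_mul_comm.1 e)).resolve_left hB))
  have a3 : ∀ x ∈ P, x ∉ B → ⁅x, f⁆ ≠ z → v ∈ H := fun x hx hB e => by
    have := a1 x (k.le hx)
    rcases k.toVV.mem4.1 (k.cm x hx f f1) with a | a | a | a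
    · exact absurd a (a2 x hx hB)
    · exact absurd a e
    · exact a ▸ this
    · exact (mul_mem_cancel_left hz).1 (a ▸ this)
  have a4 : v ∈ H := by
    by_contra hv
    have b1 := not_not.1 (mt (a3 _ k.m₁ k.n₁) hv)
    have b2 := not_not.1 (mt (a3 _ k.m₂ k.n₂) hv)
    refine a2 _ (mul_mem k.m₁ k.m₂) k.n₁₂ ?_
    rw [show ⁅g₁ * g₂, f⁆ = g₁ * ⁅g₂, f⁆ * g₁⁻¹ * ⁅g₁, f⁆ by group, b1, b2,
      mem_Cs.1 k.zc _ (k.le k.m₁), mul_inv_cancel_right, k.z2]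
  have a5 : F4 z v ≤ H := sup_le (zpowers_le.2 hz) (zpowers_le.2 a4)
  have a6 : F8 z v w ≤ H := sup_le a5 (zpowers_le.2 (inv_mem_iff.1 ((mul_mem_cancel_right
    (a1 s k.sS)).1 (a5 ((k.memW.1 (k.cmW k.sS f1)).resolve_left (k.fmove k.sS k.sP f1 f2))))))
  intro b hb
  by_cases e : b ∈ F8 z v w
  · exact a6 e
  · exact (mul_mem_cancel_left hf).1 (a6 (k.idxW f f1 b hb f2 e))

/-- The set `B ∖ V⟨w⟩` is closed under fusion. -/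
theorem cls (hG : Gen T) (hN : ∀ P d s, Tri T P d s → T ≤ Ns P) :
    ∀ a ∈ T, ∀ b ∈ T, IsConj a b → a ∈ B ∧ a ∉ F8 z v w → b ∈ B ∧ b ∉ F8 z v w := by
  have key : ∀ {n a}, n ∈ Ns B → (∀ y ∈ F8 z v w, n⁻¹ * y * n⁻¹⁻¹ ∈ F8 z v w) →
      a ∈ B ∧ a ∉ F8 z v w → n * a * n⁻¹ ∈ B ∧ n * a * n⁻¹ ∉ F8 z v w := fun h1 h2 ha =>
    ⟨conj_mem h1 ha.1, fun e => ha.2 (by simpa [mul_assoc] using h2 _ e)⟩
  refine hG.cls _ (fun n hn a _ => ?_) fun Q e r hQ a ha hf => ?_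
  · have := k.nsB le_rfl (k.BP.trans k.le) hn
    exact key this (k.nsW le_rfl (k.le k.m₁) k.m₁ k.n₁ k.sS k.sP (inv_mem hn) (inv_mem this))
  have a1 := k.nsB hQ.le (k.le_of_mem (hN _ _ _ hQ) (hQ.cent z k.zS (cs_mono hQ.le k.zc)) ha hf.1 hf.2)
    hQ.dN
  have a2 : ∀ x ∈ T, x ∈ Q ∨ x * r ∈ Q := fun x hx => hQ.idx x hx (hN _ _ _ hQ hx)
  refine key a1 ?_ hf
  by_cases hQP : Q ≤ P
  · obtain rfl : Q = P := le_antisymm hQP fun p hp => (a2 p (k.le hp)).resolve_right fun e1 =>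
      k.sP ((a2 s k.sS).elim (@hQP s) fun e2 =>
        (mul_mem_cancel_right ((mul_mem_cancel_left hp).1 (hQP e1))).1 (hQP e2))
    exact k.nW (inv_mem hQ.dN) (inv_mem a1)
  obtain ⟨x, hx, hxP⟩ := SetLike.not_le_iff_exists.1 hQP
  obtain ⟨g, b1, b2, b3⟩ : ∃ g ∈ Q, g ∈ P ∧ g ∉ B := by
    rcases a2 _ (k.le k.m₁) with b | b
    · exact ⟨_, b, k.m₁, k.n₁⟩
    rcases a2 _ (k.le (inv_mem k.m₂)) with c | c
    · exact ⟨_, inv_mem_iff.1 c, k.m₂, k.n₂⟩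
    · exact ⟨_, by simpa [mul_assoc] using mul_mem b (inv_mem c), mul_mem k.m₁ k.m₂, k.n₁₂⟩
  exact k.nsW hQ.le b1 b2 b3 hx hxP (inv_mem hQ.dN) (inv_mem a1)

/-- The subgroup generated by the involutions of `P ∖ B`. -/
theorem exM : ∃ M : Subgroup G, F8 z v w ≤ M ∧ (∀ y ∈ M, y ∈ B → y ∈ F8 z v w) ∧
    ∀ x ∈ T, ∀ y ∈ T, ⁅x, y⁆ ∈ M := by
  have a1 : ∀ y ∈ F8 z v w, g₁ * y * g₁⁻¹ ∈ F8 z v w := fun _ => conj_mem (k.nW' (k.le k.m₁))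
  have a2 : g₁ * g₁ ∈ F8 z v w := k.q₁ ▸ one_mem _
  have a3 : ∀ y ∈ F8 z v w ⊔ zpowers g₁, g₂ * y * g₂⁻¹ ∈ F8 z v w ⊔ zpowers g₁ :=
    C0.conj_adj (fun _ hy => mem_sup_left (conj_mem (k.nW' (k.le k.m₂)) hy)) (by
      rw [conj_eq_cm]
      exact mul_mem (mem_sup_left (mem_sup_left (k.nsg.ea.comm k.m₂ k.m₁)))
        (mem_sup_right (mem_zpowers _)))
  have a4 : g₂ * g₂ ∈ F8 z v w ⊔ zpowers g₁ := k.q₂ ▸ one_mem _
  have a5 : g₂ ∉ F8 z v w ⊔ zpowers g₁ := fun e => ((mem_adj a1 a2).1 e).elim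
    (fun e => k.n₂ (k.WB e)) fun e => k.n₁₂ (inv_eq k.q₁ ▸ k.WB e)
  have a6 := card_adj a3 a4 a5
  rw [card_adj a1 a2 fun e => k.n₁ (k.WB e), k.cardW] at a6
  have b0 : F8 z v w ≤ F8 z v w ⊔ zpowers g₁ ⊔ zpowers g₂ := le_sup_left.trans le_sup_left
  have b1 : g₁ ∈ F8 z v w ⊔ zpowers g₁ ⊔ zpowers g₂ := mem_sup_left (mem_sup_right (mem_zpowers _))
  have b2 : g₂ ∈ F8 z v w ⊔ zpowers g₁ ⊔ zpowers g₂ := mem_sup_right (mem_zpowers _)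
  have b3 : g₃ ∈ F8 z v w ⊔ zpowers g₁ ⊔ zpowers g₂ := (mul_mem_cancel_left (mul_mem b1 b2)).1
    (k.prod ▸ b0 (mem_sup_right (mem_zpowers w)))
  have b4 : ∀ x ∈ T, ∀ g ∈ P, g ∉ B → g * g = 1 →
      x * g * x⁻¹ ∈ F8 z v w ⊔ zpowers g₁ ⊔ zpowers g₂ := fun x hx g hg hB g2 => by
    rcases k.all _ (conj_mem (k.nS hx) hg) (by rw [conj_mul, g2]; group) with e | e | e | e
    · exact absurd ((mem_normalizer_iff.1 (k.nB hx) g).2 e) hB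
    · exact (mul_mem_cancel_left b1).1 (b0 (mem_sup_left e))
    · exact (mul_mem_cancel_left b2).1 (b0 (mem_sup_left e))
    · exact (mul_mem_cancel_left b3).1 (b0 (mem_sup_left e))
  have b5 : T ≤ Ns (F8 z v w ⊔ zpowers g₁ ⊔ zpowers g₂) := le_Ns fun x hx =>
    C0.conj_adj (C0.conj_adj (fun _ hy => b0 (conj_mem (k.nW' hx) hy)) (b4 x hx _ k.m₁ k.n₁ k.q₁))
      (b4 x hx _ k.m₂ k.n₂ k.q₂)
  have b6 := C0.idx_of_card (sup_le (sup_le (k.WB.trans k.BP) (zpowers_le.2 k.m₁)) (zpowers_le.2 k.m₂))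
    (by rw [a6, k.cP])
  have b7 := fun x hx => C0.comm_of_idx b6 (b5 hx) (k.nS (x := x) hx)
  refine ⟨_, b0, fun y hy hB => ?_, fun x hx y hy => ?_⟩
  · rcases (mem_adj a3 a4).1 hy with e | e <;> rcases (mem_adj a1 a2).1 e with e | e
    · exact e
    · exact absurd (inv_mem_iff.1 ((mul_mem_cancel_right hB).1 (k.WB e))) k.n₁
    · exact absurd (inv_mem_iff.1 ((mul_mem_cancel_right hB).1 (k.WB e))) k.n₂
    · rw [← mul_assoc, inv_eq k.q₁, inv_eq k.q₂] at e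
      exact absurd ((mul_mem_cancel_right hB).1 (k.WB e)) k.n₁₂
  by_cases h1 : y ∈ P
  · exact b7 x hx y h1
  by_cases h2 : x ∈ P
  · exact commutatorElement_inv y x ▸ inv_mem (b7 y hy x h2)
  have := conj_mem (b5 hx) (b7 x hx _ (k.toVV.idx2 _ (inv_mem hx) y hy (mt inv_mem_iff.1 h2) h1))
  rwa [show x * ⁅x, x⁻¹ * y⁆ * x⁻¹ = ⁅x, y⁆ by group] at this

end Pf

theorem PB.false (h : Six S) (h1 : PB (S : Subgroup G) P B d s z v) : False := by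
  have k := h1.nsg
  rcases tt_or k.h1 k.h2 k.h3 k.h4 k.h5 k.h6 k.h7 k.h8 k.h9 with ⟨A, hA⟩ |
    ⟨w, a1, a2, a3, g₁, a4, g₂, a5, g₃, -, a6, a7, a8, a9, b1, b2, b3, b4, b5, b6, b7⟩
  · exact h.out (h.toCtx.ulem hA h1.le h1.toVV.fus)
  have k : Pf (S : Subgroup G) P B d s z v w g₁ g₂ g₃ :=
    ⟨h1, S.isPGroup', a1, a2, a3, a4, a5, a6, a7, a8, a9, b1, b2, b3, b4, b5, b6, b7⟩
  obtain ⟨f, f1, f2⟩ := k.exF
  obtain ⟨M, m1, m2, m3⟩ := k.exM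
  have c := fun b hb hc => k.cls h.gen h.nrm f (k.le (k.BP f1)) b hb hc ⟨f1, f2⟩
  obtain ⟨g, c1, c2, -⟩ := h.toCtx.tr m3 (k.sq f f1) fun u hu r hr e1 e2 _ _ =>
    m1 (k.idxW u (c u hu e1).1 r (c r hr e2).1 (c u hu e1).2 (c r hr e2).2)
  have := c _ c1 (isConj_iff.2 ⟨g, rfl⟩)
  exact this.2 (m2 _ c2 this.1)

end Cfsg.Lib.GHN
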