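import Cfsg.Agent.GHN.PzC
import Cfsg.Agent.GHN.PzN

/-!
# Simple groups of sectional 2-rank at most four: the squaring map on `P / Φ(P)`
-/

set_option autoImplicit false
set_option linter.unusedSectionVars false

namespace Cfsg.Lib.GHN

open Subgroup Cfsg.Lib.Trans Cfsg.Lib.Gold Cfsg.Lib.Rank2 PzC PzN
open scoped commutatorElement

universe u

variable {G : Type u} [Group G] [Finite G] {S : Sylow 2 G} {T P M Z H : Subgroup G}
  {t e m n x y p z : G} {V : Type u} [AddCommGroup V] {π : G → V} {A : G → V ≃+ V}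

namespace PzT

theorem rel_le {k : ℕ} (l : Fin k → G) (h1 : ∀ i, l i ∈ M) (h2 : ∀ x ∈ M, ∃ i, x * l i ∈ H) :
    H.relIndex M ≤ k := by
  simpa [relIndex, index] using Nat.card_le_card_of_surjective
    (fun i => (QuotientGroup.mk ⟨l i, h1 i⟩ : M ⧸ H.subgroupOf M)) fun v => by
      obtain ⟨x, rfl⟩ := QuotientGroup.mk_surjective v
      obtain ⟨i, e⟩ := h2 _ (inv_mem x.2)
      exact ⟨i, (QuotientGroup.eq.2 (show x⁻¹ * ⟨l i, h1 i⟩ ∈ H.subgroupOf M from e)).symm⟩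

variable (h : Pz T P M Z t e)
include h

theorem sc : ∃ (V : Type u) (_ : AddCommGroup V) (π : G → V) (A : G → V ≃+ V), Sc Z P π A :=
  exists_sc ⟨ZP h, fun _ => sq h, fun _ hx _ hk => mem_normalizer_conj (NZ h (le_normalizer hx)) hk⟩
    (NZ h)

theorem sq_mul (hx : x ∈ P) (hz : z ∈ Z) : z * x * (z * x) = x * x := by
  rw [mul_assoc, ← mul_assoc x, ← cZ h hx hz, mul_assoc, ← mul_assoc, h.Z2 z hz, one_mul]

theorem faith (hm : m ∈ M) (h1 : ∀ p ∈ P, ⁅m, p⁆ ∈ Z) : m ∈ Kn P := by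
  rcases h.min (M ⊓ Tv Z P) (le_inf h.KM fun k hk => ⟨NZ h (h.MN (h.KM hk)), fun p hp =>
    (KC h hp hk).2⟩) inf_le_left fun g hg => mem_Ns_inf (h.nM hg)
      (ns_of fun x hx => Tv_conj hx (NZ h hg.2) hg.2) with k | k
  · exact k.le ⟨hm, NZ h (h.MN hm), h1⟩
  · have := Trans.card_le_of_le fun p hp => h.fpf p hp ((k.ge h.eM).2.2 p hp)
    have : 0 < Nat.card Z := Nat.card_pos
    have := h.card
    omega

theorem pow5 (h5 : (Kn P).relIndex M = 5) : e ^ 5 ∈ Kn P := by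
  have : ((Kn P).subgroupOf M).Normal := normal_subgroupOf_of_le_normalizer fun g hg =>
    mem_Ns_sup (h.MN hg) (mem_Ns_Cs (h.MN hg))
  have := pow_index_mem ((Kn P).subgroupOf M) ⟨e, h.eM⟩
  rwa [show ((Kn P).subgroupOf M).index = 5 from h5] at this

variable (hs : Sc Z P π A)
include hs

theorem TT (v : V) : A t (A t v) = v := by rw [← hs.A_mul h.tN h.tN, hs.A_K (mem_sup_left h.t2)]

theorem inv (hm : m ∈ M) (v : V) : A m (A t (A m v)) = A t v := by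
  have e1 := hs.A_K (h.inv m hm) v
  have := h.MN hm
  rw [hs.A_mul (mul_mem (mul_mem h.tN this) (inv_mem h.tN)) this,
    hs.A_mul (mul_mem h.tN this) (inv_mem h.tN), hs.A_mul h.tN this, ← TT h hs (A m v),
    ← hs.A_mul (inv_mem h.tN) h.tN, inv_mul_cancel, hs.A_K (one_mem _)] at e1
  rw [← TT h hs (A m _), e1]

theorem Acomm (hm : m ∈ M) (hn : n ∈ M) (v : V) : A m (A n v) = A n (A m v) := by
  have e1 := inv h hs (mul_mem hm hn) v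
  rw [hs.A_mul (h.MN hm) (h.MN hn), hs.A_mul (h.MN hm) (h.MN hn), ← inv h hs hm v,
    ← inv h hs hn (A m v)] at e1
  simpa using e1

theorem fp (v : V) (h1 : A e v = v) : v = 0 := by
  obtain ⟨p, hp, rfl⟩ := hs.sur v
  exact (hs.zero hp).2 (h.fpf p hp ((hs.comm_iff (h.MN h.eM) hp).2 h1))

theorem fp2 (v : V) (h1 : A e (A e v) = v) : v = 0 := by
  obtain ⟨p, hp, rfl⟩ := hs.sur v
  have he := h.MN h.eM
  have h2 : e * e ∈ Cg Z p := ⟨NZ h (mul_mem he he),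
    (hs.comm_iff (mul_mem he he) hp).2 ((hs.A_mul he he _).trans h1)⟩
  have h3 := mul_mem (pow_mem h2 8) (inv_mem (KC h hp (e15 h)))
  rw [show (e * e) ^ 8 * (e ^ 15)⁻¹ = e by rw [← pow_two]; group] at h3
  exact (hs.zero hp).2 (h.fpf p hp h3.2)

theorem sq_eq (hx : x ∈ P) (hy : y ∈ P) (h1 : π x = π y) : x * x = y * y := by
  simpa using sq_mul h hy ((hs.eq_iff hx hy).1 h1)

theorem qd : ∃ (W : Type u) (_ : AddCommGroup W) (ρ : G → W) (q : V → W) (b : V → V → W),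
    QD q b ∧ (∀ x ∈ P, q (π x) = ρ (x * x)) ∧ (∀ x ∈ P, ∀ y ∈ P, b (π x) (π y) = ρ ⁅x, y⁆) ∧
    (∀ x ∈ Z, ∀ y ∈ Z, ρ (x * y) = ρ x + ρ y) ∧ (∀ x ∈ Z, ρ x = 0 ↔ x = 1) ∧
    (∀ x ∈ Z, ∀ y ∈ Z, ρ x = ρ y → x = y) ∧ ∀ m ∈ M, ∀ v, q (A m v) = q v := by
  obtain ⟨W, _, ρ, B, k⟩ := exists_sc (GHB.EA.bot h.Z2) (le_top.trans (normalizer_eq_top _).ge)
  choose s s1 s2 using hs.sur
  have e1 : ∀ x ∈ P, ρ (s (π x) * s (π x)) = ρ (x * x) := fun x hx => by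
    rw [sq_eq h hs (s1 _) hx (s2 _)]
  have e2 : ∀ x ∈ P, ∀ y ∈ P, ρ (s (π x + π y) * s (π x + π y)) + ρ (s (π x) * s (π x)) +
      ρ (s (π y) * s (π y)) = ρ ⁅x, y⁆ := fun x hx y hy => by
    have c1 := inv_mem (sq h hx)
    rw [← hs.mul hx hy, e1 _ (mul_mem hx hy), e1 x hx, e1 y hy, GHB.comm_eq_sq,
      ← cZ h (inv_mem hy) c1, mul_inv_cancel_right,
      k.mul (mul_mem (sq h (mul_mem hx hy)) c1) (inv_mem (sq h hy)),
      k.mul (sq h (mul_mem hx hy)) c1, k.inv (sq h hx), k.inv (sq h hy)]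
  refine ⟨W, inferInstance, ρ, fun v => ρ (s v * s v), fun v w => ρ (s (v + w) * s (v + w)) +
    ρ (s v * s v) + ρ (s w * s w), ⟨hs.two, k.two,
      Nat.eq_of_mul_eq_mul_right Nat.card_pos (hs.card.trans h.card), fun v w => ?_, fun u v w => ?_⟩,
    e1, e2, fun _ hx _ hy => k.mul hx hy, fun _ hx => k.zero hx,
    fun _ hx _ hy e => mul_inv_eq_one.1 ((k.eq_iff hx hy).1 e), fun m hm v => ?_⟩
  · generalize ρ (s v * s v) = a, ρ (s w * s w) = b, ρ (s (v + w) * s (v + w)) = c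
    rw [show a + b + (c + a + b) = c + (a + a) + (b + b) by abel, k.two, k.two, add_zero, add_zero]
  · obtain ⟨x, hx, rfl⟩ := hs.sur u
    obtain ⟨y, hy, rfl⟩ := hs.sur v
    obtain ⟨z, hz, rfl⟩ := hs.sur w
    rw [← hs.mul hy hz, e2 x hx _ (mul_mem hy hz), e2 x hx y hy, e2 x hx z hz,
      ← k.mul (comm h hx hy) (comm h hx hz),
      show ⁅x, y * z⁆ = ⁅x, y⁆ * (y * ⁅x, z⁆ * y⁻¹) by simp only [commutatorElement_def]; group,
      ← cZ h hy (comm h hx hz), mul_inv_cancel_right]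
  · obtain ⟨x, hx, rfl⟩ := hs.sur v
    beta_reduce
    rw [← hs.act (h.MN hm) hx, e1 _ (mem_normalizer_conj (h.MN hm) hx), e1 x hx,
      show m * x * m⁻¹ * (m * x * m⁻¹) = m * (x * x) * m⁻¹ by group, cs_conj (h.MZ hm) (sq h hx)]

theorem fixT {v : V} (hv : A t v = v) : ∃ w, v = w + A t w := by
  obtain ⟨W, _, ρ, q, b, k, -⟩ := qd h hs
  exact k.fixT (TT h hs) (fp2 h hs) (inv h hs h.eM) hv

omit hs in
theorem nc (h0 : Z ≠ ⊥) (hp : p ∈ P) (h1 : p ∈ Cs P) : p ∈ Z := by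
  obtain ⟨V, _, π, A, hs⟩ := sc h
  obtain ⟨W, _, ρ, q, b, k, e1, e2, -, e4, -, e6⟩ := qd h hs
  rcases h.irr (P ⊓ Cs P) (le_inf (ZP h) (le_Cs_comm.1 ((PM h).trans h.MZ))) inf_le_left
    (le_Ns_inf h.MN (le_Ns_Cs h.MN)) (le_Ns_inf inf_le_right (le_Ns_Cs inf_le_right)) with r | r
  · exact r.le ⟨hp, h1⟩
  refine absurd (le_bot_iff.1 (h.eq.le.trans (GHB.Phi_le_iff.2 fun x hx => ?_))) h0
  refine (e4 _ (sq h hx)).1 ((e1 x hx).symm.trans (k.q_triv (fp h hs) (e6 e h.eM) (fun v w => ?_) _))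
  obtain ⟨x, hx, rfl⟩ := hs.sur v
  obtain ⟨y, hy, rfl⟩ := hs.sur w
  rw [e2 x hx y hy, e4 _ (comm h hx hy), commutatorElement_eq_one_iff_mul_comm]
  exact cs_comm (r.ge hx).2 hy

/-- The values of the squaring map. -/
theorem st (h0 : Z ≠ ⊥) : ∃ a ∈ P, ∃ c ∈ P, a * c ∉ Z ∧ A t (π a) = π a ∧ A t (π c) = π c ∧
    a * c = c * a ∧ (∀ p ∈ P, p ∉ Z → p * p = a * a ∨ p * p = c * c ∨ p * p = a * a * (c * c)) ∧
    ((Kn P).relIndex M = 5 ∨ (a * a ≠ 1 ∧ c * c ≠ 1 ∧ (∃ d ∈ M, d ∉ Kn P ∧ A d (π a) = π a) ∧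
      ∀ p ∈ P, p ∉ Z → p * p = 1 → (∃ m ∈ M, A m (π (a * c)) = π p) ∧
        (A t (π p) = π p → π p = π (a * c)))) := by
  obtain ⟨W, _, ρ, q, b, k, e1, e2, e3, e4, e5, e6⟩ := qd h hs
  have he := h.MN h.eM
  have f1 : ∀ a ∈ P, ∀ c ∈ P, b (π a) (π c) = 0 → a * c = c * a := fun a ha c hc e => by
    rwa [e2 a ha c hc, e4 _ (comm h ha hc), commutatorElement_eq_one_iff_mul_comm] at e
  have f2 : ∀ a ∈ P, ∀ c ∈ P, q (π a) = q (π c) → a * a = c * c := fun a ha c hc e =>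
    e5 _ (sq h ha) _ (sq h hc) (by rwa [← e1 a ha, ← e1 c hc])
  have f3 : ∀ p ∈ P, ∀ a ∈ P, ∀ c ∈ P, q (π p) = q (π a) + q (π c) → p * p = a * a * (c * c) :=
    fun p hp a ha c hc e => e5 _ (sq h hp) _ (mul_mem (sq h ha) (sq h hc))
      (by rwa [e3 _ (sq h ha) _ (sq h hc), ← e1 a ha, ← e1 c hc, ← e1 p hp])
  rcases h.idx with h5 | ⟨h9, h3⟩
  · obtain ⟨a, c, Ta, Tc, -, -, n, bb, r⟩ := k.five' (E := A e) (fun v => by
      rw [← hs.A_K (pow5 h h5) v, ← hs.A_mul he he, ← hs.A_mul (mul_mem he he) he,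
        ← hs.A_mul (mul_mem (mul_mem he he) he) he,
        ← hs.A_mul (mul_mem (mul_mem (mul_mem he he) he) he) he, hs.A_K (pow5 h h5) v,
        show e * e * e * e * e = e ^ 5 by simp only [pow_succ, pow_zero, one_mul],
        hs.A_K (pow5 h h5)]) (fp h hs) (e6 e h.eM) (TT h hs) (inv h hs h.eM)
    obtain ⟨a, ha, rfl⟩ := hs.sur a
    obtain ⟨c, hc, rfl⟩ := hs.sur c
    exact ⟨a, ha, c, hc, fun e => n (hs.mul ha hc ▸ (hs.zero (mul_mem ha hc)).2 e), Ta, Tc,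
      f1 a ha c hc bb, fun p hp hZ => (r _ fun e => hZ ((hs.zero hp).1 e)).imp (f2 p hp a ha)
        (Or.imp (f2 p hp c hc) (f3 p hp a ha c hc)), .inl h5⟩
  have c3 : ∀ m ∈ M, ∀ v, A m (A m (A m v)) = v := fun m hm v => by
    have := h.MN hm
    rw [← hs.A_mul this this, ← hs.A_mul (mul_mem this this) this, ← pow_three', hs.A_K (h3 m hm)]
  have nt : ∀ m ∈ M, m ∉ Kn P → ¬ ∀ v, A m v = v := fun m hm n r =>
    n (faith h hm fun p hp => (hs.comm_iff (h.MN hm) hp).2 (r _))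
  obtain ⟨d, hd, n⟩ : ∃ d ∈ M, ∀ i : Fin 3, d * e ^ (i : ℕ) ∉ Kn P := by
    by_contra r
    push Not at r
    have := rel_le (fun i : Fin 3 => e ^ (i : ℕ)) (fun _ => pow_mem h.eM _) r
    omega
  have n0 : d ∉ Kn P := by simpa using n 0
  have n1 : d * e ∉ Kn P := by simpa using n 1
  have n2 : d * e * e ∉ Kn P := by simpa [pow_two, mul_assoc] using n 2
  have d1 := mul_mem hd h.eM
  have d2 := mul_mem d1 h.eM
  have a1 := hs.A_mul (h.MN hd) he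
  have a2 := hs.A_mul (h.MN d1) he
  obtain ⟨d, hd, n0, ⟨a, na, Xa⟩, c, nc', Xc⟩ : ∃ d ∈ M, d ∉ Kn P ∧ (∃ a, a ≠ 0 ∧ A d a = a) ∧
      ∃ a, a ≠ 0 ∧ A (d * e) a = a := by
    rcases k.two_fix (c3 e h.eM) (fp h hs) (Acomm h hs hd h.eM) (c3 d hd) (nt d hd n0)
      (by simpa only [← a1] using nt _ d1 n1) (by simpa only [← a1, ← a2] using nt _ d2 n2)
      with r | r | r
    · exact ⟨d, hd, n0, by simpa only [a1] using r⟩
    · exact ⟨_, d1, n1, by simpa only [a1, a2] using r⟩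
    · exact ⟨_, d2, n2, by simpa only [hs.A_mul (h.MN d2) he, a1, a2, c3 e h.eM] using r⟩
  obtain ⟨a, na, Xa, Ta⟩ := k.exists_fix (TT h hs) (inv h hs hd) na Xa
  obtain ⟨c, nc', Xc, Tc⟩ := k.exists_fix (TT h hs) (inv h hs (mul_mem hd h.eM)) nc' Xc
  obtain ⟨n, bb, qa, qc, r⟩ := k.nine' (c3 e h.eM) (fp h hs) (Acomm h hs hd h.eM) (e6 e h.eM)
    (e6 d hd) (inv h hs h.eM) na nc' Xa ((hs.A_mul (h.MN hd) he c).symm.trans Xc) Ta Tc
    (fun v r => by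
      obtain ⟨x, hx, rfl⟩ := hs.sur v
      exact (hs.zero hx).2 (nc h h0 hx (cs_of fun y hy => f1 x hx y hy (r _))))
    (fun v => ∃ m ∈ M, A m (a + c) = v) ⟨1, one_mem _, hs.A_K (one_mem _) _⟩
    (by rintro _ ⟨m, hm, rfl⟩; exact ⟨_, mul_mem h.eM hm, hs.A_mul he (h.MN hm) _⟩)
    (by rintro _ ⟨m, hm, rfl⟩; exact ⟨_, mul_mem hd hm, hs.A_mul (h.MN hd) (h.MN hm) _⟩)
  obtain ⟨a, ha, rfl⟩ := hs.sur a
  obtain ⟨c, hc, rfl⟩ := hs.sur c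
  have g : ∀ a ∈ P, q (π a) ≠ 0 → a * a ≠ 1 := fun a ha n e =>
    n ((e1 a ha).trans ((e4 _ (sq h ha)).2 e))
  refine ⟨a, ha, c, hc, fun e => n (hs.mul ha hc ▸ (hs.zero (mul_mem ha hc)).2 e), Ta, Tc,
    f1 a ha c hc bb, fun p hp hZ => (r _ fun e => hZ ((hs.zero hp).1 e)).imp (f2 p hp a ha)
      (Or.imp (f2 p hp c hc) fun e => f3 p hp a ha c hc e.1),
    .inr ⟨g a ha qa, g c hc qc, ⟨d, hd, n0, Xa⟩, fun p hp hZ p2 => ?_⟩⟩
  rcases r _ fun e => hZ ((hs.zero hp).1 e) with e | e | e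
  · exact absurd ((f2 p hp a ha e).symm.trans p2) (g a ha qa)
  · exact absurd ((f2 p hp c hc e).symm.trans p2) (g c hc qc)
  · exact hs.mul ha hc ▸ e.2

omit hs in
theorem eqF4 {a c : G} (ha : a ∈ P) (hc : c ∈ P)
    (r : ∀ p ∈ P, p ∉ Z → p * p = a * a ∨ p * p = c * c ∨ p * p = a * a * (c * c)) :
    Z = F4 (a * a) (c * c) := by
  refine le_antisymm (h.eq.le.trans (GHB.Phi_le_iff.2 fun p hp => ?_))
    (sup_le (zpowers_le.2 (sq h ha)) (zpowers_le.2 (sq h hc)))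
  rw [mem_F4 (h.Z2 _ (sq h ha)) (h.Z2 _ (sq h hc)) (cZ h (mul_mem hc hc) (sq h ha))]
  exact or_iff_not_imp_left.2 fun n => r p hp fun k => n (h.Z2 p k)

omit hs in
theorem memZ {a c : G} (ha : a ∈ P) (hc : c ∈ P)
    (r : ∀ p ∈ P, p ∉ Z → p * p = a * a ∨ p * p = c * c ∨ p * p = a * a * (c * c)) (hz : z ∈ Z) :
    z = 1 ∨ z = a * a ∨ z = c * c ∨ z = a * a * (c * c) :=
  (mem_F4 (h.Z2 _ (sq h ha)) (h.Z2 _ (sq h hc)) (cZ h (mul_mem hc hc) (sq h ha))).1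
    ((eqF4 h ha hc r).le hz)

end PzT

open PzT in
theorem Pz.tri (h1 : Pz (S : Subgroup G) P M Z t e) (h0 : Z ≠ ⊥) :
    (Nat.card Z = 4 ∧ ∀ p ∈ P, p * p = 1 → p ∈ Z) ∨
    (Nat.card Z = 2 ∧ ((Kn P).relIndex M = 5 ∨ ∃ u ∈ P, u ∉ Z ∧ u * u = 1 ∧ ⁅t, u⁆ ∈ Z ∧
      (∀ p ∈ P, p ∉ Z → p * p = 1 → IsConj u p) ∧
      ∀ p ∈ P, p ∉ Z → p * p = 1 → ⁅t, p⁆ ∈ Z → u * p ∈ Z)) := by
  obtain ⟨V, _, π, A, hs⟩ := sc h1
  obtain ⟨a, ha, c, hc, n, Ta, Tc, ac, r, k⟩ := st h1 hs h0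
  have a2 := h1.Z2 _ (sq h1 ha)
  have c2 := h1.Z2 _ (sq h1 hc)
  by_cases o : a * a ≠ 1 ∧ c * c ≠ 1 ∧ a * a * (c * c) ≠ 1
  · refine .inl ⟨?_, fun p hp p2 => by_contra fun hZ => ?_⟩
    · rw [eqF4 h1 ha hc r, GHB.card_adj (fun b hb => by
        rw [← cZ h1 (mul_mem hc hc) (zpowers_le.2 (sq h1 ha) hb), mul_inv_cancel_right]; exact hb)
        (c2 ▸ one_mem _) fun e => by
          rcases (mem_zp a2).1 e with e | e
          exacts [o.2.1 e, o.2.2 (e ▸ a2)], Nat.card_zpowers, Four.ord_two a2 o.1]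
    · rcases r p hp hZ with e | e | e
      exacts [o.1 (e ▸ p2), o.2.1 (e ▸ p2), o.2.2 (e ▸ p2)]
  obtain ⟨z, hz, z1⟩ : ∃ z ∈ Z, z ≠ 1 := by
    by_contra k
    push Not at k
    exact h0 ((eq_bot_iff_forall _).2 k)
  have zz : ∀ x ∈ Z, x = 1 ∨ x = z := fun x hx => by
    have k1 := memZ h1 ha hc r hx
    have k2 := memZ h1 ha hc r hz
    generalize a * a = α, c * c = β at *
    by_cases e1 : α = 1
    · subst e1; simp only [one_mul] at k1 k2; grind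
    by_cases e2 : β = 1
    · subst e2; simp only [mul_one] at k1 k2; grind
    have e3 : α * β = 1 := by_contra fun e3 => o ⟨e1, e2, e3⟩
    have := mul_left_cancel (e3.trans a2.symm)
    grind
  refine .inr ⟨by
    rw [show Z = zpowers z from le_antisymm (fun x hx => (mem_zp (h1.Z2 z hz)).2 (zz x hx))
      (zpowers_le.2 hz), Nat.card_zpowers, Four.ord_two (h1.Z2 z hz) z1], k.imp_right ?_⟩
  rintro ⟨o1, o2, -, k⟩
  have hu := mul_mem ha hc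
  refine ⟨a * c, hu, n, ?_, (hs.comm_iff h1.tN hu).2 (by rw [hs.mul ha hc, map_add, Ta, Tc]),
    fun p hp hZ p2 => ?_, fun p hp hZ p2 e => (hs.eq_iff' hu hp).1
      ((k p hp hZ p2).2 ((hs.comm_iff h1.tN hp).1 e)).symm⟩
  · rw [mul_assoc, ← mul_assoc c, ← ac, mul_assoc, ← mul_assoc]
    exact by_contra fun e => o ⟨o1, o2, e⟩
  obtain ⟨m, hm, e⟩ := (k p hp hZ p2).1
  rw [← hs.act (h1.MN hm) hu, hs.eq_iff (mem_normalizer_conj (h1.MN hm) hu) hp] at e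
  refine (isConj_iff.2 ⟨m, rfl⟩).trans ?_
  rcases zz _ e with e | e
  · rw [mul_inv_eq_one.1 e]
  obtain ⟨x, hx, n⟩ : ∃ x ∈ P, p * x ≠ x * p := by
    by_contra n
    push Not at n
    exact hZ (nc h1 h0 hp (cs_of n))
  rw [mul_inv_eq_iff_eq_mul.1 e, ← (zz _ (comm h1 hx hp)).resolve_left fun e =>
    n (commutatorElement_eq_one_iff_mul_comm.1 e).symm, ← conj_eq_cm]
  exact (isConj_iff.2 ⟨x, rfl⟩).symm

end Cfsg.Lib.GHN
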