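import Cfsg.Agent.GHN.QEa
import Cfsg.Agent.GHN.G64

/-!
# The homocyclic case: the end
-/

set_option autoImplicit false

namespace Cfsg.Lib.GHN

open Subgroup Cfsg.Lib.Trans Cfsg.Lib.Gold Cfsg.Lib.Rank2 Cfsg.Lib.GHB
open scoped commutatorElement

universe u

variable {G : Type u} [Group G] [Finite G] {S : Sylow 2 G} {P R : Subgroup G}
  {a c c' d f g i j p s x y z σ α : G} {k : ℕ}

namespace QEk

open QGk

theorem zp_invol (h1 : x ∈ zpowers c) (h2 : y ∈ zpowers c) (h3 : x * x = 1) (h4 : y * y = 1)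
    (h5 : x ≠ 1) (h6 : y ≠ 1) : x = y := by
  classical
  by_contra h
  have := Fintype.ofFinite (zpowers c)
  have e := IsCyclic.card_pow_eq_one_le (α := zpowers c) two_pos
  have e1 : ({1, ⟨x, h1⟩, ⟨y, h2⟩} : Finset (zpowers c)) ⊆ Finset.univ.filter (· ^ 2 = 1) := by
    intro w hw
    simp only [Finset.mem_insert, Finset.mem_singleton] at hw
    rcases hw with rfl | rfl | rfl <;> simp [sq, Subtype.ext_iff, h3, h4]
  have e2 := Finset.card_le_card e1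
  rw [Finset.card_eq_three.2 ⟨_, _, _, by simp [Subtype.ext_iff, h5.symm],
    by simp [Subtype.ext_iff, h6.symm], by simp [Subtype.ext_iff, h], rfl⟩] at e2
  omega

variable (h0 : QG S P R d s z i j a f σ k)
include h0

/-- Elements with square in `A`. -/
theorem sqA (hα : α ∈ Dl a (f * a * f⁻¹)) (hc : c ∈ R ⊓ C1 f) (hx : x = c ∨ x = c * σ)
    (h : α * x * (α * x) ∈ Dl a (f * a * f⁻¹)) : c * c = 1 := by
  have xS : x ∈ (S : Subgroup G) := by
    rcases hx with rfl | rfl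
    exacts [h0.tri.le hc.1, mul_mem (h0.tri.le hc.1) h0.tri.sS]
  have e : x * x = c * c := by
    rcases hx with rfl | rfl
    · rfl
    · rw [mul_assoc, ← mul_assoc σ, cσ' h0 hc, mul_assoc c, h0.σ2, mul_one]
  rw [show α * x * (α * x) = α * (x * α * x⁻¹) * (x * x) by group, e,
    mul_mem_cancel_left (mul_mem hα (nr (nA h0 xS) hα))] at h
  exact fixA h0 h (mem_C1.1 (mul_mem hc.2 hc.2)).symm

theorem uniq (hc : c ∈ R ⊓ C1 f) (hc' : c' ∈ R ⊓ C1 f) (h1 : c * c = 1) (h2 : c ≠ 1)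
    (h3 : c' * c' = 1) : c' = 1 ∨ c' = c := by
  obtain ⟨c0, e⟩ := h0.cyc
  exact or_iff_not_imp_left.2 fun h => zp_invol (e.le hc') (e.le hc) h3 h1 h h2

theorem cmA (hx : x ∈ (S : Subgroup G)) (hy : y ∈ (S : Subgroup G)) :
    ⁅x, y⁆ ∈ Dl a (f * a * f⁻¹) := by
  obtain ⟨c0, e⟩ := h0.cyc
  have k : ∀ x ∈ (S : Subgroup G), ∃ α ∈ Dl a (f * a * f⁻¹), ∃ b ∈ (S : Subgroup G),
      b ∈ zpowers c0 ⊔ zpowers σ ∧ x = α * b := fun x hx => by
    obtain ⟨α, h1, c, h2, rfl | rfl⟩ := decS h0 hx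
    · exact ⟨α, h1, c, h0.tri.le h2.1, mem_sup_left (e.le h2), rfl⟩
    · exact ⟨α, h1, _, mul_mem (h0.tri.le h2.1) h0.tri.sS,
        mul_mem (mem_sup_left (e.le h2)) (mem_sup_right (mem_zpowers σ)), rfl⟩
  obtain ⟨α, h1, b, h2, h3, rfl⟩ := k x hx
  obtain ⟨α', h1', b', h2', h3', rfl⟩ := k y hy
  have e0 : Commute c0 σ := (cσ' h0 (e.ge (mem_zpowers c0))).symm
  have e1 : ∀ t, Commute c0 t → Commute σ t → ∀ w ∈ zpowers c0 ⊔ zpowers σ, Commute w t :=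
    fun t t1 t2 w hw => mem_C1.1 ((sup_le (zpowers_le.2 (mem_C1.2 t1)) (zpowers_le.2 (mem_C1.2 t2)) :
      _ ≤ C1 t) hw)
  have e2 : b * b' = b' * b :=
    e1 b' (e1 c0 (.refl _) e0.symm b' h3').symm (e1 σ e0 (.refl _) b' h3').symm b h3
  have := mul_mem (mul_mem (mul_mem h1 (nr (nA h0 h2) h1')) (nr (nA h0 h2') (inv_mem h1)))
    (inv_mem h1')
  rwa [show α * (b * α' * b⁻¹) * (b' * α⁻¹ * b'⁻¹) * α'⁻¹ =
    α * b * α' * (b⁻¹ * (b' * b)) * b⁻¹ * α⁻¹ * b'⁻¹ * α'⁻¹ by group, ← e2,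
    show α * b * α' * (b⁻¹ * (b * b')) * b⁻¹ * α⁻¹ * b'⁻¹ * α'⁻¹ = ⁅α * b, α' * b'⁆ by
      rw [commutatorElement_def]; group] at this

theorem odd {κ : ℤ} (hp : p ∈ (S : Subgroup G)) (h : p * a * p⁻¹ = a ^ κ) : Odd κ := by
  by_contra e
  obtain ⟨m, rfl⟩ := Int.not_odd_iff_even.1 e
  have e1 := mul_inv_eq_iff_eq_mul.2 (q_zc h0.qh hp)
  rw [← h0.qh.za, ← conj_pow, h, ← zpow_natCast, ← zpow_mul,
    (zp_one h0.qh.ord).2 (Dvd.intro m (by push_cast; ring))] at e1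
  exact h1 h0.qh.ord e1.symm

end QEk

open QGk QEk in
theorem QG.invi (h0 : QG S P R d s z i j a f σ k) (hc : c ∈ R) (h1 : f * c = c * f) (h2 : c * c = 1)
    (h3 : c ≠ 1) : c * i * c⁻¹ = i⁻¹ := by
  refine (acti h0 (h0.tri.le hc)).resolve_left fun hi => ?_
  have A := ha h0
  have hC : c ∈ R ⊓ C1 f := ⟨hc, mem_C1.2 h1.symm⟩
  have σM : σ ∈ Dl a (f * a * f⁻¹) ⊔ zpowers σ := mem_sup_right (mem_zpowers σ)
  have sq : ∀ u, IsConj c u → u * u = 1 := fun u hu => by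
    obtain ⟨g, rfl⟩ := isConj_iff.1 hu
    rw [conj_mul, h2]; simp
  have out : ∀ u ∈ (S : Subgroup G), IsConj c u → u ∉ Dl a (f * a * f⁻¹) ⊔ zpowers σ →
      u * c ∈ Dl a (f * a * f⁻¹) ⊔ zpowers σ := fun u hu e e' => by
    obtain ⟨α, a1, c', a2, rfl | rfl⟩ := decS h0 hu
    · rcases uniq h0 hC a2 h2 h3 (sqA h0 a1 a2 (Or.inl rfl) (sq _ e ▸ one_mem _)) with rfl | rfl
      · exact absurd (mem_sup_left (by simpa using a1)) e'
      · rw [mul_assoc α, h2, mul_one]; exact mem_sup_left a1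
    · rcases uniq h0 hC a2 h2 h3 (sqA h0 a1 a2 (Or.inr rfl) (sq _ e ▸ one_mem _)) with rfl | rfl
      · exact absurd (mul_mem (mem_sup_left a1) (by simpa using σM)) e'
      · rw [mul_assoc α, mul_assoc c', cσ' h0 a2, ← mul_assoc c', h2, one_mul]
        exact mul_mem (mem_sup_left a1) σM
  obtain ⟨g, -, g1, -⟩ := h0.cx.toCtx.tr (M := Dl a (f * a * f⁻¹) ⊔ zpowers σ)
    (fun x hx y hy => mem_sup_left (cmA h0 hx hy)) h2 fun u hu v hv u1 v1 u2 v2 => by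
      have := mul_mem (out u hu u1 u2) (inv_mem (out v hv v1 v2))
      rwa [mul_inv_rev, mul_assoc u, mul_inv_cancel_left, inv_eq (sq v v1)] at this
  have cz : IsConj c z := (isConj_iff.2 ⟨g, rfl⟩).trans
    (h0.cσz g1 (sq _ (isConj_iff.2 ⟨g, rfl⟩)) (by simpa using h3)).symm
  obtain ⟨g, g1, g2⟩ := ext_cen (zc h0) cz
  have uS := g2 i (h0.qf.le h0.qf.iP) (mul_inv_eq_iff_eq_mul.1 hi).symm
  have vS := g2 σ h0.tri.sS (cσ' h0 hC)
  have u2 : g * i * g⁻¹ * (g * i * g⁻¹) = g * z * g⁻¹ := by rw [conj_mul, h0.qf.i2]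
  have v2 : g * σ * g⁻¹ * (g * σ * g⁻¹) = 1 := by rw [conj_mul, h0.σ2]; simp
  have y2 : g * z * g⁻¹ * (g * z * g⁻¹) = 1 := by rw [conj_mul, h0.qf.z2]; simp
  have vu : g * σ * g⁻¹ * (g * i * g⁻¹) * (g * σ * g⁻¹)⁻¹ = g * z * g⁻¹ * (g * i * g⁻¹) := by
    rw [conj_mul, conj_inv, conj_mul, conj_mul, σi h0, ii h0]
  have uy : g * i * g⁻¹ * (g * z * g⁻¹) = g * z * g⁻¹ * (g * i * g⁻¹) := by
    rw [conj_mul, conj_mul, q_zc h0.qh (h0.qf.le h0.qf.iP)]
  have vy : g * σ * g⁻¹ * (g * z * g⁻¹) = g * z * g⁻¹ * (g * σ * g⁻¹) := by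
    rw [conj_mul, conj_mul, q_zc h0.qh h0.tri.sS]
  have y1 : g * z * g⁻¹ ≠ 1 := by simpa using h0.qf.z1
  have yz : g * z * g⁻¹ ≠ z := fun e => by
    have e1 : z = c := by simpa using e.trans g1.symm
    exact h0.qf.z1 (fixA h0 (zA h0) (e1 ▸ h1))
  generalize g * i * g⁻¹ = u at *
  generalize g * σ * g⁻¹ = v at *
  generalize g * z * g⁻¹ = y at *
  have yA : y ∈ Dl a (f * a * f⁻¹) := by
    have := cmA h0 vS uS
    rwa [commutatorElement_def, vu, mul_inv_cancel_right] at this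
  have inR : ∀ x ∈ (S : Subgroup G), x * y = y * x → x ∈ R := fun x hx e => by
    refine (memS h0 hx).resolve_right fun h => ?_
    have e1 : x * (f * z * f⁻¹) = f * z * f⁻¹ * x := by
      rcases invA h0 yA y2 with rfl | rfl | rfl | rfl
      · exact absurd rfl y1
      · exact absurd rfl yz
      · exact e
      · rwa [← mul_assoc x, q_zc h0.qh hx, mul_assoc z, mul_assoc z, mul_right_inj] at e
    have e2 := cs_comm (z1c h0) h
    rw [← mul_assoc, ← e1, mul_assoc, mul_assoc x, mul_right_inj, eq_comm,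
      ← mul_inv_eq_iff_eq_mul, σz1 h0, mul_eq_right] at e2
    exact h0.qf.z1 e2
  have cen : ∀ β ∈ Dl a (f * a * f⁻¹), β ^ (4 : ℤ) = 1 → ∀ α ∈ Dl a (f * a * f⁻¹),
      α * c * β = β * (α * c) := fun β hβ e α hα => by
    obtain ⟨m, n, rfl⟩ := A.mem.1 hβ
    rw [A.zpow, A.one, pow_add] at e
    obtain ⟨m, rfl⟩ := (mul_dvd_mul_iff_right (by norm_num)).1 e.1
    obtain ⟨n, rfl⟩ := (mul_dvd_mul_iff_right (by norm_num)).1 e.2
    have e1 : Commute c i := mul_inv_eq_iff_eq_mul.1 hi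
    have e2 : Commute c (f * i * f⁻¹) :=
      (Commute.mul_right h1.symm e1).mul_right (Commute.inv_right h1.symm)
    have e3 : E a (f * a * f⁻¹) (2 ^ k * m) (2 ^ k * n) = i ^ m * (f * i * f⁻¹) ^ n := by
      rw [← h0.ia, ← conj_pow, ← zpow_natCast, ← zpow_natCast, ← zpow_mul, ← zpow_mul, E]
      push_cast; rfl
    rw [mul_assoc α, ← mul_assoc _ α, ← A.ab hα hβ, mul_assoc α, e3,
      ((e1.zpow_right m).mul_right (e2.zpow_right n)).eq]
  have typ : ∀ x ∈ R, x * x ∈ Dl a (f * a * f⁻¹) → x ∈ Dl a (f * a * f⁻¹) ∨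
      ∃ α ∈ Dl a (f * a * f⁻¹), x = α * c := fun x hx e => by
    obtain ⟨α, a1, c', a2, rfl⟩ := decR h0 hx
    rcases uniq h0 hC a2 h2 h3 (sqA h0 a1 a2 (Or.inl rfl) e) with rfl | rfl
    · exact Or.inl (by simpa using a1)
    · exact Or.inr ⟨α, a1, rfl⟩
  have p4 : ∀ x : G, x * x * (x * x) = 1 → x ^ (4 : ℤ) = 1 := fun x e => by
    rw [← e, ← pow_two, ← pow_two x, ← pow_mul, ← zpow_natCast]; rfl
  have u4 := p4 u (by rw [u2, y2])
  have v4 := p4 v (by rw [v2, mul_one])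
  refine y1 ?_
  rw [← mul_eq_right (b := u), ← vu, mul_inv_eq_iff_eq_mul]
  rcases typ u (inR u uS uy) (u2 ▸ yA) with uA | ⟨α, hα, e⟩ <;>
    rcases typ v (inR v vS vy) (v2 ▸ one_mem _) with vA | ⟨β, hβ, e'⟩
  · exact A.ab vA uA
  · rw [e']; exact cen u uA u4 β hβ
  · rw [e]; exact (cen v vA v4 α hα).symm
  · have w : u * v ∈ Dl a (f * a * f⁻¹) := by
      have := mul_mem hα (nr (nA h0 (h0.tri.le hc)) hβ)
      rwa [inv_eq h2, ← mul_assoc α, ← mul_assoc α, ← e, mul_assoc u, ← e'] at this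
    have w2 : u * v * (u * v) = 1 := by
      rw [show u * v * (u * v) = u * (v * u * v⁻¹) * (v * v) by group, vu, v2, ← uy, ← u2,
        mul_one, ← mul_assoc, u2, y2]
    have := cen _ w (p4 _ (by rw [w2, mul_one])) α hα
    rwa [← e, mul_assoc, mul_right_inj, eq_comm] at this

open QGk QEk in
theorem QG.false (h0 : QG S P R d s z i j a f σ k) (h1 : ¬ GHA.NoE8 (S : Subgroup G)) : False := by
  refine h1 fun B B1 B2 B3 => ?_
  by_contra hB
  have A := ha h0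
  obtain ⟨e, he, eA⟩ : ∃ e ∈ B, e ∉ Dl a (f * a * f⁻¹) := by
    by_contra h
    push Not at h
    refine hB ((Set.ncard_le_ncard (t := {1, z, f * z * f⁻¹, z * (f * z * f⁻¹)})
      fun w hw => invA h0 (h w hw) ((sq w).symm.trans (B3 w hw))).trans ?_)
    exact (Set.ncard_insert_le _ _).trans (Nat.succ_le_succ ((Set.ncard_insert_le _ _).trans
      (Nat.succ_le_succ ((Set.ncard_insert_le _ _).trans (by simp)))))
  have cm : ∀ β ∈ Dl a (f * a * f⁻¹), e * β * e⁻¹ * β⁻¹ * (e * β * e⁻¹ * β⁻¹) = 1 := fun β hβ => by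
    have := B3 _ (mul_mem he (nr (B2 (h0.tri.le (AR h0 hβ))) (inv_mem he)))
    rwa [sq, ← mul_assoc e, ← mul_assoc e] at this
  have cα : ∀ α ∈ Dl a (f * a * f⁻¹), ∀ x ∈ (S : Subgroup G), ∀ β ∈ Dl a (f * a * f⁻¹),
      α * x * β * (α * x)⁻¹ = x * β * x⁻¹ := fun α hα x hx β hβ => by
    rw [show α * x * β * (α * x)⁻¹ = α * (x * β * x⁻¹) * α⁻¹ by group, A.ab hα (nr (nA h0 hx) hβ),
      mul_inv_cancel_right]
  have p0 : (0 : ℤ) < 2 ^ k := by positivity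
  obtain ⟨α, hα, c, hc, rfl | rfl⟩ := decS h0 (B1 he)
  swap
  · obtain ⟨κ, k1, k2⟩ := h0.sc c hc.1
    obtain ⟨m, rfl⟩ := odd h0 (h0.tri.le hc.1) k1
    have e1 := cm _ (E_mem (x := 0) (y := 1))
    rw [cα α hα _ (mul_mem (h0.tri.le hc.1) h0.tri.sS) _ E_mem, (show ∀ w : G,
      c * σ * w * (c * σ)⁻¹ = c * (σ * w * σ⁻¹) * c⁻¹ from fun w => by group),
      A.actS h0.σa h0.σa1, HA.actP k1 k2, A.inv, A.mul, A.mul, A.one, pow_add] at e1
    have := (dvd_mul_left (2 ^ 2) (2 ^ k)).trans e1.1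
    omega
  have c2 : c * c = 1 := sqA h0 hα hc (Or.inl rfl) (by rw [← sq, B3 _ he]; exact one_mem _)
  have c1 : c ≠ 1 := by rintro rfl; exact eA (by simpa using hα)
  have cf : f * c = c * f := (mem_C1.1 hc.2).symm
  have ci := h0.invi hc.1 cf c2 c1
  obtain ⟨κ, k1, k2⟩ := h0.sc c hc.1
  have e1 := cm _ (E_mem (x := 1) (y := 0))
  rw [cα α hα _ (h0.tri.le hc.1) _ E_mem, HA.actP k1 k2, A.inv, A.mul, A.mul, A.one] at e1
  have e2 := ci
  rw [ei h0, HA.actP k1 k2, A.inv, A.eq, pow_add,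
    show κ * 2 ^ k - -2 ^ k = 2 ^ k * (κ + 1) by ring] at e2
  have e3 := (mul_dvd_mul_iff_left p0.ne').1 e2.1
  obtain rfl : k = 0 := by
    cases k with
    | zero => rfl
    | succ k =>
      have := (pow_dvd_pow (2 : ℤ) (show 3 ≤ k + 1 + 2 by omega)).trans e1.1
      omega
  have ai : a = i := by simpa using h0.ia
  have CC : ∀ x ∈ R ⊓ C1 f, x = 1 ∨ x = c := fun x hx => by
    obtain ⟨c0, e⟩ := h0.cyc
    obtain ⟨t, rfl⟩ := mem_zpowers_iff.1 (e.le hc)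
    have c0S : c0 ∈ (S : Subgroup G) := h0.tri.le (e.ge (mem_zpowers c0)).1
    rcases Int.even_or_odd' t with ⟨m, rfl | rfl⟩
    · exfalso
      rw [two_mul, zpow_add, sqi h0 (zpow_mem c0S m), mul_inv_cancel_right, ii h0, eq_comm,
        mul_eq_right] at ci
      exact h0.qf.z1 ci
    · rw [← mem_zp c2]
      refine (zpowers_le.2 (mem_of_odd_pow (m := (2 * m + 1).natAbs) (Int.natAbs_odd.2 ⟨m, rfl⟩)
        (two_elt S.isPGroup' c0S) ?_) : zpowers c0 ≤ _) (e.le hx)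
      rw [← zpow_natCast]
      rcases Int.natAbs_eq (2 * m + 1) with h | h
      · rw [← h]; exact mem_zpowers _
      · rw [← neg_eq_iff_eq_neg.2 h, zpow_neg]; exact inv_mem (mem_zpowers _)
  have cS := h0.tri.le hc.1
  have nc : ∀ b ∈ Dl a (f * a * f⁻¹), c * b * c⁻¹ ∈ Dl a (f * a * f⁻¹) := fun _ => nr (nA h0 cS)
  have eR : R = Dl a (f * a * f⁻¹) ⊔ zpowers c := le_antisymm (fun p hp => by
    obtain ⟨β, hβ, x, hx, rfl⟩ := decR h0 hp
    refine mul_mem (mem_sup_left hβ) (mem_sup_right ?_)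
    rcases CC x hx with rfl | rfl
    exacts [one_mem _, mem_zpowers _]) (sup_le (AR h0) (zpowers_le.2 hc.1))
  have eS : (S : Subgroup G) = R ⊔ zpowers σ := le_antisymm (fun x hx => (memS h0 hx).elim
    mem_sup_left fun h => (mul_mem_cancel_right (mem_sup_right (mem_zpowers σ))).1 (mem_sup_left h))
    (sup_le h0.tri.le (zpowers_le.2 h0.tri.sS))
  have cA : Nat.card (Dl a (f * a * f⁻¹)) = 16 := by
    have := Local.CD.card_sup_mul_card_inf_of_le_centralizer (H := zpowers a)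
      (K := zpowers (f * a * f⁻¹)) fun x hx y hy => A.ab (mem_sup_right hy) (mem_sup_left hx)
    rw [show zpowers a ⊓ zpowers (f * a * f⁻¹) = ⊥ from eq_bot_iff.2 fun x hx => A.dis x hx.1 hx.2,
      card_bot, mul_one, Nat.card_zpowers, Nat.card_zpowers, A.oa, A.ob] at this
    exact this
  have cd : Nat.card (S : Subgroup G) = 64 := by
    rw [eS, card_adj (fun _ => nr h0.tri.sN) h0.tri.s2 h0.tri.sP, eR,
      card_adj nc (c2 ▸ one_mem _) fun h => c1 (fixA h0 h cf), cA]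
  have bA : f * a * f⁻¹ ∈ Dl a (f * a * f⁻¹) := mem_sup_right (mem_zpowers _)
  refine h0.cx.out (G64.model cd (h0.tri.le (AR h0 bA)) h0.tri.sS cS (A.pow_n bA) h0.σ2 c2
    (cσ' h0 hc).symm ?_ (A.ab (nr (σA h0) bA) bA) ?_)
  · rw [← ai] at ci
    rw [show c * (f * a * f⁻¹) * c⁻¹ = c * f * a * (c * f)⁻¹ by group, ← cf, conj_inv, ← ci]
    group
  · rw [h0.σa1, ← Eab (a := a), sq, sq, A.mul]
    nth_rewrite 1 2 [← Eb (a := a) (b := f * a * f⁻¹)]
    rw [A.mul, A.mul, Ne, A.one]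
    norm_num

end Cfsg.Lib.GHN
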