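import Cfsg.Agent.GHN.Tool
import Cfsg.Agent.GHN.QG0

/-!
# A normal quaternion tower forces a homocyclic subgroup of rank two
-/

set_option autoImplicit false

namespace Cfsg.Lib.GHN

open Subgroup Cfsg.Lib.Trans Cfsg.Lib.Gold Cfsg.Lib.Rank2 Cfsg.Lib.GHB
open scoped commutatorElement

universe u

variable {G : Type u} [Group G] [Finite G] {S : Sylow 2 G} {P R T : Subgroup G}
  {a d f i j r s z σ : G} {k : ℕ}

namespace QGk

omit [Finite G] in
theorem tri_mul (h : Tri T R f σ) (hr : r ∈ R) (h1 : r * f * r⁻¹ * f⁻¹ ∈ Cs R) :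
    Tri T R f (σ * r) :=
  { h with
    sS := mul_mem h.sS (h.le hr)
    sN := mul_mem h.sN (le_normalizer hr)
    sP := fun e => h.sP ((mul_mem_cancel_right hr).1 e)
    inv := by
      have := mul_mem (cs_ns h1 h.sN) h.inv
      rwa [show σ * (r * f * r⁻¹ * f⁻¹) * σ⁻¹ * (σ * f * σ⁻¹ * f) = σ * r * f * (σ * r)⁻¹ * f by
        group] at this
    idx := fun x hx hn => (h.idx x hx hn).imp_right fun e => by
      rw [← mul_assoc]; exact mul_mem e hr }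

theorem nc (h0 : Q1 S P d s z i j a k) : NC (S : Subgroup G) (Dl a j) z where
  le := sup_le (zpowers_le.2 h0.qh.aH) (zpowers_le.2 h0.qh.jH)
  nrm := q_nrm h0.qh
  x8 := ⟨i, mem_sup_left (h0.ia ▸ pow_mem (mem_zpowers a) _), j, mem_sup_right (mem_zpowers j),
    h0.qf.z1, h0.qf.z2, h0.qf.ij, q_zc h0.qh (h0.qf.le h0.qf.iP), q_zc h0.qh h0.qh.jH,
    Or.inr h0.qf.i2, Or.inr h0.qf.j2⟩
  cen := fun _ => q_cen h0.qh

end QGk

open QGk in
theorem Q1.qg (h0 : Q1 S P d s z i j a k)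
    (hII : ∀ R f σ, Tri (S : Subgroup G) R f σ → f * z ≠ z * f → (S : Subgroup G) ≤ Ns R) :
    ∃ R f σ, QG S P R d s z i j a f σ k := by
  have q := h0.qh
  have zc : z ∈ Cs (S : Subgroup G) := cs_of fun x hx => (q_zc q hx).symm
  obtain ⟨R, f, hg, hf⟩ := h0.cx.mover (q_zH q) zc (q_z2 q) (q_z1 q)
  have zR : z ∈ R := hg.cent (q_zH q) (cs_mono hg.le zc)
  have n01 : z ≠ f * z * f⁻¹ := fun e => hf (mul_inv_eq_iff_eq_mul.1 e.symm)
  have n12 : f * z * f⁻¹ ≠ f * (f * z * f⁻¹) * f⁻¹ := fun e => n01 (by simpa using e)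
  have n02 : z ≠ f * (f * z * f⁻¹) * f⁻¹ := fun e => hf (hg.two' zR (by
    conv_rhs => rw [e]
    group))
  have hΔ : ¬ Dl a j ≤ R := fun e => by
    have e0 := (nc h0).mono e (hg.le.trans (nc h0).nrm)
    have e1 := e0.cj f
    rw [cj_eq_self_iff.2 hg.dN] at e1
    have e2 := e1.cj f
    rw [cj_eq_self_iff.2 hg.dN] at e2
    exact NC.three h0.cx.r4 (pS hg.le) e0 e1 e2 n01 n02 n12
  obtain ⟨s0, t0⟩ := hg.tri fun e => hΔ ((nc h0).le.trans e)
  have nS := hII R f s0 t0 hf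
  have jR : ∀ m : ℤ, a ^ m * j ∉ R := fun m e => by
    have e1 : ∀ m' : ℤ, a ^ m' * j ∈ R := fun m' => by
      obtain ⟨g, hg1, e1⟩ := q.tr m
      obtain ⟨g', hg1', e1'⟩ := q.tr m'
      rw [← e1] at e
      rw [← e1']
      exact nr (nS hg1') ((mem_normalizer_iff.1 (nS hg1) j).2 e)
    have e2 : j ∈ R := by simpa using e1 0
    exact hΔ (sup_le (zpowers_le.2 (by simpa using (mul_mem_cancel_right e2).1 (e1 1)))
      (zpowers_le.2 e2))
  have jR0 : j ∉ R := by simpa using jR 0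
  have js : ∀ m : ℤ, a ^ m * j * s0 ∈ R := fun m =>
    have e := mul_mem (zpow_mem q.aH m) q.jH
    (t0.idx _ e (nS e)).resolve_left (jR m)
  have aR : a ∈ R := by simpa using mul_mem (js 1) (inv_mem (js 0))
  have p0 : j * s0⁻¹ ∈ R := by simpa [mul_assoc] using mul_mem (js 0) (inv_mem t0.s2)
  set b := f * a * f⁻¹ with hb
  set c := f * b * f⁻¹ with hc
  have bR : b ∈ R := t0.dP aR
  have cR : c ∈ R := t0.dP bR
  have fc : f * c * f⁻¹ = a := t0.ddd aR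
  have ob : orderOf b = 2 ^ (k + 2) := ord_conj q.ord f
  have oc : orderOf c = 2 ^ (k + 2) := ord_conj ob f
  have zb : b ^ 2 ^ (k + 1) = f * z * f⁻¹ := by rw [hb, conj_pow, q.za]
  have zc' : c ^ 2 ^ (k + 1) = f * (f * z * f⁻¹) * f⁻¹ := by rw [hc, conj_pow, zb]
  have st : ∀ x : G, (∀ r ∈ R, r * x * r⁻¹ ∈ zpowers x) →
      ∀ r ∈ R, r * (f * x * f⁻¹) * r⁻¹ ∈ zpowers (f * x * f⁻¹) := fun x h r hr => by
    obtain ⟨m, e⟩ := mem_zpowers_iff.1 (h _ (nr' t0.dN hr))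
    refine mem_zpowers_iff.2 ⟨m, ?_⟩
    rw [conj_zpow, e]; group
  have na : ∀ r ∈ R, r * a * r⁻¹ ∈ zpowers a := fun r hr => nr (q.na (t0.le hr)) (mem_zpowers a)
  have nb : ∀ r ∈ R, r * b * r⁻¹ ∈ zpowers b := st a na
  have nc' : ∀ r ∈ R, r * c * r⁻¹ ∈ zpowers c := st b nb
  have dab : ∀ w ∈ zpowers a, w ∈ zpowers b → w = 1 := fun w =>
    dis_of q.ord ob (by rw [q.za, zb]; exact n01)
  have A : HA k a b := ⟨q.ord, ob, com_of dab (nb a aR) (na b bR), dab⟩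
  have cac : a * c = c * a :=
    com_of (fun w => dis_of q.ord oc (by rw [q.za, zc']; exact n02)) (nc' a aR) (na c cR)
  have cbc : b * c = c * b :=
    com_of (fun w => dis_of ob oc (by rw [zb, zc']; exact n12)) (nc' b bR) (nb c cR)
  -- the action of `j` on `b`
  obtain ⟨μ, hμ⟩ : ∃ μ : ℤ, c ^ μ = j * b * j⁻¹ := by
    obtain ⟨κ, e⟩ := mem_zpowers_iff.1 (nr (q.na t0.sS) (mem_zpowers a))
    have e1 : s0 * b * s0⁻¹ = c ^ κ := by
      rw [hb, t0.sd aR, ← e, t0.dd (zpow_mem aR κ), hc, hb, conj_zpow, conj_zpow]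
    have e4 : s0⁻¹ * j ∈ R := by simpa [mul_assoc] using nr' t0.sN p0
    obtain ⟨ν, e5⟩ := mem_zpowers_iff.1 (nb _ e4)
    refine ⟨κ * ν, ?_⟩
    rw [zpow_mul, ← e1, conj_zpow, e5]; group
  obtain ⟨m, hm⟩ := q.cb b (t0.le bR)
  have jb : j * b * j⁻¹ = E a b (-m) 1 := by
    have e : j * b⁻¹ * j⁻¹ = b⁻¹ * a ^ m := by
      rw [← mul_inv_eq_iff_eq_mul.2 hm]; group
    rw [← inv_inj, conj_inv, e, ← inv_inj]
    simp [E]
  have cA : c ∈ Dl a b := by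
    have e : zpowers (c ^ μ) = zpowers c := eq_of_le_of_card_ge
      (zpowers_le.2 (zpow_mem (mem_zpowers c) μ))
      (by rw [Nat.card_zpowers, Nat.card_zpowers, hμ, oc, ord_conj ob])
    exact (zpowers_le.2 (by rw [hμ, jb]; exact E_mem) : zpowers (c ^ μ) ≤ _) (e.ge (mem_zpowers c))
  have z01 : f * (f * z * f⁻¹) * f⁻¹ = z * (f * z * f⁻¹) := by
    have := A.invol (pow_mem cA (2 ^ (k + 1))) (h2 oc)
    rw [zc', q.za, zb] at this
    rcases this with e | e | e | e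
    · exact absurd (by simpa using e) (q_z1 q)
    exacts [absurd e.symm n02, absurd e.symm n12, e]
  have fix : ∀ α ∈ Dl a b, f * α = α * f → α = 1 := fun α h1 h2 =>
    one_of (B := Dl a b ⊓ C1 f) (fun w hw e => by
      have e1 : f * w * f⁻¹ = w := mul_inv_eq_iff_eq_mul.2 (mem_C1.1 hw.2).symm
      have := A.invol hw.1 e
      rw [q.za, zb] at this
      rcases this with rfl | rfl | rfl | rfl
      · rfl
      · exact absurd e1.symm n01
      · exact absurd e1.symm n12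
      · rw [← z01, t0.ddd zR] at e1
        exact absurd e1 n02) _ ⟨h1, mem_C1.2 h2.symm⟩ (A.pow_n h1)
  have aA : a ∈ Dl a b := mem_sup_left (mem_zpowers a)
  have bA : b ∈ Dl a b := mem_sup_right (mem_zpowers b)
  have abc : a * b * c = 1 := fix _ (mul_mem (mul_mem aA bA) cA) (by
    rw [← mul_inv_eq_iff_eq_mul, ← conj_mul, ← conj_mul, ← hb, ← hc, fc, mul_assoc, ← cac,
      ← mul_assoc, ← A.com])
  have ec : c = (a * b)⁻¹ := eq_inv_of_mul_eq_one_right abc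
  have ec' : c = E a b (-1) (-1) := by rw [ec, ← Eab (a := a) (b := b), A.inv]
  have jb' : j * b * j⁻¹ = a * b := by
    have e := hμ.trans jb
    rw [ec', A.zpow, A.eq] at e
    rw [← hμ, ec', A.zpow, ← Eab (a := a) (b := b), A.eq]
    exact ⟨e.2, e.2⟩
  have sc : ∀ p ∈ R, ∃ κ : ℤ, p * a * p⁻¹ = a ^ κ ∧ p * b * p⁻¹ = b ^ κ := fun p hp => by
    obtain ⟨κ0, e0⟩ := mem_zpowers_iff.1 (na p hp)
    obtain ⟨κ1, e1⟩ := mem_zpowers_iff.1 (nb p hp)
    obtain ⟨κ2, e2⟩ := mem_zpowers_iff.1 (nc' p hp)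
    have e : a ^ κ0 * b ^ κ1 * c ^ κ2 = 1 := by
      rw [e0, e1, e2, conj_mul, conj_mul, abc]; simp
    rw [ec', A.zpow, ← E, A.mul, A.one] at e
    refine ⟨κ2, ?_, ?_⟩
    · rw [← e0, E10 (b := b), E10 (b := b), A.eq]
      exact ⟨by convert e.1 using 1; ring, by simp⟩
    · rw [← e1, E01 (a := a), E01 (a := a), A.eq]
      exact ⟨by simp, by convert e.2 using 1; ring⟩
  have AR : Dl a b ≤ R := sup_le (zpowers_le.2 aR) (zpowers_le.2 bR)
  have nA : R ≤ Ns (Dl a b) := fun p hp => A.ns (mem_sup_left (na p hp)) (mem_sup_right (nb p hp))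
  have fA : f ∈ Ns (Dl a b) := A.ns bA cA
  have jA : j ∈ Ns (Dl a b) := A.ns (q.ja ▸ inv_mem aA) (jb' ▸ mul_mem aA bA)
  have cj' : ∀ u ∈ R, ⁅j, u⁆ ∈ Dl a b := fun u hu => by
    obtain ⟨l, e⟩ := q.cb u (t0.le hu)
    rw [show ⁅j, u⁆ = j * (u * j * u⁻¹)⁻¹ by rw [commutatorElement_def]; group, e]
    simpa using zpow_mem aA l
  have cf := t0.stab AR le_rfl (le_inf nA le_normalizer) ⟨fA, t0.dN⟩ q.jH (nS q.jH) jR0 jA cj'
  have dec : ∀ p ∈ R, ∃ α ∈ Dl a b, f * (α * p) = α * p * f := fun p hp => by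
    obtain ⟨w, hw, e⟩ := cop_fix (pS t0.le) t0.dN t0.d3 AR nA fA (inv_mem hp) (cf _ (inv_mem hp))
    refine ⟨w⁻¹, inv_mem hw, ?_⟩
    simpa using (Commute.inv_right e).eq
  -- the choice of `σ`
  have p1 : j⁻¹ * s0 ∈ R := by simpa [mul_assoc] using inv_mem (nr' t0.sN p0)
  obtain ⟨α, hα, e0⟩ := dec _ p1
  obtain ⟨u, v, huv⟩ := A.mem.1 (inv_mem hα)
  have t1 : Tri (S : Subgroup G) R f (j * E a b u v) := by
    have := tri_mul t0 (inv_mem (mul_mem (AR hα) p1)) (by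
      rw [← (Commute.inv_right e0).eq, mul_inv_cancel_right, mul_inv_cancel]; exact one_mem _)
    rwa [show s0 * (α * (j⁻¹ * s0))⁻¹ = j * α⁻¹ by group, huv] at this
  have ez : z = E a b (2 ^ (k + 1)) 0 := by rw [← q.za, En0]
  have ez1 : f * z * f⁻¹ = E a b 0 (2 ^ (k + 1)) := by rw [← zb, E0n]
  have z1c : f * z * f⁻¹ ∈ Cs R := cs_ns (cs_mono t0.le zc) t0.dN
  have bv : E a b 0 v ∈ Cs R := by
    have e1 : j * E a b u v * (j * E a b u v) = E a b (v + 2 ^ (k + 1)) (2 * v) := by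
      rw [show j * E a b u v * (j * E a b u v) = j * E a b u v * j⁻¹ * (j * j) * E a b u v by
        group, q.j2, A.actS q.ja jb', ez, A.mul, A.mul]
      congr 1 <;> ring
    have e2 := mul_mem (cs_ns t1.inv t1.sN) (cs_ns (inv_mem t1.inv) t0.dN)
    rw [(show ∀ x : G, x * (x * f * x⁻¹ * f) * x⁻¹ * (f * (x * f * x⁻¹ * f)⁻¹ * f⁻¹) =
      x * x * (f * (x * x) * f⁻¹)⁻¹ by intro x; group), e1, A.actF hb.symm (hc.symm.trans ec),
      A.inv, A.mul] at e2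
    refine cs_of fun p hp => ?_
    obtain ⟨κ, k1, k2⟩ := sc p hp
    have e3 := mul_inv_eq_iff_eq_mul.2 (cs_comm e2 hp).symm
    have e4 := mul_inv_eq_iff_eq_mul.2 (q_zc q (t0.le hp))
    rw [ez] at e4
    rw [HA.actP k1 k2, A.eq] at e3 e4
    rw [eq_comm, ← mul_inv_eq_iff_eq_mul, HA.actP k1 k2, A.eq]
    refine ⟨by simp, dvd_three ?_⟩
    have := dvd_sub e3.1 e4.1
    rwa [show ∀ w : ℤ, κ * (v + w + - -(2 * v)) - (v + w + - -(2 * v)) - (κ * w - w) =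
      3 * (κ * v - v) from fun w => by ring] at this
  have γc : (E a b 0 v)⁻¹ * (f * z * f⁻¹) ∈ Cs R := mul_mem (inv_mem bv) z1c
  have t2 := tri_mul t1 (mul_mem (inv_mem (AR E_mem)) (t0.dP zR)) (by
    have := mul_mem γc (cs_ns (inv_mem γc) t0.dN)
    rwa [← mul_assoc, ← mul_assoc] at this)
  rw [ez1, A.inv, A.mul, mul_assoc, A.mul] at t2
  generalize hβ : E a b (u + (-0 + 0)) (v + (-v + 2 ^ (k + 1))) = β at t2
  have hβ' : β = E a b u (2 ^ (k + 1)) := by rw [← hβ]; congr 1 <;> ring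
  have βA : β ∈ Dl a b := hβ' ▸ E_mem
  have sj : ∀ x ∈ Dl a b, j * β * x * (j * β)⁻¹ = j * x * j⁻¹ := fun x hx => by
    rw [mul_assoc j, A.ab βA hx]; group
  refine ⟨R, f, j * β, h0, t2, nS, aR, ?_, A.com, dab, abc, (sj a aA).trans q.ja,
    (sj b bA).trans jb', ⟨-u, ?_⟩, sc, dec, fun x hx e => ?_⟩
  · rw [show j * β * (j * β) = j * β * j⁻¹ * (j * j) * β by group, q.j2, hβ', A.actS q.ja jb', ez,
      A.mul, A.mul, A.one]
    exact ⟨Dvd.intro 1 (by ring), Dvd.intro 1 (by ring)⟩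
  · rw [hβ', ez1, zpow_neg, ← q_ja q (zpow_mem (mem_zpowers a) u)]
    simp [E, mul_assoc]
  · have e1 : f * x * f⁻¹ = x := mul_inv_eq_iff_eq_mul.2 e
    have e2 := t2.sd hx
    rw [e1, eq_comm, mul_assoc, inv_mul_eq_iff_eq_mul] at e2
    refine commutatorElement_eq_one_iff_mul_comm.1 (fix _ ?_
      (Commute.mul_right e2.symm (Commute.inv_right e)).eq)
    have := mul_mem (nr jA (mul_mem βA (nr (nA hx) (inv_mem βA)))) (cj' x hx)
    rwa [show j * (β * (x * β⁻¹ * x⁻¹)) * j⁻¹ * ⁅j, x⁆ = j * β * x * β⁻¹ * (x⁻¹ * x) * j⁻¹ * x⁻¹ by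
      rw [commutatorElement_def]; group, show j * β * x * β⁻¹ * (x⁻¹ * x) * j⁻¹ * x⁻¹ =
      ⁅j * β, x⁆ by rw [commutatorElement_def]; group] at this

end Cfsg.Lib.GHN
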