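import Cfsg.Agent.GHN.VF
import Cfsg.Agent.GHN.Tool

/-!
# Simple groups of sectional 2-rank at most four: quaternion towers without a normal `E₈`
-/

set_option autoImplicit false

namespace Cfsg.Lib.GHN

open Subgroup Cfsg.Lib.Trans Cfsg.Lib.Gold Cfsg.Lib.Rank2 Cfsg.Lib.GHB
open scoped commutatorElement

universe u

variable {G : Type u} [Group G] [Finite G] {H P T U W E : Subgroup G}
  {a d e i i' j s u v w x y z : G} {k : ℕ}

namespace QN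

theorem fix_mod (hU : IsPGroup 2 U) (hT : IsPGroup 2 T) (hn : T ≤ Ns U) (h : ¬ U ≤ W) :
    ∃ w ∈ U, w ∉ W ∧ ∀ c ∈ T, ⁅c, w⁆ ∈ W := by
  obtain ⟨V, ⟨h1, h2, h3⟩, hmin⟩ := (wellFounded_lt (α := Subgroup G)).has_min
    {V | V ≤ U ∧ T ≤ Ns V ∧ ¬ V ≤ W} ⟨U, le_rfl, hn, h⟩
  have h4 := Solv.PG.commutator_lt hT (hU.to_le h1) h2 (by rintro rfl; exact h3 bot_le)
  have h5 : ⁅V, T⁆ ≤ W := by
    by_contra h5
    exact hmin _ ⟨h4.le.trans h1, Solv.right_le_normalizer_commutator _ _, h5⟩ h4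
  obtain ⟨w, hw, hw'⟩ := SetLike.not_le_iff_exists.1 h3
  exact ⟨w, h1 hw, hw', fun c hc => h5 (commutator_comm T V ▸ commutator_mem_commutator hc hw)⟩

theorem card_le (h1 : z * z = 1) (h2 : v * v = 1) (h3 : z * v = v * z) (h : E ≤ F4 z v) :
    Nat.card E ≤ 4 :=
  (Set.ncard_le_ncard (t := {1, z, v, z * v}) fun _ hx => (mem_F4 h1 h2 h3).1 (h hx)).trans
    ((Set.ncard_insert_le _ _).trans (Nat.succ_le_succ ((Set.ncard_insert_le _ _).trans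
      (Nat.succ_le_succ ((Set.ncard_insert_le _ _).trans
        (Nat.succ_le_succ (Set.ncard_singleton _).le))))))

omit [Finite G] in
theorem adjust (h : X8 u v w) (u2 : u * u = w) (v2 : v * v = w) (hu : u ∈ U) (hv : v ∈ U)
    (h1 : ⁅e, u⁆ = 1 ∨ ⁅e, u⁆ = w) (h2 : ⁅e, v⁆ = 1 ∨ ⁅e, v⁆ = w) (h3 : e * w = w * e) :
    ∃ q ∈ U, (q = 1 ∨ q * q = w) ∧ e * q * u = u * (e * q) ∧ e * q * v = v * (e * q) := by
  have vu : v * u = w * (u * v) := by rw [h.uv, ← mul_assoc, h.w2, one_mul]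
  have key : ∀ {y}, ⁅e, y⁆ = w → e * (w * y) = y * e := fun {y} h4 => by
    rw [← mul_assoc, h3, mul_assoc, show e * y = ⁅e, y⁆ * (y * e) by
      rw [commutatorElement_def]; group, h4, ← mul_assoc, h.w2, one_mul]
  rcases h1 with h1 | h1 <;> rcases h2 with h2 | h2
  · exact ⟨1, one_mem _, Or.inl rfl, by simpa using commutatorElement_eq_one_iff_mul_comm.1 h1,
      by simpa using commutatorElement_eq_one_iff_mul_comm.1 h2⟩
  · refine ⟨u, hu, Or.inr u2, by rw [commutatorElement_eq_one_iff_mul_comm.1 h1, mul_assoc,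
      commutatorElement_eq_one_iff_mul_comm.1 h1], ?_⟩
    rw [mul_assoc, h.uv, ← mul_assoc w, ← mul_assoc, key h2, mul_assoc]
  · refine ⟨v, hv, Or.inr v2, ?_, by rw [commutatorElement_eq_one_iff_mul_comm.1 h2, mul_assoc,
      commutatorElement_eq_one_iff_mul_comm.1 h2]⟩
    rw [mul_assoc, vu, ← mul_assoc w, ← mul_assoc, key h1, mul_assoc]
  · refine ⟨u * v, mul_mem hu hv, Or.inr ?_, ?_, ?_⟩
    · rw [mul_assoc, ← mul_assoc v, vu, ← mul_assoc u, ← mul_assoc u, h.uw, mul_assoc w,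
        ← mul_assoc u, u2, mul_assoc w, mul_assoc w, v2, h.w2, mul_one]
    · rw [mul_assoc, mul_assoc u, vu, ← mul_assoc u, h.uw, ← mul_assoc, key h1, mul_assoc]
    · rw [mul_assoc]
      nth_rewrite 1 [h.uv]
      rw [← mul_assoc w, mul_assoc (w * v), ← mul_assoc, key h2, mul_assoc]

end QN

theorem QF.q2 (hT : IsPGroup 2 T) (h0 : QF T P d s z i j) (_h1 : i' ∈ T) (h2 : i' * i' = z)
    (h3 : i * i' = i' * i) (h4 : i' * j = j * i')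
    (h5 : ∀ y ∈ T ⊓ C1 z, (∀ x ∈ T ⊓ C1 z, ⁅x, y⁆ ∈ zpowers z) → y ∈ F4 z (i * i'))
    (h6 : ∀ y ∈ T ⊓ C1 z, (∀ x ∈ T ⊓ C1 z, ⁅x, y⁆ ∈ F4 z (i * i')) → y ∈ F8 z i i') :
    GHA.NoE8 T := by
  have iz : i * z = z * i := by rw [← h0.i2, mul_assoc]
  have iz' : i' * z = z * i' := by rw [← h2, mul_assoc]
  have jz : j * z = z * j := by rw [← h0.j2, mul_assoc]
  have v2 : i * i' * (i * i') = 1 := by
    rw [mul_assoc, ← mul_assoc i', ← h3, mul_assoc, h2, ← mul_assoc, h0.i2, h0.z2]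
  have zv : z * (i * i') = i * i' * z := by rw [← mul_assoc, ← iz, mul_assoc, ← iz', mul_assoc]
  have vj : j * (i * i') ≠ i * i' * j := fun h => h0.z1 (by
    rw [mul_assoc, h4, ← mul_assoc i, h0.ij, ← mul_assoc, mul_assoc z] at h
    exact right_eq_mul.1 h)
  have zS : z ∈ T ⊓ C1 z := ⟨h0.i2 ▸ mul_mem (h0.le h0.iP) (h0.le h0.iP), mem_C1.2 rfl⟩
  have jS : j ∈ T ⊓ C1 z := ⟨h0.le (h0.di ▸ h0.toTri.dP h0.iP), mem_C1.2 jz⟩
  have hC : T ≤ T ⊓ C1 z := by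
    by_contra h
    obtain ⟨x, hx, xN, xS, -⟩ := grow2 hT inf_le_left h
    have a1 : x * z * x⁻¹ ∈ Cs (T ⊓ C1 z) := cs_ns (cs_of fun y hy => (mem_C1.1 hy.2).symm) xN
    have a2 := cs_comm a1 jS
    rcases (mem_F4 h0.z2 v2 zv).1 (h5 _ ((mem_normalizer_iff.1 xN z).1 zS) fun y hy => by
      rw [commutatorElement_eq_one_iff_mul_comm.2 (cs_comm a1 hy).symm]
      exact one_mem _) with e | e | e | e
    · exact h0.z1 (conj_eq_one_iff.1 e)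
    · exact xS ⟨hx, mem_C1.2 (mul_inv_eq_iff_eq_mul.1 e)⟩
    · exact vj (e ▸ a2).symm
    · rw [e, mul_assoc, ← mul_assoc j, jz, mul_assoc z] at a2
      exact vj (mul_left_cancel a2).symm
  intro E e1 e2 e3
  refine QN.card_le h0.z2 v2 zv ?_
  by_contra h
  obtain ⟨w, hw, hw', h7⟩ := QN.fix_mod (hT.to_le e1) hT e2 h
  have a1 : F4 z (i * i') ≤ C1 i := F4_le (mem_C1.2 iz.symm)
    (mem_C1.2 (by rw [mul_assoc, h3]))
  have a2 : F8 z i i' ≤ F4 z (i * i') ⊔ zpowers i :=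
    F8_le (mem_sup_left z_F4) (mem_sup_right (mem_zpowers _))
      ((mul_mem_cancel_left (mem_sup_right (mem_zpowers i))).1 (mem_sup_left v_F4))
  have a3 := ((mem_adj (fun b hb => by rwa [← mem_C1.1 (a1 hb), mul_inv_cancel_right])
    (h0.i2 ▸ z_F4)).1 (a2 (h6 w (hC (e1 hw)) fun x hx => h7 x hx.1))).resolve_left hw'
  have a4 : i⁻¹ * w * (i⁻¹ * w) = 1 := by
    rcases (mem_F4 h0.z2 v2 zv).1 a3 with e | e | e | e <;> rw [e]
    · exact one_mul _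
    · exact h0.z2
    · exact v2
    · rw [mul_assoc, ← mul_assoc (i * i'), ← zv, mul_assoc z, v2, mul_one, h0.z2]
  have a5 := e3 w hw
  rw [show w ^ 2 = i * (i⁻¹ * w * i) * (i⁻¹ * w) by rw [sq]; group, mem_C1.1 (a1 a3),
    ← mul_assoc i, mul_assoc (i * i), a4, mul_one, h0.i2] at a5
  exact h0.z1 a5

namespace Qh

variable (h0 : Qh H k a j z)
include h0

omit [Finite G]

theorem qn_z2 : z * z = 1 := by
  rw [← h0.za, ← pow_add, ← two_mul, ← pow_succ', ← h0.ord, pow_orderOf_eq_one]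

theorem qn_ne {n : ℕ} (h : n < k + 2) : a ^ 2 ^ n ≠ 1 :=
  pow_ne_one_of_lt_orderOf (by positivity) (h0.ord ▸ Nat.pow_lt_pow_right one_lt_two h)

theorem qn_z1 : z ≠ 1 := h0.za ▸ h0.qn_ne (by omega)

theorem qn_za : z ∈ zpowers a := h0.za ▸ pow_mem (mem_zpowers a) _

theorem qn_i2 : a ^ 2 ^ k * a ^ 2 ^ k = z := by rw [← pow_add, ← two_mul, ← pow_succ', h0.za]

theorem qn_jx (hx : x ∈ zpowers a) : j * x * j⁻¹ = x⁻¹ := by
  obtain ⟨m, rfl⟩ := hx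
  simp only [← conj_zpow, h0.ja, inv_zpow]

theorem qn_mem : x ∈ Dl a j ↔ x ∈ zpowers a ∨ j⁻¹ * x ∈ zpowers a :=
  mem_adj (fun _ hb => h0.qn_jx hb ▸ inv_mem hb) (h0.j2 ▸ h0.qn_za)

theorem qn_inv (hx : x ∈ Dl a j) (h2 : x * x = 1) : x = 1 ∨ x = z := by
  rcases h0.qn_mem.1 hx with ⟨m, rfl⟩ | h
  · simp only at h2 ⊢
    rw [← zpow_add, ← orderOf_dvd_iff_zpow_eq_one, h0.ord] at h2
    obtain ⟨l, hl⟩ := h2
    refine (mem_zp h0.qn_z2).1 ⟨l, ?_⟩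
    simp only
    rw [← h0.za, ← zpow_natCast, ← zpow_mul]
    congr 1
    push_cast at hl ⊢
    rw [pow_succ] at hl
    linarith
  · rw [show x * x = j * (j⁻¹ * x) * j⁻¹ * (j * j) * (j⁻¹ * x) by group, h0.qn_jx h, h0.j2,
      mul_assoc, inv_mul_eq_one, right_eq_mul] at h2
    exact (h0.qn_z1 h2).elim

theorem qn_x8 : X8 (a ^ 2 ^ k) j z where
  w1 := h0.qn_z1
  w2 := h0.qn_z2
  uv := by
    rw [mul_inv_eq_iff_eq_mul.1 (h0.qn_jx (pow_mem (mem_zpowers a) _)), ← h0.qn_i2]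
    group
  uw := by rw [← h0.qn_i2, mul_assoc]
  vw := by rw [← h0.j2, mul_assoc]
  u2 := Or.inr h0.qn_i2
  v2 := Or.inr h0.j2

theorem qn_nc [Finite G] : NC H (Dl a j) z where
  le := sup_le (zpowers_le.2 h0.aH) (zpowers_le.2 h0.jH)
  nrm h hh := ns_F4 (mem_sup_left ((mem_normalizer_iff.1 (h0.na hh) a).1 (mem_zpowers a))) (by
    obtain ⟨m, e⟩ := h0.cb h hh
    exact e ▸ mul_mem (zpow_mem z_F4 m) v_F4)
  x8 := ⟨_, pow_mem z_F4 _, _, v_F4, h0.qn_x8⟩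
  cen x hx hc := by
    rcases h0.qn_mem.1 hx with h | h
    · refine h0.qn_inv hx (mul_eq_one_iff_eq_inv.2 ?_)
      rw [← h0.qn_jx h, ← cs_comm hc v_F4, mul_inv_cancel_right]
    · have a1 : j⁻¹ * x * a = a * (j⁻¹ * x) := by
        obtain ⟨m, e⟩ := h
        exact e ▸ ((Commute.refl a).zpow_left m :)
      have a2 := h0.ja
      rw [mul_assoc, cs_comm hc z_F4, ← mul_assoc, ← mul_assoc, mul_left_inj] at a1
      rw [mul_assoc, ← a1, mul_inv_cancel_left, ← mul_eq_one_iff_eq_inv, ← sq, ← pow_one 2] at a2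
      exact (h0.qn_ne (by omega) a2).elim

end Qh

theorem Qh.q1b (h4 : SectionalPRankLE 2 4 G) (hT : IsPGroup 2 T) (h0 : Qh (T ⊓ C1 z) k a j z)
    (h1 : ¬ T ≤ C1 z) : GHA.NoE8 T := by
  intro E e1 e2 e3
  have nc := h0.qn_nc
  have iD : a ^ 2 ^ k ∈ Dl a j := pow_mem z_F4 _
  have key : ∀ x ∈ T, x ∈ Ns (T ⊓ C1 z) → x ∉ T ⊓ C1 z → z ≠ x * z * x⁻¹ ∧
      NC (T ⊓ C1 z) (Trans.cj x (Dl a j)) (x * z * x⁻¹) ∧ Dl a j ≤ Cs (Trans.cj x (Dl a j)) :=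
    fun x hx xN xS => by
      have a1 : z ≠ x * z * x⁻¹ := fun e => xS ⟨hx, mem_C1.2 (mul_inv_eq_iff_eq_mul.1 e.symm)⟩
      have a2 := nc.cj x
      rw [cj_eq_self_iff.2 xN] at a2
      exact ⟨a1, a2, (NC.comm (hT.to_le inf_le_left) nc a2 a1).2⟩
  have cmE : ∀ e ∈ E, ∀ y ∈ T, ⁅e, y⁆ ∈ E := fun e he y hy => by
    simpa only [commutatorElement_def, mul_assoc] using
      mul_mem he ((mem_normalizer_iff.1 (e2 hy) _).1 (inv_mem he))
  have hE : E ≤ T ⊓ C1 z := by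
    by_contra h
    obtain ⟨e, he, eN, eS⟩ := grow hT inf_le_left e1 (inf_le_left.trans e2) h
    obtain ⟨a1, -, a3⟩ := key e (e1 he) eN eS
    have a4 := e3 _ (cmE e he _ (nc.le iD).1)
    have a5 := cs_comm (a3 (inv_mem iD)) (conj_mem_cj.2 iD)
    rw [commutatorElement_def, sq, mul_assoc, ← mul_assoc (a ^ 2 ^ k)⁻¹, a5,
      mul_assoc (e * _ * _), ← mul_assoc (e * _ * _), conj_mul, ← mul_inv_rev, h0.qn_i2,
      mul_inv_eq_one] at a4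
    exact a1 a4.symm
  obtain ⟨x, hx, xN, xS, -⟩ := grow2 hT (inf_le_left : T ⊓ C1 z ≤ T) fun h => h1 (h.trans inf_le_right)
  obtain ⟨a1, a2, a3⟩ := key x hx xN xS
  have zc : z ∈ Cs (T ⊓ C1 z) := cs_of fun y hy => (mem_C1.1 hy.2).symm
  have zc' := cs_ns zc xN
  have x8 := h0.qn_x8
  have cj2 : ∀ {u w : G}, u * u = w → x * u * x⁻¹ * (x * u * x⁻¹) = x * w * x⁻¹ :=
    fun h => by rw [conj_mul, h]
  have z2' : x * z * x⁻¹ * (x * z * x⁻¹) = 1 := (cj2 x8.w2).trans (by simp)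
  have x8' : X8 (x * a ^ 2 ^ k * x⁻¹) (x * j * x⁻¹) (x * z * x⁻¹) :=
    ⟨fun e => x8.w1 (conj_eq_one_iff.1 e), z2', by simp only [conj_mul, x8.uv],
      by simp only [conj_mul, x8.uw], by simp only [conj_mul, x8.vw], Or.inr (cj2 h0.qn_i2),
      Or.inr (cj2 h0.j2)⟩
  have zz : z * (x * z * x⁻¹) = x * z * x⁻¹ * z :=
    cs_comm zc (a2.le (conj_mem_cj.2 (mem_sup_left h0.qn_za)))
  refine QN.card_le x8.w2 z2' zz fun e he => ?_
  have cm : ∀ {D}, NC (T ⊓ C1 z) D z ∨ NC (T ⊓ C1 z) D (x * z * x⁻¹) → ∀ y ∈ D,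
      ⁅e, y⁆ ∈ D ∧ ⁅e, y⁆ * ⁅e, y⁆ = 1 := fun {D} h y hy => by
    have b1 : D ≤ T ⊓ C1 z ∧ T ⊓ C1 z ≤ Ns D := h.elim (fun h => ⟨h.le, h.nrm⟩) fun h => ⟨h.le, h.nrm⟩
    exact ⟨mul_mem ((mem_normalizer_iff.1 (b1.2 (hE he)) y).1 hy) (inv_mem hy),
      sq ⁅e, y⁆ ▸ e3 _ (cmE e he y (b1.1 hy).1)⟩
  have c1 : ∀ y ∈ Dl a j, ⁅e, y⁆ = 1 ∨ ⁅e, y⁆ = z := fun y hy =>
    h0.qn_inv (cm (Or.inl nc) y hy).1 (cm (Or.inl nc) y hy).2
  have c2 : ∀ y ∈ Trans.cj x (Dl a j), ⁅e, y⁆ = 1 ∨ ⁅e, y⁆ = x * z * x⁻¹ := fun y hy => by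
    obtain ⟨⟨b, hb, e⟩, b2⟩ := cm (Or.inr a2) y hy
    replace e : x * b * x⁻¹ = _ := e
    rw [← e, conj_mul, conj_eq_one_iff] at b2
    rw [← e]
    exact (h0.qn_inv hb b2).imp (fun h => by simp [h]) fun h => by rw [h]
  obtain ⟨q, hq, q1, q2, q3⟩ := QN.adjust x8 h0.qn_i2 h0.j2 iD v_F4 (c1 _ iD) (c1 _ v_F4)
    (cs_comm zc (hE he)).symm
  have iD' := (conj_mem_cj (g := x)).2 iD
  have jD' : x * j * x⁻¹ ∈ Trans.cj x (Dl a j) := conj_mem_cj.2 v_F4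
  obtain ⟨r, hr, r1, r2, r3⟩ := QN.adjust x8' (cj2 h0.qn_i2) (cj2 h0.j2) iD' jD' (c2 _ iD')
    (c2 _ jD') (cs_comm zc' (hE he)).symm
  have qr := cs_comm (a3 hq) hr
  have d1 : ∀ y ∈ Dl a j, e * q * y = y * (e * q) → e * q * r * y = y * (e * q * r) :=
    fun y hy h => by rw [mul_assoc, ← cs_comm (a3 hy) hr, ← mul_assoc, h, mul_assoc]
  have d2 : ∀ y ∈ Trans.cj x (Dl a j), e * r * y = y * (e * r) → e * q * r * y = y * (e * q * r) :=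
    fun y hy h => by
      rw [mul_assoc e, qr, ← mul_assoc e, mul_assoc, cs_comm (a3 hq) hy, ← mul_assoc, h, mul_assoc]
  have hc := r5c h4 x8 x8' a1 (cs_comm (a3 iD) iD') (cs_comm (a3 iD) jD') (cs_comm (a3 v_F4) iD')
    (cs_comm (a3 v_F4) jD') (Solv.PG.exists_pow_prime_pow_eq_one hT
      (mul_mem (mul_mem (e1 he) (nc.le hq).1) (a2.le hr).1))
    (d1 _ iD q2) (d1 _ v_F4 q3) (d2 _ iD' r2) (d2 _ jD' r3)
  have b1 := cs_comm (F4_le zc zc' hc) (hE he)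
  have b2 : e * q * r * (e * q * r) = 1 := by
    rcases (mem_F4 x8.w2 z2' zz).1 hc with h | h | h | h <;> rw [h]
    · exact one_mul _
    · exact x8.w2
    · exact z2'
    · rw [mul_assoc, ← mul_assoc (x * z * x⁻¹), ← zz, mul_assoc z, z2', mul_one, x8.w2]
  have b3 : q * q * (r * r) = 1 := by
    rw [show e * q * r * (e * q * r) = e * q * r * e * (q * r) by group, b1,
      show e * (e * q * r) * (q * r) = e ^ 2 * (q * (r * q) * r) by rw [sq]; group, e3 e he, one_mul,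
      ← qr] at b2
    rw [← b2]
    group
  rcases q1 with rfl | q1 <;> rcases r1 with rfl | r1
  · simpa using hc
  · rw [r1, one_mul, one_mul] at b3
    exact (x8'.w1 b3).elim
  · rw [q1, mul_one, mul_one] at b3
    exact (x8.w1 b3).elim
  · rw [q1, r1, ← x8.w2] at b3
    exact (a1 (mul_left_cancel b3).symm).elim

end Cfsg.Lib.GHN
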