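import Cfsg.Agent.GHN.Api
import Cfsg.Agent.GHN.Sq
import Cfsg.Agent.GHN.PB

/-!
# Simple groups of sectional 2-rank at most four: the normal `E₈` is invariant under both `Tri`s
-/

set_option autoImplicit false
set_option linter.unusedSectionVars false

namespace Cfsg.Lib.GHN

open Subgroup Cfsg.Lib.Trans Cfsg.Lib.Gold Cfsg.Lib.Rank2 Cfsg.Lib.GHB
open scoped commutatorElement

universe u

variable {G : Type u} [Group G] [Finite G] {S : Sylow 2 G}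
  {P₁ P₂ : Subgroup G} {z v w b c t y x p n d₁ s₁ d₂ s₂ : G}

namespace Wa

/-- The group generated by four commuting involutions. -/
abbrev F16 (z v w b : G) : Subgroup G := F8 z v w ⊔ zpowers b

/-- The hypotheses. -/
structure Hy (S : Sylow 2 G) (P₁ P₂ : Subgroup G) (d₁ s₁ d₂ s₂ z v w b : G) : Prop where
  ctx : Ctx S
  w8 : W8 (S : Subgroup G) P₁ P₂ d₁ s₁ d₂ s₂ z v w
  hb : d₁ * w * d₁⁻¹ = b
  wb : w * b = b * w
  bW : b ∉ F8 z v w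

omit [Finite G] in
theorem sq_cj (h : x * x = 1) (g : G) : g * x * g⁻¹ * (g * x * g⁻¹) = 1 := by
  rw [conj_mul', h, mul_one, mul_inv_cancel]

omit [Finite G] in
theorem comm_cj (h : x * y = y * x) (g : G) :
    g * x * g⁻¹ * (g * y * g⁻¹) = g * y * g⁻¹ * (g * x * g⁻¹) := by
  rw [conj_mul', conj_mul', h]

omit [Finite G] in
theorem not_cj {X : Subgroup G} (hn : n ∈ Ns X) (h : x ∉ X) : n * x * n⁻¹ ∉ X := fun k =>
  h (by simpa [mul_assoc] using mem_normalizer_conj' hn k)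

namespace Hy

variable (H : Hy S P₁ P₂ d₁ s₁ d₂ s₂ z v w b)
include H

theorem vv : VV (S : Subgroup G) P₁ d₁ s₁ z v := H.w8.vv

theorem bP : b ∈ P₁ := H.hb ▸ mem_normalizer_conj H.vv.dN H.w8.wP₁

theorem b2 : b * b = 1 := H.hb ▸ sq_cj H.w8.w2 d₁

theorem zc (hx : x ∈ (S : Subgroup G)) : x * z = z * x := mem_Cs.1 H.vv.zc x hx

theorem Vc (hp : p ∈ P₁) (hy : y ∈ F4 z v) : p * y = y * p := mem_Cs.1 (H.vv.le4 hy).2 p hp

theorem memC (hp : p ∈ P₁) (h : p * w = w * p) : p ∈ (S : Subgroup G) ⊓ Cs (F8 z v w) :=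
  ⟨H.vv.le hp, H.w8.memC.2 ⟨H.zc (H.vv.le hp), mem_Cs.1 H.vv.vc p hp, h⟩⟩

theorem bC : b ∈ (S : Subgroup G) ⊓ Cs (F8 z v w) := H.memC H.bP H.wb.symm

theorem bn : ∀ y ∈ F8 z v w, b * y * b⁻¹ ∈ F8 z v w := fun _ =>
  mem_normalizer_conj (Cs_le_Ns H.bC.2)

theorem memB : x ∈ F16 z v w b ↔ x ∈ F8 z v w ∨ b⁻¹ * x ∈ F8 z v w :=
  mem_adj H.bn (H.b2 ▸ one_mem _)

theorem cardB : Nat.card (F16 z v w b) = 16 := by
  rw [card_adj H.bn (H.b2 ▸ one_mem _) H.bW, H.w8.card8]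

theorem sqB : ∀ x ∈ F16 z v w b, x * x = 1 := fun x hx => by
  obtain k | k := H.memB.1 hx
  · exact H.w8.sq8 x k
  · rw [← mul_inv_cancel_left b x, mul_assoc, ← mul_assoc _ b, mem_Cs.1 H.bC.2 _ k, mul_assoc b,
      H.w8.sq8 _ k, mul_one, H.b2]

theorem BC : F16 z v w b ≤ (S : Subgroup G) ⊓ Cs (F8 z v w) :=
  sup_le (le_inf (fun _ h => H.vv.le (H.w8.le8 h).1) (le_Cs_of_sq H.w8.sq8 le_rfl))
    (zpowers_le.2 H.bC)

theorem BP : F16 z v w b ≤ P₁ := fun _ h => (H.w8.leC (H.BC h)).1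

omit H [Finite G] in
theorem VB (h : y ∈ F4 z v) : y ∈ F16 z v w b := mem_sup_left (mem_sup_left h)

omit H [Finite G] in
theorem wB : w ∈ F16 z v w b := mem_sup_left (mem_sup_right (mem_zpowers w))

omit H [Finite G] in
theorem bB : b ∈ F16 z v w b := mem_sup_right (mem_zpowers b)

omit H [Finite G] in
theorem cenB (h : x ∈ Cs (F8 z v w)) (h' : x * b = b * x) : x ∈ Cs (F16 z v w b) :=
  (le_Cs_comm (X := F16 z v w b) (U := zpowers x)).1 (sup_le (le_Cs_comm.1 (zpowers_le.2 h))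
    (zpowers_le.2 (by rw [Cs_zpowers]; exact mem_C1.2 h'.symm))) (mem_zpowers x)

theorem actb (hp : p ∈ P₁) : ⁅p, b⁆ ∈ F4 z v := by
  have := mem_normalizer_conj H.vv.d4 (H.w8.act (H.vv.le (mem_normalizer_conj' H.vv.dN hp)))
  rwa [conjugate_commutatorElement, H.hb, show d₁ * (d₁⁻¹ * p * d₁) * d₁⁻¹ = p by group] at this

theorem cm_mul (hx : x ∈ P₁) (h1 : ⁅p, x⁆ ∈ F4 z v) (h2 : ⁅p, y⁆ ∈ F4 z v) :
    ⁅p, x * y⁆ ∈ F4 z v := by
  rw [show ⁅p, x * y⁆ = ⁅p, x⁆ * (x * ⁅p, y⁆ * x⁻¹) by simp only [commutatorElement_def]; group]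
  exact mul_mem h1 (mem_normalizer_conj (H.vv.n4 (H.vv.le hx)) h2)

theorem cmB (hp : p ∈ P₁) (hx : x ∈ F16 z v w b) : ⁅p, x⁆ ∈ F4 z v := by
  have k1 : ∀ y ∈ F4 z v, ⁅p, y⁆ ∈ F4 z v := fun y hy => by
    rw [commutatorElement_eq_one_iff_mul_comm.2 (H.Vc hp hy)]
    exact one_mem _
  have k2 : ∀ y ∈ F8 z v w, ⁅p, y⁆ ∈ F4 z v := fun y hy => by
    obtain k | k := H.w8.mem8.1 hy
    · exact k1 y k
    · have := H.cm_mul H.w8.wP₁ (H.w8.act (H.vv.le hp)) (k1 _ k)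
      rwa [← mul_assoc, H.w8.w2, one_mul] at this
  obtain k | k := H.memB.1 hx
  · exact k2 x k
  · have := H.cm_mul H.bP (H.actb hp) (k2 _ k)
    rwa [mul_inv_cancel_left] at this

theorem ddd : d₁ * (d₁ * b * d₁⁻¹) * d₁⁻¹ = w := H.hb ▸ H.vv.ddd H.w8.wP₁

theorem eB : d₁ * b * d₁⁻¹ ∈ F16 z v w b :=
  H.ctx.mem_e16 H.sqB H.cardB (sq_cj H.b2 d₁) (cenB (H.memC (mem_normalizer_conj H.vv.dN H.bP) (by
    have := comm_cj (comm_cj H.wb d₁) d₁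
    rwa [H.ddd, H.hb] at this)).2 (by
    have := comm_cj H.wb d₁
    rw [H.hb] at this
    exact this.symm))

theorem bV (hx : x ∈ F8 z v w) : b * x ∉ F4 z v := fun k =>
  H.bW (by simpa using mul_mem (mem_sup_left k : b * x ∈ F8 z v w) (inv_mem hx))

theorem eV : w * (b⁻¹ * (d₁ * b * d₁⁻¹)) ∈ F4 z v := by
  obtain k | k := H.memB.1 H.eB <;> obtain k | k := H.w8.mem8.1 k
  · exact absurd (H.ddd ▸ mem_normalizer_conj H.vv.d4 k) H.w8.wV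
  · have := mem_normalizer_conj H.vv.d4 k
    rw [← conj_mul', H.hb, H.ddd] at this
    exact absurd this (H.bV (mem_sup_right (mem_zpowers w)))
  · have := mem_normalizer_conj' H.vv.d4 k
    rw [show d₁⁻¹ * (b⁻¹ * (d₁ * b * d₁⁻¹)) * d₁ = (d₁⁻¹ * b * d₁)⁻¹ * b by group,
      show d₁⁻¹ * b * d₁ = w by rw [← H.hb]; group, inv_eq_of_sq H.w8.w2, H.wb] at this
    exact absurd this (H.bV (mem_sup_right (mem_zpowers w)))
  · exact k

omit H in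
theorem nsB (h1 : n ∈ Ns (F4 z v)) (h2 : n * w * n⁻¹ ∈ F16 z v w b)
    (h3 : n * b * n⁻¹ ∈ F16 z v w b) : n ∈ Ns (F16 z v w b) :=
  mem_normalizer_of_cj_le (by
    rw [cj_sup, cj_sup, cj_zpowers, cj_zpowers, mem_Ns_iff.1 h1]
    exact sup_le (sup_le (fun _ => VB) (zpowers_le.2 h2)) (zpowers_le.2 h3))

theorem d1B : d₁ ∈ Ns (F16 z v w b) := nsB H.vv.d4 (H.hb ▸ bB) H.eB

theorem nB : (S : Subgroup G) ≤ Ns (F16 z v w b) := fun x hx => by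
  have k : ∀ p ∈ P₁, p ∈ Ns (F16 z v w b) := fun p hp =>
    nsB (H.vv.n4 (H.vv.le hp)) (conj_of_comm (fun _ => VB) (fun _ => H.cmB hp) _ wB)
      (conj_of_comm (fun _ => VB) (fun _ => H.cmB hp) _ bB)
  have k1 : s₁ * w * s₁⁻¹ ∈ F16 z v w b := mem_sup_left
    (mem_normalizer_conj (H.w8.n8 H.vv.sS) (mem_sup_right (mem_zpowers w)))
  have k2 : s₁ ∈ Ns (F16 z v w b) := nsB (H.vv.n4 H.vv.sS) k1 (by
    rw [← H.hb, H.vv.sd H.w8.wP₁, H.hb]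
    exact mem_normalizer_conj' H.d1B k1)
  obtain e | e := H.vv.idx x hx (H.vv.nS hx)
  · exact k x e
  · simpa using mul_mem (k _ e) (inv_mem k2)

theorem cls (hx : x ∈ F16 z v w b) :
    x ∈ F4 z v ∨ ∃ n ∈ zpowers d₁, w * (n * x * n⁻¹) ∈ F4 z v := by
  obtain k | k := H.memB.1 hx <;> obtain k | k := H.w8.mem8.1 k
  · exact Or.inl k
  · exact Or.inr ⟨1, one_mem _, by simpa using k⟩
  · refine Or.inr ⟨d₁⁻¹, inv_mem (mem_zpowers _), ?_⟩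
    have := mem_normalizer_conj' H.vv.d4 k
    rwa [show d₁⁻¹ * (b⁻¹ * x) * d₁ = (d₁⁻¹ * b * d₁)⁻¹ * (d₁⁻¹ * x * d₁⁻¹⁻¹) by group,
      show d₁⁻¹ * b * d₁ = w by rw [← H.hb]; group, inv_eq_of_sq H.w8.w2] at this
  · refine Or.inr ⟨d₁, mem_zpowers _, ?_⟩
    have := mem_normalizer_conj H.vv.d4 (mul_mem (inv_mem H.eV) k)
    rwa [show d₁ * ((w * (b⁻¹ * (d₁ * b * d₁⁻¹)))⁻¹ * (w * (b⁻¹ * x))) * d₁⁻¹ =
      (d₁ * (d₁ * b * d₁⁻¹) * d₁⁻¹)⁻¹ * (d₁ * x * d₁⁻¹) by simp [mul_assoc], H.ddd,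
      inv_eq_of_sq H.w8.w2] at this

theorem k1 (hc : c ∈ (S : Subgroup G) ⊓ Cs (F8 z v w)) (h : ⁅c, d₂ * b * d₂⁻¹⁆ ∈ F4 z v) :
    ⁅c, d₂ * b * d₂⁻¹⁆ = 1 ∨ ⁅c, d₂ * b * d₂⁻¹⁆ = z := by
  have k := H.actb (H.w8.leC (mem_normalizer_conj' H.w8.dC hc)).1
  have e : ⁅c, d₂ * b * d₂⁻¹⁆ = d₂ * ⁅d₂⁻¹ * c * d₂, b⁆ * d₂⁻¹ := by
    simp only [commutatorElement_def]; group
  rw [e] at h ⊢
  obtain k | k | k | k := H.vv.mem4.1 k <;> rw [k] at h ⊢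
  · exact Or.inl (by group)
  · exact Or.inr H.w8.dz
  · exact absurd (H.w8.dv ▸ h) H.w8.wV
  · rw [← conj_mul', H.w8.dz, H.w8.dv] at h
    exact absurd ((mul_mem_cancel_left (mem_sup_left (mem_zpowers z))).1 h) H.w8.wV

theorem k2 (hc : c ∈ Cs (F8 z v w)) (hx : x ∈ F16 z v w b) :
    (x ∈ F8 z v w ∧ x * c = c * x) ∨ ⁅c, x⁆ = ⁅c, b⁆ := by
  refine (H.memB.1 hx).imp (fun k => ⟨k, mem_Cs.1 hc x k⟩) fun k => ?_
  have := mem_Cs.1 hc _ k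
  calc ⁅c, x⁆ = c * b * (b⁻¹ * x * c⁻¹) * x⁻¹ := by simp only [commutatorElement_def]; group
    _ = _ := by
      rw [show b⁻¹ * x * c⁻¹ = c⁻¹ * (c * (b⁻¹ * x)) * c⁻¹ by group, ← this, commutatorElement_def]
      group

theorem d2B : d₂ ∈ Ns (F16 z v w b) := by
  have k : d₂ * b * d₂⁻¹ ∈ F16 z v w b := by
    by_contra hn
    have c1 := mem_normalizer_conj H.w8.dC H.bC
    have c2 := mem_normalizer_conj H.w8.dC c1
    have e0 : ⁅b, d₂ * b * d₂⁻¹⁆ = z :=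
      (H.k1 H.bC (by simpa using inv_mem (H.actb (H.w8.leC c1).1))).resolve_left fun e =>
        hn (H.ctx.mem_e16 H.sqB H.cardB (sq_cj H.b2 d₂)
          (cenB c1.2 (commutatorElement_eq_one_iff_mul_comm.1 e).symm))
    have e1 := congrArg (fun x => d₂ * x * d₂⁻¹) e0
    simp only [conjugate_commutatorElement, H.w8.dz] at e1
    have e2 := congrArg (fun x => d₂ * x * d₂⁻¹) e1
    simp only [conjugate_commutatorElement, H.w8.dz, H.w8.tri.ddd (H.w8.leC H.bC).2] at e2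
    have q1 := sq_cj H.b2 d₂
    have q2 := sq_cj q1 d₂
    generalize d₂ * (d₂ * b * d₂⁻¹) * d₂⁻¹ = b₂ at c2 e1 e2 q2
    generalize d₂ * b * d₂⁻¹ = b₁ at c1 hn e0 e1 q1
    have zm := mem_zpowers z
    have a : ∀ c ∈ Cs (F8 z v w), ⁅c, b⁆ ∈ zpowers z → ∀ x ∈ F16 z v w b, ⁅c, x⁆ ∈ zpowers z :=
      fun c hc h x hx => by
      obtain ⟨-, k⟩ | k := H.k2 hc hx
      · rw [commutatorElement_eq_one_iff_mul_comm.2 k.symm]
        exact one_mem _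
      · rwa [k]
    have zB : zpowers z ≤ F16 z v w b := fun _ h => VB (mem_sup_left h)
    have := EA.card_le2 H.ctx.r4 (K := zpowers z) (B := F16 z v w b) (g := b₁) (a := b₂)
      ⟨zB, fun x hx => H.sqB x hx ▸ one_mem _, fun x hx k hk => by
        rwa [Gold.comm_of_sq H.sqB x hx k (zB hk), mul_inv_cancel_right]⟩
      (a _ c1.2 (by rw [← commutatorElement_inv, e0]; exact inv_mem zm)) (q1 ▸ one_mem _)
      (a _ c2.2 (e2 ▸ zm)) (q2 ▸ one_mem _) (by rw [← commutatorElement_inv, e1]; exact inv_mem zm)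
      hn (fun k => H.vv.z1 (e2 ▸ commutatorElement_eq_one_iff_mul_comm.2
        (Gold.comm_of_sq H.sqB _ k _ bB))) fun k => H.vv.z1 (by
        rw [← e1, ← H.sqB _ k, commutatorElement_def, inv_eq_of_sq q1, inv_eq_of_sq q2]
        group)
    rw [H.cardB, Nat.card_zpowers, orderOf_eq_prime (by rw [pow_two, H.vv.z2]) H.vv.z1] at this
    omega
  refine mem_normalizer_of_cj_le ?_
  rw [cj_sup, cj_zpowers, mem_Ns_iff.1 H.w8.d8]
  exact sup_le le_sup_left (zpowers_le.2 k)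

theorem cenS (hy : y ∈ F16 z v w b) (hc : y ∈ Cs (S : Subgroup G)) : y = 1 ∨ y = z := by
  obtain k | ⟨n, hn, k⟩ := H.cls hy
  · exact H.w8.cen (mem_sup_left k) hc
  · have k1 := mem_normalizer_conj (mem_Ns_Cs (zpowers_le.2 H.vv.dN hn)) (Cs_anti H.vv.le hc)
    obtain ⟨p, hp, e⟩ := H.w8.onto (mem_sup_left (mem_zpowers z) : z ∈ F4 z v)
    exact absurd (e ▸ commutatorElement_eq_one_iff_mul_comm.2 (mem_Cs.1
      ((mul_mem_cancel_right k1).1 (H.vv.le4 k).2) p hp)) H.vv.z1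

theorem all (hy : y ∈ F16 z v w b) (h1 : y ≠ 1) : ∃ n ∈ Ns (F16 z v w b) ⊓
    Ns ((S : Subgroup G) ⊓ Cs (F16 z v w b)), n * z * n⁻¹ = y := by
  have l : (S : Subgroup G) ⊓ Cs (F16 z v w b) ≤ P₁ ⊓ P₂ :=
    (inf_le_inf_left _ (Cs_anti le_sup_left)).trans H.w8.leC
  have e : ∀ P ≤ (S : Subgroup G), (S : Subgroup G) ⊓ Cs (F16 z v w b) ≤ P →
      (S : Subgroup G) ⊓ Cs (F16 z v w b) = P ⊓ Cs (F16 z v w b) := fun P h h' =>
    le_antisymm (le_inf h' inf_le_right) (inf_le_inf_right _ h)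
  generalize hN : Ns (F16 z v w b) ⊓ Ns ((S : Subgroup G) ⊓ Cs (F16 z v w b)) = N
  have m1 : d₁ ∈ N := hN ▸ ⟨H.d1B, by
    rw [e P₁ H.vv.le (l.trans inf_le_left)]
    exact mem_Ns_inf H.vv.dN (mem_Ns_Cs H.d1B)⟩
  have m2 : d₂ ∈ N := hN ▸ ⟨H.d2B, by
    rw [e P₂ H.w8.tri.le (l.trans inf_le_right)]
    exact mem_Ns_inf H.w8.tri.dN (mem_Ns_Cs H.d2B)⟩
  have m3 : ∀ p ∈ P₁, p ∈ N := fun p hp => hN ▸ ⟨H.nB (H.vv.le hp),
    mem_Ns_inf (le_normalizer (H.vv.le hp)) (mem_Ns_Cs (H.nB (H.vv.le hp)))⟩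
  obtain k | ⟨n, hn, k⟩ := H.cls hy
  · obtain rfl | rfl | rfl | rfl := H.vv.mem4.1 k
    · exact absurd rfl h1
    · exact ⟨1, one_mem _, by group⟩
    · exact ⟨d₁, m1, H.vv.dz⟩
    · exact ⟨d₁ * d₁, mul_mem m1 m1, by rw [← H.vv.dv, ← H.vv.dz]; group⟩
  · obtain ⟨p, hp, e⟩ := H.w8.onto k
    refine ⟨n⁻¹ * p * d₂ * d₁, mul_mem (mul_mem (mul_mem (inv_mem (zpowers_le.2 m1 hn)) (m3 p hp))
      m2) m1, ?_⟩
    have c := Gold.comm_of_sq H.w8.sq8 _ (mem_sup_left k) w (mem_sup_right (mem_zpowers w))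
    rw [show n⁻¹ * p * d₂ * d₁ * z * (n⁻¹ * p * d₂ * d₁)⁻¹ =
      n⁻¹ * (p * (d₂ * (d₁ * z * d₁⁻¹) * d₂⁻¹) * p⁻¹) * n by group, H.vv.dz, H.w8.dv,
      show p * w * p⁻¹ = ⁅p, w⁆ * w by rw [commutatorElement_def]; group, e, c, ← mul_assoc w,
      H.w8.w2]
    group

variable (hq : (S : Subgroup G) ⊓ Cs (F16 z v w b) ≤ F16 z v w b)
  (ht : t ∈ (S : Subgroup G) ⊓ Cs (F8 z v w)) (hn : t ∉ F16 z v w b)
include hq ht hn

theorem k3 : ⁅t, b⁆ = z := by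
  have k := mem_normalizer_conj H.d2B (bB (z := z) (v := v) (w := w) (b := b))
  have e := (H.k2 ht.2 k).resolve_left fun h => not_cj H.w8.d8 H.bW h.1
  refine e ▸ (H.k1 ht (e ▸ H.actb (H.w8.leC ht).1)).resolve_left fun h => hn (hq ⟨ht.1, ?_⟩)
  exact cenB ht.2 (commutatorElement_eq_one_iff_mul_comm.1 (e ▸ h))

theorem k4 (hc : c ∈ (S : Subgroup G) ⊓ Cs (F8 z v w)) (hn' : c ∉ F16 z v w b) :
    t⁻¹ * c ∈ F16 z v w b := by
  have k := mul_mem (inv_mem ht) hc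
  refine hq ⟨k.1, cenB k.2 ?_⟩
  calc t⁻¹ * c * b = t⁻¹ * ⁅c, b⁆ * b * c := by rw [commutatorElement_def]; group
    _ = _ := by rw [H.k3 hq hc hn', ← H.k3 hq ht hn, commutatorElement_def]; group

theorem k7 : t * t ∈ F8 z v w := by
  have e := H.k3 hq ht hn
  have k := mul_mem ht ht
  have hB : t * t ∈ F16 z v w b := hq ⟨k.1, cenB k.2 (by
    calc t * t * b = t * ⁅t, b⁆ * (b * t) := by rw [commutatorElement_def]; group
      _ = z * ⁅t, b⁆ * (b * (t * t)) := by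
        nth_rewrite 1 [e]
        rw [H.zc ht.1, commutatorElement_def]; group
      _ = _ := by rw [e, H.vv.z2, one_mul])⟩
  refine ((H.k2 ht.2 hB).resolve_right fun h => H.vv.z1 ?_).1
  rw [← e, ← h, commutatorElement_def]
  group

theorem k6 (hx : x ∈ F16 z v w b) :
    (x ∈ F8 z v w ∧ t * x * (t * x) = t * t) ∨ t * x * (t * x) = z * (t * t) := by
  refine (H.k2 ht.2 hx).imp (fun k => ⟨k.1, ?_⟩) fun k => ?_
  · rw [mul_assoc, ← mul_assoc x, k.2, mul_assoc, H.sqB x hx, mul_one]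
  · calc t * x * (t * x) = ⁅t, x⁆ * (x * (t * t * x)) := by rw [commutatorElement_def]; group
      _ = _ := by
        rw [k, H.k3 hq ht hn, Gold.comm_of_sq H.sqB _ (mem_sup_left (H.k7 hq ht hn)) x hx,
          ← mul_assoc x, H.sqB x hx, one_mul]

theorem k8 : ∃ t ∈ (S : Subgroup G) ⊓ Cs (F8 z v w), t ∉ F16 z v w b ∧ t * t = 1 := by
  have k := H.k6 hq ht hn (H.k4 hq ht hn (mem_normalizer_conj H.w8.dC ht) (not_cj H.d2B hn))
  rw [mul_inv_cancel_left, conj_mul'] at k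
  obtain e | e := H.w8.fix8 (H.k7 hq ht hn) (k.imp
    (fun k => by rw [commutatorElement_def, k.2, mul_inv_cancel])
    fun k => by rw [commutatorElement_def, k, mul_inv_cancel_right])
  · exact ⟨t, ht, hn, e⟩
  · refine ⟨t * b, mul_mem ht H.bC, fun h => hn ((mul_mem_cancel_right bB).1 h), ?_⟩
    rw [(H.k6 hq ht hn bB).resolve_left fun h => H.bW h.1, e, H.vv.z2]

theorem k9 (h2 : t * t = 1) (hp : p ∈ P₁) : ⁅p, t⁆ ∈ F8 z v w := by
  have hS := H.vv.le hp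
  have k := H.k6 hq ht hn (H.k4 hq ht hn (mem_normalizer_conj
    (mem_Ns_inf (le_normalizer hS) (mem_Ns_Cs (H.w8.n8 hS))) ht) (not_cj (H.nB hS) hn))
  rw [mul_inv_cancel_left, sq_cj h2, h2, mul_one] at k
  have := mem_normalizer_conj (H.w8.n8 ht.1) (k.resolve_right H.vv.z1.symm).1
  rwa [mul_inv_cancel_left] at this

theorem no_t (h2 : t * t = 1) : False := by
  have tP := (H.w8.leC ht).1
  have p1 := mem_normalizer_conj H.vv.dN tP
  have p2 := mem_normalizer_conj H.vv.dN p1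
  have dd := H.vv.ddd tP
  have c1 : ⁅d₁ * t * d₁⁻¹, t⁆ ∈ F4 z v := by
    have a := H.k9 hq ht hn h2 p1
    obtain k | k := H.w8.mem8.1 (inv_mem (H.k9 hq ht hn h2 p2)) <;>
      replace k := mem_normalizer_conj H.vv.d4 k
    · rwa [commutatorElement_inv, conjugate_commutatorElement, dd] at k
    · rw [← conj_mul', commutatorElement_inv, conjugate_commutatorElement, dd, H.hb] at k
      exact absurd k (H.bV a)
  have c2 := mem_normalizer_conj H.vv.d4 c1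
  have c3 := inv_mem (mem_normalizer_conj H.vv.d4 c2)
  rw [conjugate_commutatorElement] at c2
  rw [conjugate_commutatorElement, conjugate_commutatorElement, dd, commutatorElement_inv] at c3
  have e := H.k3 hq ht hn
  have e0 : ⁅t, d₁ * b * d₁⁻¹⁆ = z := e ▸ (H.k2 ht.2 H.eB).resolve_left fun k => by
    have := mul_mem (H.w8.mem8.2 (Or.inr H.eV)) (inv_mem k.1)
    rw [mul_inv_cancel_right] at this
    exact H.bW (by simpa using this)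
  have e1 : ⁅d₁ * t * d₁⁻¹, w⁆ = v := by rw [← H.vv.dz, ← e0, conjugate_commutatorElement, H.ddd]
  have e2 : ⁅d₁ * (d₁ * t * d₁⁻¹) * d₁⁻¹, w⁆ = z * v := by
    rw [← H.vv.dv, ← H.vv.dz, ← e, conjugate_commutatorElement, conjugate_commutatorElement, H.ddd]
  have q1 := sq_cj h2 d₁
  have q2 := sq_cj q1 d₁
  generalize d₁ * (d₁ * t * d₁⁻¹) * d₁⁻¹ = t₂ at p2 c2 c3 e2 q2
  generalize d₁ * t * d₁⁻¹ = t₁ at p1 c1 c2 e1 q1
  have ea : EA (F4 z v) (F16 z v w b) := ⟨fun _ => VB, fun x hx => H.sqB x hx ▸ one_mem _,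
    fun x hx _ => mem_normalizer_conj (H.vv.n4 (H.BC hx).1)⟩
  have a0 : ∀ x ∈ F16 z v w b, ⁅t, x⁆ ∈ F4 z v := fun _ => H.cmB tP
  have q0 : t * t ∈ F4 z v := h2 ▸ one_mem _
  have nw : ∀ x ∈ F16 z v w b ⊔ zpowers t, ⁅x, w⁆ = 1 := fun x hx =>
    commutatorElement_eq_one_iff_mul_comm.2 (H.w8.memC.1 (sup_le H.BC (zpowers_le.2 ht) hx).2).2.2
  have := EA.card_le2 H.ctx.r4 (ea.adj a0 q0) (g := t₁) (a := t₂)
    (ea.comm_adj a0 q0 (fun _ => H.cmB p1) c1) (q1 ▸ one_mem _)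
    (ea.comm_adj a0 q0 (fun _ => H.cmB p2) c3) (q2 ▸ one_mem _) c2
    (fun k => H.vv.v1 (e1 ▸ nw _ k)) (fun k => H.vv.vz (by
      rw [← inv_eq_of_sq H.vv.z2]
      exact eq_inv_of_mul_eq_one_right (e2 ▸ nw _ k))) fun k => H.vv.z1 (by
      have := nw _ k
      rw [show ⁅t₁⁻¹ * t₂, w⁆ = t₁⁻¹ * (⁅t₂, w⁆ * ⁅t₁, w⁆⁻¹) * t₁ by
        simp only [commutatorElement_def]; group, e1, e2, mul_inv_cancel_right] at this
      rw [← mul_inv_cancel_left t₁ z, ← mul_inv_cancel_right (t₁⁻¹ * z) t₁, this]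
      group)
  rw [card_adj (conj_of_comm ea.le a0) (ea.le q0) hn, H.cardB, H.vv.card4] at this
  omega

omit ht hn

theorem pb : PB (S : Subgroup G) P₁ (F16 z v w b) d₁ s₁ z v := by
  have le : (S : Subgroup G) ⊓ Cs (F8 z v w) ≤ F16 z v w b := fun t ht => by
    by_contra hn
    obtain ⟨t, ht, hn, h2⟩ := H.k8 hq ht hn
    exact H.no_t hq ht hn h2
  refine ⟨H.vv, H.BP, H.sqB, H.cardB, by rw [H.w8.cardP₁, le_antisymm le H.BC, H.cardB], H.nB,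
    VB (mem_sup_left (mem_zpowers z)), VB (mem_sup_right (mem_zpowers v)),
    fun p hp x => H.cmB hp, fun p hp x hx e => ?_⟩
  obtain k | ⟨n, hn, k⟩ := H.cls hx
  · exact Or.inr k
  · have hp' := mem_normalizer_conj (zpowers_le.2 H.vv.dN hn) hp
    have e1 := H.Vc hp' k
    rw [mul_assoc w, ← comm_cj e, ← mul_assoc, ← mul_assoc w, mul_left_inj] at e1
    by_contra h
    exact not_cj (zpowers_le.2 H.d1B hn) (not_or.1 h).1 (le (H.memC hp' e1))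

end Hy

end Wa

theorem W8.caseA (h : Six S) (h1 : W8 (S : Subgroup G) P₁ P₂ d₁ s₁ d₂ s₂ z v w)
    (h2 : w * (d₁ * w * d₁⁻¹) = d₁ * w * d₁⁻¹ * w) : d₁ * w * d₁⁻¹ ∈ F8 z v w := by
  by_contra hn
  have H : Wa.Hy S P₁ P₂ d₁ s₁ d₂ s₂ z v w _ := ⟨h.toCtx, h1, rfl, h2, hn⟩
  exact (H.pb (H.ctx.sq (fun _ h => (H.BC h).1) H.nB H.sqB H.cardB (fun _ => H.cenS)
    (Or.inr fun _ => H.all))).false h

end Cfsg.Lib.GHN
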