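import Cfsg.Agent.GHN.Wi0
import Cfsg.Agent.GHN.L3
import Cfsg.Agent.GHN.C0W
import Cfsg.Agent.GHN.Zs
import Cfsg.Agent.GHN.Sq
import Cfsg.Agent.GHN.PB

/-! # Section six: `d₁` does not normalise the `E₈` -/

set_option autoImplicit false

namespace Cfsg.Lib.GHN

open Subgroup Cfsg.Lib.Trans Cfsg.Lib.Gold Cfsg.Lib.Rank2

universe u

variable {G : Type u} [Group G] [Finite G] {S : Sylow 2 G} {P₁ P₂ : Subgroup G}
  {z v w d₁ s₁ d₂ s₂ : G}

theorem W8.caseI (h : Six S) (h1 : W8 (S : Subgroup G) P₁ P₂ d₁ s₁ d₂ s₂ z v w)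
    (h2 : d₁ * w * d₁⁻¹ ∈ F8 z v w) : False :=
  have le := h1.le8.trans inf_le_left
  Wi.main h h1 h2
    (fun a b c => h1.c0w h (h.toCtx.l3 (le.trans h1.vv.le) h1.n8 h1.sq8 h1.card8 a b c))
    (fun _ a b c d e f g => h.zs h1.vv (le.trans h1.vv.le) h1.n8 h1.sq8 (fun _ => h1.cen) a b c d e f
      le g)
    (fun _ a b c d e f => h.toCtx.sq a b c d e (.inl f)) fun _ => PB.false h

end Cfsg.Lib.GHN
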