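import Cfsg.Agent.GHN.B2
import Cfsg.Agent.GHN.Wi
import Cfsg.Agent.GHN.Wa
import Cfsg.Agent.GHN.Wb
import Cfsg.Agent.GHN.CaseA
import Cfsg.Agent.GHN.Gen

/-!
# Simple groups of sectional 2-rank at most four: section six, and the reduction to sections three
to five
-/

set_option autoImplicit false

namespace Cfsg.Lib.GHN

open Subgroup Cfsg.Lib.Trans Cfsg.Lib.Gold

universe u

variable {G : Type u} [Group G] [Finite G] {S : Sylow 2 G}

theorem Six.false (h : Six S) : False := by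
  obtain ⟨P₁, P₂, d₁, s₁, d₂, s₂, z, v, a, b, c⟩ := h.exists_mover
  by_cases e : d₂ * z * d₂⁻¹ = z
  · have m : Mv (S : Subgroup G) P₁ P₂ d₁ s₁ d₂ s₂ z v :=
      ⟨a, b, h.vP a b, e, c.resolve_left fun k => k (e.symm ▸ a.zE)⟩
    have w := m.w8 h
    exact w.caseI h (w.caseA h (w.caseB h))
  · exact c.elim (· (h.caseA a b e).1) (· (h.caseA a b e).2)

/-- The Sylow 2-subgroup is of one of the listed types, given sections three, four and five. -/
theorem Ctx.out_of (h : Ctx S)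
    (t3 : Cx S → ∀ P d s, Tri (S : Subgroup G) P d s → ¬ (S : Subgroup G) ≤ Ns P →
      (GV (S : Subgroup G) ∨ GQ (S : Subgroup G) ∨ GHA.NoE8 (S : Subgroup G)) ∧
      ∀ z ∈ (S : Subgroup G), z ∈ Cs (S : Subgroup G) → z * z = 1 → d * z ≠ z * d →
        GV (S : Subgroup G))
    (t4 : Cx S → ¬ GV (S : Subgroup G))
    (t5 : Cx S → GQ (S : Subgroup G) → GHA.NoE8 (S : Subgroup G)) : Out S := by
  by_contra hO
  have c : Cx S := ⟨h, h.out_or_gen.resolve_left hO, hO⟩
  by_cases e : GHA.NoE8 (S : Subgroup G)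
  · obtain ⟨P, d, s, y, k, hy, m⟩ := c.exists_move
    have n : (S : Subgroup G) ≤ Ns P := by_contra fun n =>
      t4 c ((t3 c P d s k n).2 y hy.1 hy.2.1 hy.2.2 m)
    obtain ⟨z, v, a, -⟩ := k.vv_or h n ⟨k.cenP hy.1 hy.2.1, cs_mono k.le hy.2.1, hy.2.2⟩ m
    exact hO (h.E1 e ((a.le4.trans inf_le_left).trans k.le) a.n4 a.card4 (fun _ => a.sq4) a.fus)
  · exact Six.false ⟨c, t4 c, fun q => e (t5 c q), fun P d s k => by_contra fun n =>
      (t3 c P d s k n).1.elim (t4 c) fun q => q.elim (fun q => e (t5 c q)) e⟩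

end Cfsg.Lib.GHN
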