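import Cfsg.Agent.GHN.Fr2
import Cfsg.Agent.GHN.Api

/-!
# Simple groups of sectional 2-rank at most four: the API of type two
-/

set_option autoImplicit false

namespace Cfsg.Lib.GHN

open Subgroup Cfsg.Lib.Trans Cfsg.Lib.Gold Cfsg.Lib.Rank2 Cfsg.Lib.GHB
open scoped commutatorElement

universe u

variable {G : Type u} [Group G] [Finite G] {H M P T : Subgroup G} {a b d g h p q s x : G}

namespace T2a

theorem grow (hT : IsPGroup 2 T) (h1 : P ≤ T) (h4 : ¬ T ≤ P) :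
    ∃ x ∈ T, x ∈ Ns P ∧ x ∉ P ∧ x * x ∈ P := by
  have : Fact (Nat.Prime 2) := ⟨Nat.prime_two⟩
  have hlt : P < T := lt_of_le_of_ne h1 fun e => h4 e.ge
  obtain ⟨g, hg, hgX⟩ := SetLike.exists_of_lt (lt_inf_normalizer hT hlt)
  obtain ⟨k, hk⟩ := hT ⟨g, hg.1⟩
  have hk' : g ^ 2 ^ k ∈ P := by
    have : g ^ 2 ^ k = 1 := congrArg Subtype.val hk
    rw [this]; exact P.one_mem
  clear hk
  induction k with
  | zero => exact absurd (by simpa using hk') hgX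
  | succ k ih =>
    by_cases h : g ^ 2 ^ k ∈ P
    · exact ih h
    · refine ⟨g ^ 2 ^ k, T.pow_mem hg.1 _, pow_mem hg.2 _, h, ?_⟩
      rwa [← pow_two, ← pow_mul, ← pow_succ]

omit [Finite G] in
theorem card_idx (h : Local.IdxLeTwo M T) (h1 : M ≤ T) (ha : a ∈ T) (h2 : a ∉ M) :
    Nat.card T = 2 * Nat.card M := by
  rw [← GHB.card_adj (fun b hb => h.conj_mem ha (h1 hb) hb) (h.mul_self_mem ha) h2]
  congr 2
  refine le_antisymm (fun b hb => ?_) (sup_le h1 (zpowers_le.2 ha))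
  by_cases k : b ∈ M
  · exact mem_sup_left k
  · exact (mul_mem_cancel_right (mem_sup_right (mem_zpowers a))).1 (mem_sup_left (h b hb a ha k h2))

omit [Finite G] in
theorem triN (h : Tri H P d s) : Tri (H ⊓ Ns P) P d s :=
  { h with
    le := le_inf h.le le_normalizer
    sS := ⟨h.sS, h.sN⟩
    cent := fun x hx => h.cent x hx.1
    idx := fun x hx => h.idx x hx.1
    syl := by rw [inf_assoc, inf_idem]; exact h.syl }

omit [Finite G] in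
theorem idxN (h : Tri H P d s) : Local.IdxLeTwo P (H ⊓ Ns P) := (triN h).idx2 inf_le_right

omit [Finite G] in
theorem PN (h : Tri H P d s) : P ≤ H ⊓ Ns P := (triN h).le

omit [Finite G] in
theorem idxN' (h : Tri H P d s) (hx : x ∈ Ns (H ⊓ Ns P)) :
    Local.IdxLeTwo (cj x P) (H ⊓ Ns P) := fun a ha b hb h1 h2 => by
  rw [mem_cj] at h1 h2 ⊢
  have := idxN h _ (mem_normalizer_conj' hx ha) _ (mem_normalizer_conj' hx hb) h1 h2
  rwa [show x⁻¹ * a * x * (x⁻¹ * b * x) = x⁻¹ * (a * b) * x by group] at this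

omit [Finite G] in
theorem xx (h2 : x * x ∈ Ns P) : cj x (cj x P) = P := by
  rw [cj_cj, cj_eq_of_mem_normalizer h2]

omit [Finite G] in
theorem sw (h2 : x * x ∈ Ns P) : x * g * x⁻¹ ∈ P ↔ g ∈ cj x P := by
  conv_lhs => rw [← xx h2]
  exact conj_mem_cj

theorem exp (hx : x ∉ Ns P) : ∃ p ∈ P, p ∉ cj x P := by
  by_contra k
  push Not at k
  exact hx (inv_mem_iff.1 (mem_normalizer_of_cj_le (cj_inv_le_iff_le_cj.2 k)))

omit [Finite G] in
theorem mk' (hH : IsPGroup 2 H) (h0 : Tri H P d s) (h1 : x ∈ H) (h2 : x ∈ Ns (H ⊓ Ns P))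
    (h3 : x ∉ Ns P) (h4 : x * x ∈ P) : T2 H P (P ⊓ cj x P) d s x :=
  { h0 with
    p2 := hH
    xS := h1
    xN := h2
    xP := h3
    eqT := rfl
    x2 := ⟨h4, mem_cj.2 (by rwa [show x⁻¹ * (x * x) * x = x * x by group])⟩ }

end T2a

open T2a

theorem Tri.t2 (hH : IsPGroup 2 H) (h0 : Tri H P d s) (h1 : ¬ H ≤ Ns P) :
    ∃ T x, T2 H P T d s x := by
  obtain ⟨x, xH, xN, xP, x2⟩ := grow hH (inf_le_left : H ⊓ Ns P ≤ H) fun k => h1 fun a ha => (k ha).2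
  have xP' : x ∉ Ns P := fun k => xP ⟨xH, k⟩
  by_cases k : x * x ∈ P
  · exact ⟨_, x, mk' hH h0 xH xN xP' k⟩
  obtain ⟨p, hp, hp'⟩ := exp xP'
  have pN := PN h0 hp
  refine ⟨_, x * p, mk' hH h0 (mul_mem xH pN.1) (mul_mem xN (le_normalizer pN))
    (fun e => xP' ((mul_mem_cancel_right (mem_inf.1 pN).2).1 e)) ?_⟩
  rw [show x * p * (x * p) = x * p * x⁻¹ * (x * x) * p by group, mul_mem_cancel_right hp]
  exact idxN h0 _ (mem_normalizer_conj xN pN) _ x2 (fun e => hp' ((sw x2.2).1 e)) k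

namespace T2
variable (h0 : T2 H P T d s x)
include h0

omit [Finite G] in
theorem memT : g ∈ T ↔ g ∈ P ∧ g ∈ cj x P := by rw [h0.eqT]; exact mem_inf
omit [Finite G] in
theorem TP : T ≤ P := fun _ k => (h0.memT.1 k).1
omit [Finite G] in
theorem TxP : T ≤ cj x P := fun _ k => (h0.memT.1 k).2
omit [Finite G] in
theorem PN : P ≤ H ⊓ Ns P := T2a.PN h0.toTri
omit [Finite G] in
theorem TN : T ≤ H ⊓ Ns P := h0.TP.trans h0.PN
omit [Finite G] in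
theorem idxN : Local.IdxLeTwo P (H ⊓ Ns P) := T2a.idxN h0.toTri
omit [Finite G] in
theorem idxN' : Local.IdxLeTwo (cj x P) (H ⊓ Ns P) := T2a.idxN' h0.toTri h0.xN
omit [Finite G] in
theorem x2N : x * x ∈ H ⊓ Ns P := h0.TN h0.x2
omit [Finite G] in
theorem mulT (ha : a ∈ H ⊓ Ns P) (hb : b ∈ H ⊓ Ns P) :
    a * b ∈ T ↔ (a ∈ P ↔ b ∈ P) ∧ (a ∈ cj x P ↔ b ∈ cj x P) := by
  rw [h0.memT, h0.idxN.mul_mem_iff ha hb, h0.idxN'.mul_mem_iff ha hb]
omit [Finite G] in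
theorem idxP : Local.IdxLeTwo T P := fun a ha b hb h1 h2 => by
  rw [h0.memT] at h1 h2
  rw [h0.mulT (h0.PN ha) (h0.PN hb)]
  tauto
theorem exists_p : ∃ p ∈ P, p ∉ T :=
  let ⟨p, hp, hp'⟩ := exp h0.xP
  ⟨p, hp, fun k => hp' (h0.TxP k)⟩
theorem cardP : Nat.card P = 2 * Nat.card T :=
  let ⟨_, hp, hp'⟩ := h0.exists_p
  card_idx h0.idxP h0.TP hp hp'
omit [Finite G] in
theorem cardN : Nat.card (H ⊓ Ns P : Subgroup G) = 2 * Nat.card P :=
  (triN h0.toTri).card inf_le_right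
omit [Finite G] in
theorem xPN : cj x P ≤ H ⊓ Ns P :=
  cj_le_iff.2 fun _ ht => mem_normalizer_conj h0.xN (h0.PN ht)
theorem nxP : H ⊓ Ns P ≤ Ns (cj x P) := fun _ hg =>
  ns_of fun _ hy => h0.idxN'.conj_mem hg (h0.xPN hy) hy
omit [Finite G] in
theorem xxP : cj x (cj x P) = P := xx h0.x2N.2
omit [Finite G] in
theorem sw : x * g * x⁻¹ ∈ P ↔ g ∈ cj x P := T2a.sw h0.x2N.2
omit [Finite G] in
theorem xN' : x ∉ H ⊓ Ns P := fun k => h0.xP k.2
theorem xT : x ∈ Ns T := ns_of fun _ hy =>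
  h0.memT.2 ⟨h0.sw.2 (h0.TxP hy), conj_mem_cj.2 (h0.TP hy)⟩
theorem NT : H ⊓ Ns P ≤ Ns T := fun _ hg => ns_of fun _ hy =>
  h0.memT.2 ⟨mem_normalizer_conj hg.2 (h0.TP hy), mem_normalizer_conj (h0.nxP hg) (h0.TxP hy)⟩
theorem nT : N1 H P x ≤ Ns T := sup_le h0.NT (zpowers_le.2 h0.xT)
omit [Finite G] in
theorem N1_le : N1 H P x ≤ H := sup_le inf_le_left (zpowers_le.2 h0.xS)
omit [Finite G] in
theorem memN1 : g ∈ N1 H P x ↔ g ∈ H ⊓ Ns P ∨ x * g ∈ H ⊓ Ns P := by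
  rw [GHB.mem_adj (fun b hb => mem_normalizer_conj h0.xN hb) h0.x2N,
    ← mul_mem_cancel_left (h := h0.x2N) (y := x⁻¹ * g),
    show x * x * (x⁻¹ * g) = x * g by group]
theorem cardN1 : Nat.card (N1 H P x) = 8 * Nat.card T := by
  rw [GHB.card_adj (fun b hb => mem_normalizer_conj h0.xN hb) h0.x2N h0.xN', h0.cardN, h0.cardP]
  ring
omit [Finite G] in
theorem sqN (hg : g ∈ H ⊓ Ns P) : g * g ∈ T := (h0.mulT hg hg).2 ⟨Iff.rfl, Iff.rfl⟩
omit [Finite G] in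
theorem cmN (hg : g ∈ H ⊓ Ns P) (hh : h ∈ H ⊓ Ns P) : ⁅g, h⁆ ∈ T := by
  rw [commutatorElement_def, h0.mulT (mul_mem (mul_mem hg hh) (inv_mem hg)) (inv_mem hh),
    h0.idxN.mul_mem_iff (mul_mem hg hh) (inv_mem hg), h0.idxN.mul_mem_iff hg hh,
    h0.idxN'.mul_mem_iff (mul_mem hg hh) (inv_mem hg), h0.idxN'.mul_mem_iff hg hh]
  simp only [inv_mem_iff]
  tauto
omit [Finite G] in
theorem cmd (hp : p ∈ P) (h1 : d ∈ Ns T) : ⁅d, p⁆ ∈ T := by
  rw [commutatorElement_def, h0.idxP.mul_mem_iff (h0.toTri.dP hp) (inv_mem hp), inv_mem_iff]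
  refine ⟨fun k => ?_, mem_normalizer_conj h1⟩
  have := mem_normalizer_conj' h1 k
  rwa [show d⁻¹ * (d * p * d⁻¹) * d = p by group] at this
omit [Finite G] in
theorem xp (hp : p ∈ P) (hp' : p ∉ T) (hq : q ∈ Trans.cj x P) (hq' : q ∉ T) :
    x * p * x⁻¹ * q ∈ T ∧ x * q * x⁻¹ * p ∈ T ∧ q ∉ P ∧ p * q ∉ P ∧ p * q ∉ Trans.cj x P := by
  rw [h0.memT] at hp' hq'
  have pN := h0.PN hp
  have qN := h0.xPN hq
  rw [h0.mulT (mem_normalizer_conj h0.xN pN) qN, h0.mulT (mem_normalizer_conj h0.xN qN) pN,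
    h0.sw, h0.sw, conj_mem_cj, conj_mem_cj, mul_mem_cancel_left hp, mul_mem_cancel_right hq]
  tauto
omit [Finite G] in
/-- the four cosets of `T` in `N_H(P)` -/
theorem cos4 (hp : p ∈ P) (hp' : p ∉ T) (hq : q ∈ Trans.cj x P) (hq' : q ∉ T)
    (hg : g ∈ H ⊓ Ns P) : ∃ e₁ e₂ : Bool, ∃ t ∈ T, g = cond e₁ p 1 * cond e₂ q 1 * t := by
  obtain ⟨-, -, k1, k2, k3⟩ := h0.xp hp hp' hq hq'
  have k4 : p ∉ cj x P := fun k => hp' (h0.memT.2 ⟨hp, k⟩)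
  have pN := h0.PN hp
  have qN := h0.xPN hq
  by_cases a : g ∈ P <;> by_cases b : g ∈ cj x P
  · exact ⟨false, false, g, h0.memT.2 ⟨a, b⟩, by simp⟩
  · exact ⟨true, false, p⁻¹ * g, (h0.mulT (inv_mem pN) hg).2 (by simp [*]), by simp⟩
  · exact ⟨false, true, q⁻¹ * g, (h0.mulT (inv_mem qN) hg).2 (by simp [*]), by simp⟩
  · exact ⟨true, true, (p * q)⁻¹ * g, (h0.mulT (inv_mem (mul_mem pN qN)) hg).2
      (by simp only [inv_mem_iff]; tauto), by simp [mul_assoc]⟩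
/-- the eight cosets of `T` -/
theorem cos (hp : p ∈ P) (hp' : p ∉ T) (hq : q ∈ Trans.cj x P) (hq' : q ∉ T) (hg : g ∈ N1 H P x) :
    ∃ e₁ e₂ e₃ : Bool, ∃ t ∈ T, g = cond e₁ p 1 * cond e₂ q 1 * cond e₃ x 1 * t := by
  rcases h0.memN1.1 hg with k | k
  · obtain ⟨e₁, e₂, t, ht, e⟩ := h0.cos4 hp hp' hq hq' k
    exact ⟨e₁, e₂, false, t, ht, by simpa using e⟩
  · have k' : g * x⁻¹ ∈ H ⊓ Ns P := by
      have := mul_mem (mem_normalizer_conj' h0.xN k) (inv_mem h0.x2N)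
      rwa [show x⁻¹ * (x * g) * x * (x * x)⁻¹ = g * x⁻¹ by group] at this
    obtain ⟨e₁, e₂, t, ht, e⟩ := h0.cos4 hp hp' hq hq' k'
    refine ⟨e₁, e₂, true, _, mem_normalizer_conj' h0.xT ht, ?_⟩
    rw [mul_inv_eq_iff_eq_mul] at e
    rw [e, cond_true]; group
omit [Finite G] in
theorem re (hg : g ∈ H ⊓ Ns P) (h1 : x * g * (x * g) ∈ T) : T2 H P T d s (x * g) ∧
    Trans.cj (x * g) P = Trans.cj x P ∧ N1 H P (x * g) = N1 H P x := by
  have e : cj (x * g) P = cj x P := by rw [cj_mul, cj_eq_of_mem_normalizer hg.2]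
  refine ⟨{ h0 with
    xS := mul_mem h0.xS hg.1
    xN := mul_mem h0.xN (le_normalizer hg)
    xP := fun k => h0.xP ((mul_mem_cancel_right (mem_inf.1 hg).2).1 k)
    eqT := by rw [e]; exact h0.eqT
    x2 := h1 }, e, le_antisymm (sup_le le_sup_left (zpowers_le.2 ?_))
      (sup_le le_sup_left (zpowers_le.2 ?_))⟩
  · exact mul_mem (mem_sup_right (mem_zpowers x)) (mem_sup_left hg)
  · exact (mul_mem_cancel_right (mem_sup_left hg)).1 (mem_sup_right (mem_zpowers (x * g)))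
end T2

end Cfsg.Lib.GHN
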