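import Cfsg.Agent.GHN.T2
import Cfsg.Agent.GHN.Shape
import Cfsg.Agent.GHN.Phi

/-!
# Type two: the dihedral group of order eight is faithful on `T / Φ(T)` of order sixteen
-/

set_option autoImplicit false

namespace Cfsg.Lib.GHN

open Subgroup Cfsg.Lib.Trans Cfsg.Lib.Gold Cfsg.Lib.Rank2 Cfsg.Lib.GHB
open scoped commutatorElement

universe u

variable {G : Type u} [Group G] [Finite G] {H P T A C : Subgroup G} {d s x g p : G}

namespace TAux

theorem ns_phi (hg : g ∈ Ns T) : g ∈ Ns (Phi T) :=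
  ns_of (Shp.phi_conj fun _ => mem_normalizer_conj hg)

theorem burnside (hT : IsPGroup 2 T) (h1 : d ∈ Ns T) (h2 : d ^ 3 ∈ Cs T)
    (h3 : ∀ t ∈ T, ⁅d, t⁆ ∈ Phi T) : d ∈ Cs T := cs_of fun _ ht =>
  (mem_C1.1 (PhiAux.le_of_Phi (H := C1 d) hT (fun t ht => by
    obtain ⟨w, hw, e⟩ := cop_fix hT h1 h2 Phi_le (fun _ hu => ns_phi (le_normalizer hu))
      (ns_phi h1) ht (h3 t ht)
    exact ⟨t * w, mem_C1.2 e.symm, by simpa using hw⟩) ht)).symm

theorem idx_or (hC : IsPGroup 2 C) (h : A ≤ C) :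
    Local.IdxLeTwo A C ∨ 4 * Nat.card A ≤ Nat.card C := by
  have : Fact (Nat.Prime 2) := ⟨Nat.prime_two⟩
  obtain ⟨k, hk⟩ : ∃ k, A.relIndex C = 2 ^ k := hC.index _
  have h3 := relIndex_mul_relIndex ⊥ A C bot_le h
  rw [relIndex_bot_left, relIndex_bot_left, hk] at h3
  rcases k with _ | _ | k
  · exact .inl fun s hs _ _ n _ => absurd (relIndex_eq_one.1 hk hs) n
  · exact .inl (Local.idxLeTwo_of_relIndex hk)
  · have := Nat.two_pow_pos k
    exact .inr (by rw [← h3, pow_succ, pow_succ]; nlinarith)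

/-- a `2`-element and a commuting `3`-element, both non-trivial on `T / Φ(T)` -/
theorem card_ge (hT : IsPGroup 2 T) (h1 : d ∈ Ns T) (h2 : d ^ 3 ∈ Cs T) (h3 : p ∈ Ns T)
    (h4 : p * p ∈ T) (h5 : p * d = d * p) (h6 : ¬ ∀ t ∈ T, ⁅d, t⁆ ∈ Phi T)
    (h7 : ¬ ∀ t ∈ T, ⁅p, t⁆ ∈ Phi T) : 16 * Nat.card (Phi T) ≤ Nat.card T := by
  have ea := Shp.ea_phi T
  have cm : ∀ a b : G, ⁅p, a * b⁆ = ⁅p, a⁆ * (a * ⁅p, b⁆ * a⁻¹) := fun a b => by
    simp only [commutatorElement_def]; group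
  have cd : ∀ a, ⁅p, d * a * d⁻¹⁆ = d * ⁅p, a⁆ * d⁻¹ := fun a => by
    rw [conjugate_commutatorElement, ← h5, mul_inv_cancel_right]
  let D : Subgroup G :=
    { carrier := {t | t ∈ T ∧ ⁅p, t⁆ ∈ Phi T}
      one_mem' := ⟨one_mem _, by simp⟩
      mul_mem' := fun {a b} ha hb =>
        ⟨mul_mem ha.1 hb.1, cm a b ▸ mul_mem ha.2 (ea.nrm a ha.1 _ hb.2)⟩
      inv_mem' := fun {a} ha => ⟨inv_mem ha.1, by
        have := ea.nrm _ (inv_mem ha.1) _ (inv_mem ha.2)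
        rwa [show a⁻¹ * ⁅p, a⁆⁻¹ * a⁻¹⁻¹ = ⁅p, a⁻¹⁆ by
          simp only [commutatorElement_def]; group] at this⟩ }
  have DT : D ≤ T := fun _ h => h.1
  have FD : Phi T ≤ D := fun t ht =>
    ⟨Phi_le ht, mul_mem (mem_normalizer_conj (ns_phi h3) ht) (inv_mem ht)⟩
  have nrm : ∀ {L : Subgroup G}, Phi T ≤ L → L ≤ T → T ≤ Ns L := fun h h' t ht =>
    ns_of fun l hl => conj_eq_cm t l ▸ mul_mem (h (ea.comm ht (h' hl))) hl
  have dD : d ∈ Ns D := ns_of fun t ht =>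
    ⟨mem_normalizer_conj h1 ht.1, cd t ▸ mem_normalizer_conj (ns_phi h1) ht.2⟩
  have bD : ∀ t ∈ T, ⁅p, t⁆ ∈ D := fun t ht => by
    have m : ⁅p, t⁆ ∈ T := mul_mem (mem_normalizer_conj h3 ht) (inv_mem ht)
    refine ⟨m, ?_⟩
    rw [show ⁅p, ⁅p, t⁆⁆ = ⁅p * p, t⁆ * (⁅p, t⁆ * ⁅p, t⁆)⁻¹ by
      simp only [commutatorElement_def]; group]
    exact mul_mem (ea.comm h4 ht) (inv_mem (ea.sq _ m))
  by_contra! lt
  have iD : Local.IdxLeTwo D T := by
    rcases idx_or (hT.to_le DT) FD with h | h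
    · refine fun a ha b hb na nb => ⟨mul_mem ha hb, cm a b ▸ h _ (bD a ha) _
        (mem_normalizer_conj (nrm FD DT ha) (bD b hb)) (fun e => na ⟨ha, e⟩) fun e => nb ⟨hb, ?_⟩⟩
      simpa [mul_assoc] using ea.nrm _ (inv_mem ha) _ e
    · exact (idx_or hT DT).resolve_right (by omega)
  push Not at h7
  obtain ⟨t, ht, nt⟩ := h7
  have c1 : ∀ b ∈ Phi T, ⁅p, t⁆ * b * ⁅p, t⁆⁻¹ ∈ Phi T := ea.nrm _ (bD t ht).1
  have c2 := ea.sq _ (bD t ht).1
  have BD : Phi T ⊔ zpowers ⁅p, t⁆ ≤ D := sup_le FD (zpowers_le.2 (bD t ht))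
  have nB := nrm le_sup_left (BD.trans DT)
  have k1 := C0.comm_of_idx iD dD h1
  have dB : d ∈ Ns (Phi T ⊔ zpowers ⁅p, t⁆) := ns_of (C0.conj_adj
    (fun y hy => mem_sup_left (mem_normalizer_conj (ns_phi h1) hy)) (by
      rw [← cd, conj_eq_cm, cm]
      exact mul_mem (mem_sup_left (k1 t ht).2)
        (mem_normalizer_conj (nB (k1 t ht).1) (mem_sup_right (mem_zpowers _)))))
  have cB := card_adj c1 c2 nt
  have iB := (idx_or (hT.to_le DT) BD).resolve_right fun h => by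
    obtain ⟨k, hk⟩ := card_dvd_of_le DT
    rcases k with _ | _ | k
    · exact Nat.card_pos.ne' hk
    · exact nt ((eq_of_le_of_card_ge DT (hk.trans (mul_one _)).le).ge ht).2
    · nlinarith
  exact h6 (cop hT h1 h2 le_sup_left (BD.trans DT) (nrm le_rfl Phi_le) (ns_phi h1)
    (cop hT h1 h2 BD DT nB dB k1 (C0.comm_of_idx iB dB dD))
    (C0.comm_of_idx (C0.idx_of_card le_sup_left cB) (ns_phi h1) dB))

end TAux

open TAux

theorem T2.ta (h4 : SectionalPRankLE 2 4 G) (h0 : T2 H P T d s x) (h1 : d ∈ Ns T) :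
    ∃ s' p, TA H P T d s' x p := by
  have pP := h0.p2.to_le h0.le
  have pT := pP.to_le h0.TP
  have PN : P ≤ H ⊓ Ns P := le_inf h0.le le_normalizer
  have nT : H ⊓ Ns P ≤ Ns T := le_sup_left.trans h0.nT
  have xT : x ∈ Ns T := h0.nT (mem_sup_right (mem_zpowers x))
  have d3 := cs_mono h0.TP h0.d3
  have mT : ∀ y ∈ P, y ∈ cj x P → y ∈ T := fun y a b => h0.eqT ▸ ⟨a, b⟩
  have nd : ¬ ∀ t ∈ T, ⁅d, t⁆ ∈ Phi T := fun h => h0.dC (cs_of fun y hy =>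
    commutatorElement_eq_one_iff_mul_comm.1 (cop (Z := ⊥) pP h0.dN h0.d3 bot_le h0.TP
      (fun g _ => mem_Ns_iff.2 (cj_bot g)) (mem_Ns_iff.2 (cj_bot d)) (fun u hu => h0.cmd hu h1)
      (fun u hu => commutatorElement_eq_one_iff_mul_comm.2 (cs_comm (burnside pT h1 d3 h) hu))
      y hy))
  have fix : ∀ y ∈ P, ∃ w ∈ T, d * (y * w) = y * w * d := fun y hy =>
    cop_fix pP h0.dN h0.d3 h0.TP (PN.trans nT) h1 hy (h0.cmd hy h1)
  have back : ∀ {g y}, g ∈ Ns T → g * y * g⁻¹ ∈ T → y ∈ T := fun hg hy => by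
    simpa [mul_assoc] using mem_normalizer_conj' hg hy
  obtain ⟨p₀, hp₀, np₀⟩ := h0.exists_p
  obtain ⟨w, hw, ew⟩ := fix p₀ hp₀
  have hp := mul_mem hp₀ (h0.TP hw)
  have np : p₀ * w ∉ T := fun e => np₀ ((mul_mem_cancel_right hw).1 e)
  generalize p₀ * w = p at ew hp np
  have out : ∀ y ∈ P, y ∉ T → x * y * x⁻¹ ∉ P := fun y hy ny e =>
    ny (back xT (mT _ e (conj_mem_cj.2 hy)))
  have qN := h0.xPN (conj_mem_cj.2 hp)
  have q1 : s⁻¹ * (x * p * x⁻¹) ∈ P := by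
    have := mul_mem (mem_normalizer_conj' h0.sN ((h0.idx _ qN.1 qN.2).resolve_left (out p hp np)))
      (inv_mem h0.toTri.s2)
    rwa [show s⁻¹ * (x * p * x⁻¹ * s) * s * (s * s)⁻¹ = s⁻¹ * (x * p * x⁻¹) by group] at this
  obtain ⟨v, hv, ev⟩ := fix _ q1
  have hc := mul_mem q1 (h0.TP hv)
  have sx : s * (s⁻¹ * (x * p * x⁻¹) * v) ∈ cj x P := by
    rw [← mul_assoc, mul_inv_cancel_left]
    exact mul_mem (conj_mem_cj.2 hp) (h0.eqT.le hv).2
  generalize s⁻¹ * (x * p * x⁻¹) * v = c at ev hc sx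
  have fN : ∀ g ∈ H ⊓ Ns P, g ∈ Tv (Phi T) T → g ∈ T := by
    have f1 : ∀ g ∈ H ⊓ Ns P, g ∈ Tv (Phi T) T → g ∈ P := fun g hg hv => by_contra fun n =>
      nd (h0.toTri.stab Phi_le h0.TP (fun y hy => ⟨ns_phi (nT (PN hy)), nT (PN hy)⟩)
        ⟨ns_phi h1, h1⟩ hg.1 hg.2 n hv.1 hv.2)
    exact fun g hg hv => by_contra fun n => out g (f1 g hg hv) n
      (f1 _ (h0.xPN (conj_mem_cj.2 (f1 g hg hv))) (Tv_conj hv (ns_phi xT) xT))
  have faith : ∀ g ∈ N1 H P x, (∀ t ∈ T, ⁅g, t⁆ ∈ Phi T) → g ∈ T := fun g hg h => by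
    have gv : g ∈ Tv (Phi T) T := ⟨ns_phi (h0.nT hg), h⟩
    refine (h0.memN1.1 hg).elim (fN g · gv) fun e => absurd (back (h0.nT hg) ?_) np
    have m : g * p * g⁻¹ ∈ cj x P := by
      have := mem_cj.1 (h0.xxP.ge (mem_normalizer_conj e.2 hp))
      rwa [show x⁻¹ * (x * g * p * (x * g)⁻¹) * x = g * p * g⁻¹ by group] at this
    have := fN _ (mul_mem (h0.xPN m) (inv_mem (PN hp))) (by
      simpa only [mul_assoc] using
        mul_mem gv (Tv_conj (inv_mem gv) (ns_phi (nT (PN hp))) (nT (PN hp))))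
    exact mT _ ((mul_mem_cancel_right (inv_mem hp)).1 (h0.TP this)) m
  exact ⟨s * c, p,
    { h0 with
      sS := mul_mem h0.sS (h0.le hc)
      sN := mul_mem h0.sN (le_normalizer hc)
      sP := fun e => h0.sP ((mul_mem_cancel_right hc).1 e)
      inv := by
        rw [mul_assoc s, ← ev, show s * (d * c) * (s * c)⁻¹ * d = s * d * s⁻¹ * d by group]
        exact h0.inv
      idx := fun y a b => (h0.idx y a b).imp_right fun e => mul_assoc y s c ▸ mul_mem e hc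
      dT := h1
      sx := sx
      pP := hp
      pT := np
      pd := ew.symm
      card := le_antisymm ((Shp.ea_phi T).card_le h4) (card_ge pT h1 d3 (nT (PN hp))
        (h0.sqN (PN hp)) ew.symm nd fun h => np (faith p (mem_sup_left (PN hp)) h))
      faith := faith }⟩

end Cfsg.Lib.GHN
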