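import Cfsg.Agent.GHN.Tool
import Cfsg.Agent.GHN.Good
import Cfsg.Agent.GHN.T2
import Cfsg.Agent.GHN.Phi
import Cfsg.Agent.GHN.Tp
import Cfsg.Agent.GHN.Api
import Cfsg.Agent.Rank2.FNcA

/-!
# Simple groups of sectional 2-rank at most four: `d` has fixed points on `T / Φ(T)`
-/

set_option autoImplicit false
set_option linter.unusedSectionVars false

namespace Cfsg.Lib.GHN

open Subgroup Cfsg.Lib.Trans Cfsg.Lib.Gold Cfsg.Lib.Rank2 Cfsg.Lib.GHB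
open scoped commutatorElement Pointwise

universe u

variable {G : Type u} [Group G] [Finite G] {H P T K B L M N : Subgroup G}
  {a b c d e f g m p r s t u x y f₀ f₁ : G}

namespace TA1

/-- The elements commuting with `g` modulo `N`. -/
def Fx (N : Subgroup G) (g : G) : Subgroup G where
  carrier := {y | y ∈ Ns N ∧ ⁅g, y⁆ ∈ N}
  one_mem' := ⟨one_mem _, by simp⟩
  mul_mem' := fun {a b} ha hb => ⟨mul_mem ha.1 hb.1, by
    rw [show ⁅g, a * b⁆ = ⁅g, a⁆ * (a * ⁅g, b⁆ * a⁻¹) by simp only [commutatorElement_def]; group]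
    exact mul_mem ha.2 (mem_normalizer_conj ha.1 hb.2)⟩
  inv_mem' := fun {a} ha => ⟨inv_mem ha.1, by
    rw [show ⁅g, a⁻¹⁆ = a⁻¹ * ⁅g, a⁆⁻¹ * a by simp only [commutatorElement_def]; group]
    exact mem_normalizer_conj' ha.1 (inv_mem ha.2)⟩

theorem cm_mem (hg : g ∈ Ns N) (hy : y ∈ N) : ⁅g, y⁆ ∈ N :=
  mul_mem (mem_normalizer_conj hg hy) (inv_mem hy)

theorem le_Fx (hg : g ∈ Ns N) : N ≤ Fx N g := fun _ hy => ⟨le_normalizer hy, cm_mem hg hy⟩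

theorem sw (h : ⁅a, b⁆ ∈ N) : ⁅b, a⁆ ∈ N := commutatorElement_inv a b ▸ inv_mem h

theorem cj_of (h : ⁅g, y⁆ ∈ N) (hy : y ∈ N) : g * y * g⁻¹ ∈ N := conj_eq_cm g y ▸ mul_mem h hy

theorem cm_of (ha : a ∈ Ns N) (h : a⁻¹ * (g * a * g⁻¹) ∈ N) : ⁅g, a⁆ ∈ N := by
  simpa [commutatorElement_def, mul_assoc] using mem_normalizer_conj ha h

theorem nPh (hg : g ∈ Ns T) : g ∈ Ns (Phi T) := by
  rw [mem_Ns_iff] at *
  exact (map_Phi _).trans (congrArg Phi hg)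

theorem ea : EA (Phi T) T :=
  ⟨Phi_le, fun _ => sq_mem_Phi, fun _ h _ => mem_normalizer_conj (nPh (le_normalizer h))⟩

theorem nsL (h : EA K B) (h1 : K ≤ L) (h2 : L ≤ B) : B ≤ Ns L :=
  fun _ hg => ns_of fun _ hy => cj_of (h1 (h.comm hg (h2 hy))) hy

theorem adj (h : EA K B) (h1 : K ≤ L) (h2 : L ≤ B) (hg : g ∈ B) :
    y ∈ L ⊔ zpowers g ↔ y ∈ L ∨ g⁻¹ * y ∈ L :=
  mem_adj (fun _ => mem_normalizer_conj (nsL h h1 h2 hg)) (h1 (h.sq g hg))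

theorem cadj (h : EA K B) (h1 : K ≤ L) (h2 : L ≤ B) (hg : g ∈ B) (hn : g ∉ L) :
    Nat.card ↥(L ⊔ zpowers g) = 2 * Nat.card L :=
  card_adj (fun _ => mem_normalizer_conj (nsL h h1 h2 hg)) (h1 (h.sq g hg)) hn

theorem adj_le (h1 : L ≤ B) (hg : g ∈ B) : L ⊔ zpowers g ≤ B := sup_le h1 (zpowers_le.2 hg)

theorem mem_r : g ∈ L ⊔ zpowers g := mem_sup_right (mem_zpowers g)

theorem sq_cm (_hg : g ∈ Ns N) (h1 : ⁅g * g, y⁆ ∈ N) (h2 : ⁅g, y⁆ * ⁅g, y⁆ ∈ N) : ⁅g, ⁅g, y⁆⁆ ∈ N := by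
  rw [show ⁅g, ⁅g, y⁆⁆ = ⁅g * g, y⁆ * (⁅g, y⁆ * ⁅g, y⁆)⁻¹ by simp only [commutatorElement_def]; group]
  exact mul_mem h1 (inv_mem h2)

theorem rot (he : e ∈ Ns N) (hp : p ∈ Ns N) (hu : u ∈ Ns N) (h1 : p * e = e * p)
    (h2 : ⁅p * p, u⁆ ∈ N) (h3 : (e * u * e⁻¹)⁻¹ * (p * u * p⁻¹) ∈ N) : ⁅e * e, u⁆ ∈ N := by
  have k : p * (e * u * e⁻¹) * p⁻¹ = e * (p * u * p⁻¹) * e⁻¹ := by
    rw [show p * (e * u * e⁻¹) * p⁻¹ = p * e * u * (p * e)⁻¹ by group, h1]; group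
  have h4 := mem_normalizer_conj hp h3
  rw [show p * ((e * u * e⁻¹)⁻¹ * (p * u * p⁻¹)) * p⁻¹ =
    (p * (e * u * e⁻¹) * p⁻¹)⁻¹ * (⁅p * p, u⁆ * u) by simp only [commutatorElement_def]; group, k] at h4
  refine cm_of hu ?_
  have := mul_mem (mem_normalizer_conj' hu h2)
    (inv_mem (mul_mem (mem_normalizer_conj he h3) h4))
  simpa [commutatorElement_def, mul_assoc] using this

theorem exists_m (hP : IsPGroup 2 P) (hM : M ≤ P) (hn : P ≤ Ns M) (hN : P ≤ Ns N) (hne : ¬ M ≤ N) :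
    ∃ x ∈ M, x ∉ N ∧ x * x ∈ N ∧ ∀ g ∈ P, ⁅g, x⁆ ∈ N := by
  classical
  obtain ⟨x, hx, h1, h2⟩ := Rank2.FX.Nc.exists_comm_mem Nat.prime_two hP hM hn hne
  obtain ⟨k, hk⟩ := hP ⟨x, hM hx⟩
  have ex : ∃ k, x ^ 2 ^ k ∈ N := ⟨k, by rw [show x ^ 2 ^ k = 1 from congrArg Subtype.val hk]; simp⟩
  obtain ⟨j, hj⟩ := Nat.exists_eq_succ_of_ne_zero
    (show Nat.find ex ≠ 0 from fun e => h1 (by simpa [e] using Nat.find_spec ex))
  refine ⟨x ^ 2 ^ j, pow_mem hx _, Nat.find_min ex (by omega), ?_, fun g hg =>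
    (pow_mem (show x ∈ Fx N g from ⟨hN (hM hx), sw (h2 g hg)⟩) _).2⟩
  have := Nat.find_spec ex
  rwa [hj, pow_succ, pow_mul, sq] at this

section
variable (h0 : Tri H P d s)
include h0

theorem sF (hf : f ∈ P) (h : d * f = f * d) : d * (s * f * s⁻¹) = s * f * s⁻¹ * d := by
  have := h0.sd hf
  rw [h, mul_inv_cancel_right] at this
  conv_lhs => rw [this]
  group

theorem dR (hr : r ∈ Cd P d) : d * r * d⁻¹ ∈ Cd P d := mem_normalizer_conj h0.cd_nd hr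

theorem tri3 (h1 : ⁅Cd P d, Cd P d⁆ ≤ K) (h2 : K ≤ Cd P d) (h3 : d ∈ Ns K) (hr : r ∈ Cd P d) :
    r * (d * r * d⁻¹) * (d * (d * r * d⁻¹) * d⁻¹) ∈ K := by
  have r1 := dR h0 hr
  have r2 := dR h0 r1
  refine h0.cd_fpf h1 h2 h3 (mul_mem (mul_mem hr r1) r2) (h1 ?_)
  rw [commutatorElement_def, cjm, cjm, h0.ddd (h0.cd_le hr)]
  simpa only [commutatorElement_def, mul_inv_rev, mul_assoc] using
    commutator_mem_commutator (mul_mem r1 r2) hr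

theorem nX (hP : P ≤ Ns K) (hs : s ∈ Ns K) : H ⊓ Ns P ≤ Ns K := fun g hg => by
  rcases h0.idx g hg.1 hg.2 with h | h
  exacts [hP h, by simpa using mul_mem (hP h) (inv_mem hs)]

theorem exists_y : ∃ y ∈ Cd P d, y ∈ Cs P ∧ d * (s * y * (s * y)) = s * y * (s * y) * d := by
  have c := h0.s2
  have z : ⁅d, s * s⁆ ∈ Cs P := by
    simpa [commutatorElement_def, mul_assoc] using
      mul_mem (cs_ns h0.inv h0.dN) (inv_mem (cs_ns h0.inv h0.sN))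
  obtain ⟨w, ⟨wR, wC⟩, e⟩ := cop_fix (W := Cd P d ⊓ Cs P) h0.pP h0.dN h0.d3
    (inf_le_left.trans h0.cd_le) (le_Ns_inf h0.cd_nP (le_Ns_Cs le_normalizer))
    (mem_Ns_inf h0.cd_nd (mem_Ns_Cs h0.dN)) c ⟨h0.cd_mem c, z⟩
  have wP := h0.cd_le wR
  have w1 := cs_ns wC h0.dN
  have w2 := cs_ns w1 h0.dN
  have p1 := h0.dP wP
  have p2 := h0.dP p1
  refine ⟨(d * w * d⁻¹)⁻¹, inv_mem (dR h0 wR), inv_mem w1, mem_C1.1 ?_ |>.symm⟩
  have k1 : s * s * w ∈ C1 d := mem_C1.2 e.symm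
  have k2 : s * (s * s * w) * s⁻¹ ∈ C1 d := mem_C1.2 (sF h0 (mul_mem c wP) e).symm
  have k3 : w * (d * w * d⁻¹) * (d * (d * w * d⁻¹) * d⁻¹) ∈ C1 d := by
    rw [mem_C1, eq_comm, ← mul_inv_eq_iff_eq_mul, cjm, cjm, h0.ddd wP,
      ← cs_comm wC (mul_mem p1 p2), mul_assoc w]
  have k4 : w⁻¹ * (s * w * s⁻¹) ∈ C1 d := by simpa [mul_assoc] using mul_mem (inv_mem k1) k2
  have k5 : s * (d * w * d⁻¹) * s⁻¹ = d * (d * w * d⁻¹) * d⁻¹ * (w⁻¹ * (s * w * s⁻¹)) := by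
    have := mem_C1.1 k4
    rw [h0.sd wP, ← h0.dd wP, mul_assoc _ d, ← this]
    group
  have k6 := mul_mem (mul_mem (inv_mem k4) (inv_mem k3)) k1
  rw [show s * (d * w * d⁻¹)⁻¹ * (s * (d * w * d⁻¹)⁻¹) =
    (s * (d * w * d⁻¹) * s⁻¹)⁻¹ * (s * s * (d * w * d⁻¹)⁻¹) by group, k5,
    ← cs_comm (inv_mem w1) c]
  rw [← cs_comm wC c] at k6
  simpa only [mul_inv_rev, mul_assoc, inv_mul_cancel_left, inv_inv] using k6

end

section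
variable (h0 : TA H P T d s x p)
include h0

theorem RT : Cd P d ≤ T := h0.toTri.cd_min h0.dT fun _ hp => h0.toT2.cmd hp h0.dT

theorem XT : H ⊓ Ns P ≤ Ns T := le_sup_left.trans h0.toT2.nT

theorem PT : P ≤ Ns T := (le_inf h0.le le_normalizer).trans (XT h0)

theorem RR : ⁅Cd P d, Cd P d⁆ ≤ Cd P d ⊓ Phi T :=
  le_inf (commutator_le_left_of_le le_normalizer)
    (commutator_le.2 fun _ h _ h' => ea.comm (RT h0 h) (RT h0 h'))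

theorem dR1 : d ∈ Ns (Cd P d ⊓ Phi T) := mem_Ns_inf h0.toTri.cd_nd (nPh h0.dT)

theorem fpf (hr : r ∈ Cd P d) (h : ⁅d, r⁆ ∈ Phi T) : r ∈ Phi T :=
  (h0.toTri.cd_fpf (RR h0) inf_le_left (dR1 h0) hr ⟨cm_mem h0.toTri.cd_nd hr, h⟩).2

theorem fixB (hr : r ∈ Cd P d) (h1 : r⁻¹ * y ∈ Phi T) (hy : y ∈ T) (h : ⁅d, y⁆ ∈ Phi T) :
    y ∈ Phi T := by
  have : r ∈ Fx (Phi T) d := by
    simpa using mul_mem (show y ∈ Fx (Phi T) d from ⟨nPh (le_normalizer hy), h⟩)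
      (inv_mem (le_Fx (nPh h0.dT) h1))
  simpa using mul_mem (fpf h0 hr this.2) h1

theorem exu : ∃ u ∈ Cd P d, u ∉ Phi T := by
  by_contra! h
  have h1 : T ≤ C1 d := PhiAux.le_of_Phi (h0.toTri.pP.to_le h0.toT2.TP) fun y hy => by
    obtain ⟨r, hr, e⟩ := h0.toTri.cd_dec (h0.toT2.TP hy)
    exact ⟨_, mem_C1.2 e.symm, by simpa using h r hr⟩
  have h2 := h0.toTri.cd_cd (K := ⊥) bot_le (fun _ _ => ns_of (by simp)) (ns_of (by simp))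
    fun r hr => by rw [mem_bot, commutatorElement_eq_one_iff_mul_comm, mem_C1.1 (h1 (RT h0 hr))]
  exact h0.dC (cs_of fun y hy =>
    commutatorElement_eq_one_iff_mul_comm.1 (mem_bot.1 (h2 (h0.toTri.cd_mem hy))))

theorem exists_s : ∃ s', TA H P T d s' x p ∧ d * (s' * s') = s' * s' * d := by
  obtain ⟨y, hy, hc, e⟩ := exists_y h0.toTri
  have yP := h0.toTri.cd_le hy
  have sN := mul_mem h0.sN (le_normalizer yP)
  refine ⟨s * y, ⟨⟨⟨h0.le, h0.dN, h0.d3, h0.dC, mul_mem h0.sS (h0.le yP), sN,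
    fun h => h0.sP ((mul_mem_cancel_right yP).1 h), ?_, h0.cent, fun g h1 h2 =>
    (h0.idx g h1 h2).imp id fun h => mul_assoc g s y ▸ mul_mem h yP, h0.syl⟩, h0.p2, h0.xS, h0.xN,
    h0.xP, h0.eqT, h0.x2⟩, h0.dT, mul_mem h0.sx (h0.eqT ▸ RT h0 hy : y ∈ P ⊓ cj x P).2, h0.pP, h0.pT,
    h0.pd, h0.card, h0.faith⟩, e⟩
  simpa [mul_assoc] using
    mul_mem (cs_ns (mul_mem hc (cs_ns (inv_mem hc) h0.dN)) h0.sN) h0.inv

/-- The preimage of `[W, d]`. -/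
abbrev B2 (K : Subgroup G) (d u : G) : Subgroup G := K ⊔ zpowers u ⊔ zpowers (d * u * d⁻¹)

omit h0 in
theorem mem2 (h : EA K B) (hu : u ∈ B) (hu' : d * u * d⁻¹ ∈ B) : y ∈ B2 K d u ↔
    (y ∈ K ∨ u⁻¹ * y ∈ K) ∨ (d * u * d⁻¹)⁻¹ * y ∈ K ∨ u⁻¹ * ((d * u * d⁻¹)⁻¹ * y) ∈ K := by
  rw [adj h le_sup_left (adj_le h.le hu) hu', adj h le_rfl h.le hu, adj h le_rfl h.le hu]

omit h0 in
theorem card2 (h : EA K B) (hu : u ∈ B) (hu' : d * u * d⁻¹ ∈ B) (hd : d ∈ Ns K) (n : ⁅d, u⁆ ∉ K) :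
    Nat.card (B2 K d u) = 4 * Nat.card K := by
  have n1 : u ∉ K := fun c => n (cm_mem hd c)
  refine (cadj h le_sup_left (adj_le h.le hu) hu' fun c => ?_).trans
    (by rw [cadj h le_rfl h.le hu n1]; ring)
  rcases (adj h le_rfl h.le hu).1 c with c | c
  · exact n1 (by simpa [mul_assoc] using mem_normalizer_conj' hd c)
  · exact n (cm_of (nsL h le_rfl h.le hu) c)

omit h0 in
theorem d2 (hd : d ∈ Ns K) (h : u * (d * u * d⁻¹) * (d * (d * u * d⁻¹) * d⁻¹) ∈ K) :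
    d ∈ Ns (B2 K d u) := by
  have l : K ≤ B2 K d u := le_sup_left.trans le_sup_left
  refine ns_of (C0.conj_adj (C0.conj_adj (fun _ h => l (mem_normalizer_conj hd h)) mem_r) ?_)
  exact (mul_mem_cancel_left (mul_mem (mem_sup_left mem_r) mem_r)).1 (l h)

variable (hu : u ∈ Cd P d)
include hu

theorem B2T : B2 (Phi T) d u ≤ T := adj_le (adj_le Phi_le (RT h0 hu)) (RT h0 (dR h0.toTri hu))

theorem fix2 (hy : y ∈ B2 (Phi T) d u) (h : ⁅d, y⁆ ∈ Phi T) : y ∈ Phi T := by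
  have u' := dR h0.toTri hu
  have yT := B2T h0 hu hy
  rcases (mem2 ea (RT h0 hu) (RT h0 u')).1 hy with (c | c) | c | c
  exacts [c, fixB h0 hu c yT h, fixB h0 u' c yT h,
    fixB h0 (mul_mem u' hu) (by rwa [mul_inv_rev (d * u * d⁻¹), mul_assoc]) yT h]

theorem dB2 : d ∈ Ns (B2 (Phi T) d u) :=
  d2 (nPh h0.dT) (tri3 h0.toTri (RR h0) inf_le_left (dR1 h0) hu).2

theorem idx3 (n : u ∉ Phi T) (hf : f ∈ T) (h1 : f ∉ Phi T) (h2 : ⁅d, f⁆ ∈ Phi T) :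
    Local.IdxLeTwo (B2 (Phi T) d u ⊔ zpowers f) T :=
  C0.idx_of_card (adj_le (B2T h0 hu) hf) (by
    rw [cadj ea (le_sup_left.trans le_sup_left) (B2T h0 hu) hf fun c => h1 (fix2 h0 hu c h2),
      card2 ea (RT h0 hu) (RT h0 (dR h0.toTri hu)) (nPh h0.dT) fun c => n (fpf h0 hu c), h0.card]
    ring)

theorem RB (n : u ∉ Phi T) (hf : f ∈ T) (h1 : f ∉ Phi T) (h2 : ⁅d, f⁆ ∈ Phi T) :
    Cd P d ≤ B2 (Phi T) d u := by
  have l : Phi T ≤ B2 (Phi T) d u := le_sup_left.trans le_sup_left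
  have k : ∀ L, Phi T ≤ L → L ≤ T → d ∈ Ns L → (∀ r ∈ Cd P d, ⁅d, r⁆ ∈ L) → Cd P d ≤ L :=
    fun L a b c e => (h0.toTri.cd_cd inf_le_left (le_Ns_inf le_normalizer ((RT h0).trans (nsL ea a b)))
      (mem_Ns_inf h0.toTri.cd_nd c) fun r hr => ⟨cm_mem h0.toTri.cd_nd hr, e r hr⟩).trans inf_le_right
  have d3 : d ∈ Ns (B2 (Phi T) d u ⊔ zpowers f) := ns_of (C0.conj_adj
    (fun _ h => mem_sup_left (mem_normalizer_conj (dB2 h0 hu) h)) (cj_of (mem_sup_left (l h2)) mem_r))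
  have := k _ (l.trans le_sup_left) (adj_le (B2T h0 hu) hf) d3 fun r hr =>
    C0.comm_of_idx (idx3 h0 hu n hf h1 h2) d3 h0.dT r (RT h0 hr)
  exact k _ l (B2T h0 hu) (dB2 h0 hu) fun r hr => (adj_le (le_Fx (dB2 h0 hu))
    (show f ∈ Fx _ d from ⟨nsL ea l (B2T h0 hu) hf, l h2⟩) (this hr)).2

end

section
variable (h0 : TA H P T d s x p) (ht : t ∈ T) (h1 : t ∉ Phi T) (h2 : ⁅d, t⁆ ∈ Phi T)
include h0 ht h1 h2

theorem cardR : Nat.card (Cd P d) = 4 * Nat.card ↥(Cd P d ⊓ Phi T) := by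
  obtain ⟨u, hu, n⟩ := exu h0
  have u' := dR h0.toTri hu
  have e : EA (Cd P d ⊓ Phi T) (Cd P d) := ⟨inf_le_left, fun y hy =>
    ⟨mul_mem hy hy, ea.sq y (RT h0 hy)⟩, fun y hy k hk =>
      ⟨mem_normalizer_conj (le_normalizer hy) hk.1, ea.nrm y (RT h0 hy) k hk.2⟩⟩
  rw [← card2 e hu u' (dR1 h0) fun c => n (fpf h0 hu c.2)]
  congr 2
  refine le_antisymm (fun r hr => (mem2 e hu u').2 ?_) (adj_le (adj_le inf_le_left hu) u')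
  have a := mul_mem (inv_mem u') hr
  have b := mul_mem (inv_mem hu) hr
  have c := mul_mem (inv_mem hu) a
  exact ((mem2 ea (RT h0 hu) (RT h0 u')).1 (RB h0 hu n ht h1 h2 hr)).imp
    (Or.imp (⟨hr, ·⟩) (⟨b, ·⟩)) (Or.imp (⟨a, ·⟩) (⟨c, ·⟩))

theorem pR (hu : u ∈ Cd P d) : ⁅p, u⁆ ∈ Phi T := by
  have pN := nPh (PT h0 h0.pP)
  have dN := nPh h0.dT
  by_cases n : u ∈ Phi T
  · exact cm_mem pN n
  have u' := dR h0.toTri hu
  have uN := nPh (le_normalizer (RT h0 hu))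
  have uP := h0.toTri.cd_le hu
  have pp := ea.comm (h0.toT2.sqN ⟨h0.le h0.pP, le_normalizer h0.pP⟩) (RT h0 hu)
  have n' : ⁅d * d, u⁆ ∉ Phi T := fun c => n (fpf h0 hu (sw (by
    have := mem_normalizer_conj dN c
    rwa [show d * ⁅d * d, u⁆ * d⁻¹ = d * (d * (d * u * d⁻¹) * d⁻¹) * d⁻¹ * (d * u⁻¹ * d⁻¹) by
      simp only [commutatorElement_def]; group, h0.toTri.ddd uP, ← mul_assoc, ← mul_assoc] at this)))
  rcases (mem2 ea (RT h0 hu) (RT h0 u')).1 (RB h0 hu n ht h1 h2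
    (mem_normalizer_conj (h0.toTri.cd_nP h0.pP) hu)) with (c | c) | c | c
  · exact (n (by simpa [mul_assoc] using mem_normalizer_conj' pN c)).elim
  · exact cm_of uN c
  · exact (n' (rot dN pN uN h0.pd pp c)).elim
  · refine (n (fpf h0 hu ?_)).elim
    have := rot (inv_mem dN) pN uN (Commute.inv_right h0.pd) pp (by
      rw [inv_inv, h0.toTri.dd uP]
      have k : _ ∈ Phi T := (tri3 h0.toTri (RR h0) inf_le_left (dR1 h0) hu).2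
      simpa only [mul_inv_rev, mul_assoc, inv_mul_cancel_left, mul_inv_cancel_left] using mul_mem
        (mul_mem (inv_mem k) (mul_mem (mem_normalizer_conj uN (ea.sq _ (RT h0 u')))
          (ea.sq _ (RT h0 hu)))) c)
    rwa [show ⁅d⁻¹ * d⁻¹, u⁆ = d⁻¹ * (d⁻¹ * u * d⁻¹⁻¹) * d⁻¹⁻¹ * u⁻¹ by
      simp [commutatorElement_def, mul_assoc], ← h0.toTri.symm.dd uP, inv_inv] at this

theorem exf : ∃ f ∈ T, d * f = f * d ∧ ⁅p, f⁆ ∉ Phi T := by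
  by_contra! h
  refine h0.pT (h0.faith p (mem_sup_left ⟨h0.le h0.pP, le_normalizer h0.pP⟩) fun y hy => ?_)
  obtain ⟨r, hr, e⟩ := h0.toTri.cd_dec (h0.toT2.TP hy)
  have a := mul_mem hy (RT h0 hr)
  simpa using (mul_mem (show y * r ∈ Fx (Phi T) p from ⟨nPh (le_normalizer a), h _ a e⟩) (inv_mem
    (show r ∈ Fx (Phi T) p from ⟨nPh (le_normalizer (RT h0 hr)), pR h0 ht h1 h2 hr⟩))).2

end

/-- The data for the final argument. -/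
structure Fr (H P T : Subgroup G) (d s x p u f₀ f₁ : G) : Prop extends TA H P T d s x p where
  ds : d * (s * s) = s * s * d
  s2 : s * s ∈ Phi T
  uR : u ∈ Cd P d
  uP : u ∉ Phi T
  su : ⁅s, u⁆ ∈ Phi T
  sf : ∀ f ∈ T, d * f = f * d → ⁅s, f⁆ ∈ Phi T
  f0T : f₀ ∈ T
  f0d : d * f₀ = f₀ * d
  f1T : f₁ ∈ T
  f1d : d * f₁ = f₁ * d
  f1P : f₁ ∉ Phi T
  pf1 : ⁅p, f₁⁆ ∈ Phi T
  pf0 : ⁅p, f₀⁆ ∉ Phi T

theorem exists_fr (h0 : TA H P T d s x p) (ht : t ∈ T) (h1 : t ∉ Phi T) (h2 : ⁅d, t⁆ ∈ Phi T)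
    (ds : d * (s * s) = s * s * d) : ∃ u f₀ f₁, Fr H P T d s x p u f₀ f₁ := by
  obtain ⟨f, fT, fd, pf⟩ := exf h0 ht h1 h2
  obtain ⟨u, hu, n⟩ := exu h0
  have pX : p ∈ H ⊓ Ns P := ⟨h0.le h0.pP, le_normalizer h0.pP⟩
  have sX : s ∈ H ⊓ Ns P := ⟨h0.sS, h0.sN⟩
  have pN := nPh (XT h0 pX)
  have sN := nPh (XT h0 sX)
  have xN : x ∈ Ns T := h0.toT2.nT mem_r
  have tN : ∀ y ∈ T, y ∈ Ns (Phi T) := fun y hy => nPh (le_normalizer hy)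
  have gT := cm_mem (XT h0 pX) fT
  have gd : d * ⁅p, f⁆ = ⁅p, f⁆ * d := ((show Commute d p from h0.pd.symm).mul_right fd |>.mul_right
    (Commute.inv_right h0.pd.symm)).mul_right (Commute.inv_right fd)
  have pg := sq_cm pN (ea.comm (h0.toT2.sqN pX) fT) (ea.sq _ gT)
  have c1 : ∀ y, d * y = y * d → ⁅d, y⁆ ∈ Phi T := fun y e => by
    rw [commutatorElement_eq_one_iff_mul_comm.2 e]; exact one_mem _
  have i3 := idx3 h0 hu n gT pf (c1 _ gd)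
  have l : Phi T ≤ B2 (Phi T) d u := le_sup_left.trans le_sup_left
  have k3 : B2 (Phi T) d u ⊔ zpowers ⁅p, f⁆ ≤ Fx (Phi T) p := adj_le (adj_le (adj_le (le_Fx pN)
    ⟨tN _ (RT h0 hu), pR h0 ht h1 h2 hu⟩) ⟨tN _ (RT h0 (dR h0.toTri hu)),
      pR h0 ht h1 h2 (dR h0.toTri hu)⟩) ⟨tN _ gT, pg⟩
  obtain ⟨L, hL⟩ : ∃ L, L = Phi T ⊔ zpowers ⁅p, f⁆ := ⟨_, rfl⟩
  have l1 : Phi T ≤ L := hL ▸ le_sup_left
  have l2 : ⁅p, f⁆ ∈ L := hL ▸ mem_r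
  have l3 : T ≤ Ns L := hL ▸ nsL ea le_sup_left (adj_le Phi_le gT)
  have l4 : ∀ y, y ∈ L ↔ y ∈ Phi T ∨ ⁅p, f⁆⁻¹ * y ∈ Phi T := fun y => hL ▸ adj ea le_rfl Phi_le gT
  have a1 : ∀ y ∈ T, ⁅p, y⁆ ∈ L := fun y hy => by
    by_cases c : y ∈ B2 (Phi T) d u ⊔ zpowers ⁅p, f⁆
    · exact l1 (k3 c).2
    · simpa using (mul_mem (inv_mem (show f ∈ Fx L p from ⟨l3 fT, l2⟩)) (show f * y ∈ Fx L p from
        ⟨l3 (mul_mem fT hy), l1 (k3 (i3 f fT y hy (fun c => pf (k3 c).2) c)).2⟩)).2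
  have a2 : p * p ∈ L := by
    have pT := h0.toT2.sqN pX
    have pd : d * (p * p) = p * p * d := (show Commute d p from h0.pd.symm).mul_right h0.pd.symm
    have : p * p ∈ B2 (Phi T) d u ⊔ zpowers ⁅p, f⁆ := by_contra fun c => pf (by
      simpa [mul_assoc] using (mul_mem (k3 (i3 f fT _ pT (fun c => pf (k3 c).2) c)) (inv_mem
        (show p * p ∈ Fx (Phi T) p from ⟨tN _ pT, by simp [commutatorElement_def, mul_assoc]⟩))).2)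
    exact (l4 _).2 (((adj ea l (B2T h0 hu) gT).1 this).imp (fix2 h0 hu · (c1 _ pd))
      (fix2 h0 hu · (c1 _ ((Commute.inv_right gd).mul_right pd))))
  have qP : x⁻¹ * s * x ∈ P := mem_cj.1 h0.sx
  have qT : p⁻¹ * (x⁻¹ * s * x) ∈ T := h0.toT2.idxP _ (inv_mem h0.pP) _ qP (by simpa using h0.pT)
    fun c => h0.sP (h0.toT2.TP (by simpa [mul_assoc] using mem_normalizer_conj xN c))
  obtain ⟨q, hq⟩ : ∃ q, q = p⁻¹ * (x⁻¹ * s * x) := ⟨_, rfl⟩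
  have es : s = x * (p * q) * x⁻¹ := by rw [hq]; group
  rw [← hq] at qT
  have b1 : ∀ y ∈ T, x⁻¹ * ⁅s, y⁆ * x ∈ L := fun y hy => by
    have yT := mem_normalizer_conj' xN hy
    have := mul_mem (l1 (mem_normalizer_conj pN (ea.comm qT yT))) (a1 _ yT)
    rw [es]
    simpa [commutatorElement_def, mul_assoc] using this
  have b2 : x⁻¹ * (s * s) * x ∈ L := by
    have := mul_mem (mul_mem (a1 _ qT) (mem_normalizer_conj (l3 qT) a2)) (l1 (ea.sq _ qT))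
    rw [es]
    simpa [commutatorElement_def, mul_assoc] using this
  have b3 : ∀ a b, x⁻¹ * a * x ∈ L → x⁻¹ * b * x ∈ L → a ∉ Phi T → b ∉ Phi T → a⁻¹ * b ∈ Phi T :=
    fun a b ha hb na nb => by
      have k : ∀ a, x⁻¹ * a * x ∈ Phi T → a ∈ Phi T := fun a h => by
        simpa [mul_assoc] using mem_normalizer_conj (nPh xN) h
      refine k _ ?_
      simpa [mul_assoc, commutatorElement_def] using mul_mem (inv_mem (((l4 _).1 ha).resolve_left (na <| k _ ·)))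
        (((l4 _).1 hb).resolve_left (nb <| k _ ·))
  obtain ⟨r, hr, nr⟩ : ∃ r ∈ Cd P d, ⁅s, r⁆ ∉ Phi T := by
    by_contra! h
    exact n (fpf h0 hu (h0.toTri.stab inf_le_left h0.toTri.cd_le (le_inf (le_Ns_inf h0.toTri.cd_nP
      fun _ h => nPh (PT h0 h)) h0.toTri.cd_nP) ⟨dR1 h0, h0.toTri.cd_nd⟩ h0.sS h0.sN h0.sP
        (mem_Ns_inf h0.toTri.cd_ns sN) (fun r hr => ⟨cm_mem h0.toTri.cd_ns hr, h r hr⟩) u hu).2)
  have rR := cm_mem h0.toTri.cd_ns hr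
  have b4 : ∀ y ∈ T, x⁻¹ * y * x ∈ L → d * y = y * d → y ∈ Phi T := fun y hy a e =>
    by_contra fun c => c (fixB h0 rR (b3 _ _ (b1 r (RT h0 hr)) a nr c) hy (c1 y e))
  exact ⟨_, f, _, h0, ds, b4 _ (h0.toT2.sqN sX) b2 ds, rR, nr,
    sq_cm sN (ea.comm (h0.toT2.sqN sX) (RT h0 hr)) (ea.sq _ (RT h0 rR)), fun y hy e =>
      b4 _ (cm_mem (XT h0 sX) hy) (b1 y hy) ((show Commute d _ from sF h0.toTri (h0.toT2.TP hy) e)
        |>.mul_right (Commute.inv_right e)), fT, fd, gT, gd, pf, pg, pf⟩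

theorem exists_M (h0 : TA H P T d s x p) (hne : ¬ Cd P d ⊓ Phi T ≤ ⁅Cd P d, Cd P d⁆) :
    ∃ M m, ⁅Cd P d, Cd P d⁆ ≤ M ∧ M ≤ Cd P d ⊓ Phi T ∧ H ⊓ Ns P ≤ Ns M ∧ d ∈ Ns M ∧
      m ∈ Cd P d ⊓ Phi T ∧ m ∉ M ∧ m * m ∈ M ∧ (∀ g ∈ H ⊓ Ns P, ⁅g, m⁆ ∈ M) ∧
      Cd P d ⊓ Phi T ≤ B2 M d m := by
  have XR := nX h0.toTri h0.toTri.cd_nP h0.toTri.cd_ns
  obtain ⟨M, ⟨m1, m2, m3, m4, m5⟩, mx⟩ := (Set.toFinite {M : Subgroup G | ⁅Cd P d, Cd P d⁆ ≤ M ∧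
    M ≤ Cd P d ⊓ Phi T ∧ ¬ Cd P d ⊓ Phi T ≤ M ∧ H ⊓ Ns P ≤ Ns M ∧ d ∈ Ns M}).exists_maximal
    ⟨_, le_rfl, RR h0, hne, le_Ns_commutator XR XR,
      mem_Ns_commutator h0.toTri.cd_nd h0.toTri.cd_nd⟩
  have PX : P ≤ H ⊓ Ns P := le_inf h0.le le_normalizer
  obtain ⟨m, hm, n, m6, m7⟩ := exists_m (h0.p2.to_le inf_le_left)
    (inf_le_left.trans (h0.toTri.cd_le.trans PX)) (le_Ns_inf XR fun _ h => nPh (XT h0 h)) m4 m3
  refine ⟨M, m, m1, m2, m4, m5, hm, n, m6, m7, by_contra fun c => n ?_⟩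
  have l : M ≤ B2 M d m := le_sup_left.trans le_sup_left
  have mB : m ∈ B2 M d m := mem_sup_left mem_r
  have dB := d2 m5 (tri3 h0.toTri m1 (m2.trans inf_le_left) m5 hm.1)
  have k : ∀ g ∈ H ⊓ Ns P, g * (d * m * d⁻¹) * g⁻¹ ∈ B2 M d m → g ∈ Ns (B2 M d m) := fun g hg h =>
    ns_of (C0.conj_adj (C0.conj_adj (fun _ h => l (mem_normalizer_conj (m4 hg) h))
      (cj_of (l (m7 g hg)) mB)) h)
  refine mx ⟨m1.trans l, adj_le (adj_le m2 hm) (mem_normalizer_conj (dR1 h0) hm), c,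
    nX h0.toTri (fun g hg => k g (PX hg) ?_) (k s ⟨h0.sS, h0.sN⟩ ?_), dB⟩ l mB
  · simpa [mul_assoc] using mem_normalizer_conj dB
      (cj_of (l (m7 _ (PX (mem_normalizer_conj' h0.dN hg)))) mB)
  · rw [h0.toTri.sd (h0.toTri.cd_le hm.1)]
    exact mem_normalizer_conj' dB (cj_of (l (m7 s ⟨h0.sS, h0.sN⟩)) mB)

theorem Fr.main (h4 : SectionalPRankLE 2 4 G) (h0 : Fr H P T d s x p u f₀ f₁) :
    Cd P d ⊓ Phi T ≤ ⁅Cd P d, Cd P d⁆ := by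
  by_contra hne
  obtain ⟨M, m, m1, m2, m4, m5, hm, n, m6, m7, m8⟩ := exists_M h0.toTA hne
  have h3 := h0.toTri
  have RT' := RT h0.toTA
  have PX : P ≤ H ⊓ Ns P := le_inf h0.le le_normalizer
  have sX : s ∈ H ⊓ Ns P := ⟨h0.sS, h0.sN⟩
  have TP := h0.toT2.TP
  have cR : ∀ {a b}, a ∈ Cd P d → b ∈ Cd P d → ⁅a, b⁆ ∈ M := fun ha hb =>
    m1 (commutator_mem_commutator ha hb)
  have PM : ∀ {a}, a ∈ P → a ∈ Ns M := fun ha => m4 (PX ha)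
  have RM : ∀ {a}, a ∈ Cd P d → a ∈ Ns M := fun ha => PM (h3.cd_le ha)
  obtain ⟨m', e'⟩ : ∃ m', m' = d * m * d⁻¹ := ⟨_, rfl⟩
  have hm' : m' ∈ Cd P d ⊓ Phi T := e' ▸ mem_normalizer_conj (dR1 h0.toTA) hm
  have m6' : m' * m' ∈ M := by rw [e', ← cjm]; exact mem_normalizer_conj m5 m6
  rw [B2, ← e'] at m8
  obtain ⟨M₁, e₁⟩ : ∃ M₁, M₁ = M ⊔ zpowers m := ⟨_, rfl⟩
  have e1 : EA M M₁ := e₁ ▸ EA.adj ⟨le_rfl, fun _ h => mul_mem h h, fun _ h _ =>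
    mem_normalizer_conj (le_normalizer h)⟩ (fun _ h => cR hm.1 (m2 h).1) m6
  have mM : m ∈ M₁ := e₁ ▸ mem_r
  have l1 : M₁ ≤ Cd P d ⊓ Phi T := e₁ ▸ adj_le m2 hm
  rw [← e₁] at m8
  have e2 : EA M (M₁ ⊔ zpowers m') := e1.adj (fun _ h => cR hm'.1 (l1 h).1) m6'
  have c1 : ∀ g ∈ P, ∀ y ∈ Cd P d ⊓ Phi T, ⁅g, y⁆ ∈ M := fun g hg y hy =>
    (adj_le (e₁ ▸ adj_le (le_Fx (PM hg)) ⟨RM hm.1, m7 g (PX hg)⟩) (show m' ∈ Fx M g from ⟨RM hm'.1, by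
      simpa [e', commutatorElement_def, mul_assoc] using mem_normalizer_conj m5
        (m7 _ (PX (mem_normalizer_conj' h0.dN hg)))⟩) (m8 hy)).2
  have c2 : ∀ y ∈ Cd P d ⊓ Phi T, y * y ∈ M := fun y hy => e2.sq y (m8 hy)
  have s1 : M₁ ≤ Fx M s := e₁ ▸ adj_le (le_Fx (m4 sX)) ⟨RM hm.1, m7 s sX⟩
  have nm : m' ∉ Fx M s := fun c => n (h3.cd_fpf m1 (m2.trans inf_le_left) m5 hm.1 (by
    have a := c.2
    rw [commutatorElement_def, e', h3.sd (h3.cd_le hm.1), conj_eq_cm s m] at a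
    have b := mem_normalizer_conj' m5 (mul_mem (inv_mem (mem_normalizer_conj' m5 (m7 s sX))) a)
    have b' := h3.symm.dd (h3.cd_le hm.1)
    rw [inv_inv] at b'
    rw [commutatorElement_def, b']
    simpa [mul_assoc, commutatorElement_def] using b))
  have c3 : ∀ y ∈ Cd P d ⊓ Phi T, ⁅s, y⁆ ∈ M → y ∈ M₁ := fun y hy h =>
    ((adj e2 e1.le le_sup_left mem_r).1 (m8 hy)).resolve_right fun c => nm (by
      simpa using mul_mem (show y ∈ Fx M s from ⟨RM hy.1, h⟩) (inv_mem (s1 c)))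
  have tR : ∀ g ∈ T, ∀ r ∈ Cd P d, ⁅g, r⁆ ∈ Cd P d ⊓ Phi T := fun g hg r hr =>
    ⟨cm_mem (h3.cd_nP (TP hg)) hr, ea.comm hg (RT' hr)⟩
  have c4 : Phi T ≤ Tv M (Cd P d) := Phi_le_iff.2 fun g hg => mem_Tv.2
    ⟨PM (TP (mul_mem hg hg)), fun r hr => by
      rw [show ⁅g * g, r⁆ = ⁅g, ⁅g, r⁆⁆ * (⁅g, r⁆ * ⁅g, r⁆) by simp [commutatorElement_def, mul_assoc]]
      exact mul_mem (c1 g (TP hg) _ (tR g hg r hr)) (c2 _ (tR g hg r hr))⟩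
  have c5 : ∀ {g r}, g ∈ Phi T → r ∈ Cd P d → ⁅g, r⁆ ∈ M := fun hg hr => (mem_Tv.1 (c4 hg)).2 _ hr
  have PM1 : P ≤ Ns M₁ := fun g hg => ns_of fun y hy => cj_of (e1.le (c1 g hg y (l1 hy))) hy
  obtain ⟨K, eK⟩ : ∃ K, K = Phi T ⊓ C1 d ⊔ M₁ := ⟨_, rfl⟩
  have kF : ∀ {f}, f ∈ Phi T → d * f = f * d → f ∈ K := fun h h' =>
    eK ▸ mem_sup_left ⟨h, mem_C1.2 h'.symm⟩
  have k1 : M₁ ≤ K := eK ▸ le_sup_right
  have k0 : M ≤ K := e1.le.trans k1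
  have kP : K ≤ Phi T := eK ▸ sup_le inf_le_left (l1.trans inf_le_right)
  have nK : m' ∉ K := fun c => by
    have : m' ∈ ((Phi T ⊓ C1 d : Subgroup G) : Set G) * (M₁ : Set G) := by
      rwa [← coe_mul_of_left_le_normalizer_right _ _
        (inf_le_left.trans (Phi_le.trans (TP.trans PM1))), ← eK]
    obtain ⟨f, hf, a, ha, e⟩ := this
    have fR : f ∈ Cd P d := by
      simpa [← e] using (Cd P d).mul_mem hm'.1 (inv_mem (show a ∈ Cd P d from (l1 ha).1))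
    exact nm (e ▸ mul_mem (s1 (e1.le (h3.cd_fpf m1 (m2.trans inf_le_left) m5 fR (by
      rw [commutatorElement_eq_one_iff_mul_comm.2 (mem_C1.1 hf.2).symm]; exact one_mem _)))) (s1 ha))
  have nk : ∀ g, (∀ f ∈ Phi T, d * f = f * d → ⁅g, f⁆ ∈ K) → g ∈ Ns M₁ → g ∈ Ns K := fun g h h' =>
    mem_normalizer_of_cj_le (by
      conv_lhs => rw [eK, cj_sup]
      exact sup_le (cj_le_iff.2 fun y hy => cj_of (h y hy.1 (mem_C1.1 hy.2).symm)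
        (kF hy.1 (mem_C1.1 hy.2).symm)) (cj_le_iff.2 fun y hy => k1 (mem_normalizer_conj h' hy)))
  have cd : ∀ {a b}, d * a = a * d → d * b = b * d → d * ⁅a, b⁆ = ⁅a, b⁆ * d := fun ha hb =>
    (((show Commute d _ from ha).mul_right hb).mul_right (Commute.inv_right ha)).mul_right
      (Commute.inv_right hb)
  have nR : ∀ {r}, r ∈ Cd P d → r ∈ Ns K := fun hr =>
    nk _ (fun f hf _ => sw (k0 (c5 hf hr))) (PM1 (h3.cd_le hr))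
  have ff : ∀ {a b}, a ∈ T → b ∈ T → d * a = a * d → d * b = b * d → ⁅a, b⁆ ∈ K :=
    fun ha hb da db => kF (ea.comm ha hb) (cd da db)
  have nF : ∀ {f}, f ∈ T → d * f = f * d → f ∈ Ns K := fun hf e =>
    nk _ (fun _ h h' => ff hf (Phi_le h) e h') (PM1 (TP hf))
  have sf : ∀ {f}, f ∈ T → d * f = f * d → ⁅s, f⁆ ∈ K := fun hf e => kF (h0.sf _ hf e)
    ((show Commute d _ from sF h3 (TP hf) e).mul_right (Commute.inv_right e))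
  have nS : s ∈ Ns K := nk _ (fun _ h h' => sf (Phi_le h) h')
    (ns_of fun y hy => cj_of (e1.le (s1 hy).2) hy)
  have uR := h0.uR
  have a1 : ⁅s, u⁆ ∈ Cd P d ⊓ Phi T := ⟨cm_mem h3.cd_ns uR, h0.su⟩
  have su : ⁅s, u⁆ ∈ K := k1 (c3 _ a1 (sq_cm (m4 sX) (c5 h0.s2 uR) (c2 _ a1)))
  have sm : ⁅s, m'⁆ ∈ K := by
    have a : ⁅s, m'⁆ ∈ Cd P d ⊓ Phi T := cm_mem (mem_Ns_inf h3.cd_ns (nPh (XT h0.toTA sX))) hm'
    exact k1 (c3 _ a (sq_cm (m4 sX) (c5 h0.s2 hm'.1) (c2 _ a)))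
  have uu : u * u ∈ K := k1 (c3 _ ⟨mul_mem uR uR, ea.sq u (RT' uR)⟩ (by
    rw [show ⁅s, u * u⁆ = ⁅s, u⁆ * ⁅s, u⁆ * (⁅s, u⁆⁻¹ * ⁅u, ⁅s, u⁆⁆ * ⁅s, u⁆) by
      simp [commutatorElement_def, mul_assoc]]
    exact mul_mem (c2 _ a1) (mem_normalizer_conj' (RM a1.1) (cR uR a1.1))))
  have fu : ∀ {f}, f ∈ T → d * f = f * d → ⁅f, u⁆ ∈ K := fun {f} hf e => k1 (c3 _ (tR f hf u uR) (by
    have b1 := tR f hf u uR
    have g1 := h0.sf f hf e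
    have q1 : ⁅f, ⁅s, u⁆ * u⁆ * ⁅f, u⁆⁻¹ ∈ M := by
      rw [show ⁅f, ⁅s, u⁆ * u⁆ * ⁅f, u⁆⁻¹ = ⁅f, ⁅s, u⁆⁆ * ⁅⁅s, u⁆, ⁅f, u⁆⁆ by
        simp [commutatorElement_def, mul_assoc]]
      exact mul_mem (c1 f (TP hf) _ a1) (cR a1.1 b1.1)
    have q2 := mul_mem a1.1 uR
    have q3 := (tR f hf _ q2).1
    simpa [commutatorElement_def, mul_assoc] using
      mul_mem (mul_mem (c5 g1 q3) (mem_normalizer_conj (RM q3) (c5 g1 q2))) q1))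
  refine rank5 (K := K) h4 (x₁ := u) (x₂ := m') (x₃ := s) (x₄ := f₀) (x₅ := f₁) ?_ ?_ ?_ ?_
  · simp only [List.mem_cons, List.not_mem_nil, or_false, forall_eq_or_imp, forall_eq]
    exact ⟨nR uR, nR hm'.1, nS, nF h0.f0T h0.f0d, nF h0.f1T h0.f1d⟩
  · have q0 := k0 (c1 _ (TP h0.f0T) _ hm')
    have q1 := k0 (c1 _ (TP h0.f1T) _ hm')
    simp only [List.mem_cons, List.not_mem_nil, or_false, forall_eq_or_imp, forall_eq,
      commutatorElement_self, one_mem, true_and, and_true]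
    exact ⟨⟨k0 (cR uR hm'.1), sw su, sw (fu h0.f0T h0.f0d), sw (fu h0.f1T h0.f1d)⟩,
      ⟨k0 (cR hm'.1 uR), sw sm, sw q0, sw q1⟩, ⟨su, sm, sf h0.f0T h0.f0d, sf h0.f1T h0.f1d⟩,
      ⟨fu h0.f0T h0.f0d, q0, sw (sf h0.f0T h0.f0d), ff h0.f0T h0.f1T h0.f0d h0.f1d⟩,
      fu h0.f1T h0.f1d, q1, sw (sf h0.f1T h0.f1d), ff h0.f1T h0.f0T h0.f1d h0.f0d⟩
  · simp only [List.mem_cons, List.not_mem_nil, or_false, forall_eq_or_imp, forall_eq]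
    exact ⟨uu, k0 m6', kF h0.s2 h0.ds,
      kF (ea.sq _ h0.f0T) ((show Commute d _ from h0.f0d).mul_right h0.f0d),
      kF (ea.sq _ h0.f1T) ((show Commute d _ from h0.f1d).mul_right h0.f1d)⟩
  · intro e₁ e₂ e₃ e₄ e₅ h
    have o : ∀ (N : Subgroup G) (e : Bool) {a}, a ∈ N → cond e a 1 ∈ N := by
      rintro N (_ | _) a h
      exacts [one_mem _, h]
    have h5 := kP h
    have tN : ∀ y ∈ T, y ∈ Ns (Phi T) := fun y hy => nPh (le_normalizer hy)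
    obtain rfl : e₃ = false := Bool.eq_false_iff.2 fun c => h0.sP (by
      have := TP (Phi_le h5)
      rwa [mul_mem_cancel_right (o P _ (TP h0.f1T)), mul_mem_cancel_right (o P _ (TP h0.f0T)),
        mul_mem_cancel_left (mul_mem (o P _ (h3.cd_le uR)) (o P _ (h3.cd_le hm'.1))), c] at this)
    have dF : ∀ {f}, f ∈ T → d * f = f * d → f ∈ Fx (Phi T) d := fun hf e =>
      ⟨tN _ hf, by rw [commutatorElement_eq_one_iff_mul_comm.2 e]; exact one_mem _⟩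
    have dN := le_Fx (nPh h0.dT)
    obtain rfl : e₁ = false := Bool.eq_false_iff.2 fun c => h0.uP (fpf h0.toTA uR (by
      have := dN h5
      rw [mul_mem_cancel_right (o _ _ (dF h0.f1T h0.f1d)), mul_mem_cancel_right
        (o _ _ (dF h0.f0T h0.f0d)), cond_false, mul_one, mul_mem_cancel_right (o _ _ (dN hm'.2)),
        c] at this
      exact this.2))
    have pN := le_Fx (nPh (PT h0.toTA h0.pP))
    simp only [cond_false, one_mul, mul_one] at h h5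
    obtain rfl : e₄ = false := Bool.eq_false_iff.2 fun c => h0.pf0 (by
      have := pN h5
      rw [mul_mem_cancel_right (o _ _ (show f₁ ∈ Fx _ p from ⟨tN _ h0.f1T, h0.pf1⟩)),
        mul_mem_cancel_left (o _ _ (pN hm'.2)), c] at this
      exact this.2)
    simp only [cond_false, mul_one] at h h5
    obtain rfl : e₅ = false := Bool.eq_false_iff.2 fun c => h0.f1P (by
      rwa [mul_mem_cancel_left (o _ _ hm'.2), c] at h5)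
    exact ⟨rfl, Bool.eq_false_iff.2 fun c => nK (by simpa [c] using h), rfl, rfl, rfl⟩

end TA1

theorem TA.a1 (h4 : SectionalPRankLE 2 4 G) (h0 : TA H P T d s x p) (ht : t ∈ T) (h1 : t ∉ Phi T)
    (h2 : ⁅d, t⁆ ∈ Phi T) : GD P d := by
  obtain ⟨s', h, e⟩ := TA1.exists_s h0
  obtain ⟨u, f₀, f₁, k⟩ := TA1.exists_fr h ht h1 h2 e
  exact h0.toTri.good (by rw [TA1.cardR h0 ht h1 h2, le_antisymm (k.main h4) (TA1.RR h0)])

end Cfsg.Lib.GHN
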