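import Cfsg.Agent.GHN.Fr2
import Cfsg.Agent.S4385

/-!
# Simple groups of sectional 2-rank at most four: the core of the amalgam
-/

set_option autoImplicit false

namespace Cfsg.Lib.GHN

open Subgroup Cfsg.Lib.Trans Cfsg.Lib.Gold Cfsg.Lib.Local.Sims
open scoped commutatorElement

universe u

variable {G : Type u} [Group G] [Finite G] {H P N T K A B : Subgroup G} {d s x n : G}

namespace TB1

theorem ns_sup (h1 : ∀ a ∈ A, n * a * n⁻¹ ∈ A ⊔ B) (h2 : ∀ a ∈ B, n * a * n⁻¹ ∈ A ⊔ B) :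
    n ∈ Ns (A ⊔ B) :=
  ns_of fun _ hy => (sup_le h1 h2 : A ⊔ B ≤ (A ⊔ B).comap (MulAut.conj n).toMonoidHom) hy

theorem ns_sup' (h1 : n ∈ Ns A) (h2 : n ∈ Ns B) : n ∈ Ns (A ⊔ B) :=
  ns_sup (fun _ ha => mem_sup_left (mem_normalizer_conj h1 ha))
    fun _ ha => mem_sup_right (mem_normalizer_conj h2 ha)

omit [Finite G] in
theorem ns_iff (h : n ∈ Ns A) {a : G} : n * a * n⁻¹ ∈ A ↔ a ∈ A :=
  (mem_normalizer_iff.1 h a).symm

/-- Sims' method for a core-free amalgam -/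
theorem sims0 (hP : IsPGroup 2 P) (PN : P ≤ N) (NP : N ≤ Ns P) (sN : s ∈ N) (sP : s ∉ P)
    (idx : ∀ n ∈ N, n ∈ P ∨ n * s ∈ P) (dN : d ∈ Ns P) (d3 : d ^ 3 ∈ Cs P) (dC : d ∉ Cs P)
    (inv : s * d * s⁻¹ * d ∈ Cs P) (xN : x ∈ Ns N) (x2 : x * x ∈ N)
    (core : ∀ L : Subgroup G, L ≤ P → N ≤ Ns L → x ∈ Ns L → d ∈ Ns L → L = ⊥) :
    Nat.card P ≤ 8 ∧ ∀ p ∈ P, p * p = 1 := by
  obtain ⟨g, hg⟩ : ∃ g, g = x * d := ⟨_, rfl⟩
  have c1 : s⁻¹ * d⁻¹ * s * d⁻¹ ∈ Cs P := by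
    have := inv_mem (cs_ns inv (inv_mem (NP sN)))
    rwa [show (s⁻¹ * (s * d * s⁻¹ * d) * s⁻¹⁻¹)⁻¹ = s⁻¹ * d⁻¹ * s * d⁻¹ by group] at this
  have s1 : ∀ z, sh g (-1) z = g * z * g⁻¹ := fun z => by simp [sh]
  have m1 : ∀ z, z ∈ Pk N g 1 ↔ d * z * d⁻¹ ∈ N := fun z => by
    rw [mem_Pk, s1, ← ns_iff xN (a := d * z * d⁻¹), hg]
    simp only [mul_inv_rev, mul_assoc]
  have hI : I N g 0 1 = P := by
    refine le_antisymm (fun z hz => ?_) fun z hz => mem_I_right (b := 0)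
      ((Pk_zero.symm.trans (I_self 0).symm).le (PN hz))
      ((m1 z).2 (PN (mem_normalizer_conj dN hz)))
    have a0 : z ∈ N := Pk_zero.le (I_le_Pk le_rfl (by omega) hz)
    have a1 := (m1 z).1 (I_le_Pk (by omega) le_rfl hz)
    by_contra hn
    have b0 := (idx z a0).resolve_left hn
    have b1 := (idx _ a1).resolve_left fun e => hn ((ns_iff dN).1 e)
    have b2 := mul_mem (inv_mem (mem_normalizer_conj dN b0)) b1
    generalize hc : s⁻¹ * d⁻¹ * s * d⁻¹ = c at c1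
    rw [show (d * (z * s) * d⁻¹)⁻¹ * (d * z * d⁻¹ * s) = d * c * d by rw [← hc]; group] at b2
    have b3 : (d * c * d) ^ 3 ∈ Cs P := by
      have k : ∀ j : ℕ, (d ^ j)⁻¹ * c * (d ^ j)⁻¹⁻¹ ∈ Cs P := fun j =>
        cs_ns c1 (inv_mem (pow_mem dN j))
      have := mul_mem (mul_mem (mul_mem (mul_mem d3 d3) (k 5)) (k 3)) (k 1)
      convert this using 1
      simp only [pow_succ, pow_zero, one_mul, mul_assoc, mul_inv_rev, inv_inv,
        mul_inv_cancel_left]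
    have b5 := mul_mem (mul_mem d3 (inv_mem (mem_of_cube hP b2 b3))) (cs_ns c1 dN)
    apply dC
    convert b5 using 1
    simp only [pow_succ, pow_zero, one_mul, mul_assoc, mul_inv_rev,
      inv_mul_cancel_left, mul_inv_cancel_left, mul_inv_cancel, mul_one]
  have gen : ∀ L : Subgroup G, L ≤ P → N ≤ Ns L → Pk N g 1 ≤ Ns L → d ∈ Ns L := by
    intro L l0 l1 l2
    have a1 : d⁻¹ * s * d ∈ Ns L := l2 ((m1 _).2 (by
      rwa [show d * (d⁻¹ * s * d) * d⁻¹ = s by group]))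
    have a2 := mul_mem (cs_le_ns l0 d3) (inv_mem (mul_mem (inv_mem (cs_le_ns l0 c1))
      (mul_mem (inv_mem (l1 sN)) a1)))
    convert a2 using 1
    simp only [pow_succ, pow_zero]
    group
  have kill : ∀ M : Subgroup G, M ≤ I N g (-1) 1 → (∀ k : ℤ, -1 ≤ k → k ≤ 1 → Pk N g k ≤ Ns M) →
      M = ⊥ := by
    intro M l0 l1
    have a0 : M ≤ P := l0.trans ((I_anti (by omega) le_rfl).trans hI.le)
    have a1 : N ≤ Ns M := Pk_zero.ge.trans (l1 0 (by omega) (by omega))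
    have a2 := gen M a0 a1 (l1 1 (by omega) le_rfl)
    obtain ⟨M', hM⟩ : ∃ M' : Subgroup G, ∀ m, m ∈ M' ↔ g * m * g⁻¹ ∈ M :=
      ⟨M.comap (MulAut.conj g).toMonoidHom, fun _ => Iff.rfl⟩
    have b0 : M' ≤ P := fun m hm => by
      have e := l0 ((hM m).1 hm)
      rw [← s1, show I N g (-1) 1 = I N g (0 + -1) (2 + -1) by norm_num, sh_mem_I] at e
      exact hI.le (I_anti le_rfl (by omega) e)
    have b1 : ∀ k : ℤ, 0 ≤ k → k ≤ 1 → Pk N g k ≤ Ns M' := fun k k1 k2 w hw =>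
      ns_of fun m hm => (hM _).2 (by
        have := mem_normalizer_conj (l1 (k + -1) (by omega) (by omega)
          (sh_mem_Pk.2 hw)) ((hM m).1 hm)
        rw [s1] at this
        convert this using 1
        group)
    have b2 : N ≤ Ns M' := Pk_zero.ge.trans (b1 0 le_rfl (by omega))
    have b3 := gen M' b0 b2 (b1 1 (by omega) le_rfl)
    have b4 : ∀ m, m ∈ M' ↔ x * m * x⁻¹ ∈ M := fun m => by
      rw [← ns_iff (inv_mem b3), hM, hg,
        show x * d * (d⁻¹ * m * d⁻¹⁻¹) * (x * d)⁻¹ = x * m * x⁻¹ by group]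
    have := core (M ⊔ M') (sup_le a0 b0) (fun w hw => ns_sup' (a1 hw) (b2 hw))
      (ns_sup (fun m hm => mem_sup_right ((b4 _).2 (by
        have := mem_normalizer_conj (a1 x2) hm
        convert this using 1
        group))) fun m hm => mem_sup_left ((b4 m).1 hm)) (ns_sup' a2 b3)
    exact le_bot_iff.1 (le_sup_left.trans this.le)
  have HY : Hyp 2 N g := by
    refine ⟨Nat.prime_two, fun z hz => ?_, ?_, fun Q n1 n2 n3 => ?_⟩
    · rw [hI]
      have := mul_mem (mul_mem (inv_mem dN) (NP ((m1 z).1 hz))) dN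
      rwa [show d⁻¹ * (d * z * d⁻¹) * d = z by group] at this
    · rw [hI, relIndex, index_eq_two_iff]
      refine ⟨⟨d⁻¹ * s * d, (m1 _).2 (by
        rwa [show d * (d⁻¹ * s * d) * d⁻¹ = s by group])⟩, fun z => ?_⟩
      simp only [mem_subgroupOf, coe_mul]
      rw [← ns_iff dN, ← ns_iff dN (a := z),
        show d * (z * (d⁻¹ * s * d)) * d⁻¹ = d * z * d⁻¹ * s by group]
      rcases idx _ ((m1 _).1 z.2) with e | e
      · exact Or.inr ⟨e, fun e' => sP ((mul_mem_cancel_left e).1 e')⟩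
      · exact Or.inl ⟨e, fun e' => sP ((mul_mem_cancel_left e').1 e)⟩
    · have a0 : Q ≤ P := fun q hq => hI.le (mem_I_right (b := 0)
        ((Pk_zero.symm.trans (I_self 0).symm).le (n1 hq))
        (mem_Pk.2 (n1 (by rw [zero_add, s1]; exact mem_normalizer_conj n3 hq))))
      have a1 := gen Q a0 n2 fun w hw => by
        have := mul_mem (mul_mem (inv_mem n3) (n2 (mem_Pk.1 hw))) n3
        rwa [s1, show g⁻¹ * (g * w * g⁻¹) * g = w by group] at this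
      exact core Q a0 n2 ((mul_mem_cancel_right a1).1 (hg ▸ n3)) a1
  obtain ⟨t, y, F⟩ := HY.exists_frame
  obtain ⟨u, u1, u2, hu, u3⟩ := F.exists_near
  have h3 : 2 * u ≤ t + 2 := by
    by_contra hc
    refine F.ne (u - t - 1) (zpowers_eq_bot.1 (kill _
      (zpowers_le.2 (F.mem_I_of (by omega) (by omega))) fun k k1 k2 => ?_))
    exact ((I_self k).ge.trans (F.I_le_cent1 hu le_rfl (by omega) (by omega))).trans
      (FT.cent1_le_norm_zpowers _)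
  have hpos := F.pos
  have h4 : t ≤ 4 ∧ t ≤ 1 + u := by
    rcases u2.eq_or_lt with rfl | hlt
    · omega
    have hnc := u3.resolve_left hlt.ne
    have h4 := F.two_mul_le hu hnc hlt
    by_contra hc
    obtain ⟨rfl, rfl⟩ : t = 6 ∧ u = 4 := by omega
    have := kill _ le_rfl fun k k1 k2 => Agent.S4385.six F hu hnc k1 k2
    exact F.ne _ (mem_bot.1 (this.le (F.mem_I_of (k := -1) (by omega) (by omega))))
  refine ⟨?_, fun p hp => Agent.S4385.sq_eq F hu (by omega) (by omega) (hI.ge hp)⟩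
  rw [← hI, F.card_I (j := t - 1) (by omega) (by omega)]
  exact Nat.pow_le_pow_right (n := 2) (by omega) (show t - 1 ≤ 3 by omega)

/-- the same modulo the core -/
theorem sims1 (hP : IsPGroup 2 P) (PN : P ≤ N) (NP : N ≤ Ns P) (sN : s ∈ N) (sP : s ∉ P)
    (idx : ∀ n ∈ N, n ∈ P ∨ n * s ∈ P) (dN : d ∈ Ns P) (d3 : d ^ 3 ∈ Cs P)
    (dC : ¬ ∀ p ∈ P, ⁅d, p⁆ ∈ K) (inv : s * d * s⁻¹ * d ∈ Cs P) (xN : x ∈ Ns N) (x2 : x * x ∈ N)
    (KP : K ≤ P) (NK : N ≤ Ns K) (xK : x ∈ Ns K) (dK : d ∈ Ns K)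
    (core : ∀ L : Subgroup G, L ≤ P → N ≤ Ns L → x ∈ Ns L → d ∈ Ns L → L ≤ K) :
    Nat.card P ≤ 8 * Nat.card K ∧ ∀ p ∈ P, p * p ∈ K := by
  let φ := QuotientGroup.mk' (K.subgroupOf (Ns K))
  have hs : Function.Surjective φ := QuotientGroup.mk'_surjective _
  have hk : ∀ g, φ g = 1 ↔ (g : G) ∈ K := fun g => QuotientGroup.eq_one_iff g
  have hb : ∀ A : Subgroup G, K ≤ A → ∀ g, φ g ∈ (A.subgroupOf (Ns K)).map φ ↔ (g : G) ∈ A :=
    fun A hA g => ⟨fun ⟨a, ha, e⟩ => (mul_mem_cancel_left (inv_mem ha)).1 (hA ((hk (a⁻¹ * g)).1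
      (by rw [map_mul, map_inv, e, inv_mul_cancel]))), fun hg => ⟨g, hg, rfl⟩⟩
  have hn : ∀ A : Subgroup G, K ≤ A → ∀ g : Ns K, (g : G) ∈ Ns A →
      φ g ∈ Ns ((A.subgroupOf (Ns K)).map φ) := fun A hA g hg => ns_of fun y hy => by
    obtain ⟨a, rfl⟩ := hs y
    rw [← map_inv, ← map_mul, ← map_mul, hb A hA]
    exact mem_normalizer_conj hg ((hb A hA a).1 hy)
  have hc : ∀ g : Ns K, (g : G) ∈ Cs P → φ g ∈ Cs ((P.subgroupOf (Ns K)).map φ) :=
    fun g hg => cs_of fun y hy => by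
      obtain ⟨a, ha, rfl⟩ := hy
      rw [← map_mul, ← map_mul]
      exact congrArg φ (Subtype.ext (cs_comm hg ha))
  have hp : ∀ (L : Subgroup _) (g : Ns K), φ g ∈ Ns L →
      (g : G) ∈ Ns ((L.comap φ).map (Ns K).subtype) := fun L g hg => ns_of fun y hy => by
    obtain ⟨a, ha, rfl⟩ := hy
    refine ⟨g * a * g⁻¹, ?_, rfl⟩
    have := mem_normalizer_conj hg (mem_comap.1 ha)
    rwa [← map_inv, ← map_mul, ← map_mul] at this
  have KN := KP.trans PN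
  have PK := PN.trans NK
  obtain ⟨r1, r2⟩ := sims0 (P := (P.subgroupOf (Ns K)).map φ) (N := (N.subgroupOf (Ns K)).map φ)
    (d := φ ⟨d, dK⟩) (s := φ ⟨s, NK sN⟩) (x := φ ⟨x, xK⟩) ((hP.comap_subtype).map φ)
    (map_mono (comap_mono PN)) (by rintro _ ⟨a, ha, rfl⟩; exact hn P KP a (NP ha))
    ((hb N KN _).2 sN) (fun e => sP ((hb P KP _).1 e))
    (by
      rintro _ ⟨a, ha, rfl⟩
      rw [← map_mul, hb P KP, hb P KP]
      exact idx a ha)
    (hn P KP _ dN) (by rw [← map_pow]; exact hc _ d3)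
    (fun e => dC fun p hp => (hk ⁅(⟨d, dK⟩ : Ns K), (⟨p, PK hp⟩ : Ns K)⁆).1 (by
      rw [map_commutatorElement, commutatorElement_eq_one_iff_mul_comm]
      exact cs_comm e ((hb P KP _).2 hp)))
    (by rw [← map_inv, ← map_mul, ← map_mul, ← map_mul]; exact hc _ inv)
    (hn N KN _ xN) (by rw [← map_mul, hb N KN]; exact x2)
    (fun L l0 l1 l2 l3 => by
      have := core ((L.comap φ).map (Ns K).subtype)
        (by rintro _ ⟨a, ha, rfl⟩; exact (hb P KP a).1 (l0 ha))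
        (fun n hn => hp L ⟨n, NK hn⟩ (l1 ((hb N KN _).2 hn))) (hp L _ l2) (hp L _ l3)
      refine eq_bot_iff.2 fun y hy => ?_
      obtain ⟨a, rfl⟩ := hs y
      exact (hk a).2 (this ⟨a, hy, rfl⟩))
  refine ⟨?_, fun p hp => (hk (⟨p, PK hp⟩ * ⟨p, PK hp⟩)).1
    ((map_mul φ _ _).trans (r2 _ ((hb P KP _).2 hp)))⟩
  rw [← relIndex_ker, QuotientGroup.ker_mk', relIndex_subgroupOf PK] at r1
  rw [← Solv.card_mul_relIndex_of_le KP, mul_comm 8]
  exact Nat.mul_le_mul_left _ r1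

end TB1

theorem T2.tb (h0 : T2 H P T d s x) (h1 : d ∉ Ns T) : ∃ K, TB H P T K d s x := by
  obtain ⟨K, hK⟩ : ∃ K, K = sSup {L : Subgroup G | L ≤ P ∧ N1 H P x ≤ Ns L ∧ d ∈ Ns L} := ⟨_, rfl⟩
  have KP : K ≤ P := hK ▸ sSup_le fun L hL => hL.1
  have mx : ∀ L : Subgroup G, L ≤ P → N1 H P x ≤ Ns L → d ∈ Ns L → L ≤ K :=
    fun L l1 l2 l3 => hK ▸ le_sSup ⟨l1, l2, l3⟩
  have ns : ∀ n : G, (∀ L : Subgroup G, N1 H P x ≤ Ns L → d ∈ Ns L → n ∈ Ns L) → n ∈ Ns K :=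
    fun n hn => ns_of fun y hy =>
      (hK.le.trans (sSup_le fun L hL a ha => mx L hL.1 hL.2.1 hL.2.2
        (mem_normalizer_conj (hn L hL.2.1 hL.2.2) ha)) :
          K ≤ K.comap (MulAut.conj n).toMonoidHom) hy
  have nK : N1 H P x ≤ Ns K := fun n hn => ns n fun _ l _ => l hn
  have dK : d ∈ Ns K := ns d fun _ _ l => l
  have xK : x ∈ Ns K := nK (mem_sup_right (mem_zpowers x))
  have KT : K ≤ T := fun k hk => h0.eqT ▸ ⟨KP hk, mem_cj.2 (KP (mem_normalizer_conj' xK hk))⟩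
  have TP : T ≤ P := h0.eqT ▸ inf_le_left
  have PN : P ≤ H ⊓ Ns P := le_inf h0.le le_normalizer
  obtain ⟨r1, r2⟩ := TB1.sims1 h0.toTri.pP PN inf_le_right ⟨h0.sS, h0.sN⟩ h0.sP
    (fun n hn => h0.idx n hn.1 hn.2) h0.dN h0.d3
    (fun e => h1 (ns_of fun t ht => by
      rw [conj_eq_cm]; exact mul_mem (KT (e t (TP ht))) ht))
    h0.inv h0.xN (PN (TP h0.x2)) KP (le_sup_left.trans nK) xK dK
    fun L l0 l1 l2 l3 => mx L l0 (sup_le l1 (zpowers_le.2 l2)) l3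
  exact ⟨K, h0, h1, KT, nK, dK, r2, r1, mx⟩

end Cfsg.Lib.GHN
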