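import Cfsg.Agent.GHN.TA
import Cfsg.Agent.GHN.Good
import Cfsg.Agent.GHN.Tool
import Cfsg.Agent.Base.Three

/-!
# Simple groups of sectional 2-rank at most four: `d` centralises the core
-/

set_option autoImplicit false

namespace Cfsg.Lib.GHN

open Subgroup Cfsg.Lib.Trans Cfsg.Lib.Gold Cfsg.Lib.GHB
open scoped commutatorElement

universe u

theorem TB2.pow_four {Γ Ω : Type*} [Group Γ] [AddCommGroup Ω] [Finite Ω] [DistribMulAction Γ Ω]
    (h2 : ∀ ω : Ω, 2 • ω = 0) (hc : Nat.card Ω ≤ 16) {y : Γ} {n : ℕ} (hy : y ^ 2 ^ n = 1) (ω : Ω) :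
    y ^ 4 • ω = ω := by
  rcases subsingleton_or_nontrivial Ω with _ | _
  · exact Subsingleton.elim _ _
  let _ : Module (ZMod 2) Ω := AddCommGroup.zmodModule h2
  have : SMulCommClass Γ (ZMod 2) Ω :=
    ⟨fun g c v => ZMod.map_smul (DistribSMul.toAddMonoidHom Ω g) c v⟩
  have : CharP (Module.End (ZMod 2) Ω) 2 :=
    charP_of_injective_algebraMap (algebraMap (ZMod 2) _).injective 2
  let φ : Γ →* Module.End (ZMod 2) Ω := DistribMulAction.toModuleEnd (ZMod 2) Ω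
  have h1 : ∀ k, (φ y - 1) ^ 2 ^ k = φ (y ^ 2 ^ k) - 1 := fun k => by
    rw [sub_pow_char_pow_of_commute 2 k (Commute.one_right _), one_pow, map_pow]
  have h3 : Module.finrank (ZMod 2) Ω ≤ 4 := (Nat.pow_le_pow_iff_right one_lt_two).1 (by
    rwa [Module.natCard_eq_pow_finrank (K := ZMod 2), Nat.card_zmod] at hc)
  have h4 : ω ∈ LinearMap.ker ((φ y - 1) ^ Module.finrank (ZMod 2) Ω) :=
    Module.End.ker_pow_le_ker_pow_finrank _ (2 ^ n) (by rw [h1, hy, map_one, sub_self]; rfl)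
  obtain ⟨t, ht⟩ := Nat.exists_eq_add_of_le' h3
  have h5 : ((φ y - 1) ^ 2 ^ 2 : Module.End (ZMod 2) Ω) ω = 0 := by
    rw [show 2 ^ 2 = _ from ht, pow_add, Module.End.mul_apply, h4, map_zero]
  rw [h1] at h5
  exact sub_eq_zero.1 h5

variable {G : Type u} [Group G] [Finite G] {H P T K : Subgroup G} {d s x : G}

theorem TB.ncm (h0 : TB H P T K d s x) : ¬ ∀ p ∈ P, ⁅d, p⁆ ∈ K := fun h =>
  h0.dT (ns_of fun t ht => by
    rw [conj_eq_cm]
    exact mul_mem (h0.KT (h t (h0.toT2.TP ht))) ht)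

theorem TB.cs (h4 : SectionalPRankLE 2 4 G) (h0 : TB H P T K d s x) : d ∈ Cs K := by
  have h1 := h0.toT2
  have KP := h0.KT.trans h1.TP
  have pK : IsPGroup 2 K := h1.toTri.pP.to_le KP
  refine TAux.burnside pK h0.dK (cs_mono KP h0.d3) ?_
  by_contra hd
  have NK : H ⊓ Ns P ≤ Ns K := le_sup_left.trans h0.nK
  have a1 : ∀ g ∈ H ⊓ Ns P, g ∈ Tv (Phi K) K → g ∈ P := fun g hg h => by
    by_contra hP
    exact hd (h1.toTri.stab Phi_le KP
      (fun a ha => ⟨TAux.ns_phi (NK (h1.PN ha)), NK (h1.PN ha)⟩) ⟨TAux.ns_phi h0.dK, h0.dK⟩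
      hg.1 hg.2 hP h.1 h.2)
  have a2 : N1 H P x ≤ Ns (H ⊓ Ns P) := sup_le le_normalizer (zpowers_le.2 h0.xN)
  have a3 := h0.max (P ⊓ Tv (Phi K) K) inf_le_left (fun n hn => ns_of fun g hg => by
      have := Tv_conj hg.2 (TAux.ns_phi (h0.nK hn)) (h0.nK hn)
      exact ⟨a1 _ (mem_normalizer_conj (a2 hn) (h1.PN hg.1)) this, this⟩)
    (ns_of fun g hg => ⟨h1.toTri.dP hg.1, Tv_conj hg.2 (TAux.ns_phi h0.dK) h0.dK⟩)
  obtain ⟨p, hp, hp'⟩ := h1.exists_p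
  have xK : x ∈ Ns K := h0.nK (mem_sup_right (mem_zpowers x))
  have hq : x * p * x⁻¹ ∈ cj x P := conj_mem_cj.2 hp
  have hu : x * x * p ∈ P := mul_mem (h1.TP h0.x2) hp
  have y1 : x * p ∈ N1 H P x :=
    mul_mem (mem_sup_right (mem_zpowers x)) (mem_sup_left (h1.PN hp))
  have y2 : x * p * (x * p) ∈ H ⊓ Ns P := by
    rw [show x * p * (x * p) = x * p * x⁻¹ * (x * x * p) by group]
    exact mul_mem (h1.xPN hq) (h1.PN hu)
  have y4 : (x * p) ^ 4 ∈ K := by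
    have eK : EA (Phi K) K := ⟨Phi_le, fun _ => sq_mem_Phi,
      fun a ha _ hk => mem_normalizer_conj (TAux.ns_phi (le_normalizer ha)) hk⟩
    obtain ⟨Ω, _, _, _, pr, sc⟩ := Base.exists_sec (M := K) (C := Phi K) (H := N1 H P x)
      (fun a ha b hb => eK.comm ha hb) h0.nK fun g hg => TAux.ns_phi (h0.nK hg)
    have b2 := sc.card_mul Phi_le le_rfl ⊤ fun ω => ⟨fun _ => sc.surj ω, fun _ => trivial⟩
    have b3 := eK.card_le h4
    rw [← b2, AddSubgroup.card_top] at b3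
    obtain ⟨n, hn⟩ := two_elt h0.p2 (h1.N1_le y1)
    have b4 : (x * p) ^ 4 ∈ Tv (Phi K) K := ⟨TAux.ns_phi (h0.nK (pow_mem y1 4)), fun u hu => by
      have b5 := mem_normalizer_conj (h0.nK (pow_mem y1 4)) hu
      rw [commutatorElement_def, ← sc.eq_zero _ (mul_mem b5 (inv_mem hu)), sc.mul _ b5 _ (inv_mem hu), sc.inv hu,
        add_neg_eq_zero]
      exact (sc.conj (⟨_, y1⟩ ^ 4) u hu).trans (TB2.pow_four
        (sc.nsmul_eq_zero fun a ha => by rw [pow_two]; exact sq_mem_Phi ha)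
        (Nat.le_of_mul_le_mul_right b3 Nat.card_pos) (Subtype.ext hn) _)⟩
    refine a3 ⟨a1 _ ?_ b4, b4⟩
    rw [show (x * p) ^ 4 = x * p * (x * p) * (x * p * (x * p)) by
      rw [pow_succ, pow_three', mul_assoc (x * p * (x * p))]]
    exact mul_mem y2 y2
  have eq : EA K (cj x P) := ⟨h0.KT.trans h1.TxP, fun a ha => by
      have := mem_normalizer_conj xK (h0.sq _ (mem_cj.1 ha))
      rwa [show x * (x⁻¹ * a * x * (x⁻¹ * a * x)) * x⁻¹ = a * a by group] at this,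
    fun a ha _ hk => mem_normalizer_conj (NK (h1.xPN ha)) hk⟩
  have c1 : ⁅x * p * x⁻¹, x * x * p⁆ ∈ K := by
    have := mul_mem (mul_mem y4 (inv_mem (h0.sq _ hu)))
      (inv_mem (mem_normalizer_conj (NK (h1.PN hu)) (eq.sq _ hq)))
    rw [pow_succ, pow_three'] at this
    convert this using 1
    rw [commutatorElement_def]
    group
  refine h0.ncm (h1.toTri.stab KP le_rfl (fun a ha => ⟨NK (h1.PN ha), le_normalizer ha⟩)
    ⟨h0.dK, h0.dN⟩ (h1.xPN hq).1 (h1.xPN hq).2 (fun e => hp' (h1.memT.2 ⟨hp, h1.sw.1 e⟩))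
    (NK (h1.xPN hq)) fun g hg => ?_)
  by_cases hT : g ∈ T
  · exact eq.comm hq (h1.TxP hT)
  have c2 := h1.idxP g hg _ hu hT fun e => hp' ((mul_mem_cancel_left h0.x2).1 e)
  have := mul_mem (eq.comm hq (h1.TxP c2)) (mem_normalizer_conj (NK (h1.PN hg)) (inv_mem c1))
  convert this using 1
  simp only [commutatorElement_def]
  group

theorem TB.gd (h4 : SectionalPRankLE 2 4 G) (h0 : TB H P T K d s x) : GD P d := by
  have h1 := h0.toT2
  have KP := h0.KT.trans h1.TP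
  have PK : P ≤ Ns K := h1.PN.trans (le_sup_left.trans h0.nK)
  have eP : EA K P := ⟨KP, h0.sq, fun a ha _ hk => mem_normalizer_conj (PK ha) hk⟩
  obtain ⟨Ω, _, _, _, pr, sc⟩ := Base.exists_sec (M := P) (C := K) (H := zpowers d)
    (fun a ha b hb => eP.comm ha hb) (zpowers_le.2 h0.dN) (zpowers_le.2 h0.dK)
  let δ : zpowers d := ⟨d, mem_zpowers d⟩
  let f : Ω →+ Ω := DistribSMul.toAddMonoidHom Ω δ - AddMonoidHom.id Ω
  have hf : ∀ p ∈ P, pr ⁅d, p⁆ = f (pr p) := fun p hp => by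
    rw [commutatorElement_def, sc.mul _ (h1.toTri.dP hp) _ (inv_mem hp), sc.inv hp,
      ← sub_eq_add_neg]
    exact congrArg (· - pr p) (sc.conj δ p hp)
  have cP : ∀ p ∈ P, ⁅d, p⁆ ∈ P := fun p hp => mul_mem (h1.toTri.dP hp) (inv_mem hp)
  let R : Subgroup G :=
    { carrier := {g | g ∈ P ∧ pr g ∈ f.range}
      one_mem' := ⟨one_mem _, sc.one ▸ zero_mem _⟩
      mul_mem' := fun ha hb => ⟨mul_mem ha.1 hb.1, sc.mul _ ha.1 _ hb.1 ▸ add_mem ha.2 hb.2⟩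
      inv_mem' := fun ha => ⟨inv_mem ha.1, sc.inv ha.1 ▸ neg_mem ha.2⟩ }
  have KR : K ≤ R := fun a ha => ⟨KP ha, (sc.eq_zero a (KP ha)).2 ha ▸ zero_mem _⟩
  have dR : ∀ p ∈ P, ⁅d, p⁆ ∈ R := fun p hp => ⟨cP p hp, _, (hf p hp).symm⟩
  refine h1.toTri.good' KR (fun _ h => h.1) PK (h0.cs h4) (ns_of fun r hr => ?_) ?_ dR
  · rw [conj_eq_cm]
    exact mul_mem (dR r hr.1) hr
  have b0 : ∀ ω, ω ∈ f.range ↔ ∃ a ∈ R, pr a = ω := fun ω => ⟨fun e => by
    obtain ⟨a, ha, rfl⟩ := sc.surj ω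
    exact ⟨a, ⟨ha, e⟩, rfl⟩, by rintro ⟨a, ha, rfl⟩; exact ha.2⟩
  rw [← sc.card_mul KR (fun _ h => h.1) f.range b0]
  congr 1
  have b1 := sc.card_mul KP le_rfl ⊤ fun ω => ⟨fun _ => sc.surj ω, fun _ => trivial⟩
  have b2 := h0.card
  rw [← b1, AddSubgroup.card_top] at b2
  replace b2 := Nat.le_of_mul_le_mul_right b2 Nat.card_pos
  have := Fact.mk Nat.prime_three
  have b3 := card_fix (fun ω : Ω => δ • ω) 3 Set.univ (fun _ _ => trivial) fun ω _ => by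
    obtain ⟨p, hp, rfl⟩ := sc.surj ω
    rw [smul_iterate_apply, ← sc.conj _ p hp]
    exact congrArg pr (cs_conj h0.d3 hp)
  have b4 : Nat.card {ω : Ω | ω ∈ Set.univ ∧ δ • ω = ω} = Nat.card f.ker :=
    Nat.card_congr (Equiv.subtypeEquivRight fun ω => (and_iff_right trivial).trans sub_eq_zero.symm)
  have b5 := f.ker.card_mul_index
  rw [AddSubgroup.index_ker] at b5
  have b6 : Nat.card f.range ≠ 1 := fun e => h0.ncm fun p hp => (sc.eq_zero _ (cP p hp)).1 (by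
    rw [hf p hp]
    exact AddSubgroup.mem_bot.1 (AddSubgroup.card_eq_one.1 e ▸ ⟨_, rfl⟩))
  obtain ⟨n, hn⟩ := IsPGroup.iff_card.1 h1.toTri.pP
  obtain ⟨m, -, b7⟩ := (Nat.dvd_prime_pow Nat.prime_two).1
    (hn ▸ b1 ▸ (f.range.card_addSubgroup_dvd_card.trans (AddSubgroup.card_top (G := Ω)).symm.dvd).mul_right _)
  rw [Nat.card_univ, b4, ← b5, Nat.ModEq] at b3
  have b8 : 0 < Nat.card f.ker := Nat.card_pos
  rw [← b5, b7] at b2
  rw [b7] at b3 b6 ⊢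
  have b9 : m < 4 := (Nat.pow_lt_pow_iff_right one_lt_two).1 (by nlinarith)
  have b10 : ∃ j, Nat.card f.ker = 2 ^ j := ((Nat.dvd_prime_pow Nat.prime_two).1
    (hn ▸ b1 ▸ (f.ker.card_addSubgroup_dvd_card.trans
      (AddSubgroup.card_top (G := Ω)).symm.dvd).mul_right _)).imp fun _ h => h.2
  obtain ⟨j, hj⟩ := b10
  rw [hj] at b2 b3
  have b11 : j < 4 := (Nat.pow_lt_pow_iff_right one_lt_two).1 (by
    have : 0 < 2 ^ m := by positivity
    nlinarith)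
  interval_cases m <;> interval_cases j <;> simp_all

end Cfsg.Lib.GHN
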