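import Cfsg.Agent.GHN.TSy

/-!
# Simple groups of sectional 2-rank at most four: the fully normalised four-group
-/

set_option autoImplicit false

namespace Cfsg.Lib.GHN

open Subgroup Cfsg.Lib.Trans Cfsg.Lib.Gold Cfsg.Lib.Rank2 Cfsg.Lib.GHB TSy
open scoped commutatorElement

universe u

variable {G : Type u} [Group G] {S : Sylow 2 G} {H P T : Subgroup G}
  {d s x p δ σ τ z₁ b₁ z₂ b₂ : G} {co : G → V4}

theorem BV.cj (h : BV H δ σ τ z₁ b₁ z₂ b₂) (g : G) :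
    BV (Trans.cj g H) (g * δ * g⁻¹) (g * σ * g⁻¹) (g * τ * g⁻¹) (g * z₁ * g⁻¹) (g * b₁ * g⁻¹)
      (g * z₂ * g⁻¹) (g * b₂ * g⁻¹) := by
  have e : ∀ a b : G, F4 (g * a * g⁻¹) (g * b * g⁻¹) = Trans.cj g (F4 a b) := fun a b => by
    rw [cj_sup, cj_zpowers, cj_zpowers]
  have c1 : ∀ {a b : G}, a * b = b * a →
      g * a * g⁻¹ * (g * b * g⁻¹) = g * b * g⁻¹ * (g * a * g⁻¹) := fun k => by
    rw [conj_mul, conj_mul, k]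
  have c2 : ∀ {a b c : G}, a * b * a⁻¹ = c →
      g * a * g⁻¹ * (g * b * g⁻¹) * (g * a * g⁻¹)⁻¹ = g * c * g⁻¹ := fun k => by rw [← k]; group
  refine ⟨isPGroup_cj h.p2 g, by rw [e, e, ← cj_sup]; exact cj_mono g h.le, ?_,
    by rw [e, e, ← cj_sup, card_cj, h.card], ?_, c2 h.δz, (c2 h.δb).trans conj_mul.symm,
    conj_mem_cj.2 h.σS, c1 h.σz, (c2 h.σb).trans conj_mul.symm, c1 h.σz', c1 h.σb',
    conj_mem_cj.2 h.τS, c1 h.τz, c1 h.τb, c1 h.τz', (c2 h.τb').trans conj_mul.symm, ?_⟩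
  · rw [e, e, ← cj_sup]
    rintro _ ⟨t, ht, rfl⟩
    rw [← map_mul, h.sq t ht, map_one]
  · have := h.syl.cj g
    rwa [cj_inf, cj_normalizer, ← e] at this
  · rintro _ ⟨y, hy, rfl⟩
    have k : ∀ a, ⁅g * y * g⁻¹, g * a * g⁻¹⁆ = g * ⁅y, a⁆ * g⁻¹ := fun a => by
      simp only [commutatorElement_def]; group
    change g * y * g⁻¹ ∈ _ → ⁅g * y * g⁻¹, _⁆ ∈ _ → ⁅g * y * g⁻¹, _⁆ ∈ _ → g * y * g⁻¹ ∈ _
    rw [k, k, e, e, ← cj_sup, Cs, ← cj_centralizer, conj_mem_cj, conj_mem_cj, conj_mem_cj,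
      conj_mem_cj]
    exact h.cen y hy

namespace TBv

set_option synthInstance.maxSize 4000 in
theorem dec : ∀ (a₁ a₂ a₃ : Bool) (v u : V4), mm 0 a₁ a₂ a₃ v = u + v → u ≠ 0 →
    ∀ c₁ c₂ c₃ : Bool, mm 0 c₁ c₂ c₃ v = v → mm 0 c₁ c₂ c₃ u = u → ∀ v', mm 0 a₁ a₂ a₃ v' = v' →
    ∀ u', mm 0 c₁ c₂ c₃ v' = u' + v' → mm 0 a₁ a₂ a₃ u' = u' → u' ≠ 0 → u' ≠ u → u' ≠ v →
    u' ≠ u + v → ∀ e₁ e₂ e₃ : Bool, mm 0 e₁ e₂ e₃ u = u → mm 0 e₁ e₂ e₃ v = v →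
    (mm 0 e₁ e₂ e₃ v' = 0 + v' ∨ mm 0 e₁ e₂ e₃ v' = u + v' ∨ mm 0 e₁ e₂ e₃ v' = v + v' ∨
      mm 0 e₁ e₂ e₃ v' = u + v + v') → e₁ = false ∧ e₂ = false ∧ e₃ = false := by
  decide +kernel

theorem span : ∀ v : V4, ∃ i j k l : Bool, v = cond i (0, 1, 1, 0) 0 + cond j (1, 1, 0, 1) 0 +
    (cond k (0, 1, 1, 1) 0 + cond l (1, 0, 0, 0) 0) := by decide +kernel

end TBv

theorem TC.bv [Finite G] (h0 : TC (S : Subgroup G) P T d s x p co 0) (h1 : Phi T = ⊥) :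
    ∃ δ σ τ z₁ b₁ z₂ b₂, BV (S : Subgroup G) δ σ τ z₁ b₁ z₂ b₂ := by
  have sq : ∀ a ∈ T, a * a = 1 := fun a ha => mem_bot.1 (h1 ▸ sq_mem_Phi ha)
  have inj : ∀ a ∈ T, ∀ b ∈ T, co a = co b → a = b := fun a ha b hb e =>
    mul_inv_eq_one.1 (mem_bot.1 (h1 ▸ (h0.co_eq ha hb).1 e))
  obtain ⟨z₁, m1, e1⟩ := h0.surj (0, 1, 1, 0)
  obtain ⟨b₁, m2, e2⟩ := h0.surj (1, 1, 0, 1)
  obtain ⟨z₂, m3, e3⟩ := h0.surj (0, 1, 1, 1)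
  obtain ⟨b₂, m4, e4⟩ := h0.surj (1, 0, 0, 0)
  have cj1 : ∀ {g φ}, Ac T co g φ → ∀ a ∈ T, ∀ b ∈ T, φ (co a) = co b → g * a * g⁻¹ = b :=
    fun h a ha b hb e => inj _ (mem_normalizer_conj h.1 ha) _ hb ((h.2 a ha).trans e)
  have hδ := (((h0.ac_d.mul h0.ac_x).mul h0.ac_d).mul h0.ac_d).mul h0.ac_x
  have hσ := h0.ac_x
  have hτ := (h0.ac_p.mul h0.ac_s).mul h0.ac_x
  have σz := cj1 hσ _ m1 _ m1 (by rw [e1]; decide)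
  have σb := cj1 hσ _ m2 _ (mul_mem m1 m2) (by rw [h0.mul _ m1 _ m2, e1, e2]; decide)
  have σz' := cj1 hσ _ m3 _ m3 (by rw [e3]; decide)
  have σb' := cj1 hσ _ m4 _ m4 (by rw [e4]; decide)
  have τz := cj1 hτ _ m1 _ m1 (by rw [e1]; decide)
  have τb := cj1 hτ _ m2 _ m2 (by rw [e2]; decide)
  have τz' := cj1 hτ _ m3 _ m3 (by rw [e3]; decide)
  have τb' := cj1 hτ _ m4 _ (mul_mem m3 m4) (by rw [h0.mul _ m3 _ m4, e3, e4]; decide)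
  have l1 : ∀ a b : G, a ∈ F4 a b := fun a b => mem_sup_left (mem_zpowers a)
  have l2 : ∀ a b : G, b ∈ F4 a b := fun a b => mem_sup_right (mem_zpowers b)
  have VT : F4 z₁ b₁ ≤ T := sup_le (zpowers_le.2 m1) (zpowers_le.2 m2)
  have eT : F4 z₁ b₁ ⊔ F4 z₂ b₂ = T := le_antisymm
    (sup_le VT (sup_le (zpowers_le.2 m3) (zpowers_le.2 m4))) fun a ha => by
      obtain ⟨i, j, k, l, e⟩ := TBv.span (co a)
      have k1 : ∀ (K : Subgroup G) (i : Bool), ∀ u ∈ K, cond i u 1 ∈ K := fun K i u hu => by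
        cases i; exacts [one_mem _, hu]
      have k2 : ∀ (i : Bool) (u : G), co (cond i u 1) = cond i (co u) 0 := fun i u => by
        cases i; exacts [h0.co_one, rfl]
      rw [inj a ha _ (mul_mem (mul_mem (k1 T i _ m1) (k1 T j _ m2)) (mul_mem (k1 T k _ m3)
        (k1 T l _ m4))) (by
        rw [h0.mul _ (mul_mem (k1 T i _ m1) (k1 T j _ m2)) _ (mul_mem (k1 T k _ m3) (k1 T l _ m4)),
          h0.mul _ (k1 T i _ m1) _ (k1 T j _ m2), h0.mul _ (k1 T k _ m3) _ (k1 T l _ m4), k2, k2, k2,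
          k2, e1, e2, e3, e4, e])]
      exact mul_mem_sup (mul_mem (k1 _ i _ (l1 _ _)) (k1 _ j _ (l2 _ _)))
        (mul_mem (k1 _ k _ (l1 _ _)) (k1 _ l _ (l2 _ _)))
  have nV : ∀ g, g * z₁ * g⁻¹ ∈ F4 z₁ b₁ → g * b₁ * g⁻¹ ∈ F4 z₁ b₁ → g ∈ Ns (F4 z₁ b₁) :=
    fun g h1 h2 => mem_normalizer_of_cj_le (by
      rw [cj_sup, cj_zpowers, cj_zpowers]; exact sup_le (zpowers_le.2 h1) (zpowers_le.2 h2))
  obtain ⟨R, hR, UR⟩ := exists_isSylowIn_ge (Q := (S : Subgroup G) ⊓ Ns (F4 z₁ b₁))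
    (pS inf_le_left) inf_le_right
  obtain ⟨g, -, hg⟩ := (isSylowIn_top S).exists_cj_le hR.isPGroup le_top
  rw [cj_le_iff_le_cj_inv] at hg
  have p0 := isPGroup_cj S.isPGroup' g⁻¹
  have TS : T ≤ cj g⁻¹ S := fun a ha => hg (UR ⟨h0.le (h0.toT2.TP ha),
    cs_le_ns VT (cs_of fun b hb => comm_of_sq sq ha hb)⟩)
  have σS : x ∈ cj g⁻¹ S := hg (UR ⟨h0.xS, nV _ (σz.symm ▸ l1 _ _)
    (σb.symm ▸ mul_mem (l1 _ _) (l2 _ _))⟩)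
  have τS : p * s * x ∈ cj g⁻¹ S := hg (UR ⟨mul_mem (mul_mem (h0.le h0.pP) h0.sS) h0.xS,
    nV _ (τz.symm ▸ l1 _ _) (τb.symm ▸ l2 _ _)⟩)
  have w := @mul_inv_eq_iff_eq_mul G _
  have key : BV (cj g⁻¹ S) (d * x * d * d * x) x (p * s * x) z₁ b₁ z₂ b₂ := by
    refine ⟨p0, eT ▸ TS, eT ▸ sq, by rw [eT, h0.card, h1, card_bot],
      by rw [hR.eq_inf p0 hg]; exact hR, cj1 hδ _ m1 _ m2 (by rw [e1, e2]; decide),
      cj1 hδ _ m2 _ (mul_mem m1 m2) (by rw [h0.mul _ m1 _ m2, e1, e2]; decide), σS, w.1 σz, σb,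
      w.1 σz', w.1 σb', τS, w.1 τz, w.1 τb, w.1 τz', τb', fun y hy y1 y2 y3 => ?_⟩
    have yz := cs_conj y1 (l1 _ _)
    have yb := cs_conj y1 (l2 _ _)
    have yN : y ∈ Ns T := mem_normalizer_of_cj_le (by
      conv_lhs => rw [← eT]
      simp only [cj_sup, cj_zpowers, sup_le_iff, zpowers_le, yz, yb]
      exact ⟨⟨m1, m2⟩, conj_eq_cm y z₂ ▸ mul_mem (VT y2) m3, conj_eq_cm y b₂ ▸ mul_mem (VT y3) m4⟩)
    obtain ⟨n, hn, hX⟩ := h0.syl1.exists_cj_le (Q := cj g⁻¹ S ⊓ Ns T) p0.to_inf_left inf_le_right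
    have nT := fun a (ha : a ∈ T) => mem_normalizer_conj hn ha
    have cm : ∀ a ∈ T, ∀ b ∈ T, co (n * (a * b) * n⁻¹) = co (n * a * n⁻¹) + co (n * b * n⁻¹) :=
      fun a ha b hb => by rw [← conj_mul, h0.mul _ (nT a ha) _ (nT b hb)]
    have c1 : co (n * 1 * n⁻¹) = 0 := by simpa using h0.co_one
    have ne : ∀ a ∈ T, ∀ b ∈ T, co a ≠ co b → co (n * a * n⁻¹) ≠ co (n * b * n⁻¹) :=
      fun a ha b hb k e => k (congrArg co (by simpa using inj _ (nT a ha) _ (nT b hb) e))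
    have act : ∀ y ∈ cj g⁻¹ S, y ∈ Ns T → ∃ e₁ e₂ e₃ : Bool, (∀ a ∈ T, ∀ b, y * a * y⁻¹ = b →
        mm 0 e₁ e₂ e₃ (co (n * a * n⁻¹)) = co (n * b * n⁻¹)) ∧
        (e₁ = false ∧ e₂ = false ∧ e₃ = false → y ∈ T) := fun y k1 k2 => by
      obtain ⟨e₁, e₂, e₃, k3, t, ht, e⟩ := h0.ac_N (cj_le_iff.1 hX y ⟨k1, k2⟩)
      refine ⟨e₁, e₂, e₃, fun a ha b eb => ?_, ?_⟩
      · rw [← k3.2 _ (nT a ha), ← eb]; congr 1; group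
      · rintro ⟨rfl, rfl, rfl⟩
        exact (mem_normalizer_iff.1 hn y).2 (by simpa [e] using ht)
    obtain ⟨a₁, a₂, a₃, ha, -⟩ := act x σS hσ.1
    obtain ⟨c₁, c₂, c₃, hc, -⟩ := act _ τS hτ.1
    obtain ⟨f₁, f₂, f₃, hf, k⟩ := act y hy yN
    have o := one_mem T
    refine eT ▸ k (TBv.dec a₁ a₂ a₃ _ _ ((ha _ m2 _ σb).trans (cm _ m1 _ m2))
      (c1 ▸ ne _ m1 _ o (by rw [e1, h0.co_one]; decide)) c₁ c₂ c₃ (hc _ m2 _ τb) (hc _ m1 _ τz) _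
      (ha _ m4 _ σb') _ ((hc _ m4 _ τb').trans (cm _ m3 _ m4)) (ha _ m3 _ σz')
      (c1 ▸ ne _ m3 _ o (by rw [e3, h0.co_one]; decide)) (ne _ m3 _ m1 (by rw [e3, e1]; decide))
      (ne _ m3 _ m2 (by rw [e3, e2]; decide)) (cm _ m1 _ m2 ▸ ne _ m3 _ (mul_mem m1 m2) (by
        rw [h0.mul _ m1 _ m2, e1, e2, e3]; decide)) f₁ f₂ f₃ (hf _ m1 _ yz) (hf _ m2 _ yb) ?_)
    rw [hf _ m4 _ (conj_eq_cm y b₂), cm _ (VT y3) _ m4, ← cm _ m1 _ m2, ← c1]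
    rcases (mem_F4 (sq _ m1) (sq _ m2) (comm_of_sq sq m1 m2)).1 y3 with e | e | e | e <;> simp [e]
  have := key.cj g
  rw [cj_cj_inv] at this
  exact ⟨_, _, _, _, _, _, _, this⟩

end Cfsg.Lib.GHN
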