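import Cfsg.Agent.GHN.T2

/-!
# Simple groups of sectional 2-rank at most four: coordinates on `T / Φ(T)`
-/

set_option autoImplicit false

namespace Cfsg.Lib.GHN

open Subgroup Cfsg.Lib.Trans Cfsg.Lib.Gold Cfsg.Lib.Rank2 Cfsg.Lib.GHB
open scoped commutatorElement

universe u

namespace TCx

/-- The linear map with the given images of the basis. -/
def lin {W : Type*} [AddCommGroup W] [Module (ZMod 2) W] (a b c e : W) (v : V4) : W :=
  v.1 • a + v.2.1 • b + v.2.2.1 • c + v.2.2.2 • e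

/-- The change of basis `w ↦ w + ε w₀`. -/
def ph (ε : ZMod 2) (v : V4) : V4 := (v.1, v.2.1, v.2.2.1, v.2.2.2 + ε * v.1)

/-- The first basis vector. -/
abbrev e1 : V4 := (1, 0, 0, 0)

/-- The shape of `d`. -/
def Dm (a : V4) : V4 → V4 :=
  lin a (mp a + a) (ms (e1 + a) + a) (mp (ms (e1 + a) + a) + (ms (e1 + a) + a))

/-- The shape of `x`. -/
def Xm (b : V4) : V4 → V4 := lin b (ms b + b) (mp b + b) (ms (mp b + b) + (mp b + b))

theorem finD : ∀ a : V4, (∀ v, Dm a (Dm a v) = v + Dm a v) →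
    ∃ ε, (∀ v, ph ε (Dm a v) = md (ph ε v)) ∨ ∀ v, ph ε (Dm a (Dm a v)) = md (ph ε v) := by
  decide +kernel

theorem finX : ∀ (b : V4) (ε : ZMod 2), (∀ v, Xm b (Xm b v) = v) →
    ∃ γ, (∀ v, ph ε (Xm b v) = mx γ (ph ε v)) ∨ ∀ v, ph ε (Xm b (mp (ms v))) = mx γ (ph ε v) := by
  decide +kernel

theorem ph_mp : ∀ ε v, ph ε (mp v) = mp (ph ε v) := by decide +kernel

theorem ph_ms : ∀ ε v, ph ε (ms v) = ms (ph ε v) := by decide +kernel

theorem ph_ph : ∀ ε v, ph ε (ph ε v) = v := by decide +kernel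

theorem ph_add : ∀ ε v w, ph ε (v + w) = ph ε v + ph ε w := by decide +kernel

theorem ph_zero : ∀ ε v, ph ε v = 0 ↔ v = 0 := by decide +kernel

theorem lin_id : ∀ v : V4, lin e1 (mp e1 + e1) (ms e1 + e1) (mp (ms e1 + e1) + (ms e1 + e1)) v = v := by
  decide +kernel

theorem lin_id' : ∀ v : V4, lin e1 (mp e1 + e1) (ms e1 + e1) (ms (mp e1 + e1) + (mp e1 + e1)) v = v := by
  decide +kernel

theorem map_lin {W W' : Type*} [AddCommGroup W] [Module (ZMod 2) W] [AddCommGroup W']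
    [Module (ZMod 2) W'] (A : W →+ W') (a b c e : W) (v : V4) :
    A (lin a b c e v) = lin (A a) (A b) (A c) (A e) v := by
  simp only [lin, map_add, ZMod.map_smul]

theorem lin_add {W : Type*} [AddCommGroup W] [Module (ZMod 2) W] (a b c e : W) (v w : V4) :
    lin a b c e (v + w) = lin a b c e v + lin a b c e w := by
  simp only [lin, Prod.fst_add, Prod.snd_add, add_smul]; abel

/-- normal form of `d` and `x` in coordinates -/
theorem fin (D X : V4 →+ V4) (h1 : ∀ v, D (mp v) = mp (D v)) (h2 : ∀ v, D (ms v) = ms (D (D v)))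
    (h3 : ∀ v, D (D v) = v + D v) (h4 : ∀ v, X (mp v) = ms (X v)) (h5 : ∀ v, X (ms v) = mp (X v))
    (h6 : ∀ v, X (X v) = v) :
    ∃ ε γ, ((∀ v, ph ε (D v) = md (ph ε v)) ∨ ∀ v, ph ε (D (D v)) = md (ph ε v)) ∧
      ((∀ v, ph ε (X v) = mx γ (ph ε v)) ∨ ∀ v, ph ε (X (mp (ms v))) = mx γ (ph ε v)) := by
  have eD : ∀ v, D v = Dm (D e1) v := fun v => by
    conv_lhs => rw [← lin_id v, map_lin]
    simp only [Dm, map_add, h1, h2, h3]
  have eX : ∀ v, X v = Xm (X e1) v := fun v => by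
    conv_lhs => rw [← lin_id v, map_lin]
    simp only [Xm, map_add, h4, h5]
  obtain ⟨ε, hε⟩ := finD (D e1) fun v => by rw [← eD, ← eD, h3]
  obtain ⟨γ, hγ⟩ := finX (X e1) ε fun v => by rw [← eX, ← eX, h6]
  refine ⟨ε, γ, hε.imp (fun k v => by rw [eD, k]) fun k v => by rw [eD, eD v, k],
    hγ.imp (fun k v => by rw [eX, k]) fun k v => by rw [eX, k]⟩

variable {W : Type*} [AddCommGroup W] [Module (ZMod 2) W]

theorem two (w : W) : w + w = 0 := by
  rw [← two_smul (ZMod 2) w, show (2 : ZMod 2) = 0 from rfl, zero_smul]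

theorem smul_eq {a : ZMod 2} {w : W} (hw : w ≠ 0) (h : a • w = 0) : a = 0 := by
  rcases (by decide : ∀ a : ZMod 2, a = 0 ∨ a = 1) a with rfl | rfl
  · rfl
  · exact absurd (by simpa using h) hw

/-- the basis `w, (P + 1) w, (S + 1) w, (S + 1) (P + 1) w` -/
theorem basis [Finite W] (hW : Nat.card W = 16) (P S D : W →+ W) (pp : ∀ w, P (P w) = w)
    (ss : ∀ w, S (S w) = w) (ps : ∀ w, P (S w) = S (P w)) (pd : ∀ w, D (P w) = P (D w))
    (sd : ∀ w, S (D w) = D (D (S w))) (ddd : ∀ w, D (D (D w)) = w) (fp : ∀ w, D w = w → w = 0)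
    (p1 : ∃ w, P w ≠ w) :
    ∃ f : V4 ≃+ W, (∀ v, P (f v) = f (mp v)) ∧ ∀ v, S (f v) = f (ms v) := by
  obtain ⟨w, hw⟩ : ∃ w, S (P w + w) + (P w + w) ≠ 0 := by
    by_contra hn
    push Not at hn
    have k : ∀ w, S (P w + w) = P w + w := fun w => by
      rw [← add_zero (S _), ← two (P w + w), ← add_assoc, hn, zero_add]
    obtain ⟨w, hw⟩ := p1
    have k1 := k (D w)
    rw [← pd, ← map_add, sd, k] at k1
    have k3 : P w + w = 0 := by rw [← ddd (P w + w), fp _ k1, map_zero, map_zero]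
    exact hw (by rw [← add_zero (P w), ← two w, ← add_assoc, k3, zero_add])
  obtain ⟨w1, e1⟩ : ∃ w1, w1 = P w + w := ⟨_, rfl⟩
  obtain ⟨w2, e2⟩ : ∃ w2, w2 = S w + w := ⟨_, rfl⟩
  obtain ⟨w0, e0⟩ : ∃ w0, w0 = S w1 + w1 := ⟨_, rfl⟩
  rw [← e1, ← e0] at hw
  have a1 : P w = w + w1 := by rw [e1, add_comm (P w), ← add_assoc, two, zero_add]
  have a2 : P w1 = w1 := by rw [e1, map_add, pp, add_comm]
  have b1 : S w = w + w2 := by rw [e2, add_comm (S w), ← add_assoc, two, zero_add]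
  have b2 : S w1 = w1 + w0 := by rw [e0, add_comm (S w1), ← add_assoc, two, zero_add]
  have b3 : S w2 = w2 := by rw [e2, map_add, ss, add_comm]
  have a3 : P w2 = w2 + w0 := by
    rw [e2, map_add, ps, a1, map_add, b1, b2, ← add_zero (w + w2 + w + w0), ← two w1]; abel
  have a4 : P w0 = w0 := by rw [e0, map_add, ps, a2]
  have b4 : S w0 = w0 := by rw [e0, map_add, ss, add_comm]
  have hp : ∀ v, P (lin w w1 w2 w0 v) = lin w w1 w2 w0 (mp v) := fun v => by
    rw [map_lin, a1, a2, a3, a4]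
    simp only [lin, mp, smul_add, add_smul]; abel
  have hs : ∀ v, S (lin w w1 w2 w0 v) = lin w w1 w2 w0 (ms v) := fun v => by
    rw [map_lin, b1, b2, b3, b4]
    simp only [lin, ms, smul_add, add_smul]; abel
  let f : V4 →+ W := AddMonoidHom.mk' (lin w w1 w2 w0) (lin_add w w1 w2 w0)
  have k0 : ∀ a : ZMod 2, f (0, 0, 0, a) = 0 → a = 0 := fun a h =>
    smul_eq hw (by simpa [f, lin] using h)
  have kp : ∀ v, f v = 0 → f (mp v + v) = 0 := fun v h => by
    rw [map_add, h, add_zero]; exact (hp v).symm.trans ((congrArg P h).trans P.map_zero)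
  have ks : ∀ v, f v = 0 → f (ms v + v) = 0 := fun v h => by
    rw [map_add, h, add_zero]; exact (hs v).symm.trans ((congrArg S h).trans S.map_zero)
  have inj : Function.Injective f := (injective_iff_map_eq_zero f).2 fun ⟨a, b, c, e⟩ h => by
    obtain rfl := k0 a (by
      rw [← ks _ (kp _ h)]; congr 1; clear h; revert a b c e; decide +kernel)
    obtain rfl := k0 b (by
      rw [← ks _ h]; congr 1; clear h; revert b c e; decide +kernel)
    obtain rfl := k0 c (by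
      rw [← kp _ h]; congr 1; clear h; revert c e; decide +kernel)
    rw [k0 e h]; rfl
  exact ⟨AddEquiv.ofBijective f ((Nat.bijective_iff_injective_and_card f).2
    ⟨inj, by rw [hW]; simp⟩), hp, hs⟩

/-- the abstract normal form -/
theorem nf [Finite W] (hW : Nat.card W = 16) (P S D X : W →+ W) (pp : ∀ w, P (P w) = w)
    (ss : ∀ w, S (S w) = w) (ps : ∀ w, P (S w) = S (P w)) (pd : ∀ w, D (P w) = P (D w))
    (sd : ∀ w, S (D w) = D (D (S w))) (ddd : ∀ w, D (D (D w)) = w) (fp : ∀ w, D w = w → w = 0)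
    (p1 : ∃ w, P w ≠ w) (xp : ∀ w, X (P w) = S (X w)) (xs : ∀ w, X (S w) = P (X w))
    (xx : ∀ w, X (X w) = w) :
    ∃ (c : W → V4) (γ : ZMod 2), (∀ v w, c (v + w) = c v + c w) ∧ (∀ w, c w = 0 ↔ w = 0) ∧
      (∀ v, ∃ w, c w = v) ∧ (∀ w, c (P w) = mp (c w)) ∧ (∀ w, c (S w) = ms (c w)) ∧
      ((∀ w, c (D w) = md (c w)) ∨ ∀ w, c (D (D w)) = md (c w)) ∧
      ((∀ w, c (X w) = mx γ (c w)) ∨ ∀ w, c (X (P (S w))) = mx γ (c w)) := by
  obtain ⟨f, hp, hs⟩ := basis hW P S D pp ss ps pd sd ddd fp p1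
  have hp' : ∀ w, f.symm (P w) = mp (f.symm w) := fun w => by
    rw [f.symm_apply_eq, ← hp, f.apply_symm_apply]
  have hs' : ∀ w, f.symm (S w) = ms (f.symm w) := fun w => by
    rw [f.symm_apply_eq, ← hs, f.apply_symm_apply]
  have ds : ∀ w, D (S w) = S (D (D w)) := fun w => by rw [sd, sd, ddd]
  have dd : ∀ w, D (D w) = w + D w := fun w => by
    have := fp (D (D w) + (w + D w)) (by rw [map_add, map_add, ddd]; abel)
    rw [← add_zero (D (D w)), ← two (w + D w), ← add_assoc, this, zero_add]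
  obtain ⟨ε, γ, k1, k2⟩ := fin ((f.symm : W →+ V4).comp (D.comp (f : V4 →+ W)))
    ((f.symm : W →+ V4).comp (X.comp (f : V4 →+ W))) (fun v => by simp [← hp, pd, hp'])
    (fun v => by simp [← hs, ds, hs']) (fun v => by simp [dd]) (fun v => by simp [← hp, xp, hs'])
    (fun v => by simp [← hs, xs, hp']) (fun v => by simp [xx])
  refine ⟨fun w => ph ε (f.symm w), γ, fun v w => by simp only [map_add, ph_add], fun w => by
    simp [ph_zero], fun v => ⟨f (ph ε v), by simp [ph_ph]⟩, fun w => by simp only [hp', ph_mp],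
    fun w => by simp only [hs', ph_ms], k1.imp (fun k w => ?_) fun k w => ?_,
    k2.imp (fun k w => ?_) fun k w => ?_⟩
  · simpa using k (f.symm w)
  · simpa using k (f.symm w)
  · simpa using k (f.symm w)
  · simpa [← hp, ← hs] using k (f.symm w)

end TCx

variable {G : Type u} [Group G] {H P T : Subgroup G} {d s x p g h t : G}

namespace TCx

theorem ns_phi (hg : g ∈ Ns T) (hx : x ∈ Phi T) : g * x * g⁻¹ ∈ Phi T := by
  refine (Phi_le_iff (K := (Phi T).comap (MulAut.conj g).toMonoidHom)).2 (fun y hy => ?_) hx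
  change g * (y * y) * g⁻¹ ∈ Phi T
  rw [← conj_mul]
  exact sq_mem_Phi (mem_normalizer_conj hg hy)

/-- `c` induces an isomorphism from `T / Φ(T)` onto `W`. -/
structure Co {W : Type*} [AddCommGroup W] (T : Subgroup G) (c : G → W) : Prop where
  mul : ∀ a ∈ T, ∀ b ∈ T, c (a * b) = c a + c b
  ker : ∀ a ∈ T, c a = 0 ↔ a ∈ Phi T
  surj : ∀ v, ∃ a ∈ T, c a = v

theorem exists_co [Finite G] : ∃ (W : Type u) (_ : AddCommGroup W) (_ : Module (ZMod 2) W)
    (_ : Finite W) (c : G → W), Co T c ∧ Nat.card T = Nat.card W * Nat.card (Phi T) := by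
  classical
  have hN : ((Phi T).subgroupOf T).Normal := ⟨fun a ha g => ns_phi (le_normalizer g.2) ha⟩
  have sq : ∀ q : T ⧸ (Phi T).subgroupOf T, q * q = 1 := fun q => by
    obtain ⟨a, rfl⟩ := QuotientGroup.mk_surjective q
    rw [← QuotientGroup.mk_mul, QuotientGroup.eq_one_iff]
    exact sq_mem_Phi a.2
  letI : CommGroup (T ⧸ (Phi T).subgroupOf T) :=
    { (inferInstance : Group (T ⧸ (Phi T).subgroupOf T)) with
      mul_comm := fun a b => comm_of_sq (B := ⊤) (fun b _ => sq b) trivial trivial }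
  refine ⟨Additive (T ⧸ (Phi T).subgroupOf T), inferInstance, AddCommGroup.zmodModule fun q => ?_,
    inferInstance, fun a => if h : a ∈ T then Additive.ofMul (QuotientGroup.mk ⟨a, h⟩) else 0,
    ⟨fun a ha b hb => ?_, fun a ha => ?_, fun v => ?_⟩, ?_⟩
  · rw [two_nsmul]; exact sq q
  · simp only [ha, hb, mul_mem ha hb, dite_true]; rfl
  · simp only [ha, dite_true]
    exact QuotientGroup.eq_one_iff (N := (Phi T).subgroupOf T) ⟨a, ha⟩
  · obtain ⟨a, ha⟩ := QuotientGroup.mk_surjective (Additive.toMul v)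
    exact ⟨a, a.2, by simp [ha]⟩
  · rw [← Nat.card_congr (subgroupOfEquivOfLe (Phi_le (Q := T))).toEquiv]
    exact card_eq_card_quotient_mul_card_subgroup _

namespace Co

variable {W : Type*} [AddCommGroup W] {c : G → W} (h0 : Co T c)
include h0

theorem one : c 1 = 0 := (h0.ker 1 (one_mem _)).2 (one_mem _)

theorem inv (ht : t ∈ T) : c t⁻¹ = -c t := by
  rw [eq_neg_iff_add_eq_zero, ← h0.mul _ (inv_mem ht) _ ht, inv_mul_cancel, h0.one]

theorem inn (ht : t ∈ T) (hx : x ∈ T) : c (t * x * t⁻¹) = c x := by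
  rw [h0.mul _ (mul_mem ht hx) _ (inv_mem ht), h0.mul _ ht _ hx, h0.inv ht]; abel

theorem eq_iff (ht : t ∈ T) (hx : x ∈ T) : c t = c x ↔ t * x⁻¹ ∈ Phi T := by
  rw [← h0.ker _ (mul_mem ht (inv_mem hx)), h0.mul _ ht _ (inv_mem hx), h0.inv hx,
    add_neg_eq_zero]

/-- the action of the normaliser -/
theorem act (hg : g ∈ Ns T) : ∃ A : W →+ W, ∀ a ∈ T, c (g * a * g⁻¹) = A (c a) := by
  choose σ h1 h2 using h0.surj
  have k : ∀ a ∈ T, c (g * a * g⁻¹) = c (g * σ (c a) * g⁻¹) := fun a ha => by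
    rw [h0.eq_iff (mem_normalizer_conj hg ha) (mem_normalizer_conj hg (h1 _)), conj_inv, conj_mul]
    exact ns_phi hg ((h0.eq_iff ha (h1 _)).1 (h2 _).symm)
  refine ⟨AddMonoidHom.mk' (fun w => c (g * σ w * g⁻¹)) fun v w => ?_, k⟩
  have := k _ (mul_mem (h1 v) (h1 w))
  rw [h0.mul _ (h1 v) _ (h1 w), h2, h2] at this
  rw [← this, ← conj_mul, h0.mul _ (mem_normalizer_conj hg (h1 v)) _ (mem_normalizer_conj hg (h1 w))]

/-- elements that agree modulo `T` act alike -/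
theorem same (hh : h ∈ Ns T) (h1 : g * h⁻¹ ∈ T) (hx : x ∈ T) :
    c (g * x * g⁻¹) = c (h * x * h⁻¹) := by
  rw [← h0.inn h1 (mem_normalizer_conj hh hx)]; congr 1; group

end Co

end TCx

open TCx in
theorem TA.tc [Finite G] (h0 : TA H P T d s x p) (h1 : ∀ t ∈ T, ⁅d, t⁆ ∈ Phi T → t ∈ Phi T) :
    ∃ d' x' co γ, (d' = d ∨ d' = d⁻¹) ∧ TC H P T d' s x' p co γ := by
  obtain ⟨W, _, _, _, c, hc, e⟩ := exists_co (T := T)
  have hW : Nat.card W = 16 := Nat.eq_of_mul_eq_mul_right Nat.card_pos (e.symm.trans h0.card)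
  have pN : p ∈ H ⊓ Ns P := ⟨h0.le h0.pP, le_normalizer h0.pP⟩
  have sN : s ∈ H ⊓ Ns P := ⟨h0.sS, h0.sN⟩
  have pT : p ∈ Ns T := h0.nT (mem_sup_left pN)
  have sT : s ∈ Ns T := h0.nT (mem_sup_left sN)
  have xT : x ∈ Ns T := h0.nT (mem_sup_right (mem_zpowers x))
  have dT := h0.dT
  obtain ⟨x1, x2, -⟩ := h0.xp h0.pP h0.pT h0.sx fun k => h0.sP (h0.TP k)
  obtain ⟨A, hA⟩ := hc.act pT
  obtain ⟨B, hB⟩ := hc.act sT
  obtain ⟨D, hD⟩ := hc.act dT
  obtain ⟨X, hX⟩ := hc.act xT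
  have cmp : ∀ {g h : G} {A B : W →+ W}, h ∈ Ns T → (∀ a ∈ T, c (g * a * g⁻¹) = A (c a)) →
      (∀ a ∈ T, c (h * a * h⁻¹) = B (c a)) → ∀ a ∈ T, A (B (c a)) = c (g * h * a * (g * h)⁻¹) :=
    fun hh k1 k2 a ha => by
      rw [← k2 a ha, ← k1 _ (mem_normalizer_conj hh ha)]; congr 1; group
  have all : ∀ {q : W → Prop}, (∀ a ∈ T, q (c a)) → ∀ w, q w := fun k w => by
    obtain ⟨a, ha, rfl⟩ := hc.surj w
    exact k a ha
  have s2 := h0.sqN sN
  have p2 := h0.sqN pN
  have dd : ∀ a ∈ T, D (D (c a)) = c (d⁻¹ * a * d) := fun a ha => by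
    rw [← hD a ha, ← hD _ (mem_normalizer_conj dT ha), h0.dd (h0.TP ha)]
  obtain ⟨f, γ, f1, f2, f3, f4, f5, f6, f7⟩ := nf hW A B D X
    (all fun a ha => by rw [cmp pT hA hA a ha, hc.inn p2 ha])
    (all fun a ha => by rw [cmp sT hB hB a ha, hc.inn s2 ha])
    (all fun a ha => by
      rw [cmp sT hA hB a ha, cmp pT hB hA a ha]
      refine hc.same (mul_mem sT pT) ?_ ha
      have := h0.cmN pN sN
      rwa [commutatorElement_def, mul_assoc, ← mul_inv_rev] at this)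
    (all fun a ha => by rw [cmp pT hD hA a ha, cmp dT hA hD a ha, h0.pd])
    (all fun a ha => by
      rw [← hD a ha, ← hB _ (mem_normalizer_conj dT ha), ← hB a ha,
        dd _ (mem_normalizer_conj sT ha), h0.sd (h0.TP ha)])
    (all fun a ha => by
      rw [← hD a ha, dd _ (mem_normalizer_conj dT ha)]; congr 1; group)
    (all fun a ha k => by
      rw [← hD a ha, hc.eq_iff (mem_normalizer_conj dT ha) ha] at k
      exact (hc.ker a ha).2 (h1 a ha k))
    (by
      by_contra hn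
      push Not at hn
      exact h0.pT (h0.faith p (mem_sup_left pN) fun t ht =>
        (hc.eq_iff (mem_normalizer_conj pT ht) ht).1 (by rw [hA t ht, hn])))
    (all fun a ha => by
      rw [cmp pT hX hA a ha, cmp xT hB hX a ha]
      refine hc.same (mul_mem sT xT) ?_ ha
      have := mul_mem x1 (inv_mem s2)
      rwa [show x * p * x⁻¹ * s * (s * s)⁻¹ = x * p * (s * x)⁻¹ by group] at this)
    (all fun a ha => by
      rw [cmp sT hX hB a ha, cmp xT hA hX a ha]
      refine hc.same (mul_mem pT xT) ?_ ha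
      have := mul_mem x2 (inv_mem p2)
      rwa [show x * s * x⁻¹ * p * (p * p)⁻¹ = x * s * (p * x)⁻¹ by group] at this)
    (all fun a ha => by rw [cmp xT hX hX a ha, hc.inn h0.x2 ha])
  obtain ⟨d', e1, k1, k2⟩ : ∃ d', (d' = d ∨ d' = d⁻¹) ∧ TA H P T d' s x p ∧
      ∀ a ∈ T, f (c (d' * a * d'⁻¹)) = md (f (c a)) := by
    rcases f6 with k | k
    · exact ⟨d, Or.inl rfl, h0, fun a ha => by rw [hD a ha, k]⟩
    · refine ⟨d⁻¹, Or.inr rfl, { h0 with
        toTri := h0.toTri.symm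
        dT := inv_mem dT
        pd := (Commute.inv_right h0.pd :) }, fun a ha => by rw [inv_inv, ← dd a ha, k]⟩
  obtain ⟨x', k3, k4⟩ : ∃ x', TA H P T d' s x' p ∧
      ∀ a ∈ T, f (c (x' * a * x'⁻¹)) = mx γ (f (c a)) := by
    rcases f7 with k | k
    · exact ⟨x, k1, fun a ha => by rw [hX a ha, k]⟩
    · obtain ⟨r1, r2, r3⟩ := k1.re (mul_mem pN sN) (by
        have := mul_mem x1 (mem_normalizer_conj' sT (mul_mem x2 (mem_normalizer_conj' pT h0.x2)))
        rwa [show x * p * x⁻¹ * s * (s⁻¹ * (x * s * x⁻¹ * p * (p⁻¹ * (x * x) * p)) * s) =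
          x * (p * s) * (x * (p * s)) by group] at this)
      refine ⟨x * (p * s), { k1 with
        toT2 := r1
        sx := r2 ▸ k1.sx
        faith := r3 ▸ k1.faith }, fun a ha => ?_⟩
      rw [← k, cmp sT hA hB a ha, ← hX _ (mem_normalizer_conj (mul_mem pT sT) ha)]
      congr 2; group
  refine ⟨d', x', fun a => f (c a), γ, e1, k3, fun a ha b hb => by simp only [hc.mul a ha b hb, f1],
    fun a ha => (f2 _).trans (hc.ker a ha), fun v => ?_, fun a ha => by simp only [hA a ha, f4],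
    fun a ha => by simp only [hB a ha, f5], k2, k4⟩
  obtain ⟨w, rfl⟩ := f3 v
  obtain ⟨a, ha, rfl⟩ := hc.surj w
  exact ⟨a, ha, rfl⟩

end Cfsg.Lib.GHN
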