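import Cfsg.Agent.GHN.TPhiA
import Cfsg.Agent.GHN.T2

/-! # `d` centralises the Frattini subgroup of `T` -/

set_option autoImplicit false
set_option linter.unusedSectionVars false

namespace Cfsg.Lib.GHN

open Subgroup Cfsg.Lib.Trans Cfsg.Lib.Gold Cfsg.Lib.Rank2 Cfsg.Lib.GHB Cfsg.Lib.Solv.PG
open scoped commutatorElement

universe u

namespace TPhi

variable {G : Type u} [Group G]

/-- The part of `TC` that passes to quotients of `N(T)`. -/
structure Wk (T : Subgroup G) (d s p x : G) (co : G → V4) (γ : ZMod 2) : Prop where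
  nT : T.Normal
  p2 : IsPGroup 2 T
  d3 : d ^ 3 ∈ Cs T
  inv : s * d * s⁻¹ * d ∈ Cs T
  pd : p * d = d * p
  ss : s * s ∈ T
  pp : p * p ∈ T
  sp : ⁅s, p⁆ ∈ T
  xp : x * p * x⁻¹ * s ∈ T
  xs : x * s * x⁻¹ * p ∈ T
  mul : ∀ a ∈ T, ∀ b ∈ T, co (a * b) = co a + co b
  ker : ∀ a ∈ T, co a = 0 ↔ a ∈ Phi T
  surj : ∀ v, ∃ a ∈ T, co a = v
  cp : ∀ a ∈ T, co (p * a * p⁻¹) = mp (co a)
  cs : ∀ a ∈ T, co (s * a * s⁻¹) = ms (co a)
  cd : ∀ a ∈ T, co (d * a * d⁻¹) = md (co a)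
  cx : ∀ a ∈ T, co (x * a * x⁻¹) = mx γ (co a)

/-- The central involutions of `T` in `X`. -/
def Om (X T : Subgroup G) : Subgroup G where
  carrier := {u | u ∈ X ∧ u ∈ Cs T ⊓ T ∧ u * u = 1}
  one_mem' := ⟨one_mem _, one_mem _, one_mul _⟩
  mul_mem' := fun {a b} ha hb => ⟨mul_mem ha.1 hb.1, mul_mem ha.2.1 hb.2.1, by
    rw [mul_assoc, ← mul_assoc b, ← cs_comm ha.2.1.1 hb.2.1.2, mul_assoc, hb.2.2, mul_one, ha.2.2]⟩
  inv_mem' := fun {a} ha => ⟨inv_mem ha.1, inv_mem ha.2.1, by rw [← mul_inv_rev, ha.2.2, inv_one]⟩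

instance Om_normal {X T : Subgroup G} [hX : X.Normal] [hT : T.Normal] : (Om X T).Normal :=
  ⟨fun n hn g => ⟨hX.conj_mem _ hn.1 g, (inferInstance : (Cs T ⊓ T).Normal).conj_mem _ hn.2.1 g, by
    rw [conj_mul, hn.2.2]; simp⟩⟩

theorem cs_map {G' : Type*} [Group G'] (f : G →* G') {T : Subgroup G} {c : G} (h : c ∈ Cs T) :
    f c ∈ Cs (T.map f) := cs_of (by rintro _ ⟨t, ht, rfl⟩; rw [← map_mul, cs_comm h ht, map_mul])

theorem chain [Finite G] (h4 : SectionalPRankLE 2 4 G) {K A B C D E : Subgroup G} (h : EA K E)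
    (h1 : K < A) (h2 : A < B) (h3 : B < C) (h5 : C < D) (h6 : D < E) : False := by
  have := h.card_le h4
  have := two_le h1
  have := two_le h2
  have := two_le h3
  have := two_le h5
  have := two_le h6
  have : 0 < Nat.card K := Nat.card_pos
  omega

theorem lt_of {A B : Subgroup G} (h : A ≤ B) {u : G} (h1 : u ∈ B) (h2 : u ∉ A) : A < B :=
  SetLike.lt_iff_le_and_exists.2 ⟨h, u, h1, h2⟩

theorem cn_eq {L : Subgroup G} [L.Normal] {g : G} {u : L} :
    MulAut.conjNormal g u = u ↔ (u : G) ∈ C1 g := by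
  rw [Subtype.ext_iff, MulAut.conjNormal_apply, mul_inv_eq_iff_eq_mul, mem_C1, eq_comm]

namespace Wk

variable {T : Subgroup G} {d s p x a b g : G} {co : G → V4} {γ : ZMod 2} (h : Wk T d s p x co γ)
include h

theorem map {G' : Type u} [Group G'] (f : G →* G') (hf : Function.Surjective f)
    (hk : f.ker ≤ Phi T) :
    Wk (T.map f) (f d) (f s) (f p) (f x) (fun y => co (Function.surjInv hf y)) γ := by
  have e : ∀ a ∈ T, co (Function.surjInv hf (f a)) = co a := fun a ha => by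
    have k : a⁻¹ * Function.surjInv hf (f a) ∈ Phi T := hk (by
      rw [MonoidHom.mem_ker, map_mul, Function.surjInv_eq hf, map_inv, inv_mul_cancel])
    rw [← mul_inv_cancel_left a (Function.surjInv hf (f a)), h.mul _ ha _ (Phi_le k),
      (h.ker _ (Phi_le k)).2 k, add_zero]
  have c : ∀ g {m : V4 → V4}, (∀ a ∈ T, co (g * a * g⁻¹) = m (co a)) → ∀ a ∈ T.map f,
      co (Function.surjInv hf (f g * a * (f g)⁻¹)) = m (co (Function.surjInv hf a)) := by
    rintro g m k _ ⟨a, ha, rfl⟩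
    rw [← map_inv, ← map_mul, ← map_mul, e _ (h.nT.conj_mem _ ha g), e _ ha, k _ ha]
  refine ⟨h.nT.map f hf, h.p2.map f, by simpa using cs_map f h.d3, by simpa using cs_map f h.inv,
    by rw [← map_mul, h.pd, map_mul], by simpa using mem_map_of_mem f h.ss,
    by simpa using mem_map_of_mem f h.pp, by simpa using mem_map_of_mem f h.sp,
    by simpa using mem_map_of_mem f h.xp, by simpa using mem_map_of_mem f h.xs, ?_, ?_,
    fun v => ?_, c p h.cp, c s h.cs, c d h.cd, c x h.cx⟩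
  · rintro _ ⟨a, ha, rfl⟩ _ ⟨b, hb, rfl⟩
    rw [← map_mul, e _ (mul_mem ha hb), e _ ha, e _ hb, h.mul _ ha _ hb]
  · rintro _ ⟨a, ha, rfl⟩
    rw [e _ ha, h.ker _ ha, ← map_Phi, ← mem_comap, comap_map_eq_self hk]
  · obtain ⟨a, ha, rfl⟩ := h.surj v
    exact ⟨_, mem_map_of_mem f ha, e _ ha⟩

theorem ac (L : Subgroup G) [L.Normal] (h1 : T ≤ Cs L) (h2 : Cs T ≤ Cs L) (h3 : ∀ u ∈ L, u * u = 1) :
    Ac (MulAut.conjNormal (H := L) s) (MulAut.conjNormal p) (MulAut.conjNormal d)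
      (MulAut.conjNormal x) := by
  have k : ∀ g ∈ Cs L, MulAut.conjNormal (H := L) g = 1 := fun g hg =>
    MulEquiv.ext fun u => Subtype.ext (cs_conj hg u.2)
  have ss := k _ (h1 h.ss)
  have pp := k _ (h1 h.pp)
  have d3 := k _ (h2 h.d3)
  have inv := k _ (h2 h.inv)
  have sp := k _ (h1 h.sp)
  have xp := k _ (h1 h.xp)
  have xs := k _ (h1 h.xs)
  have pd := congrArg (MulAut.conjNormal (H := L)) h.pd
  simp only [map_mul, map_inv, map_commutatorElement, pow_three] at ss pp d3 inv sp xp xs pd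
  rw [inv_eq ss] at inv
  rw [mul_eq_one_iff_eq_inv, inv_eq ss, mul_inv_eq_iff_eq_mul] at xp
  rw [mul_eq_one_iff_eq_inv, inv_eq pp, mul_inv_eq_iff_eq_mul] at xs
  rw [commutatorElement_eq_one_iff_mul_comm] at sp
  exact ⟨fun u => Subtype.ext (h3 _ u.2), DFunLike.congr_fun ss, DFunLike.congr_fun pp,
    DFunLike.congr_fun d3, DFunLike.congr_fun inv, DFunLike.congr_fun pd, DFunLike.congr_fun xp,
    DFunLike.congr_fun xs, DFunLike.congr_fun sp⟩

theorem inv' (ha : a ∈ T) : co a⁻¹ = co a := by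
  have := h.mul _ ha _ (inv_mem ha)
  rw [mul_inv_cancel, (h.ker _ (one_mem T)).2 (one_mem _)] at this
  exact (by decide : ∀ v w : V4, 0 = v + w → w = v) _ _ this

theorem cm (ha : a ∈ T) (e : co (g * a * g⁻¹) = co a) : ⁅g, a⁆ ∈ Phi T := by
  have k := h.nT.conj_mem _ ha g
  rw [commutatorElement_def, ← h.ker _ (mul_mem k (inv_mem ha)), h.mul _ k _ (inv_mem ha), e,
    h.inv' ha]
  exact (by decide : ∀ v : V4, v + v = 0) _

/-- A preimage of a subspace. -/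
def cb (q : V4 → Prop) (q0 : q 0) (qa : ∀ v w, q v → q w → q (v + w)) : Subgroup G where
  carrier := {t | t ∈ T ∧ q (co t)}
  one_mem' := ⟨one_mem T, (h.ker _ (one_mem T)).2 (one_mem _) ▸ q0⟩
  mul_mem' := fun ha hb => ⟨mul_mem ha.1 hb.1, h.mul _ ha.1 _ hb.1 ▸ qa _ _ ha.2 hb.2⟩
  inv_mem' := fun ha => ⟨inv_mem ha.1, h.inv' ha.1 ▸ ha.2⟩

theorem phi_lt {q : V4 → Prop} (q0 : q 0) (qa : ∀ v w, q v → q w → q (v + w)) (v : V4) (h1 : q v)
    (h2 : v ≠ 0) : Phi T < h.cb q q0 qa :=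
  let ⟨a, ha, e⟩ := h.surj v
  lt_of (fun u hu => ⟨Phi_le hu, (h.ker _ (Phi_le hu)).2 hu ▸ q0⟩) (u := a) ⟨ha, e ▸ h1⟩
    fun k => h2 (e ▸ (h.ker _ ha).2 k)

theorem cb_lt {q q' : V4 → Prop} {q0 q0' qa qa'} (le : ∀ v, q v → q' v) (v : V4) (h1 : q' v)
    (h2 : ¬ q v) : h.cb q q0 qa < h.cb q' q0' qa' :=
  let ⟨a, ha, e⟩ := h.surj v
  lt_of (fun _ hu => ⟨hu.1, le _ hu.2⟩) (u := a) ⟨ha, e ▸ h1⟩ fun k => h2 (e ▸ k.2)

variable [Finite G] (h4 : SectionalPRankLE 2 4 G)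
include h4

/-- The case of a central elementary Frattini subgroup. -/
theorem fin (hΦ : Phi T ≤ Om (Phi T) T) : d ∈ Cs (Phi T) := by
  have := h.nT
  by_contra hd
  have c : ∀ u ∈ Phi T, ∀ t ∈ T, u * t = t * u := fun u hu t ht => cs_comm (hΦ hu).2.1.1 ht
  have A := h.ac (Phi T) (fun t ht => cs_of fun u hu => (c u hu t ht).symm) (cs_mono Phi_le)
    fun u hu => (hΦ hu).2.2
  have hδ : ∃ u : Phi T, MulAut.conjNormal d u ≠ u := by
    by_contra! k
    exact hd (cs_of fun u hu => (mem_C1.1 (cn_eq.1 (k ⟨u, hu⟩))).symm)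
  have sq : ∀ g, ∀ t ∈ T, co (g * t * g⁻¹) = co t → t * t ∈ C1 g := fun g t ht e => by
    have k := h.cm ht e
    rw [mem_C1, eq_comm, ← mul_inv_eq_iff_eq_mul, ← conj_mul, conj_eq_cm, mul_assoc, ← mul_assoc t,
      ← c _ k t ht, mul_assoc, ← mul_assoc, (hΦ k).2.2, one_mul]
  have ea : ∀ {K B : Subgroup G}, K ≤ Phi T → Phi T ≤ B → B ≤ T → (∀ t ∈ B, t * t ∈ K) → EA K B :=
    fun h1 h2 h3 h5 => ⟨h1.trans h2, h5, fun t ht k hk => by
      rwa [← c _ (h1 hk) _ (h3 ht), mul_inv_cancel_right]⟩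
  have l1 := h.phi_lt (q := fun v => v.1 = 0 ∧ v.2.1 = 0 ∧ v.2.2.1 = 0) (by decide) (by decide)
    (0, 0, 0, 1) (by decide) (by decide)
  by_cases hB : ∀ u v : Phi T, MulAut.conjNormal s u ≠ u → MulAut.conjNormal s v ≠ v →
      MulAut.conjNormal s (u * v) = u * v
  · obtain ⟨⟨u2, a2, b2⟩, ⟨u3, a3, b3, c3⟩, k⟩ := A.caseB hδ hB
    obtain ⟨u1, a1⟩ := A.exσ hδ
    have l2 := h.cb_lt (q0 := by decide) (qa := by decide)
      (q := fun v => v.1 = 0 ∧ v.2.1 = 0 ∧ v.2.2.1 = 0) (q' := fun v => v.1 = 0 ∧ v.2.1 = v.2.2.1)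
      (q0' := by decide) (qa' := by decide) (by decide) (0, 1, 1, 0) (by decide) (by decide)
    refine chain h4 (K := Phi T ⊓ C1 s ⊓ C1 p ⊓ C1 x) (ea (fun _ k => k.1.1.1) (l1.le.trans l2.le)
      (fun _ k => k.1) fun t ht => ?_)
      (lt_of inf_le_left ⟨⟨u3.2, cn_eq.1 a3⟩, cn_eq.1 b3⟩ fun k => c3 (cn_eq.2 k.2))
      (lt_of inf_le_left ⟨u2.2, cn_eq.1 a2⟩ fun k => b2 (cn_eq.2 k.2))
      (lt_of inf_le_left u1.2 fun k => a1 (cn_eq.2 k.2)) l1 l2
    have e1 := (cn_eq (u := ⟨_, sq_mem_Phi ht.1⟩)).2 (sq (p * s) t ht.1 (by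
      rw [show p * s * t * (p * s)⁻¹ = p * (s * t * s⁻¹) * p⁻¹ by group,
        h.cp _ (this.conj_mem _ ht.1 s), h.cs _ ht.1]
      exact (by decide : ∀ v : V4, v.1 = 0 ∧ v.2.1 = v.2.2.1 → mp (ms v) = v) _ ht.2))
    rw [map_mul, MulAut.mul_apply] at e1
    have e2 := k _ e1
    rw [e2] at e1
    exact ⟨⟨⟨sq_mem_Phi ht.1, cn_eq.1 e2⟩, cn_eq.1 e1⟩, sq x t ht.1 (by
      rw [h.cx _ ht.1]
      exact (by decide : ∀ γ, ∀ v : V4, v.1 = 0 ∧ v.2.1 = v.2.2.1 → mx γ v = v) _ _ ht.2)⟩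
  · push Not at hB
    obtain ⟨u1, u2, a1, a2, a3⟩ := hB
    obtain ⟨v, hv⟩ := (by decide : ∀ w : V4, ms w = w → ∃ v, ms v + w + v = 0) (co (s * s)) (by
      rw [← h.cs _ h.ss, mul_assoc, mul_inv_cancel_right])
    obtain ⟨t, ht, rfl⟩ := h.surj v
    have st := this.conj_mem _ ht s
    have s2 : s * t * (s * t) ∈ Phi T := by
      rw [show s * t * (s * t) = s * t * s⁻¹ * (s * s) * t by group,
        ← h.ker _ (mul_mem (mul_mem st h.ss) ht), h.mul _ (mul_mem st h.ss) _ ht, h.mul _ st _ h.ss,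
        h.cs _ ht, hv]
    have cs : ∀ a ∈ T, co (s * t * a * (s * t)⁻¹) = ms (co a) := fun a ha => by
      rw [show s * t * a * (s * t)⁻¹ = s * (t * a * t⁻¹) * s⁻¹ by group,
        h.cs _ (this.conj_mem _ ha t), h.mul _ (mul_mem ht ha) _ (inv_mem ht), h.mul _ ht _ ha,
        h.inv' ht, (by decide : ∀ v w : V4, v + w + v = w)]
    have cf : ∀ u : Phi T, (u : G) ∈ C1 (s * t) → MulAut.conjNormal s u = u := fun u e => by
      rw [mem_C1, mul_assoc, ← c _ u.2 _ ht, ← mul_assoc, ← mul_assoc, mul_left_inj] at e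
      exact cn_eq.2 (mem_C1.2 e)
    have l2 := h.cb_lt (q0 := by decide) (qa := by decide)
      (q := fun v => v.1 = 0 ∧ v.2.1 = 0 ∧ v.2.2.1 = 0) (q' := fun v => v.1 = 0 ∧ v.2.1 = 0)
      (q0' := by decide) (qa' := by decide) (by decide) (0, 0, 1, 0) (by decide) (by decide)
    have fx := fun a (ha : a ∈ h.cb (fun v => v.1 = 0 ∧ v.2.1 = 0) (by decide) (by decide)) =>
      (cs a ha.1).trans ((by decide : ∀ v : V4, v.1 = 0 ∧ v.2.1 = 0 → ms v = v) _ ha.2)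
    have E := (ea (K := Phi T ⊓ C1 (s * t)) inf_le_left (l1.le.trans l2.le) (fun _ k => k.1)
      fun a ha => ⟨sq_mem_Phi ha.1, sq _ a ha.1 (fx a ha)⟩).adj (g := s * t) (fun a ha => by
        have k := h.cm ha.1 (fx a ha)
        refine ⟨k, mem_C1.2 ?_⟩
        have e := c _ s2 a ha.1
        rw [← mul_inv_eq_iff_eq_mul, mul_inv_rev (s * t), mul_assoc (s * t), mul_assoc (s * t),
          ← mul_assoc _ (s * t)⁻¹, conj_eq_cm (s * t) a, ← mul_assoc, ← conj_mul, conj_eq_cm (s * t) a,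
          ← mul_assoc, mul_eq_right, mul_eq_one_iff_eq_inv, inv_eq (hΦ k).2.2,
          mul_inv_eq_iff_eq_mul] at e
        exact e.symm) ⟨s2, mem_C1.2 (by group)⟩
    have n1 : ∀ k ∈ Phi T ⊓ C1 (s * t), u1 * k * (u1 : G)⁻¹ ∈ Phi T ⊓ C1 (s * t) := fun k hk => by
      rwa [c _ u1.2 _ (Phi_le hk.1), mul_inv_cancel_right]
    refine chain h4 E (lt_of le_sup_left (mem_sup_right (mem_zpowers (u1 : G))) fun k => a1 (cf _ k.2))
      (lt_of (sup_le inf_le_left (zpowers_le.2 u1.2)) u2.2 fun k => ?_) l1 l2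
      (lt_of le_sup_left (mem_sup_right (mem_zpowers _)) fun k => ?_)
    · rcases (mem_adj n1 ((hΦ u1.2).2.2 ▸ one_mem _)).1 k with k | k
      · exact a2 (cf _ k.2)
      · rw [inv_eq (hΦ u1.2).2.2] at k
        exact a3 (cf (u1 * u2) k.2)
    · obtain ⟨a, ha, e⟩ := h.surj (1, 0, 0, 0)
      have := cs a ha
      rw [h.mul _ (mul_mem k.1 ha) _ (inv_mem k.1), h.mul _ k.1 _ ha, h.inv' k.1,
        (by decide : ∀ v w : V4, v + w + v = w), e] at this
      exact absurd this (by decide)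

/-- The minimal case. -/
theorem red (hm : ∀ L : Subgroup G, L.Normal → L ≤ Phi T → L ≠ ⊥ → ∀ u ∈ Phi T, ⁅d, u⁆ ∈ L) :
    d ∈ Cs (Phi T) := by
  have := h.nT
  by_contra hd
  refine hd (h.fin h4 (not_not.1 fun hΦ => ?_))
  have pΦ := h.p2.to_le (Phi_le (Q := T))
  have nd : ∀ L : Subgroup G, L.Normal → L ≤ Phi T → d ∈ Cs L → L = ⊥ := fun L n le e =>
    not_not.1 fun ne => hd (cs_of fun u hu => commutatorElement_eq_one_iff_mul_comm.1 (mem_bot.1
      (cop pΦ (le_normalizer_of_normal (mem_top d)) (cs_mono Phi_le h.d3) bot_le le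
        le_normalizer_of_normal (le_normalizer_of_normal (mem_top d)) (hm L n le ne) (fun u hu =>
          commutatorElement_eq_one_iff_mul_comm.2 (cs_comm e hu)) u hu)))
  have mt : ∀ {G : Type u} [Group G] [Finite G] {X T : Subgroup G} [X.Normal], IsPGroup 2 T → X ≤ T →
      X ≠ ⊥ → ∃ u ∈ Om X T, u ≠ 1 := fun h1 h2 h3 =>
    let ⟨u, a, b, c, e⟩ := meet h1 h2 le_normalizer_of_normal h3
    ⟨u, ⟨a, ⟨e, h2 a⟩, c⟩, b⟩
  have UΦ : Om (Phi T) T ≤ Phi T := fun _ k => k.1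
  have U1 : Om (Phi T) T ≠ ⊥ := fun e => by
    obtain ⟨u, a, b⟩ := mt h.p2 Phi_le fun k => hΦ (k.trans_le bot_le)
    exact b (mem_bot.1 (e ▸ a))
  have dU := hm _ inferInstance UΦ U1
  let f := QuotientGroup.mk' (Om (Phi T) T)
  have fs := QuotientGroup.mk'_surjective (Om (Phi T) T)
  have := this.map f fs
  have := (inferInstance : (Phi T).Normal).map f fs
  let W := (Om ((Phi T).map f) (T.map f)).comap f
  have WΦ : W ≤ Phi T := fun w hw => by
    have := hw.1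
    rwa [← mem_comap, comap_map_eq_self (by rwa [QuotientGroup.ker_mk'])] at this
  have Wc : ∀ t ∈ T, ∀ w ∈ W, ⁅t, w⁆ ∈ Om (Phi T) T := fun t ht w hw =>
    (QuotientGroup.eq_one_iff _).1 ((map_commutatorElement f t w).trans
      (commutatorElement_eq_one_iff_mul_comm.2 (cs_comm hw.2.1.1 (mem_map_of_mem f ht)).symm))
  obtain ⟨_, hw, w1⟩ := mt (X := (Phi T).map f) (h.p2.map f) (map_mono Phi_le) fun e => hΦ (by
    rwa [Subgroup.map_eq_bot_iff, QuotientGroup.ker_mk'] at e)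
  obtain ⟨w, -, rfl⟩ := hw.1
  have wU : w ∉ Om (Phi T) T := fun e => w1 ((QuotientGroup.eq_one_iff _).2 e)
  have dw : ∀ w ∈ W, ∃ u ∈ Om (Phi T) T, d * w * d⁻¹ = u * w := fun w hw =>
    ⟨_, dU w (WΦ hw), conj_eq_cm d w⟩
  have W2 : ∀ w ∈ W, w * w = 1 := fun w hw => mem_bot.1 (nd (Phi W) inferInstance (Phi_le.trans WΦ)
    (le_centralizer_iff.1 (Phi_le_iff.2 fun w hw => mem_centralizer_iff.2 (by
      obtain ⟨u, hu, e⟩ := dw w hw
      have k : d * (w * w) = w * w * d := by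
        rw [← mul_inv_eq_iff_eq_mul, ← conj_mul, e, mul_assoc, ← mul_assoc w,
          ← cs_comm hu.2.1.1 (Phi_le (WΦ hw)), mul_assoc, ← mul_assoc u, hu.2.2, one_mul]
      rintro _ ⟨n, rfl⟩
      exact (Commute.zpow_left k n).eq)) (mem_zpowers d)) ▸ sq_mem_Phi hw)
  have CU : ⁅T, W⁆ ≤ Om (Phi T) T := commutator_le.2 Wc
  have A := h.ac ⁅T, W⁆ (fun t ht => cs_of fun u hu => (cs_comm (CU hu).2.1.1 ht).symm)
    (cs_mono (CU.trans (UΦ.trans Phi_le))) fun u hu => (CU hu).2.2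
  have c16 := A.card16 (by
    by_contra! k
    have e := nd _ inferInstance (CU.trans UΦ)
      (cs_of fun u hu => (mem_C1.1 (cn_eq.1 (k ⟨u, hu⟩))).symm)
    exact wU ⟨WΦ hw, ⟨cs_of fun t ht => (commutatorElement_eq_one_iff_mul_comm.1
      (mem_bot.1 (e ▸ commutator_mem_commutator ht hw))).symm, Phi_le (WΦ hw)⟩, W2 w hw⟩) (by
    let N : Subgroup G :=
      { carrier := {c | c ∈ Om (Phi T) T ∧ c * (d * c * d⁻¹) * (d * (d * c * d⁻¹) * d⁻¹) = 1}
        one_mem' := ⟨one_mem _, by simp⟩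
        inv_mem' := fun {a} ha => by rwa [inv_eq ha.1.2.2]
        mul_mem' := fun {a b} ha hb => ⟨mul_mem ha.1 hb.1, by
          have n := (inferInstance : (Om (Phi T) T).Normal).conj_mem
          have b1 := n _ hb.1 d
          have a1 := (n _ ha.1 d).2.1.2
          have a2 := (n _ (n _ ha.1 d) d).2.1.2
          rw [← conj_mul, ← conj_mul,
            Commute.mul_mul_mul_comm (cs_comm hb.1.2.1.1 a1), Commute.mul_mul_mul_comm
            (cs_comm (mul_mem hb.1 b1).2.1.1 a2), ha.2, hb.2, one_mul]⟩ }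
    refine fun u => Subtype.ext ((commutator_le.2 fun t ht w hw => ⟨Wc t ht w hw, ?_⟩ :
      ⁅T, W⁆ ≤ N) u.2).2
    obtain ⟨u, hu, e⟩ := dw w hw
    have n := h.nT.conj_mem
    have k1 : ∀ t ∈ T, d * ⁅t, w⁆ * d⁻¹ = ⁅d * t * d⁻¹, w⁆ := fun t ht => by
      rw [conjugate_commutatorElement, e, commutatorElement_def, commutatorElement_def,
        ← mul_assoc, ← cs_comm hu.2.1.1 (n t ht d), mul_assoc u, mul_assoc u, mul_assoc u,
        mul_inv_rev u, ← mul_assoc _ w⁻¹, ← mul_assoc, cs_conj hu.2.1.1 (mul_mem (mul_mem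
          (mul_mem (n t ht d) (Phi_le (WΦ hw))) (inv_mem (n t ht d))) (inv_mem (Phi_le (WΦ hw))))]
    have k2 : ∀ t ∈ T, ∀ t' ∈ T, ⁅t', w⁆ * ⁅t, w⁆ = ⁅t * t', w⁆ := fun t ht t' ht' => by
      conv_lhs => rw [← mul_inv_cancel_right ⁅t', w⁆ t, cs_comm (Wc _ ht' w hw).2.1.1 ht]
      simp only [commutatorElement_def]; group
    have k3 : Phi T ≤ C1 w := Phi_le_iff.2 fun t ht => mem_C1.2
      (commutatorElement_eq_one_iff_mul_comm.1 ((k2 t ht t ht).symm.trans (Wc t ht w hw).2.2))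
    have t1 := n t ht d
    have t2 := n _ t1 d
    rw [k1 t ht, k1 _ t1, k2 _ t1 _ ht, k2 _ t2 _ (mul_mem t1 ht)]
    refine commutatorElement_eq_one_iff_mul_comm.2 (mem_C1.1 (k3 ?_))
    rw [← h.ker _ (mul_mem t2 (mul_mem t1 ht)), h.mul _ t2 _ (mul_mem t1 ht), h.mul _ t1 _ ht,
      h.cd _ t1, h.cd _ ht]
    exact (by decide : ∀ v : V4, md (md v) + (md v + v) = 0) _)
  have c1 := (EA.bot W2).card_le h4
  have c2 := two_le (lt_of (B := W) (commutator_le_right _ _) (u := w) hw fun k => wU (CU k))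
  rw [card_bot] at c1
  omega

end Wk

theorem main (n : ℕ) : ∀ {G : Type u} [Group G] [Finite G], Nat.card G = n →
    SectionalPRankLE 2 4 G → ∀ {T : Subgroup G} {d s p x : G} {co : G → V4} {γ : ZMod 2},
    Wk T d s p x co γ → d ∈ Cs (Phi T) := by
  induction n using Nat.strong_induction_on with
  | _ n ih =>
    intro G _ _ hn h4 T d s p x co γ h
    refine h.red h4 fun L _ le ne u hu => ?_
    have := ih _ (by
      rw [← hn, card_eq_card_quotient_mul_card_subgroup L]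
      exact lt_mul_of_one_lt_right Nat.card_pos ((one_lt_card_iff_ne_bot L).2 ne)) rfl
      (secRank_quotient h4 L) (h.map _ (QuotientGroup.mk'_surjective L) (by rwa [QuotientGroup.ker_mk']))
    rw [← map_Phi] at this
    exact (QuotientGroup.eq_one_iff _).1 ((map_commutatorElement (QuotientGroup.mk' L) d u).trans
      (commutatorElement_eq_one_iff_mul_comm.2 (cs_comm this (mem_map_of_mem _ hu))))

end TPhi

variable {G : Type u} [Group G] [Finite G] {H P T : Subgroup G} {d s x p : G} {co : G → V4}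
  {γ : ZMod 2}

theorem TC.phi (h4 : SectionalPRankLE 2 4 G) (h0 : TC H P T d s x p co γ) : d ∈ Cs (Phi T) := by
  have h := h0.toT2
  have sN : s ∈ H ⊓ Ns P := ⟨h.sS, h.sN⟩
  have pN := h.PN h0.pP
  have xp := h.xp h0.pP h0.pT h0.sx fun e => h.sP (h.TP e)
  have e : (Phi (T.subgroupOf (Ns T))).map (Ns T).subtype = Phi T := by
    rw [map_Phi, subgroupOf_map_subtype, inf_eq_left.2 le_normalizer]
  have m : ∀ a : Ns T, a ∈ Phi (T.subgroupOf (Ns T)) ↔ a.1 ∈ Phi T := fun a => by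
    rw [← e]; exact (mem_map_iff_mem (Ns T).subtype_injective).symm
  have c : ∀ a : Ns T, a.1 ∈ Cs P → a ∈ Cs (T.subgroupOf (Ns T)) := fun a ha =>
    cs_of fun b hb => Subtype.ext (cs_comm ha (h.TP hb))
  have := TPhi.main _ rfl (secRank_subgroup h4 (Ns T)) (T := T.subgroupOf (Ns T))
    (d := ⟨d, h0.dT⟩) (s := ⟨s, h.NT sN⟩) (p := ⟨p, h.NT pN⟩) (x := ⟨x, h.xT⟩)
    (co := fun a => co a) (γ := γ)
    ⟨inferInstance, (h.pP.to_le h.TP).comap_subtype, c _ h.d3, c _ h.inv,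
      Subtype.ext h0.pd, h.sqN sN, h.sqN pN, h.cmN sN pN, xp.1, xp.2.1,
      fun a ha b hb => h0.mul _ ha _ hb, fun a ha => (h0.ker _ ha).trans (m a).symm,
      fun v => let ⟨a, ha, e⟩ := h0.surj v; ⟨⟨a, le_normalizer ha⟩, ha, e⟩,
      fun _ ha => h0.cp _ ha, fun _ ha => h0.cs _ ha, fun _ ha => h0.cd _ ha, fun _ ha => h0.cx _ ha⟩
  exact e ▸ TPhi.cs_map (Ns T).subtype this

end Cfsg.Lib.GHN
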