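import Cfsg.Agent.GHN.Tool

/-! # An elementary abelian group with an action of `⟨s, p, d, x⟩` -/

set_option autoImplicit false

namespace Cfsg.Lib.GHN.TPhi

open Subgroup Cfsg.Lib.Trans Cfsg.Lib.GHB

theorem two_le {G : Type*} [Group G] [Finite G] {A B : Subgroup G} (h : A < B) :
    2 * Nat.card A ≤ Nat.card B := by
  rw [← card_mul_relIndex h.le, mul_comm 2]
  exact Nat.mul_le_mul_left _ ((Nat.two_le_iff _).2
    ⟨index_ne_zero_of_finite, fun e => h.not_ge (relIndex_eq_one.1 e)⟩)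

variable {U : Type*} [Group U]

/-- The relations between the automorphisms induced by `s, p, d, x`. -/
structure Ac (σ π δ ξ : MulAut U) : Prop where
  e2 : ∀ u : U, u * u = 1
  σσ : ∀ u, σ (σ u) = u
  ππ : ∀ u, π (π u) = u
  d3 : ∀ u, δ (δ (δ u)) = u
  inv : ∀ u, σ (δ (σ (δ u))) = u
  πδ : ∀ u, π (δ u) = δ (π u)
  ξπ : ∀ u, ξ (π u) = σ (ξ u)
  ξσ : ∀ u, ξ (σ u) = π (ξ u)
  σπ : ∀ u, σ (π u) = π (σ u)

namespace Ac

variable {σ π δ ξ : MulAut U} (h : Ac σ π δ ξ)
include h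

theorem comm (a b : U) : a * b = b * a := by
  rw [← inv_eq_of_mul_eq_one_right (h.e2 (a * b)), mul_inv_rev,
    inv_eq_of_mul_eq_one_right (h.e2 a), inv_eq_of_mul_eq_one_right (h.e2 b)]

theorem eq_of {a b : U} (e : a * b = 1) : a = b := mul_right_cancel (e.trans (h.e2 b).symm)

theorem dd {u : U} (e : δ (δ u) = u) : δ u = u := (congrArg δ e).symm.trans (h.d3 u)

theorem fix (H : U → Prop) (h1 : ∀ u, H u → σ u = u) (h2 : ∀ u, H u → H (δ u)) {u : U} (hu : H u) :
    δ u = u := h.dd (by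
  have := h.inv u
  rwa [h1 _ (h2 _ hu), h1 _ (h2 _ (h2 _ hu))] at this)

theorem exσ (hδ : ∃ u, δ u ≠ u) : ∃ u, σ u ≠ u := by
  by_contra! k
  exact hδ.elim fun u e => e (h.fix (fun _ => True) (fun u _ => k u) (fun _ _ => trivial) trivial)

theorem exπ (hδ : ∃ u, δ u ≠ u) : ∃ u, π u ≠ u :=
  let ⟨u, e⟩ := h.exσ hδ
  ⟨ξ.symm u, fun k => e (by simpa [k] using (h.ξπ (ξ.symm u)).symm)⟩

/-- `s` acts as a transvection. -/
theorem caseB (hδ : ∃ u, δ u ≠ u) (hB : ∀ u v, σ u ≠ u → σ v ≠ v → σ (u * v) = u * v) :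
    (∃ u, σ u = u ∧ π u ≠ u) ∧ (∃ u, σ u = u ∧ π u = u ∧ ξ u ≠ u) ∧ ∀ u, π (σ u) = u → σ u = u := by
  obtain ⟨w, hw⟩ := h.exσ hδ
  obtain ⟨a, ha⟩ : ∃ a, σ w = a * w := ⟨σ w * w⁻¹, by simp⟩
  have a1 : a ≠ 1 := fun e => hw (by rw [ha, e, one_mul])
  have hs : ∀ u, σ u = u ∨ σ u = a * u := fun u => (eq_or_ne (σ u) u).imp_right fun e => by
    have := hB u w e hw
    rw [map_mul, ha, ← mul_assoc, mul_left_inj] at this
    rw [← this, h.comm a, mul_assoc, h.e2, mul_one, this]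
  have hp : ∀ u, π u = u ∨ π u = ξ a * u := fun u => by
    obtain ⟨u, rfl⟩ := ξ.surjective u
    rw [← h.ξσ, ← map_mul]
    exact (hs u).imp (congrArg ξ) (congrArg ξ)
  have b1 : δ (ξ a) = ξ a := by
    have e := h.πδ (ξ w)
    rw [← h.ξσ w, ha, map_mul, map_mul] at e
    rcases hp (δ (ξ w)) with k | k <;> rw [k] at e
    · exact absurd (by simpa using e) a1
    · exact (mul_right_cancel e).symm
  have ab : ξ a ≠ a := fun e => hδ.elim fun u k => k (by
    rw [e] at b1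
    have k2 : ∀ u, δ (δ u) = u ∨ δ (δ u) = a * u := fun u => by
      have e1 : δ (σ (δ u)) = σ u := (h.σσ _).symm.trans (congrArg σ (h.inv u))
      rcases hs (δ u) with e2 | e2 <;> rw [e2] at e1
      · exact e1 ▸ hs u
      · rw [map_mul, b1, ← eq_inv_mul_iff_mul_eq, inv_eq_of_mul_eq_one_right (h.e2 a)] at e1
        exact (hs u).symm.imp (fun k => by rw [e1, k, ← mul_assoc, h.e2, one_mul])
          fun k => by rw [e1, k]
    refine (k2 u).elim h.dd fun e2 => ?_
    have := h.d3 (δ u)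
    rw [e2, map_mul, b1, map_mul, b1, e2] at this
    rw [← this, ← mul_assoc, h.e2, one_mul])
  refine ⟨?_, ⟨a, ?_, ?_, ab⟩, fun u e => (hs u).resolve_right fun k => ?_⟩
  · by_contra! k
    have k' : ∀ u, π u = u → σ u = u := fun u e =>
      ξ.injective ((h.ξσ u).trans (k _ (by rw [← h.ξπ, e])))
    have f : ∀ u, σ u = u → δ u = u := fun u =>
      h.fix (fun u => σ u = u) (fun _ => id) fun u e => k' _ (by rw [h.πδ, k u e])
    obtain ⟨u, hu⟩ := hδ
    have := f _ (hB u (δ u) (mt (f u) hu) fun e => hu (δ.injective (f _ e)))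
    rw [map_mul, h.comm u, mul_right_inj] at this
    exact hu (h.dd this)
  · have := h.σσ w
    rw [ha, map_mul, ha, ← mul_assoc, mul_eq_right] at this
    exact h.eq_of this
  · have e := h.σπ w
    rw [ha, map_mul] at e
    rcases hs (π w) with k | k <;> rw [k] at e
    · exact absurd (by simpa using e) a1
    · exact (mul_right_cancel e).symm
  · have a2 : π a * π u = u := by rw [← map_mul, ← k, e]
    rcases hp a with k1 | k1 <;> rcases hp u with k2 | k2 <;> rw [k1, k2] at a2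
    · exact a1 (mul_eq_right.1 a2)
    · exact ab (h.eq_of (mul_eq_right.1 ((mul_assoc _ _ _).trans a2))).symm
    · exact ab (h.eq_of (mul_eq_right.1 a2))
    · rw [← mul_assoc, mul_eq_right, h.comm (ξ a), mul_assoc, h.e2, mul_one] at a2
      exact a1 a2

/-- `d` has no fixed points. -/
theorem card16 [Finite U] (hδ : ∃ u, δ u ≠ u) (hn : ∀ u, u * δ u * δ (δ u) = 1) :
    16 ≤ Nat.card U := by
  have fp : ∀ u, δ u = u → u = 1 := fun u e => by
    have := hn u
    rwa [e, e, h.e2, one_mul] at this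
  obtain ⟨c, hc⟩ := h.exπ hδ
  let F : Subgroup U := π.toMonoidHom.eqLocus (MonoidHom.id U)
  have mF : ∀ u, u ∈ F ↔ π u = u := fun _ => Iff.rfl
  have e1 : π c * c ≠ 1 := fun e => hc (h.eq_of e)
  have eF : π (π c * c) = π c * c := by rw [map_mul, h.ππ, h.comm]
  have cF : ∀ b ∈ F, c * b * c⁻¹ ∈ F := fun b hb => by rwa [h.comm c, mul_inv_cancel_right]
  have l1 : ⊥ < zpowers (π c * c) := bot_lt_iff_ne_bot.2 (mt zpowers_eq_bot.1 e1)
  have l2 : zpowers (π c * c) < F := SetLike.lt_iff_le_and_exists.2 ⟨zpowers_le.2 eF, δ (π c * c),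
    by rw [mF, h.πδ, eF], fun e => ((mem_zp (h.e2 _)).1 e).elim
      (fun e => e1 (δ.injective (e.trans (map_one δ).symm))) fun e => e1 (fp _ e)⟩
  have l3 : F < F ⊔ zpowers c := SetLike.lt_iff_le_and_exists.2
    ⟨le_sup_left, c, mem_sup_right (mem_zpowers c), hc⟩
  have l4 : F ⊔ zpowers c < ⊤ := SetLike.lt_iff_le_and_exists.2 ⟨le_top, δ c, mem_top _, fun e =>
    ((mem_adj cF (h.e2 c ▸ one_mem F)).1 e).elim (fun e => hc (δ.injective ((h.πδ c).symm.trans e)))
      fun e => e1 (fp _ (by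
        rw [mF, inv_eq_of_mul_eq_one_right (h.e2 c), map_mul, h.πδ] at e
        refine h.eq_of ?_
        rw [map_mul, mul_assoc, h.comm (δ c), ← mul_assoc, ← mul_assoc, h.comm _ (π c), e,
          mul_assoc, h.e2]))⟩
  have := two_le l1
  have := two_le l2
  have := two_le l3
  have := two_le l4
  rw [card_bot] at *
  rw [card_top] at this
  omega

end Ac

end Cfsg.Lib.GHN.TPhi
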