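import Cfsg.Agent.GHN.C0a

/-!
# The frame `W8` with `[w, w ^ d₁] ≠ 1`: the element of order four and the centraliser of `W`
-/

set_option autoImplicit false

namespace Cfsg.Lib.GHN.C0

open Subgroup Cfsg.Lib.Trans Cfsg.Lib.Gold Cfsg.Lib.GHB
open scoped commutatorElement

universe u

variable {G : Type u} [Group G] [Finite G] {S : Sylow 2 G} {T P P₁ P₂ : Subgroup G}
  {d s z v w a b c x y d₁ s₁ d₂ s₂ : G}

omit [Finite G] in
theorem cj_cm (d x y : G) : d * ⁅x, y⁆ * d⁻¹ = ⁅d * x * d⁻¹, d * y * d⁻¹⁆ := by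
  simp only [commutatorElement_def]; group

omit [Finite G] in
theorem cm_mul_r (p x y : G) : ⁅p, x * y⁆ = ⁅p, x⁆ * (x * ⁅p, y⁆ * x⁻¹) := by
  simp only [commutatorElement_def]; group

omit [Finite G] in
theorem cm_mul_l (x y p : G) : ⁅x * y, p⁆ = x * ⁅y, p⁆ * x⁻¹ * ⁅x, p⁆ := by
  simp only [commutatorElement_def]; group

theorem cmj (h : VV T P d s z v) (h1 : ∀ p ∈ P, ⁅p, x⁆ ∈ F4 z v) :
    ∀ p ∈ P, ⁅p, d * x * d⁻¹⁆ ∈ F4 z v := fun p hp => by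
  have := mem_normalizer_conj h.d4 (h1 _ (mem_normalizer_conj' h.dN hp))
  rwa [cj_cm, show d * (d⁻¹ * p * d) * d⁻¹ = p by group] at this

theorem exA (h : W8 T P₁ P₂ d₁ s₁ d₂ s₂ z v w)
    (hne : w * (d₁ * w * d₁⁻¹) ≠ d₁ * w * d₁⁻¹ * w) :
    ∃ a ∈ P₁, a * a = z ∧ ⁅a, w⁆ = z ∧ (∀ x ∈ T, ⁅x, a⁆ ∈ F4 z v) ∧
      a * (d₁ * a * d₁⁻¹) * (d₁ * (d₁ * a * d₁⁻¹) * d₁⁻¹) = 1 ∧
      ⁅d₁, w⁆ = (d₁ * (d₁ * a * d₁⁻¹) * d₁⁻¹)⁻¹ := by
  have k := h.vv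
  have N := nf h
  have c0 : ∀ p ∈ P₁, ⁅p, w⁆ ∈ F4 z v := fun p hp => h.act (k.le hp)
  have c1 := cmj k c0
  have c2 := cmj k c1
  have m0 := h.wP₁
  have m1 := mem_normalizer_conj k.dN m0
  have m2 := mem_normalizer_conj k.dN m1
  have sq : ∀ x, x * x = 1 → d₁ * x * d₁⁻¹ * (d₁ * x * d₁⁻¹) = 1 := fun x e => by
    calc _ = d₁ * (x * x) * d₁⁻¹ := by group
      _ = 1 := by rw [e]; group
  have q1 := sq _ h.w2
  have q2 := sq _ q1
  have e3 := k.toTri.ddd m0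
  have s1 := k.toTri.sd m0
  have s2 := k.toTri.sd m1
  generalize e1 : d₁ * w * d₁⁻¹ = w₁ at *
  generalize e2 : d₁ * w₁ * d₁⁻¹ = w₂ at *
  have i1 : w₁⁻¹ = w₁ := inv_eq_of_mul_eq_one_right q1
  have i2 : w₂⁻¹ = w₂ := inv_eq_of_mul_eq_one_right q2
  have f1 : d₁⁻¹ * w * d₁ = w₂ := by rw [← e3]; group
  have f2 : d₁⁻¹ * w₂ * d₁ = w₁ := by rw [← e2]; group
  have u0 := h.act k.sS
  have u1 := mem_normalizer_conj' k.d4 u0
  have u2 := mem_normalizer_conj' k.d4 u1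
  replace s1 : s₁ * w₁ * s₁⁻¹ = d₁⁻¹ * ⁅s₁, w⁆ * d₁ * w₂ := by
    rw [s1, ← f1, commutatorElement_def]; group
  replace s2 : s₁ * w₂ * s₁⁻¹ = d₁⁻¹ * (d₁⁻¹ * ⁅s₁, w⁆ * d₁) * d₁ * w₁ := by
    rw [s2, s1, ← f2]; group
  have ma := mul_mem m1 m2
  have cs : ⁅s₁, w₁ * w₂⁆ ∈ F4 z v := by
    have := mul_mem (mul_mem u1 (mem_normalizer_conj (k.n4 (k.le m2)) u2)) (c1 _ m2)
    convert this using 1
    calc _ = (s₁ * w₁ * s₁⁻¹) * (s₁ * w₂ * s₁⁻¹) * (w₁ * w₂)⁻¹ := by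
          rw [commutatorElement_def]; group
      _ = _ := by rw [s1, s2, commutatorElement_def w₂]; group
  have cP : ∀ p ∈ P₁, ⁅p, w₁ * w₂⁆ ∈ F4 z v := fun p hp => by
    rw [cm_mul_r]
    exact mul_mem (c1 p hp) (mem_normalizer_conj (k.n4 (k.le m1)) (c2 p hp))
  have y1 : d₁ * ⁅w, w₁⁆ * d₁⁻¹ = ⁅w₁, w₂⁆ := by rw [cj_cm, e1, e2]
  have y2 : d₁ * ⁅w₁, w₂⁆ * d₁⁻¹ = ⁅w₂, w⁆ := by rw [cj_cm, e2, e3]
  have y0 : d₁ * ⁅w₂, w⁆ * d₁⁻¹ = ⁅w, w₁⁆ := by rw [cj_cm, e3, e1]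
  have a2 : w₁ * w₂ * (w₁ * w₂) = ⁅w₁, w₂⁆ := by rw [commutatorElement_def, i1, i2]; group
  have sy : s₁ * ⁅w₁, w₂⁆ * s₁⁻¹ = ⁅w₁, w₂⁆ := by
    rw [← a2]
    generalize w₁ * w₂ = a at cs ma
    calc _ = ⁅s₁, a⁆ * (a * ⁅s₁, a⁆) * a := by rw [commutatorElement_def]; group
      _ = ⁅s₁, a⁆ * ⁅s₁, a⁆ * (a * a) := by rw [Vc k _ cs a ma]; group
      _ = _ := by rw [V2 k _ cs, one_mul]
  have sv := k.out k.sS k.sP
  have yz : ⁅w₁, w₂⁆ = z := by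
    rcases k.mem4.1 (c2 _ m1) with e | e | e | e
    · rw [e] at y1
      exact absurd (commutatorElement_eq_one_iff_mul_comm.1 (by simpa using y1)) hne
    · exact e
    · rw [e, sv] at sy
      exact absurd (mul_eq_right.1 sy) k.z1
    · rw [e, ← mul_assoc, zc k k.sS, mul_assoc z, mul_assoc z, sv, mul_right_inj] at sy
      exact absurd (mul_eq_right.1 sy) k.z1
  rw [yz, k.dz] at y2
  rw [← y2, k.dv] at y0
  have g1 : d₁ * (w₁ * w₂) * d₁⁻¹ = w₂ * w := by rw [← e3, ← e2]; group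
  have g2 : d₁ * (w₂ * w) * d₁⁻¹ = w * w₁ := by
    calc _ = d₁ * w₂ * d₁⁻¹ * (d₁ * w * d₁⁻¹) := by group
      _ = _ := by rw [e3, e1]
  refine ⟨_, ma, a2.trans yz, ?_, fun x hx => ?_, ?_, ?_⟩
  · rw [cm_mul_l, ← y2, Vc k _ (vV z v) _ m1, ← commutatorElement_inv w, ← y0]
    simp only [mul_assoc, mul_inv_rev, N, mul_inv_cancel, mul_one]
  · rcases k.idx x hx (k.nS hx) with e | e
    · exact cP x e
    · have := mul_mem (inv_mem (mem_normalizer_conj (k.n4 hx) cs)) (cP _ e)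
      rwa [cm_mul_l, inv_mul_cancel_left] at this
  · rw [g1, g2]
    calc _ = w₁ * ((w₂ * w₂) * (w * w)) * w₁ := by group
      _ = 1 := by rw [q2, h.w2, one_mul, mul_one, q1]
  · rw [g1, g2, commutatorElement_def, e1, mul_inv_rev, i1]

omit [Finite G] in
theorem memZ (h : z * z = 1) : x ∈ zpowers z ↔ x = 1 ∨ x = z := by
  have := mem_adj (B := ⊥) (g := z) (x := x) (by simp) (by simp [h])
  simpa [inv_mul_eq_one, eq_comm (a := z)] using this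

omit [Finite G] in
theorem cardZ (h : z * z = 1) (h1 : z ≠ 1) : Nat.card (zpowers z) = 2 := by
  have := card_adj (B := ⊥) (g := z) (by simp) (by simp [h]) (by simpa using h1)
  simpa using this

/-- An element of `C_S(W)` centralising `a` modulo `z` lies in `W`. -/
theorem cW (hc : Ctx S) (h : W8 (S : Subgroup G) P₁ P₂ d₁ s₁ d₂ s₂ z v w) (ha : a ∈ P₁)
    (a2 : a * a = z) (aw : ⁅a, w⁆ = z) (ca : ∀ x ∈ (S : Subgroup G), ⁅x, a⁆ ∈ F4 z v) :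
    ∀ c ∈ (S : Subgroup G) ⊓ Cs (F8 z v w), ⁅c, a⁆ ∈ zpowers z → c ∈ F8 z v w := by
  have k := h.vv
  have mZ : ∀ {x}, x ∈ zpowers z ↔ x = 1 ∨ x = z := memZ k.z2
  have zZ := mem_zpowers z
  have Zc : ∀ x ∈ (S : Subgroup G), ∀ δ ∈ zpowers z, x * δ = δ * x := fun x hx δ hδ => by
    rcases mZ.1 hδ with e | e <;> simp [e, zc k hx]
  have ZV : zpowers z ≤ F4 z v := le_sup_left
  have dZ : ∀ δ ∈ zpowers z, d₂ * δ * d₂⁻¹ ∈ zpowers z := fun δ hδ => by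
    rcases mZ.1 hδ with e | e <;> simp [e, h.dz]
  have aP : a ∈ P₂ := (h.memP₂ (k.le ha)).2 (.inr aw)
  have step : ∀ b u, (∀ x ∈ P₂, ⁅x, b⁆ ∈ zpowers z ∨ ⁅x, b⁆ * u ∈ zpowers z) → ∀ x ∈ P₂,
      ⁅x, d₂ * b * d₂⁻¹⁆ ∈ zpowers z ∨ ⁅x, d₂ * b * d₂⁻¹⁆ * (d₂ * u * d₂⁻¹) ∈ zpowers z := by
    intro b u hb x hx
    have e : ⁅x, d₂ * b * d₂⁻¹⁆ = d₂ * ⁅d₂⁻¹ * x * d₂, b⁆ * d₂⁻¹ := by
      simp only [commutatorElement_def]; group
    rw [e]
    refine (hb _ (mem_normalizer_conj' h.tri.dN hx)).imp (dZ _) fun e => ?_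
    simpa [mul_assoc] using dZ _ e
  have K0 : ∀ x ∈ P₂, ⁅x, a⁆ ∈ zpowers z ∨ ⁅x, a⁆ * v ∈ zpowers z := fun x hx => by
    rcases k.mem4.1 (ca x (h.tri.le hx)) with e | e | e | e <;> simp [e, k.v2, mul_assoc]
  have K1 := step _ _ K0
  have K2 := step _ _ K1
  have dC := mem_Ns_Cs h.d8
  have c0 : a ∉ Cs (F8 z v w) := fun e =>
    k.z1 (aw ▸ commutatorElement_eq_one_iff_mul_comm.2 (h.memC.1 e).2.2)
  have m1 := mem_normalizer_conj h.tri.dN aP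
  have m2 := mem_normalizer_conj h.tri.dN m1
  have c1 := cj_not dC c0
  have c2 := cj_not dC c1
  have e1 := cj_comm d₂ (Vc k _ (vV z v) a ha)
  rw [h.dv] at e1 K1 K2
  obtain ⟨p2, w2⟩ := third h m2 c2 (cj_comm d₂ e1)
  have sq : ∀ x, x * x = z → d₂ * x * d₂⁻¹ * (d₂ * x * d₂⁻¹) = z := fun x e => by
    calc _ = d₂ * (x * x) * d₂⁻¹ := by group
      _ = z := by rw [e, h.dz]
  have q1 := sq _ a2
  have q2 := sq _ q1
  have z01 : ⁅a, d₂ * a * d₂⁻¹⁆ ∈ zpowers z := (K1 a aP).resolve_right fun e => h.wV (by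
    have := ca _ (h.tri.le m1)
    rw [← commutatorElement_inv, inv_mem_iff] at this
    exact (mul_mem_cancel_left this).1 (ZV e))
  have z12 := dZ _ z01
  have z20 := dZ _ z12
  rw [cj_cm] at z12
  rw [cj_cm, cj_cm, h.tri.ddd aP] at z20
  generalize d₂ * a * d₂⁻¹ = a₁ at *
  generalize d₂ * a₁ * d₂⁻¹ = a₂ at *
  have p1 : a₁ ∉ P₁ := fun e => c1 (memC₁ h e e1).2
  have act : ∀ x ∈ P₂, ∀ b ∈ F8 z v w, ⁅x, b⁆ ∈ zpowers z := fun x hx b hb =>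
    mZ.2 (h.actP₂ hx hb)
  have sw : ∀ {x y : G}, ⁅x, y⁆ ∈ zpowers z → ⁅y, x⁆ ∈ zpowers z := fun e => by
    simpa using inv_mem e
  have E0 : EA (zpowers z) (F8 z v w) := ⟨ZV.trans le_sup_left,
    fun x hx => by rw [h.sq8 x hx]; exact one_mem _,
    fun x hx δ hδ => by rwa [Zc x (W_le h hx).1 δ hδ, mul_inv_cancel_right]⟩
  have E1 := E0.adj (act a aP) (a2 ▸ zZ)
  have C1 := E0.comm_adj (act a aP) (a2 ▸ zZ) (act a₁ m1) (sw z01)
  have E2 := E1.adj C1 (q1 ▸ zZ)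
  have l1 : F8 z v w ⊔ zpowers a ≤ P₁ := sup_le (h.le8.trans inf_le_left) (zpowers_le.2 ha)
  have n0 := conj_of_comm E0.le (act a aP)
  have n1 := conj_of_comm E1.le C1
  have cR : Nat.card ↥(F8 z v w ⊔ zpowers a ⊔ zpowers a₁) = 32 := by
    rw [card_adj n1 (E1.le (q1 ▸ zZ)) fun e => p1 (l1 e),
      card_adj n0 (E0.le (a2 ▸ zZ)) fun e => c0 (W_le h e).2, h.card8]
  have inR : ∀ x ∈ P₂, x * x ∈ zpowers z → ⁅x, a⁆ ∈ zpowers z → ⁅x, a₁⁆ ∈ zpowers z →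
      x ∈ F8 z v w ⊔ zpowers a ⊔ zpowers a₁ := fun x hx h1 h2 h3 => by
    by_contra hn
    have := E2.card_le1 hc.r4 (E1.comm_adj C1 (q1 ▸ zZ)
      (E0.comm_adj (act a aP) (a2 ▸ zZ) (act x hx) h2) h3) h1 hn
    rw [cR, cardZ k.z2 k.z1] at this
    omega
  have RW : ∀ x ∈ F8 z v w ⊔ zpowers a ⊔ zpowers a₁, x ∈ (S : Subgroup G) ⊓ Cs (F8 z v w) →
      x ∈ F8 z v w := fun x hx hC => by
    rcases (mem_adj n1 (E1.le (q1 ▸ zZ))).1 hx with e | e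
    · refine ((mem_adj n0 (E0.le (a2 ▸ zZ))).1 e).resolve_right fun e => c0 ?_
      exact inv_mem_iff.1 ((mul_mem_cancel_right (mem_inf.1 hC).2).1 (mem_inf.1 (W_le h e)).2)
    · exact absurd (inv_mem_iff.1
        ((mul_mem_cancel_right (mem_inf.1 (h.leC hC)).1).1 (l1 e))) p1
  have gW : a * (a₁ * a₂) ∈ F8 z v w := by
    refine RW _ (mul_mem (mem_sup_left (mem_sup_right (mem_zpowers a))) (mul_mem
      (mem_sup_right (mem_zpowers a₁)) (inR _ m2 (q2 ▸ zZ) z20 (sw z12))))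
      (memC₁ h (mul_mem ha (k.idx2 _ (h.tri.le m1) _ (h.tri.le m2) p1 p2)) ?_)
    calc a * (a₁ * a₂) * w = a * (a₁ * (a₂ * w * a₂⁻¹)) * a₂ := by group
      _ = (a * z) * (a₁ * w) * a₂ := by rw [w2, ← mul_assoc a₁, zc k (h.tri.le m1)]; group
      _ = z * (⁅a, w⁆ * (w * (a * (a₁ * a₂)))) := by
          rw [zc k (k.le ha), e1, commutatorElement_def]; group
      _ = _ := by rw [aw, ← mul_assoc, k.z2, one_mul]
  have ZW : ∀ {x u : G}, u ∈ F8 z v w → x ∈ zpowers z ∨ x * u ∈ zpowers z → x ∈ F8 z v w :=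
    fun hu e => e.elim (fun e => E0.le e) fun e => (mul_mem_cancel_right hu).1 (E0.le e)
  have one : ∀ c ∈ (S : Subgroup G) ⊓ Cs (F8 z v w), ⁅c, a⁆ ∈ zpowers z →
      ⁅c, a₁⁆ ∈ zpowers z := by
    intro c hC h0
    have cP := (h.leC hC).2
    have g1 := commutatorElement_eq_one_iff_mul_comm.2 (mem_Cs.1 hC.2 _ gW).symm
    have t1 := act a aP _ (ZW (wW z v w) (K1 c cP))
    have t2 := act _ (mul_mem aP m1) _ (ZW (mem_normalizer_conj h.d8 (wW z v w)) (K2 c cP))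
    have g2 : ⁅c, a⁆ * ⁅a, ⁅c, a₁⁆⁆ * ⁅c, a₁⁆ * ⁅a * a₁, ⁅c, a₂⁆⁆ * ⁅c, a₂⁆ = 1 := by
      rw [← g1]; simp only [commutatorElement_def]; group
    have key : ∀ H : Subgroup G, zpowers z ≤ H → (⁅c, a₁⁆ ∈ H ↔ ⁅c, a₂⁆ ∈ H) := fun H hH => by
      have := H.one_mem
      rw [← g2] at this
      constructor
      · intro e
        exact (mul_mem_cancel_left (mul_mem (mul_mem (mul_mem (hH h0) (hH t1)) e) (hH t2))).1 this
      · intro e
        rwa [mul_mem_cancel_right e, mul_mem_cancel_right (hH t2),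
          mul_mem_cancel_left (mul_mem (hH h0) (hH t1))] at this
    by_contra hn
    have r1 := (K1 c cP).resolve_left hn
    have r2 := (K2 c cP).resolve_left fun e => hn ((key _ le_rfl).2 e)
    have r3 := (key (F4 z w) le_sup_left).1 ((mul_mem_cancel_right (vV z w)).1 (mem_sup_left r1))
    have r4 : d₂ * w * d₂⁻¹ ∈ F4 z w := (mul_mem_cancel_left r3).1 (mem_sup_left r2)
    have r5 : v ∈ F4 z w := by
      rcases h.dw with e | e <;> rw [e] at r4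
      · exact (mul_mem_cancel_right (vV z w)).1 r4
      · exact (mul_mem_cancel_right (vV z w)).1 ((mul_mem_cancel_left (zV z w)).1 r4)
    rcases (mem_F4 k.z2 h.w2 h.zw).1 r5 with e | e | e | e
    · exact k.v1 e
    · exact k.vz e
    · exact h.wV (e ▸ vV z v)
    · exact h.wV ((mul_mem_cancel_left (zV z v)).1 (e ▸ vV z v))
  have sqc : ∀ c ∈ (S : Subgroup G), ∀ b, ⁅c, b⁆ ∈ zpowers z → ⁅c * c, b⁆ = 1 := fun c hS b e => by
    rw [cm_mul_l, Zc c hS _ e, mul_inv_cancel_right]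
    rcases mZ.1 e with e | e <;> simp [e, k.z2]
  have desc : ∀ n : ℕ, ∀ c ∈ (S : Subgroup G) ⊓ Cs (F8 z v w), ⁅c, a⁆ ∈ zpowers z →
      c ^ 2 ^ n ∈ F8 z v w → c ∈ F8 z v w := by
    intro n
    induction n with
    | zero => intro c _ _ e; simpa using e
    | succ n ih =>
      intro c hC h0 e
      have t0 := sqc c hC.1 _ h0
      have t1 := commutatorElement_eq_one_iff_mul_comm.1 (sqc c hC.1 _ (one c hC h0))
      have t2 := ih (c * c) (mul_mem hC hC) (t0 ▸ one_mem _) (by rwa [← pow_two, ← pow_mul, ← pow_succ'])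
      refine RW c (inR c (h.leC hC).2 ?_ h0 (one c hC h0)) hC
      have t3 := k.out (h.tri.le m1) p1
      rw [commutatorElement_eq_one_iff_mul_comm] at t0
      generalize c * c = y at t0 t1 t2
      rcases h.mem8.1 t2 with e | e
      · rcases k.mem4.1 e with e | e | e | e <;> rw [e] at t1 ⊢
        · exact one_mem _
        · exact zZ
        · rw [← t1, mul_inv_cancel_right] at t3
          exact absurd (mul_eq_right.1 t3.symm) k.z1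
        · rw [← mul_assoc a₁, zc k (h.tri.le m1), mul_assoc, mul_assoc, mul_right_inj] at t1
          rw [← t1, mul_inv_cancel_right] at t3
          exact absurd (mul_eq_right.1 t3.symm) k.z1
      · refine absurd (memC₁ h ha (mul_right_cancel (b := y) ?_)).2 c0
        rw [mul_assoc, Vc k _ e a ha, mul_assoc, mul_assoc, t0]
  intro c hC h0
  obtain ⟨n, hn⟩ := S.isPGroup' ⟨c, hC.1⟩
  exact desc n c hC h0 (by rw [show c ^ 2 ^ n = 1 from congrArg Subtype.val hn]; exact one_mem _)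

end Cfsg.Lib.GHN.C0
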