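import Cfsg.Agent.GHN.Wba

/-!
# The frame `W8` with `[w, w ^ d₁] ≠ 1`: the normal `E₁₆`
-/

set_option autoImplicit false

namespace Cfsg.Lib.GHN.C0

open Subgroup Cfsg.Lib.Trans Cfsg.Lib.Gold Cfsg.Lib.GHB
open scoped commutatorElement

universe u

variable {G : Type u} [Group G] [Finite G] {S : Sylow 2 G} {T P A B P₁ P₂ : Subgroup G}
  {d s z v w a b c x y d₁ s₁ d₂ s₂ : G}

/-- The fixed points of `d` together with `V` form the normal `E₁₆`. -/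
theorem exists_pb (k : VV T P d s z v) (hU : IsPGroup 2 P) (cP : Nat.card P = 64)
    (hA : TA P (F4 z v) A d) (aA : a ∈ A) (CA : ∀ p ∈ P, p * a = a * p → p ∈ A)
    (AB : A ≤ B) (BP : B ≤ P) (cB : Nat.card B = 32) (dB : d ∈ Ns B) :
    ∃ Y, PB T P Y d s z v := by
  have cA : Nat.card A = 16 := by rw [hA.card, k.card4]
  have iB := idx_of_card BP (by rw [cP, cB])
  have iA := idx_of_card AB (by rw [cA, cB])
  have cp := cop hU k.dN k.d3 AB BP hA.nrm hA.dA (comm_of_idx iB dB k.dN)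
    (comm_of_idx iA hA.dA dB)
  have dec : ∀ p ∈ P, ∃ b ∈ A, p * b ∈ P ⊓ C1 d := fun p hp => by
    obtain ⟨b, hb, e⟩ := cop_fix hU k.dN k.d3 hA.AP hA.nrm hA.dA hp (cp p hp)
    exact ⟨b, hb, mul_mem hp (hA.AP hb), mem_centralizer_singleton_iff.2 e.symm⟩
  have F1 : ∀ f ∈ P ⊓ C1 d, f ∈ A → f = 1 := fun f hf e =>
    hA.fix f e (mem_centralizer_singleton_iff.1 hf.2).symm
  have F2 : ∀ f ∈ P ⊓ C1 d, f * f = 1 := fun f hf => by
    refine F1 _ (mul_mem hf hf) (CA _ (mul_mem hf hf).1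
      (commutatorElement_eq_one_iff_mul_comm.1 ?_))
    have := hA.cm f hf.1 a aA
    rw [cm_mul_l, Vc k _ this f hf.1, mul_inv_cancel_right, V2 k _ this]
  have F3 : ∀ f ∈ P ⊓ C1 d, ∀ b ∈ A, b * f = f * b → b ∈ F4 z v ∨ f = 1 := fun f hf b hb e => by
    refine or_iff_not_imp_left.2 fun hV => F1 f hf (CA f hf.1 ?_)
    exact (hA.cent (fun u hu => (Vc k u hu f hf.1).symm)
      (mem_centralizer_singleton_iff.1 hf.2).symm hb hV e a aA).symm
  obtain ⟨w, wB, wA⟩ := SetLike.not_le_iff_exists.1 fun e : B ≤ A => by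
    have := Subgroup.card_le_of_le e; omega
  obtain ⟨c, cP', cB'⟩ := SetLike.not_le_iff_exists.1 fun e : P ≤ B => by
    have := Subgroup.card_le_of_le e; omega
  obtain ⟨b₁, hb₁, g₁⟩ := dec w (BP wB)
  obtain ⟨b₂, hb₂, g₂⟩ := dec c cP'
  have r₁ : w * b₁ ∈ B := mul_mem wB (AB hb₁)
  have r₁' : w * b₁ ∉ A := by rwa [mul_mem_cancel_right hb₁]
  have r₂ : c * b₂ ∉ B := by rwa [mul_mem_cancel_right (AB hb₂)]
  generalize w * b₁ = f₁ at g₁ r₁ r₁'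
  generalize c * b₂ = f₂ at g₂ r₂
  have n1 : ∀ u ∈ F4 z v, f₁ * u * f₁⁻¹ ∈ F4 z v := fun u hu =>
    mem_normalizer_conj (k.n4 (k.le g₁.1)) hu
  have q1 : f₁ * f₁ ∈ F4 z v := by rw [F2 _ g₁]; exact one_mem _
  have n2 : ∀ u ∈ F4 z v ⊔ zpowers f₁, f₂ * u * f₂⁻¹ ∈ F4 z v ⊔ zpowers f₁ :=
    conj_adj (fun u hu => mem_sup_left (mem_normalizer_conj (k.n4 (k.le g₂.1)) hu))
      (by rw [comm_of_sq F2 g₂ g₁, mul_inv_cancel_right]; exact mem_sup_right (mem_zpowers _))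
  have q2 : f₂ * f₂ ∈ F4 z v ⊔ zpowers f₁ := by rw [F2 _ g₂]; exact one_mem _
  have cY : Nat.card ↥(F4 z v ⊔ zpowers f₁ ⊔ zpowers f₂) = 16 := by
    rw [card_adj n2 q2 fun e => r₂ ((sup_le (hA.VA.trans AB) (zpowers_le.2 r₁) :
      F4 z v ⊔ zpowers f₁ ≤ B) e), card_adj n1 q1 fun e => r₁' (hA.VA e), k.card4]
  have decY : ∀ y ∈ F4 z v ⊔ zpowers f₁ ⊔ zpowers f₂, ∃ f ∈ P ⊓ C1 d, ∃ u ∈ F4 z v, y = f * u := by
    intro y hy
    rcases (mem_adj n2 q2).1 hy with e | e <;> rcases (mem_adj n1 q1).1 e with e | e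
    · exact ⟨1, one_mem _, _, e, by simp⟩
    · exact ⟨_, g₁, _, e, by simp⟩
    · exact ⟨_, g₂, _, e, by simp⟩
    · exact ⟨_, mul_mem g₂ g₁, _, e, by simp [mul_assoc]⟩
  have VY : F4 z v ≤ F4 z v ⊔ zpowers f₁ ⊔ zpowers f₂ := le_sup_left.trans le_sup_left
  have y₁ : f₁ ∈ F4 z v ⊔ zpowers f₁ ⊔ zpowers f₂ := mem_sup_left (mem_sup_right (mem_zpowers _))
  have y₂ : f₂ ∈ F4 z v ⊔ zpowers f₁ ⊔ zpowers f₂ := mem_sup_right (mem_zpowers _)
  have YP : F4 z v ⊔ zpowers f₁ ⊔ zpowers f₂ ≤ P :=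
    sup_le (sup_le (hA.VA.trans hA.AP) (zpowers_le.2 g₁.1)) (zpowers_le.2 g₂.1)
  generalize F4 z v ⊔ zpowers f₁ ⊔ zpowers f₂ = Y at *
  have FB : ∀ g ∈ P ⊓ C1 d, g ∈ B → g ∈ Y := fun g hg e => by
    by_cases e' : g ∈ A
    · rw [F1 g hg e']; exact one_mem _
    · rw [← mul_mem_cancel_left y₁, F1 _ (mul_mem g₁ hg) (iA _ r₁ _ e r₁' e')]
      exact one_mem _
  have FY : ∀ g ∈ P ⊓ C1 d, g ∈ Y := fun g hg => by
    by_cases e : g ∈ B
    · exact FB g hg e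
    · exact (mul_mem_cancel_left y₂).1 (FB _ (mul_mem g₂ hg) (iB _ g₂.1 _ hg.1 r₂ e))
  have cm : ∀ p ∈ P, ∀ y ∈ Y, ⁅p, y⁆ ∈ F4 z v := fun p hp y hy => by
    obtain ⟨f, hf, u, hu, rfl⟩ := decY y hy
    obtain ⟨b, hb, g⟩ := dec p hp
    rw [cm_mul_r, commutatorElement_eq_one_iff_mul_comm.2 (Vc k u hu p hp), mul_one,
      mul_inv_cancel, mul_one, ← mul_inv_cancel_right p b, cm_mul_l,
      commutatorElement_eq_one_iff_mul_comm.2 (comm_of_sq F2 g hf), mul_one]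
    refine mem_normalizer_conj (k.n4 (k.le g.1)) ?_
    simpa using inv_mem (hA.cm f hf.1 _ (inv_mem hb))
  refine ⟨Y, k, YP, fun y hy => ?_, cY, cP, nrm_of k (fun p hp => mem_normalizer_fintype
    (conj_of_comm VY (cm p hp))) (mem_normalizer_fintype fun y hy => ?_), VY (zV z v), VY (vV z v),
    cm, fun p hp y hy e => ?_⟩
  · obtain ⟨f, hf, u, hu, rfl⟩ := decY y hy
    calc f * u * (f * u) = f * (u * f) * u := by group
      _ = f * f * (u * u) := by rw [← Vc k u hu f hf.1]; group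
      _ = 1 := by rw [F2 f hf, V2 k u hu, mul_one]
  · obtain ⟨f, hf, u, hu, rfl⟩ := decY y hy
    have e := k.toTri.sd hf.1
    rw [← mem_centralizer_singleton_iff.1 hf.2, mul_inv_cancel_right] at e
    have := mul_mem (FY (s * f * s⁻¹) ⟨mem_normalizer_conj k.sN hf.1,
      mem_centralizer_singleton_iff.2 (by conv_rhs => rw [e]
                                          group)⟩) (VY (mem_normalizer_conj (k.n4 k.sS) hu))
    rwa [show s * f * s⁻¹ * (s * u * s⁻¹) = s * (f * u) * s⁻¹ by group] at this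
  · obtain ⟨f, hf, u, hu, rfl⟩ := decY y hy
    obtain ⟨b, hb, g⟩ := dec p hp
    have e1 : p * f = f * p := mul_right_cancel (b := u) (by
      rw [mul_assoc, e, mul_assoc, mul_assoc, Vc k u hu p hp])
    have e2 : b * f = f * b := mul_left_cancel (a := p) (by
      rw [← mul_assoc, comm_of_sq F2 g hf, ← mul_assoc, ← mul_assoc, e1])
    rcases F3 f hf b hb e2 with e3 | e3
    · exact .inl ((mul_mem_cancel_right (VY e3)).1 (FY _ g))
    · exact .inr (by simpa [e3] using hu)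

theorem caseB_core (hc : Ctx S) (h : W8 (S : Subgroup G) P₁ P₂ d₁ s₁ d₂ s₂ z v w)
    (hne : w * (d₁ * w * d₁⁻¹) ≠ d₁ * w * d₁⁻¹ * w) :
    (S : Subgroup G) ⊓ Cs (F8 z v w) ≤ F8 z v w ∨ ∃ Y, PB (S : Subgroup G) P₁ Y d₁ s₁ z v := by
  obtain ⟨a, ha, a2, aw, ca, nm, dw⟩ := exA h hne
  have k := h.vv
  have N := nf h
  refine or_iff_not_imp_left.2 fun h0 => ?_
  obtain ⟨c, hC, cW'⟩ := SetLike.not_le_iff_exists.1 h0
  have key := cW hc h ha a2 aw ca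
  have φ : ∀ p ∈ P₁, ∀ q ∈ P₁, ⁅p * q, a⁆ = ⁅q, a⁆ * ⁅p, a⁆ := fun p hp q hq => by
    rw [cm_mul_l, Vc k _ (ca q (k.le hq)) p hp, mul_inv_cancel_right]
  have ca' : ∀ c ∈ (S : Subgroup G) ⊓ Cs (F8 z v w), c ∉ F8 z v w → ⁅c, a⁆ = v ∨ ⁅c, a⁆ = z * v :=
    fun c hC hn => by
      rcases k.mem4.1 (ca c hC.1) with e | e | e
      · exact absurd (key c hC (e ▸ one_mem _)) hn
      · exact absurd (key c hC (e ▸ mem_zpowers _)) hn
      · exact e
  have i0 : Local.IdxLeTwo (F8 z v w) ((S : Subgroup G) ⊓ Cs (F8 z v w)) := fun x hx y hy n1 n2 => by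
    refine key _ (mul_mem hx hy) ((memZ k.z2).2 ?_)
    rw [φ x (h.leC hx).1 y (h.leC hy).1]
    rcases ca' x hx n1 with e1 | e1 <;> rcases ca' y hy n2 with e2 | e2 <;>
      simp only [e1, e2, mul_assoc, N, mul_one, true_or, or_true]
  have n0 : ∀ u ∈ F8 z v w, c * u * c⁻¹ ∈ F8 z v w := fun u hu => mem_normalizer_conj (h.n8 hC.1) hu
  have cP : Nat.card P₁ = 64 := by
    rw [h.cardP₁, le_antisymm (fun x hx => (mem_adj n0 (i0.mul_self_mem hC)).2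
      (or_iff_not_imp_left.2 fun e => i0 _ (inv_mem hC) _ hx (by rwa [inv_mem_iff]) e))
      (sup_le (W_le h) (zpowers_le.2 hC)), card_adj n0 (i0.mul_self_mem hC) cW', h.card8]
  obtain ⟨A, aA, hA⟩ := (tp k ha (fun e => k.z1 (a2 ▸ V2 k a e)) (a2 ▸ zV z v)
    (fun p hp => ca p (k.le hp)) (nm ▸ one_mem _)).exists_A
  have φA : ∀ b ∈ A, ⁅b, a⁆ = 1 := fun b hb =>
    commutatorElement_eq_one_iff_mul_comm.2 (hA.comm b hb a aA)
  have wa : ⁅w, a⁆ = z := by rw [← commutatorElement_inv, aw, N.2.2.2.2.2.2.1]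
  have wA : w ∉ A := fun e => k.z1 (wa ▸ φA w e)
  have nw : ∀ b ∈ A, w * b * w⁻¹ ∈ A := fun b hb => mem_normalizer_conj (hA.nrm h.wP₁) hb
  have qw : w * w ∈ A := h.w2 ▸ one_mem _
  have BP : A ⊔ zpowers w ≤ P₁ := sup_le hA.AP (zpowers_le.2 h.wP₁)
  have cB : Nat.card ↥(A ⊔ zpowers w) = 32 := by rw [card_adj nw qw wA, hA.card, k.card4]
  have φB : ∀ b ∈ A ⊔ zpowers w, b ∈ A ∨ ⁅b, a⁆ = z := fun b hb =>
    ((mem_adj nw qw).1 hb).imp_right fun e => by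
      rw [← mul_inv_cancel_left w b, φ w h.wP₁ _ (hA.AP e), φA _ e, wa, one_mul]
  have φc : ∀ b ∈ A ⊔ zpowers w, ⁅b, a⁆ ≠ ⁅c, a⁆ := fun b hb e => by
    refine cW' (key c hC ((memZ k.z2).2 ?_))
    rw [← e]
    exact (φB b hb).imp_left (φA b)
  refine exists_pb k (S.isPGroup'.to_le k.le) cP hA aA (fun p hp e => ?_) le_sup_left BP cB
    (mem_normalizer_fintype (conj_adj (fun x hx => mem_sup_left (mem_normalizer_conj hA.dA hx)) ?_))
  · rw [← commutatorElement_eq_one_iff_mul_comm] at e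
    by_cases hB : p ∈ A ⊔ zpowers w
    · exact (φB p hB).resolve_right fun e' => k.z1 (e'.symm.trans e)
    · refine absurd ?_ (φc _ (idx_of_card BP (by rw [cP, cB]) c (h.leC hC).1 p hp
        (fun e => φc c e rfl) hB))
      rw [φ c (h.leC hC).1 p hp, e, one_mul]
  · have := mul_mem (mem_sup_left (dw ▸ inv_mem (mem_normalizer_conj hA.dA
      (mem_normalizer_conj hA.dA aA)) : ⁅d₁, w⁆ ∈ A) : _ ∈ A ⊔ zpowers w)
      (mem_sup_right (mem_zpowers w))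
    simpa [commutatorElement_def] using this

end Cfsg.Lib.GHN.C0
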