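import Cfsg.Agent.GHN.Api

/-! # Section six: the case that both `d₁` and `d₂` normalise the `E₈` -/

set_option autoImplicit false

namespace Cfsg.Lib.GHN

open Subgroup Cfsg.Lib.Trans Cfsg.Lib.Gold Cfsg.Lib.Rank2
open scoped commutatorElement

universe u

variable {G : Type u} [Group G] [Finite G] {S : Sylow 2 G}
  {T K U V B P₁ P₂ : Subgroup G} {z v w a b c g n p q y u d₁ s₁ d₂ s₂ : G}

namespace Wi

/-- The involutions in the centre. -/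
def Om (C : Subgroup G) : Subgroup G where
  carrier := {x | x ∈ C ∧ x ∈ Cs C ∧ x * x = 1}
  one_mem' := ⟨one_mem _, one_mem _, mul_one _⟩
  mul_mem' := fun {a b} ha hb => ⟨mul_mem ha.1 hb.1, mul_mem ha.2.1 hb.2.1, by
    rw [mul_assoc, ← mul_assoc b, mem_Cs.1 ha.2.1 b hb.1, mul_assoc, hb.2.2, mul_one, ha.2.2]⟩
  inv_mem' := fun {a} ha => ⟨inv_mem ha.1, inv_mem ha.2.1, by rw [← mul_inv_rev, ha.2.2, inv_one]⟩

theorem Ns_le_Om (C : Subgroup G) : Ns C ≤ Ns (Om C) := fun _ hn => mem_normalizer_fintype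
  fun x hx => ⟨mem_normalizer_conj hn hx.1,
    mem_normalizer_conj (normalizer_le_normalizer_centralizer _ hn) hx.2.1,
    by rw [conj_mul, hx.2.2, mul_one, mul_inv_cancel]⟩

/-- The elements of `T` fixing `b` modulo `V`. -/
def Kc (T V : Subgroup G) (h : T ≤ Ns V) (b : G) : Subgroup G where
  carrier := {p | p ∈ T ∧ ⁅p, b⁆ ∈ V}
  one_mem' := ⟨one_mem _, by simp⟩
  mul_mem' := fun {p q} hp hq => ⟨mul_mem hp.1 hq.1, by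
    rw [commutatorElement_mul_left_eq_conj_mul]
    exact mul_mem (mem_normalizer_conj (h hp.1) hq.2) hp.2⟩
  inv_mem' := fun {p} hp => ⟨inv_mem hp.1, by
    rw [commutatorElement_inv_left, ← commutatorElement_inv]
    exact mem_normalizer_conj' (h hp.1) (inv_mem hp.2)⟩

omit [Finite G] in
theorem cm_idx (h : Local.IdxLeTwo V U) (h1 : n ∈ Ns V) (h2 : n ∈ Ns U) (hb : b ∈ U) :
    ⁅n, b⁆ ∈ V := by
  by_cases k : b ∈ V
  · exact mul_mem (mem_normalizer_conj h1 k) (inv_mem k)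
  · exact h _ (mem_normalizer_conj h2 hb) _ (inv_mem hb)
      (fun e => k ((mem_normalizer_iff.1 h1 b).2 e)) fun e => k (inv_mem_iff.1 e)

omit [Finite G] in
theorem cm_right (h : p * u = u * p) : ⁅p, u * b⁆ = u * ⁅p, b⁆ * u⁻¹ := by
  rw [commutatorElement_mul_right_eq_mul_conj, commutatorElement_eq_one_iff_mul_comm.2 h, one_mul]

/-- The frame. -/
structure Fr (T P₁ P₂ : Subgroup G) (d₁ s₁ d₂ s₂ z v w : G) : Prop
    extends W8 T P₁ P₂ d₁ s₁ d₂ s₂ z v w where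
  dw1 : d₁ * w * d₁⁻¹ ∈ F8 z v w

namespace Fr

variable (h : Fr T P₁ P₂ d₁ s₁ d₂ s₂ z v w)
include h

theorem comm (ha : a ∈ F8 z v w) (hb : b ∈ F8 z v w) : a * b = b * a := by
  rw [← inv_eq_of_mul_eq_one_right (h.sq8 _ (mul_mem ha hb)), mul_inv_rev,
    inv_eq_of_mul_eq_one_right (h.sq8 a ha), inv_eq_of_mul_eq_one_right (h.sq8 b hb)]

omit h [Finite G] in
theorem wW : w ∈ F8 z v w := mem_sup_right (mem_zpowers w)

theorem idx : Local.IdxLeTwo (F4 z v) (F8 z v w) := fun a ha b hb h1 h2 => by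
  have := mul_mem ((h.mem8.1 ha).resolve_left h1) ((h.mem8.1 hb).resolve_left h2)
  rwa [h.comm wW ha, mul_assoc, ← mul_assoc w, h.w2, one_mul] at this

theorem d1W : d₁ ∈ Ns (F8 z v w) := mem_normalizer_of_cj_le (by
  rw [cj_sup, cj_eq_of_mem_normalizer h.vv.d4, cj_zpowers]
  exact sup_le le_sup_left (zpowers_le.2 h.dw1))

theorem P1T : P₁ ≤ T := h.vv.le

theorem WT : F8 z v w ≤ T := (h.le8.trans inf_le_left).trans h.P1T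

theorem cV (hp : p ∈ P₁) (hu : u ∈ F4 z v) : p * u = u * p := mem_Cs.1 (h.vv.le4 hu).2 p hp

/-- The elements normalising `W` and `C_T(W)`. -/
theorem TN : T ≤ Ns (F8 z v w) ⊓ Ns (T ⊓ Cs (F8 z v w)) := fun _ hx =>
  ⟨h.n8 hx, inf_normalizer_le_normalizer_inf
    ⟨le_normalizer hx, normalizer_le_normalizer_centralizer _ (h.n8 hx)⟩⟩

theorem d1N : d₁ ∈ Ns (F8 z v w) ⊓ Ns (T ⊓ Cs (F8 z v w)) := ⟨h.d1W, by
  rw [show T ⊓ Cs (F8 z v w) = P₁ ⊓ Cs (F8 z v w) from le_antisymm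
    (le_inf (h.leC.trans inf_le_left) inf_le_right) (inf_le_inf_right _ h.P1T)]
  exact inf_normalizer_le_normalizer_inf
    ⟨h.vv.dN, normalizer_le_normalizer_centralizer _ h.d1W⟩⟩

theorem d2N : d₂ ∈ Ns (F8 z v w) ⊓ Ns (T ⊓ Cs (F8 z v w)) := ⟨h.d8, h.dC⟩

theorem cm_w (hp : p ∈ P₁) (ha : a ∈ F8 z v w) (h1 : a ∉ F4 z v) : ⁅p, a⁆ = ⁅p, w⁆ := by
  have k := (h.mem8.1 ha).resolve_left h1
  have e : a = w * a * w := by rw [h.comm wW ha, mul_assoc, h.w2, mul_one]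
  rw [e, cm_right (h.cV hp k), h.comm (mem_sup_left k) (mem_sup_left (h.act (h.P1T hp))),
    mul_inv_cancel_right]

theorem orb (ha : a ∈ F8 z v w) (h1 : a ≠ 1) :
    ∃ n ∈ Ns (F8 z v w) ⊓ Ns (T ⊓ Cs (F8 z v w)), n * z * n⁻¹ = a := by
  by_cases k : a ∈ F4 z v
  · rcases h.vv.mem4.1 k with rfl | rfl | rfl | rfl
    · exact absurd rfl h1
    · exact ⟨1, one_mem _, by simp⟩
    · exact ⟨d₁, h.d1N, h.vv.dz⟩
    · exact ⟨d₁ * d₁, mul_mem h.d1N h.d1N, by rw [← h.vv.dv, ← h.vv.dz]; group⟩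
  · obtain ⟨p, hp, e⟩ := h.onto ((h.mem8.1 ha).resolve_left k)
    refine ⟨p * (d₂ * d₁), mul_mem (h.TN (h.P1T hp)) (mul_mem h.d2N h.d1N), ?_⟩
    calc _ = p * (d₂ * (d₁ * z * d₁⁻¹) * d₂⁻¹) * p⁻¹ := by group
      _ = ⁅p, w⁆ * w := by rw [h.vv.dz, h.dv, commutatorElement_def]; group
      _ = a := by rw [e, h.comm wW ha, mul_assoc, h.w2, mul_one]

theorem memC0 (hp : p ∈ P₁) : p ∈ T ⊓ Cs (F8 z v w) ↔ ⁅p, w⁆ = 1 := by
  rw [mem_inf, h.memC, commutatorElement_eq_one_iff_mul_comm]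
  exact ⟨fun k => k.2.2.2, fun k => ⟨h.P1T hp, h.cV hp (h.vv.mem4.2 (by simp)),
    h.cV hp (h.vv.mem4.2 (by simp)), k⟩⟩

theorem cm_mul (hp : p ∈ P₁) (hq : q ∈ T) : ⁅p * q, w⁆ = ⁅q, w⁆ * ⁅p, w⁆ := by
  rw [commutatorElement_mul_left_eq_conj_mul, h.cV hp (h.act hq), mul_inv_cancel_right]

theorem cm_d (hp : p ∈ P₁) (h1 : ⁅d₁, b⁆ ∈ F4 z v) (h2 : ⁅p, b⁆ ∈ F8 z v w) :
    ⁅d₁ * p * d₁⁻¹, b⁆ = d₁ * ⁅p, b⁆ * d₁⁻¹ := by
  have e := cm_right (b := b) (h.cV (mem_normalizer_conj h.vv.dN hp) h1)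
  have e' : ⁅d₁ * p * d₁⁻¹, ⁅d₁, b⁆ * b⁆ = d₁ * ⁅p, b⁆ * d₁⁻¹ := by
    simp only [commutatorElement_def]; group
  have c := h.comm (mem_normalizer_conj h.d1W h2) (mem_sup_left h1)
  rw [e', eq_mul_inv_iff_mul_eq, c] at e
  exact (mul_left_cancel e).symm

theorem dW (ha : a ∈ F8 z v w) : ⁅d₁, a⁆ ∈ F4 z v := cm_idx h.idx h.vv.d4 h.d1W ha

theorem three (hy : y ∈ F4 z v) (h1 : y ≠ 1) (hu : u ∈ F4 z v) :
    u = 1 ∨ u = y ∨ u = d₁ * y * d₁⁻¹ ∨ u = d₁ * (d₁ * y * d₁⁻¹) * d₁⁻¹ := by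
  rcases h.vv.mem4.1 hy with rfl | rfl | rfl | rfl
  · exact absurd rfl h1
  all_goals
    simp only [h.vv.dz, h.vv.dv, h.vv.dzv]
    have := h.vv.mem4.1 hu
    tauto

theorem irr (h0 : T ⊓ Cs (F8 z v w) ≤ K) (h1 : ∀ k ∈ K, k ∈ P₁ → d₁ * k * d₁⁻¹ ∈ K) (hg : g ∈ K)
    (hP : g ∈ P₁) (h2 : ⁅g, w⁆ ≠ 1) : P₁ ≤ K := fun p hp => by
  have e : ∀ k ∈ P₁, ⁅d₁ * k * d₁⁻¹, w⁆ = d₁ * ⁅k, w⁆ * d₁⁻¹ := fun k hk =>
    h.cm_d hk (h.dW wW) (mem_sup_left (h.act (h.P1T hk)))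
  have g1 := mem_normalizer_conj h.vv.dN hP
  obtain ⟨k, k1, k2, k3⟩ : ∃ k ∈ K, k ∈ P₁ ∧ ⁅p, w⁆ = ⁅k, w⁆ := by
    rcases h.three (h.act (h.P1T hP)) h2 (h.act (h.P1T hp)) with c | c | c | c
    · exact ⟨1, one_mem _, one_mem _, by simpa using c⟩
    · exact ⟨g, hg, hP, c⟩
    · exact ⟨_, h1 g hg hP, g1, by rw [e g hP, c]⟩
    · exact ⟨_, h1 _ (h1 g hg hP) g1, mem_normalizer_conj h.vv.dN g1, by rw [e _ g1, e g hP, c]⟩
  have m := mul_mem (inv_mem k2) hp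
  have := h.cm_mul k2 (h.P1T m)
  rw [mul_inv_cancel_left, k3] at this
  exact (mul_mem_cancel_left (inv_mem k1)).1 (h0 ((h.memC0 m).2 (right_eq_mul.1 this)))

theorem WB : F8 z v w ≤ Om (T ⊓ Cs (F8 z v w)) := fun a ha =>
  ⟨⟨h.WT ha, mem_Cs.2 fun _ hb => h.comm hb ha⟩, mem_Cs.2 fun c hc => (mem_Cs.1 hc.2 a ha).symm,
    h.sq8 a ha⟩

theorem cB : T ⊓ Cs (Om (T ⊓ Cs (F8 z v w))) = T ⊓ Cs (F8 z v w) :=
  le_antisymm (inf_le_inf_left _ (centralizer_le h.WB)) fun c hc =>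
    ⟨hc.1, mem_Cs.2 fun b hb => (mem_Cs.1 hb.2.1 c hc).symm⟩

theorem cenV (ha : a ∈ F8 z v w) (hc : a ∈ Cs P₁) : a ∈ F4 z v := by_contra fun k => by
  obtain ⟨p, hp, e⟩ := h.onto (h.vv.mem4.2 (.inr (.inl rfl)))
  rw [← h.cm_w hp ha k, commutatorElement_eq_one_iff_mul_comm.2 (mem_Cs.1 hc p hp)] at e
  exact h.vv.z1 e.symm

end Fr

/-- The frame with the `E₁₆`. -/
structure Fb (T P₁ P₂ B : Subgroup G) (d₁ s₁ d₂ s₂ z v w : G) : Prop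
    extends Fr T P₁ P₂ d₁ s₁ d₂ s₂ z v w where
  eq : B = Om (T ⊓ Cs (F8 z v w))
  card : Nat.card B = 16
  ix : Local.IdxLeTwo (F8 z v w) B

namespace Fb

variable (h : Fb T P₁ P₂ B d₁ s₁ d₂ s₂ z v w)
include h

theorem NB : Ns (F8 z v w) ⊓ Ns (T ⊓ Cs (F8 z v w)) ≤ Ns B :=
  h.eq ▸ inf_le_right.trans (Ns_le_Om _)

omit [Finite G] in
theorem sq : ∀ b ∈ B, b * b = 1 := fun _ hb => (h.eq.le hb).2.2

omit [Finite G] in
theorem BC : B ≤ T ⊓ Cs (F8 z v w) := fun _ hb => (h.eq.le hb).1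

theorem BP : B ≤ P₁ := h.BC.trans (h.leC.trans inf_le_left)

theorem le : F8 z v w ≤ B := h.eq ▸ h.WB

theorem CB : T ⊓ Cs B = T ⊓ Cs (F8 z v w) := h.eq ▸ h.cB

theorem cmW (hn : n ∈ Ns (F8 z v w) ⊓ Ns (T ⊓ Cs (F8 z v w))) (hb : b ∈ B) : ⁅n, b⁆ ∈ F8 z v w :=
  cm_idx h.ix hn.1 (h.NB hn) hb

omit [Finite G] in
theorem two : IsPGroup 2 B := fun a => ⟨1, Subtype.ext (by simpa [pow_two] using h.sq a a.2)⟩

theorem dB (hb : b ∈ B) : ⁅d₁, b⁆ ∈ F4 z v :=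
  cop h.two (h.NB h.d1N) (centralizer_le h.BP h.vv.d3) le_sup_left h.le
    ((h.BP.trans h.P1T).trans h.vv.n4) h.vv.d4 (fun _ => h.cmW h.d1N) (fun _ => h.dW) b hb

theorem fix (hb : b ∈ B) : ∃ u ∈ F4 z v, d₁ * (b * u) = b * u * d₁ :=
  cop_fix h.two (h.NB h.d1N) (centralizer_le h.BP h.vv.d3) (le_sup_left.trans h.le)
    ((h.BP.trans h.P1T).trans h.vv.n4) h.vv.d4 hb (h.dB hb)

theorem cm (hp : p ∈ P₁) (hb : b ∈ B) : ⁅p, b⁆ ∈ F4 z v := by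
  have k : ∀ g ∈ Kc T _ h.vv.n4 b, g ∈ P₁ → ⁅g, w⁆ ≠ 1 → ⁅p, b⁆ ∈ F4 z v := fun g h1 h2 h3 =>
    (h.irr (K := Kc T _ h.vv.n4 b) (fun c hc => ⟨hc.1, by
      rw [commutatorElement_eq_one_iff_mul_comm.2 (mem_Cs.1 (h.CB.ge hc).2 b hb).symm]
      exact one_mem _⟩) (fun k hk hk' => ⟨h.P1T (mem_normalizer_conj h.vv.dN hk'), by
        rw [h.cm_d hk' (h.dB hb) (mem_sup_left hk.2)]
        exact mem_normalizer_conj h.vv.d4 hk.2⟩) h1 h2 h3 hp).2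
  obtain ⟨p₁, a1, a2⟩ := h.onto (h.vv.mem4.2 (.inr (.inl rfl)))
  obtain ⟨p₂, b1, b2⟩ := h.onto (h.vv.mem4.2 (.inr (.inr (.inl rfl))))
  by_cases c1 : ⁅p₁, b⁆ ∈ F4 z v
  · exact k p₁ ⟨h.P1T a1, c1⟩ a1 (a2 ▸ h.vv.z1)
  by_cases c2 : ⁅p₂, b⁆ ∈ F4 z v
  · exact k p₂ ⟨h.P1T b1, c2⟩ b1 (b2 ▸ h.vv.v1)
  refine k (p₁ * p₂) ⟨h.P1T (mul_mem a1 b1), ?_⟩ (mul_mem a1 b1) fun e => h.vv.vz ?_
  · rw [commutatorElement_mul_left_eq_conj_mul]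
    exact h.idx _ (mem_normalizer_conj (h.n8 (h.P1T a1)) (h.cmW (h.TN (h.P1T b1)) hb)) _
      (h.cmW (h.TN (h.P1T a1)) hb)
      (fun e => c2 ((mem_normalizer_iff.1 (h.vv.n4 (h.P1T a1)) _).2 e)) c1
  · rw [h.cm_mul a1 (h.P1T b1), a2, b2] at e
    rw [eq_inv_of_mul_eq_one_left e, inv_eq_of_mul_eq_one_right h.vv.z2]

theorem split (hc : c ∈ B) (h1 : c ∉ F8 z v w) (h2 : c ∈ Cs P₁) :
    ∃ c ∈ B, c ∉ F8 z v w ∧ c ∈ Cs T := by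
  obtain ⟨u, hu, e⟩ := h.fix hc
  have m := mul_mem hc (h.le (mem_sup_left hu))
  have m2 := mul_mem h2 (h.vv.le4 hu).2
  refine ⟨c * u, m, fun k => h1 ((mul_mem_cancel_right (mem_sup_left hu)).1 k), ?_⟩
  generalize c * u = c at e m m2
  have e1 := h.vv.toTri.sd (h.BP m)
  rw [e, mul_inv_cancel_right] at e1
  have e2 : ⁅s₁, c⁆ = 1 := h.vv.fix4 (h.cenV (h.cmW (h.TN h.vv.sS) m) (mul_mem
    (mem_normalizer_conj (normalizer_le_normalizer_centralizer _ h.vv.sN) m2) (inv_mem m2))) (by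
      rw [commutatorElement_def]
      calc _ = d₁ * (d₁⁻¹ * (s₁ * c * s₁⁻¹) * d₁) * c⁻¹ * d₁⁻¹ * d₁ := by rw [← e1]; group
        _ = s₁ * c * s₁⁻¹ * (d₁ * c⁻¹) := by group
        _ = _ := by rw [show d₁ * c⁻¹ = c⁻¹ * d₁ from (Commute.inv_right e :), mul_assoc _ c⁻¹])
  refine mem_Cs.2 fun x hx => (h.vv.idx x hx (h.vv.nS hx)).elim (mem_Cs.1 m2 x) fun k => ?_
  exact mem_C1.1 ((mul_mem_cancel_right (mem_C1.2 (commutatorElement_eq_one_iff_mul_comm.1 e2))).1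
    (mem_C1.2 (mem_Cs.1 m2 _ k)))

theorem sup_eq (hc : c ∈ B) (h1 : c ∉ F8 z v w) : F8 z v w ⊔ zpowers c = B :=
  le_antisymm (sup_le h.le (zpowers_le.2 hc)) fun b hb => by
    by_cases k : b ∈ F8 z v w
    · exact mem_sup_left k
    · exact (mul_mem_cancel_right (mem_sup_right (mem_zpowers c))).1
        (mem_sup_left (h.ix b hb c hc k h1))

theorem h11 (hc : c ∈ B) (h1 : c ∉ F8 z v w) (h2 : c ∈ Cs T) (hb : b ∈ B)
    (h3 : ∀ x ∈ T, ⁅x, b⁆ ∈ Cs T) : b ∈ Cs P₁ := by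
  have k : ∀ a ∈ F8 z v w, (∀ x ∈ T, ⁅x, a⁆ ∈ Cs T) → a ∈ Cs P₁ := fun a ha e =>
    (h.vv.le4 (by_contra fun k => by
      obtain ⟨p, hp, e'⟩ := h.onto (h.vv.mem4.2 (.inr (.inr (.inl rfl))))
      have := e p (h.P1T hp)
      rw [h.cm_w hp ha k, e'] at this
      exact h.vv.sP ((h.vv.memP h.vv.sS).2 (mem_Cs.1 this _ h.vv.sS)))).2
  by_cases c1 : b ∈ F8 z v w
  · exact k b c1 h3
  · refine (mul_mem_cancel_left (centralizer_le h.P1T h2)).1 (k _ (h.ix c hc b hb h1 c1)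
      fun x hx => ?_)
    rw [cm_right (mem_Cs.1 h2 x hx)]
    exact mul_mem (mul_mem h2 (h3 x hx)) (inv_mem h2)

variable (ns : ∀ c ∈ B, c ∈ Cs P₁ → c ∈ F8 z v w)
include ns

theorem nd (hg : g ∈ P₁) (h1 : g ∉ T ⊓ Cs (F8 z v w)) (hb : b ∈ B) (e : g * b = b * g) :
    b ∈ F4 z v := by_contra fun k => by
  have g1 : ⁅g, w⁆ ≠ 1 := fun c => h1 ((h.memC0 hg).2 c)
  by_cases c1 : b ∈ F8 z v w
  · exact g1 (h.cm_w hg c1 k ▸ commutatorElement_eq_one_iff_mul_comm.2 e)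
  obtain ⟨u, hu, e1⟩ := h.fix hb
  have m := mul_mem hb (h.le (mem_sup_left hu))
  refine c1 ((mul_mem_cancel_right (mem_sup_left hu)).1 (ns _ m (mem_Cs.2 fun p hp => mem_C1.1
    (h.irr (K := C1 (b * u)) (fun c hc => mem_C1.2 (mem_Cs.1 (h.CB.ge hc).2 _ m).symm)
      (fun k hk _ => mul_mem (mul_mem (mem_C1.2 e1) hk) (inv_mem (mem_C1.2 e1)))
      (mem_C1.2 ?_) hg g1 hp))))
  rw [← mul_assoc, e, mul_assoc, h.cV hg hu, mul_assoc]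

theorem four (hg : g ∈ T) (h2 : g * g = 1) (h1 : g ∉ Cs B) :
    Nat.card (B ⊓ C1 g : Subgroup G) ≤ 4 := by
  have h1' : g ∉ T ⊓ Cs (F8 z v w) := fun k => h1 (h.CB.ge k).2
  have k : ∀ n ∈ Ns (F8 z v w) ⊓ Ns (T ⊓ Cs (F8 z v w)), n⁻¹ * g * n ∈ P₁ →
      Nat.card (B ⊓ C1 g : Subgroup G) ≤ 4 := fun n hn m => by
    rw [← card_cj n⁻¹, ← h.vv.card4, cj_inf, cj_eq_of_mem_normalizer (inv_mem (h.NB hn)), cj_C1,
      inv_inv]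
    exact Trans.card_le_of_le fun b hb => h.nd ns m
      (fun c => h1' (by simpa [mul_assoc] using mem_normalizer_conj hn.2 c)) hb.1 (mem_C1.1 hb.2).symm
  by_cases c1 : g ∈ P₁
  · exact k 1 (one_mem _) (by simpa using c1)
  have k2 : ∀ n ∈ Ns (F8 z v w) ⊓ Ns (T ⊓ Cs (F8 z v w)), n⁻¹ * g * n ∈ P₂ →
      g * (n * v * n⁻¹) = n * v * n⁻¹ * g → Nat.card (B ⊓ C1 g : Subgroup G) ≤ 4 :=
    fun n hn m e => k n hn ((h.vv.memP (h.tri.le m)).2 (by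
      calc _ = n⁻¹ * (g * (n * v * n⁻¹)) * n := by group
        _ = _ := by rw [e]; group))
  have gv := h.vv.out hg c1
  have gz := mem_Cs.1 h.vv.zc g hg
  by_cases c2 : g ∈ P₂
  · rcases (h.memP₂ hg).1 c2 with e | e
    · exact k2 d₂ h.d2N (mem_normalizer_conj' h.tri.dN c2)
        (by rw [h.dv]; exact commutatorElement_eq_one_iff_mul_comm.1 e)
    · have e1 : g * (v * w) = v * w * g := by
        rw [commutatorElement_def, mul_inv_eq_iff_eq_mul] at e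
        rw [← mul_inv_eq_iff_eq_mul, ← conj_mul, gv, e, h.vv.zv, mul_assoc, ← mul_assoc z, h.vv.z2,
          one_mul]
      refine k2 (d₂ * d₂) (mul_mem h.d2N h.d2N) (mem_normalizer_conj' (mul_mem h.tri.dN h.tri.dN) c2) ?_
      rw [show d₂ * d₂ * v * (d₂ * d₂)⁻¹ = d₂ * (d₂ * v * d₂⁻¹) * d₂⁻¹ by group, h.dv]
      rcases h.dw with e2 | e2 <;> rw [e2]
      · exact e1
      · rw [← mul_assoc, gz, mul_assoc, e1, ← mul_assoc]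
  · exfalso
    have e0 : g * ⁅g, w⁆ * g⁻¹ * ⁅g, w⁆ = 1 := by
      rw [← commutatorElement_mul_left_eq_conj_mul, h2, commutatorElement_one_left]
    rw [h.memP₂ hg, not_or] at c2
    rcases h.vv.mem4.1 (h.act hg) with e | e | e | e
    · exact c2.1 e
    · exact c2.2 e
    · rw [e, gv, mul_assoc, h.vv.v2, mul_one] at e0
      exact h.vv.z1 e0
    · rw [e, ← conj_mul, gv, gz, mul_inv_cancel_right, ← mul_assoc z, h.vv.z2, one_mul, h.vv.zv,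
        ← mul_assoc, h.vv.v2, one_mul] at e0
      exact h.vv.z1 e0

end Fb

theorem main (h : Six S) (h1 : W8 (S : Subgroup G) P₁ P₂ d₁ s₁ d₂ s₂ z v w)
    (h2 : d₁ * w * d₁⁻¹ ∈ F8 z v w)
    (l3 : Nat.card (S : Subgroup G) = 8 * Nat.card ((S : Subgroup G) ⊓ Cs (F8 z v w) : Subgroup G) →
      (∀ a ∈ F8 z v w, ∀ b ∈ F8 z v w, a ≠ 1 → b ≠ 1 →
        ∃ n ∈ Ns (F8 z v w) ⊓ Ns ((S : Subgroup G) ⊓ Cs (F8 z v w)), n * a * n⁻¹ = b) →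
      (∀ x ∈ (S : Subgroup G) ⊓ Cs (F8 z v w), x ∈ Cs ((S : Subgroup G) ⊓ Cs (F8 z v w)) →
        x * x = 1 → x ∈ F8 z v w) → False)
    (zs : ∀ c ∈ (S : Subgroup G), c ∈ Cs (S : Subgroup G) → c * c = 1 → c ∉ F4 z v →
      Nat.card (F8 z v w ⊔ zpowers c : Subgroup G) = 16 →
      (∀ b ∈ F8 z v w ⊔ zpowers c, (∀ x ∈ (S : Subgroup G), ⁅x, b⁆ ∈ Cs (S : Subgroup G)) →
        b ∈ Cs P₁) → ¬ F8 z v w ≤ Cs P₁ → False)
    (sq : ∀ B : Subgroup G, B ≤ S → (S : Subgroup G) ≤ Ns B → (∀ b ∈ B, b * b = 1) →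
      Nat.card B = 16 → (∀ b ∈ B, b ∈ Cs (S : Subgroup G) → b = 1 ∨ b = z) →
      ((∃ Y : Finset G, 4 ≤ Y.card ∧
          ∀ y ∈ Y, ∃ n ∈ Ns B ⊓ Ns ((S : Subgroup G) ⊓ Cs B), n * z * n⁻¹ = y) ∧
        ∀ σ ∈ (S : Subgroup G), σ * σ = 1 → σ ∉ Cs B → Nat.card (B ⊓ C1 σ : Subgroup G) ≤ 4) →
      (S : Subgroup G) ⊓ Cs B ≤ B)
    (pb : ∀ B, ¬ PB (S : Subgroup G) P₁ B d₁ s₁ z v) : False := by
  classical
  have f : Fr (S : Subgroup G) P₁ P₂ d₁ s₁ d₂ s₂ z v w := ⟨h1, h2⟩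
  by_cases c0 : Om ((S : Subgroup G) ⊓ Cs (F8 z v w)) ≤ F8 z v w
  · refine l3 (by rw [h1.vv.card, h1.cardP₁]; omega) (fun a ha b hb a1 b1 => ?_)
      fun x hx e1 e2 => c0 ⟨hx, e1, e2⟩
    obtain ⟨n, hn, rfl⟩ := f.orb ha a1
    obtain ⟨m, hm, rfl⟩ := f.orb hb b1
    exact ⟨m * n⁻¹, mul_mem hm (inv_mem hn), by group⟩
  obtain ⟨c, hc, nc⟩ := SetLike.not_le_iff_exists.1 c0
  have a1 : ∀ b ∈ F8 z v w, c * b * c⁻¹ ∈ F8 z v w := fun b hb => by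
    rwa [← mem_Cs.1 hc.1.2 b hb, mul_inv_cancel_right]
  have a2 : c * c ∈ F8 z v w := hc.2.2 ▸ one_mem _
  have a3 := GHB.card_adj a1 a2 nc
  rw [h1.card8] at a3
  have a4 : F8 z v w ⊔ zpowers c = Om ((S : Subgroup G) ⊓ Cs (F8 z v w)) :=
    eq_of_le_of_card_ge (sup_le f.WB (zpowers_le.2 hc))
      (a3 ▸ h.toCtx.e16 fun _ hp => hp.2.2)
  obtain ⟨B, g⟩ : ∃ B, Fb (S : Subgroup G) P₁ P₂ B d₁ s₁ d₂ s₂ z v w :=
    ⟨_, f, rfl, a4 ▸ a3, fun x hx y hy nx ny => by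
      have := mul_mem (a1 _ (((GHB.mem_adj a1 a2).1 (a4.ge hx)).resolve_left nx))
        (((GHB.mem_adj a1 a2).1 (a4.ge hy)).resolve_left ny)
      rwa [show c * (c⁻¹ * x) * c⁻¹ * (c⁻¹ * y) = x * (c * c)⁻¹ * y by group, hc.2.2, inv_one,
        mul_one] at this⟩
  clear a1 a2 a3 a4 hc nc c c0
  by_cases ns : ∀ c ∈ B, c ∈ Cs P₁ → c ∈ F8 z v w
  swap
  · push Not at ns
    obtain ⟨c, c1, c2, c3⟩ := ns
    obtain ⟨c, c1, c2, c3⟩ := g.split c1 c3 c2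
    exact zs c (g.BC c1).1 c3 (g.sq c c1) (fun k => c2 (mem_sup_left k))
      (by rw [g.sup_eq c1 c2, g.card]) (fun b hb => g.h11 c1 c2 c3 (g.sup_eq c1 c2 ▸ hb))
      fun k => h1.wV (f.cenV Fr.wW (k Fr.wW))
  have zV : z ∈ F4 z v := h1.vv.mem4.2 (by simp)
  have vV : v ∈ F4 z v := h1.vv.mem4.2 (by simp)
  have le := sq B (g.BP.trans f.P1T) (f.TN.trans g.NB) g.sq g.card
    (fun b hb k => h1.cen (ns b hb (centralizer_le f.P1T k)) k)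
    ⟨⟨{z, v, z * v, w}, by
      rw [Finset.card_eq_four.2 ⟨z, v, z * v, w, h1.vv.vz.symm, by simpa using h1.vv.v1,
        fun e => h1.wV (e ▸ zV), by simpa using h1.vv.z1, fun e => h1.wV (e ▸ vV),
        fun e => h1.wV (e ▸ mul_mem zV vV), rfl⟩], fun y hy => by
      obtain ⟨n, hn, e⟩ : ∃ n ∈ Ns (F8 z v w) ⊓ Ns ((S : Subgroup G) ⊓ Cs (F8 z v w)),
          n * z * n⁻¹ = y := by
        simp only [Finset.mem_insert, Finset.mem_singleton] at hy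
        rcases hy with rfl | rfl | rfl | rfl
        exacts [f.orb (mem_sup_left zV) h1.vv.z1, f.orb (mem_sup_left vV) h1.vv.v1,
          f.orb (mem_sup_left (mul_mem zV vV)) (h1.vv.dv ▸ mt conj_eq_one_iff.1 h1.vv.v1),
          f.orb Fr.wW fun e => h1.wV (e ▸ one_mem _)]
      exact ⟨n, ⟨g.NB hn, g.CB ▸ hn.2⟩, e⟩⟩, fun σ k1 k2 k3 => g.four ns k1 k2 k3⟩
  rw [g.CB] at le
  exact pb B ⟨h1.vv, g.BP, g.sq, g.card, by rw [h1.cardP₁, le_antisymm le g.BC, g.card],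
    f.TN.trans g.NB, g.le (mem_sup_left zV), g.le (mem_sup_left vV), fun _ hp _ => g.cm hp,
    fun p hp b hb e => (em _).imp (fun k => le k) fun k => g.nd ns hp k hb e⟩

end Wi

end Cfsg.Lib.GHN
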